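import Mathlib.RingTheory.Smooth.Field
import Mathlib.RingTheory.Nilpotent.GeometricallyReduced
import Mathlib.RingTheory.Flat.Basic
import Mathlib.FieldTheory.IsAlgClosed.AlgebraicClosure
import Mathlib.Algebra.CharP.Frobenius

/-!
A finitely generated, geometrically reduced field extension is separably generated, hence
formally smooth.
-/

set_option autoImplicit false

namespace Groth.Agent.Lib.Helper25

open TensorProduct

variable (k K : Type*) [Field k] [Field K] [Algebra k K]

/-- If `K/k` is geometrically reduced of characteristic `p`, then `p`-th powers of `k`-linearly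
independent elements are `k`-linearly independent. -/
lemma linearIndepOn_pow_of_isGeometricallyReduced [Algebra.IsGeometricallyReduced k K]
    (p : ℕ) [hp : Fact p.Prime] [CharP k p] (s : Finset K)
    (hs : LinearIndepOn k id (s : Set K)) : LinearIndepOn k (· ^ p) (s : Set K) := by
  classical
  rw [linearIndepOn_iff']
  intro t c hts hc i hi
  have hroot : ∀ x : k, ∃ a : AlgebraicClosure k, a ^ p = algebraMap k (AlgebraicClosure k) x :=
    fun x => IsAlgClosed.exists_pow_nat_eq _ hp.out.pos
  choose a ha using hroot
  have hinj : Function.Injective (algebraMap k (AlgebraicClosure k ⊗[k] K)) := by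
    have : algebraMap k (AlgebraicClosure k ⊗[k] K) =
        (Algebra.TensorProduct.includeLeft : AlgebraicClosure k →ₐ[k] _).toRingHom.comp
          (algebraMap k (AlgebraicClosure k)) := by
      ext x
      simp [Algebra.TensorProduct.algebraMap_apply]
    rw [this]
    exact (Algebra.TensorProduct.includeLeft_injective (S := k)
      (FaithfulSMul.algebraMap_injective k K)).comp (RingHom.injective _)
  haveI : CharP (AlgebraicClosure k ⊗[k] K) p := charP_of_injective_algebraMap hinj p
  have hz : (∑ i ∈ t, a (c i) ⊗ₜ[k] i : AlgebraicClosure k ⊗[k] K) ^ p = 0 := by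
    rw [sum_pow_char]
    simp only [Algebra.TensorProduct.tmul_pow, ha]
    have : ∀ i ∈ t, (algebraMap k (AlgebraicClosure k) (c i)) ⊗ₜ[k] (i ^ p) =
        (1 : AlgebraicClosure k) ⊗ₜ[k] (c i • i ^ p) := by
      intro i _
      rw [Algebra.algebraMap_eq_smul_one, TensorProduct.smul_tmul]
    rw [Finset.sum_congr rfl this, ← TensorProduct.tmul_sum, hc, TensorProduct.tmul_zero]
  have hz0 : (∑ i ∈ t, a (c i) ⊗ₜ[k] i : AlgebraicClosure k ⊗[k] K) = 0 :=
    IsReduced.eq_zero _ ⟨p, hz⟩
  have hli : LinearIndepOn (AlgebraicClosure k)
      (fun x : K => (1 : AlgebraicClosure k) ⊗ₜ[k] x) (s : Set K) :=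
    Module.Flat.linearIndependent_one_tmul (S := AlgebraicClosure k) hs
  rw [linearIndepOn_iff'] at hli
  have h0 := hli t (fun i => a (c i)) hts (by
    rw [← hz0]
    refine Finset.sum_congr rfl fun i _ => ?_
    rw [TensorProduct.smul_tmul', smul_eq_mul, mul_one]) i hi
  have h1 : algebraMap k (AlgebraicClosure k) (c i) = 0 := by
    rw [← ha, h0, zero_pow hp.out.ne_zero]
  exact (map_eq_zero _).mp h1

/-- A finitely generated geometrically reduced field extension is formally smooth. -/
theorem formallySmooth_of_isGeometricallyReduced [Algebra.EssFiniteType k K]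
    [Algebra.IsGeometricallyReduced k K] : Algebra.FormallySmooth k K := by
  obtain h0 | ⟨p, hp, hpk⟩ := CharP.exists' k
  · infer_instance
  · haveI : ExpChar k p := .prime hp.out
    obtain ⟨s, hs, hsep⟩ :=
      exists_isTranscendenceBasis_and_isSeparable_of_linearIndepOn_pow_of_essFiniteType
        (k := k) (K := K) p hp.out
        (fun s hs => linearIndepOn_pow_of_isGeometricallyReduced k K p s hs)
    have : Algebra.IsSeparable
        (IntermediateField.adjoin k (Set.range ((↑) : s → K))) K := by
      convert! hsep <;> simp
    exact .of_algebraicIndependent_of_isSeparable hs.1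

end Groth.Agent.Lib.Helper25
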