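import Mathlib
import Groth.Prelude.Def_W4stkremschemesLRS

set_option autoImplicit false
set_option backward.isDefEq.respectTransparency false
universe u
open CategoryTheory AlgebraicGeometry TopologicalSpace Opposite TopCat

namespace Groth.Agent.Lib.Helper25.LRSClosedLocal

variable {Z X : LocallyRingedSpace.{u}} (i : Z ⟶ X)

theorem stalkMap_eq (z : Z.toTopCat) :
    i.stalkMap z = (TopCat.Presheaf.stalkFunctor CommRingCat (i.base z)).map i.c ≫
      Z.presheaf.stalkPushforward CommRingCat i.base z := rfl

theorem bijective_stalkPushforward (hi : Topology.IsInducing i.base) (z : Z.toTopCat) :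
    Function.Bijective (Z.presheaf.stalkPushforward CommRingCat i.base z).hom := by
  have h2 : IsIso (Z.presheaf.stalkPushforward CommRingCat i.base z) :=
    TopCat.Presheaf.stalkPushforward.stalkPushforward_iso_of_isInducing CommRingCat
      hi Z.presheaf z
  exact ConcreteCategory.bijective_of_isIso _

theorem ker_stalkFunctor_eq (hi : Topology.IsInducing i.base) (z : Z.toTopCat) :
    RingHom.ker ((TopCat.Presheaf.stalkFunctor CommRingCat (i.base z)).map i.c).hom =
      RingHom.ker (i.stalkMap z).hom := by
  ext σ
  rw [RingHom.mem_ker, RingHom.mem_ker, stalkMap_eq]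
  exact (map_eq_zero_iff _ (bijective_stalkPushforward i hi z).injective).symm

theorem surjective_stalkFunctor_iff (hi : Topology.IsInducing i.base) (z : Z.toTopCat) :
    Function.Surjective ((TopCat.Presheaf.stalkFunctor CommRingCat (i.base z)).map i.c).hom ↔
      Function.Surjective (i.stalkMap z).hom := by
  rw [stalkMap_eq]
  constructor
  · intro h
    exact (bijective_stalkPushforward i hi z).surjective.comp h
  · intro h
    have : Function.Surjective ((Z.presheaf.stalkPushforward CommRingCat i.base z).hom ∘
        ((TopCat.Presheaf.stalkFunctor CommRingCat (i.base z)).map i.c).hom) := h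
    exact (Function.Surjective.of_comp_iff' (bijective_stalkPushforward i hi z) _).mp this

theorem subsingleton_stalk_pushforward (hc : IsClosed (Set.range i.base)) (x : X.toTopCat)
    (hx : x ∉ Set.range i.base) : Subsingleton ((i.base _* Z.presheaf).stalk x) := by
  let V : Opens X.toTopCat := ⟨(Set.range i.base)ᶜ, hc.isOpen_compl⟩
  have hxV : x ∈ V := hx
  have hV : (Opens.map i.base).obj V = ⊥ := by
    ext z
    simp only [Opens.map_coe, Set.mem_preimage, SetLike.mem_coe, Opens.coe_bot,
      Set.mem_empty_iff_false, iff_false]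
    exact fun h => h ⟨z, rfl⟩
  have h0 : Subsingleton (Z.presheaf.obj (op ((Opens.map i.base).obj V))) :=
    CommRingCat.subsingleton_of_isTerminal (Z.sheaf.isTerminalOfEqEmpty hV)
  have h0' : Subsingleton ↑((i.base _* Z.presheaf).obj (op V)) := h0
  apply subsingleton_of_zero_eq_one
  rw [← map_one ((i.base _* Z.presheaf).germ V x hxV).hom,
    Subsingleton.elim (1 : ↑((i.base _* Z.presheaf).obj (op V))) 0, map_zero]

/-- stalkwise reformulation of `LRSImm.IsClosedImmersion` -/
structure CI2 (i : Z ⟶ X) : Prop where
  emb : Topology.IsClosedEmbedding i.base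
  surj : ∀ z : Z.toTopCat, Function.Surjective (i.stalkMap z).hom
  gen : ∀ x : X.toTopCat, ∃ (U : Opens X.toTopCat) (_ : x ∈ U) (ι : Type u)
    (s : ι → X.presheaf.obj (op U)),
    (∀ j, (i.c.app (op U)).hom (s j) = 0) ∧
    (∀ (x' : X.toTopCat) (hx' : x' ∈ U), x' ∉ Set.range i.base →
      Ideal.span (Set.range fun j => (X.presheaf.germ U x' hx').hom (s j)) = ⊤) ∧
    ∀ (z : Z.toTopCat) (hz : i.base z ∈ U),
      Ideal.span (Set.range fun j => (X.presheaf.germ U (i.base z) hz).hom (s j)) =
        RingHom.ker (i.stalkMap z).hom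

theorem CI2.of_isClosedImmersion (hi : LRSImm.IsClosedImmersion i) : CI2 i where
  emb := hi.1
  surj z := (surjective_stalkFunctor_iff i hi.1.isInducing z).mp
    ((TopCat.Presheaf.locally_surjective_iff_surjective_on_stalks i.c).mp hi.2.1 (i.base z))
  gen x := by
    obtain ⟨U, hxU, ι, s, hs0, hs⟩ := hi.2.2 x
    refine ⟨U, hxU, ι, s, hs0, fun x' hx' hr => ?_, fun z hz => ?_⟩
    · refine (hs x' hx').trans ?_
      have := subsingleton_stalk_pushforward i hi.1.isClosed_range x' hr
      rw [Ideal.eq_top_iff_one, RingHom.mem_ker]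
      exact @Subsingleton.elim _ this _ _
    · exact (hs _ hz).trans (ker_stalkFunctor_eq i hi.1.isInducing z)

theorem CI2.isClosedImmersion (h : CI2 i) : LRSImm.IsClosedImmersion i := by
  refine ⟨h.emb, ?_, ?_⟩
  · rw [TopCat.Presheaf.locally_surjective_iff_surjective_on_stalks]
    intro x
    by_cases hx : x ∈ Set.range i.base
    · obtain ⟨z, rfl⟩ := hx
      exact (surjective_stalkFunctor_iff i h.emb.isInducing z).mpr (h.surj z)
    · have := subsingleton_stalk_pushforward i h.emb.isClosed_range x hx
      intro t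
      exact ⟨0, @Subsingleton.elim _ this _ _⟩
  · intro x
    obtain ⟨U, hxU, ι, s, hs0, hs1, hs2⟩ := h.gen x
    refine ⟨U, hxU, ι, s, hs0, fun x' hx' => ?_⟩
    by_cases hx : x' ∈ Set.range i.base
    · obtain ⟨z, rfl⟩ := hx
      exact (hs2 z hx').trans (ker_stalkFunctor_eq i h.emb.isInducing z).symm
    · refine (hs1 x' hx' hx).trans ?_
      have := subsingleton_stalk_pushforward i h.emb.isClosed_range x' hx
      symm
      rw [Ideal.eq_top_iff_one, RingHom.mem_ker]
      exact @Subsingleton.elim _ this _ _

/-- pure algebra: transport of "generated kernel" along bijections -/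
theorem span_eq_ker_of_square {A B C D E ι : Type*} [CommRing A] [CommRing B] [CommRing C]
    [CommRing D] [CommRing E] (Fst : A →+* C) (Sp : A →+* B) (α : B →+* E) (β : E →+* D)
    (α' : C →+* D) (hF : Function.Bijective Fst) (hS : Function.Bijective Sp)
    (hβ : Function.Injective β) (hsq : ∀ a, α' (Fst a) = β (α (Sp a))) (γ : ι → A)
    (hker : Ideal.span (Set.range fun j => Sp (γ j)) = RingHom.ker α) :
    Ideal.span (Set.range fun j => Fst (γ j)) = RingHom.ker α' := by
  apply le_antisymm
  · rw [Ideal.span_le]
    rintro _ ⟨j, rfl⟩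
    show α' (Fst (γ j)) = 0
    rw [hsq]
    have : Sp (γ j) ∈ RingHom.ker α := hker ▸ Ideal.subset_span ⟨j, rfl⟩
    rw [show α (Sp (γ j)) = 0 from this, map_zero]
  · intro c hc
    obtain ⟨a, rfl⟩ := hF.surjective c
    have h1 : β (α (Sp a)) = 0 := by rw [← hsq]; exact hc
    have h2 : Sp a ∈ RingHom.ker α := (map_eq_zero_iff β hβ).mp h1
    rw [← hker] at h2
    have h3 : a ∈ Ideal.span (Set.range γ) := by
      have : Ideal.span (Set.range fun j => Sp (γ j)) = Ideal.map Sp (Ideal.span (Set.range γ)) := by
        rw [Ideal.map_span, ← Set.range_comp]; rfl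
      rw [this] at h2
      have := Ideal.mem_comap.mpr h2
      rwa [Ideal.comap_map_of_bijective Sp hS] at this
    have : Fst a ∈ Ideal.map Fst (Ideal.span (Set.range γ)) := Ideal.mem_map_of_mem _ h3
    rw [Ideal.map_span, ← Set.range_comp] at this
    exact this



variable {Z X U' V' : LocallyRingedSpace.{u}} (i : Z ⟶ X) (f : U' ⟶ X) (g : V' ⟶ Z)
  (i' : V' ⟶ U')

theorem sq_base (sq : i' ≫ f = g ≫ i) (v : V'.toTopCat) :
    f.base (i'.base v) = i.base (g.base v) :=
  congrArg (fun k => k.base v) sq

theorem isClosedEmbedding_of_square [LocallyRingedSpace.IsOpenImmersion f]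
    [LocallyRingedSpace.IsOpenImmersion g] (sq : i' ≫ f = g ≫ i)
    (cart : ∀ z, i.base z ∈ Set.range f.base → z ∈ Set.range g.base)
    (hi : Topology.IsClosedEmbedding i.base) : Topology.IsClosedEmbedding i'.base := by
  have hf : Topology.IsOpenEmbedding f.base := PresheafedSpace.IsOpenImmersion.base_open
  have hg : Topology.IsOpenEmbedding g.base := PresheafedSpace.IsOpenImmersion.base_open
  have hcomp : (f.base ∘ i'.base) = (i.base ∘ g.base) := funext (sq_base i f g i' sq)
  have hemb : Topology.IsEmbedding i'.base := by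
    apply Topology.IsEmbedding.of_comp i'.base.hom.continuous f.base.hom.continuous
    rw [hcomp]; exact hi.isEmbedding.comp hg.isEmbedding
  refine ⟨hemb, ?_⟩
  have : Set.range i'.base = f.base ⁻¹' (Set.range i.base) := by
    ext u; constructor
    · rintro ⟨v, rfl⟩; exact ⟨g.base v, (sq_base i f g i' sq v).symm⟩
    · rintro ⟨z, hz⟩
      obtain ⟨v, rfl⟩ := cart z ⟨u, hz.symm⟩
      exact ⟨v, hf.injective ((sq_base i f g i' sq v).trans hz)⟩
  rw [this]; exact hi.isClosed_range.preimage f.base.hom.continuous

theorem stalk_square (sq : i' ≫ f = g ≫ i) (v : V'.toTopCat) :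
    f.stalkMap (i'.base v) ≫ i'.stalkMap v =
      X.presheaf.stalkSpecializes (specializes_of_eq (sq_base i f g i' sq v).symm) ≫
        i.stalkMap (g.base v) ≫ g.stalkMap v := by
  rw [← LocallyRingedSpace.stalkMap_comp, ← LocallyRingedSpace.stalkMap_comp]
  exact LocallyRingedSpace.stalkMap_congr_hom _ _ sq v

theorem bijective_stalkSpecializes_of_eq {x y : X.toTopCat} (h : x = y) :
    Function.Bijective (X.presheaf.stalkSpecializes (specializes_of_eq h)).hom :=
  ConcreteCategory.bijective_of_isIso (X.presheaf.stalkCongr (Inseparable.of_eq h.symm)).hom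



variable {Z X U' V' : LocallyRingedSpace.{u}} (i : Z ⟶ X) (f : U' ⟶ X) (g : V' ⟶ Z)
  (i' : V' ⟶ U')

theorem c_app_eq_zero_of_eq {A B : LocallyRingedSpace.{u}} {α β : A ⟶ B} (h : α = β)
    (U : Opens B.toTopCat) (s : B.presheaf.obj (op U)) (hs : (β.c.app (op U)).hom s = 0) :
    (α.c.app (op U)).hom s = 0 := by
  subst h; exact hs

theorem germ_map_eq (u' : U'.toTopCat) (U : Opens X.toTopCat) (hu' : f.base u' ∈ U)
    (s : X.presheaf.obj (op U)) :
    (U'.presheaf.germ ((Opens.map f.base).obj U) u' hu').hom ((f.c.app (op U)).hom s) =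
      (f.stalkMap u').hom ((X.presheaf.germ U (f.base u') hu').hom s) :=
  (LocallyRingedSpace.stalkMap_germ_apply f U u' hu' s).symm

theorem CI2.of_square [LocallyRingedSpace.IsOpenImmersion f]
    [LocallyRingedSpace.IsOpenImmersion g] (sq : i' ≫ f = g ≫ i)
    (cart : ∀ z, i.base z ∈ Set.range f.base → z ∈ Set.range g.base) (h : CI2 i) : CI2 i' where
  emb := isClosedEmbedding_of_square i f g i' sq cart h.emb
  surj v := by
    have hsq := stalk_square i f g i' sq v
    have h1 : Function.Surjective ((f.stalkMap (i'.base v) ≫ i'.stalkMap v).hom) := by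
      rw [hsq]
      have hg : Function.Bijective (g.stalkMap v).hom := ConcreteCategory.bijective_of_isIso _
      exact (hg.surjective.comp (h.surj (g.base v))).comp
        (bijective_stalkSpecializes_of_eq (sq_base i f g i' sq v).symm).surjective
    exact Function.Surjective.of_comp h1
  gen u := by
    have hf : Topology.IsOpenEmbedding f.base := PresheafedSpace.IsOpenImmersion.base_open
    obtain ⟨U, hxU, ι, s, hs0, hs1, hs2⟩ := h.gen (f.base u)
    refine ⟨(Opens.map f.base).obj U, hxU, ι, fun j => (f.c.app (op U)).hom (s j), ?_, ?_, ?_⟩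
    · intro j
      have h1 : ((g ≫ i).c.app (op U)).hom (s j) = 0 := by
        show (g.c.app _).hom ((i.c.app (op U)).hom (s j)) = 0
        rw [hs0 j, map_zero]
      exact c_app_eq_zero_of_eq sq U (s j) h1
    · intro u' hu' hr
      have hr' : f.base u' ∉ Set.range i.base := by
        rintro ⟨z, hz⟩
        obtain ⟨v, rfl⟩ := cart z ⟨u', hz.symm⟩
        exact hr ⟨v, hf.injective ((sq_base i f g i' sq v).trans hz)⟩
      have h1 := hs1 (f.base u') hu' hr'
      have h2 : (Set.range fun j => (U'.presheaf.germ ((Opens.map f.base).obj U) u' hu').hom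
          ((f.c.app (op U)).hom (s j))) =
          (f.stalkMap u').hom '' (Set.range fun j => (X.presheaf.germ U (f.base u') hu').hom (s j)) := by
        rw [← Set.range_comp]
        congr 1
        funext j
        exact germ_map_eq f u' U hu' (s j)
      rw [h2, ← Ideal.map_span, h1, Ideal.map_top]
    · intro v hv
      have hv' : i.base (g.base v) ∈ U := (sq_base i f g i' sq v) ▸ hv
      have h2 : (fun j => (U'.presheaf.germ ((Opens.map f.base).obj U) (i'.base v) hv).hom
          ((f.c.app (op U)).hom (s j))) =
          fun j => (f.stalkMap (i'.base v)).hom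
            ((X.presheaf.germ U (f.base (i'.base v)) hv).hom (s j)) :=
        funext fun j => germ_map_eq f (i'.base v) U hv (s j)
      rw [h2]
      refine span_eq_ker_of_square (f.stalkMap (i'.base v)).hom
        (X.presheaf.stalkSpecializes (specializes_of_eq (sq_base i f g i' sq v).symm)).hom
        (i.stalkMap (g.base v)).hom (g.stalkMap v).hom (i'.stalkMap v).hom
        (ConcreteCategory.bijective_of_isIso _)
        (bijective_stalkSpecializes_of_eq (sq_base i f g i' sq v).symm)
        (ConcreteCategory.bijective_of_isIso (g.stalkMap v)).injective ?_ _ ?_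
      · intro a
        exact congrArg (fun k => k.hom a) (stalk_square i f g i' sq v)
      · refine Eq.trans ?_ (hs2 (g.base v) hv')
        congr 2
        funext j
        exact TopCat.Presheaf.germ_stalkSpecializes_apply X.presheaf hv _ (s j)

end Groth.Agent.Lib.Helper25.LRSClosedLocal
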