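import Mathlib
import Groth.Agent.S4450

/-!
# Centres of valuation rings from centres of discrete valuation rings (Noetherian case)

`f : X ⟶ S` of finite type over a locally Noetherian base, `g : U ⟶ X` locally of finite type,
`u₀ : U`, `L = κ(u₀)`.  If every discrete valuation subring of `L` with a compatible morphism to `S`
has a centre on `X` (`DVRLiftAt`), then so does every valuation subring of `L`
(`exists_lift_valuationSubring`).
-/

set_option autoImplicit false
set_option linter.style.haveILetI false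

universe u

open CategoryTheory CategoryTheory.Limits AlgebraicGeometry IsLocalRing

namespace Groth.Agent.Lib.Helper25.ValCenter

variable {X S U : Scheme.{u}}

section Rho

/-- A morphism from an affine scheme with image in an affine open `W` is `Spec` of a unique ring
map out of `Γ(X, W)`. -/
theorem exists_rho {R : CommRingCat.{u}} (t : Spec R ⟶ X) {W : X.Opens} (hWa : IsAffineOpen W)
    (hW : Set.range t ⊆ (W : Set X)) : ∃ ρ : Γ(X, W) ⟶ R, Spec.map ρ ≫ hWa.fromSpec = t := by
  have hr : Set.range t ⊆ Set.range hWa.fromSpec := by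
    rw [hWa.range_fromSpec]; exact hW
  refine ⟨Spec.preimage (IsOpenImmersion.lift hWa.fromSpec t hr), ?_⟩
  rw [Spec.map_preimage, IsOpenImmersion.lift_fac]

theorem rho_unique {R : CommRingCat.{u}} {W : X.Opens} (hWa : IsAffineOpen W)
    {ρ₁ ρ₂ : Γ(X, W) ⟶ R} (h : Spec.map ρ₁ ≫ hWa.fromSpec = Spec.map ρ₂ ≫ hWa.fromSpec) :
    ρ₁ = ρ₂ := by
  rw [cancel_mono] at h
  exact Spec.map_injective h

theorem range_subset_of_closedPoint_mem {R : CommRingCat.{u}} [IsLocalRing R] (l : Spec R ⟶ X)
    {W : X.Opens} (h : l (closedPoint R) ∈ W) : Set.range l ⊆ (W : Set X) := by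
  rintro _ ⟨z, rfl⟩
  have := Scheme.preimage_eq_top_of_closedPoint_mem l h
  have hz : z ∈ l ⁻¹ᵁ W := by rw [this]; trivial
  exact hz

end Rho

section Chart

variable {L : Type u} [Field L]

/-- One affine chart `W ⊆ f⁻¹ S₀`: the ring map `ρ : Γ(X, W) ⟶ L` of a point `t : Spec L ⟶ X`
of `W`, and a valuation subring `V` of `L` with a compatible morphism to `S` whose closed point
lands in `S₀`.  If `ρ` has image in `V`, then `V` has a centre on `X`. -/
theorem exists_lift_of_forall_mem (f : X ⟶ S) {S₀ : S.Opens} (hS₀ : IsAffineOpen S₀)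
    {W : X.Opens} (hW : IsAffineOpen W) (e : W ≤ f ⁻¹ᵁ S₀)
    (t : Spec (CommRingCat.of L) ⟶ X) (ρ : Γ(X, W) ⟶ CommRingCat.of L)
    (hρ : Spec.map ρ ≫ hW.fromSpec = t)
    (V : ValuationSubring L) (y : Spec (CommRingCat.of V) ⟶ S)
    (hy : Spec.map (CommRingCat.ofHom V.subtype) ≫ y = t ≫ f)
    (hyS₀ : y (closedPoint V) ∈ S₀) (hmem : ∀ x, ρ.hom x ∈ V) :
    ∃ l : Spec (CommRingCat.of V) ⟶ X, l ≫ f = y ∧
      Spec.map (CommRingCat.ofHom V.subtype) ≫ l = t := by
  obtain ⟨ρS, hρS⟩ := exists_rho y hS₀ (range_subset_of_closedPoint_mem y hyS₀)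
  have key : f.appLE S₀ W e ≫ ρ = ρS ≫ CommRingCat.ofHom V.subtype := by
    apply rho_unique hS₀
    rw [Spec.map_comp, Category.assoc, IsAffineOpen.SpecMap_appLE_fromSpec f hS₀ hW e,
      ← Category.assoc, hρ, Spec.map_comp, Category.assoc, hρS, hy]
  let ρ' : Γ(X, W) ⟶ CommRingCat.of V :=
    CommRingCat.ofHom (ρ.hom.codRestrict V.toSubring hmem)
  have hρ' : ρ' ≫ CommRingCat.ofHom V.subtype = ρ := by
    ext x; rfl
  refine ⟨Spec.map ρ' ≫ hW.fromSpec, ?_, ?_⟩
  · rw [Category.assoc, ← IsAffineOpen.SpecMap_appLE_fromSpec f hS₀ hW e, ← Category.assoc,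
      ← Spec.map_comp, ← hρS]
    congr 2
    ext r
    have := congr($(key).hom r)
    exact this
  · rw [← Category.assoc, ← Spec.map_comp, hρ', hρ]

/-- Conversely a centre in `W` forces the image of `ρ` into `V`. -/
theorem forall_mem_of_lift {W : X.Opens} (hW : IsAffineOpen W)
    (t : Spec (CommRingCat.of L) ⟶ X) (ρ : Γ(X, W) ⟶ CommRingCat.of L)
    (hρ : Spec.map ρ ≫ hW.fromSpec = t)
    (V : ValuationSubring L) (l : Spec (CommRingCat.of V) ⟶ X)
    (hl : Spec.map (CommRingCat.ofHom V.subtype) ≫ l = t)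
    (hlW : l (closedPoint V) ∈ W) (x : Γ(X, W)) : ρ.hom x ∈ V := by
  obtain ⟨ρl, hρl⟩ := exists_rho l hW (range_subset_of_closedPoint_mem l hlW)
  have key : ρ = ρl ≫ CommRingCat.ofHom V.subtype := by
    apply rho_unique hW
    rw [hρ, Spec.map_comp, Category.assoc, hρl, hl]
  rw [key]
  exact (ρl.hom x).2

end Chart

section Core

open Groth.Agent.Lib.Helper39.KA

/-- The lifting property for discrete valuation subrings of the residue field of `u₀ : U`. -/
def DVRLiftAt (g : U ⟶ X) (f : X ⟶ S) (u₀ : U) : Prop :=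
  ∀ (A : ValuationSubring (U.residueField u₀)), IsDiscreteValuationRing A →
    ∀ y : Spec (CommRingCat.of A) ⟶ S,
      Spec.map (CommRingCat.ofHom A.subtype) ≫ y = U.fromSpecResidueField u₀ ≫ g ≫ f →
      ∃ l : Spec (CommRingCat.of A) ⟶ X, l ≫ f = y ∧
        Spec.map (CommRingCat.ofHom A.subtype) ≫ l = U.fromSpecResidueField u₀ ≫ g

theorem fromSpecResidueField_comp_eq {Y T : Scheme.{u}} (p : Y ⟶ T) (x : Y) (s : T)
    (hsp : p x ⤳ s) :
    Y.fromSpecResidueField x ≫ p =
      Spec.map (T.presheaf.stalkSpecializes hsp ≫ p.stalkMap x ≫ Y.residue x) ≫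
        T.fromSpecStalk s := by
  rw [Scheme.fromSpecResidueField, Category.assoc, ← Scheme.SpecMap_stalkMap_fromSpecStalk,
    ← Scheme.SpecMap_stalkSpecializes_fromSpecStalk hsp]
  simp_rw [← Spec.map_comp_assoc]
  rfl

theorem exists_lift_valuationSubring [IsLocallyNoetherian S] (f : X ⟶ S) [LocallyOfFiniteType f]
    [QuasiCompact f] (g : U ⟶ X) [LocallyOfFiniteType g] (u₀ : U) (H : DVRLiftAt g f u₀)
    (C : ValuationSubring (U.residueField u₀)) (y : Spec (CommRingCat.of C) ⟶ S)
    (hy : Spec.map (CommRingCat.ofHom C.subtype) ≫ y = U.fromSpecResidueField u₀ ≫ g ≫ f) :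
    ∃ l : Spec (CommRingCat.of C) ⟶ X, l ≫ f = y ∧
      Spec.map (CommRingCat.ofHom C.subtype) ≫ l = U.fromSpecResidueField u₀ ≫ g := by
  classical
  by_contra hcon
  let L : Type u := U.residueField u₀
  let t : Spec (CommRingCat.of L) ⟶ X := U.fromSpecResidueField u₀ ≫ g
  have ht : t (closedPoint L) = g u₀ :=
    congrArg g (Scheme.fromSpecResidueField_apply u₀ _)
  let s : S := y (closedPoint C)
  let ψ : S.presheaf.stalk s ⟶ CommRingCat.of C := Scheme.stalkClosedPointTo y
  have hψ : Spec.map ψ ≫ S.fromSpecStalk s = y := Scheme.Spec_stalkClosedPointTo_fromSpecStalk y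
  have hgen : y (Spec.map (CommRingCat.ofHom C.subtype) (closedPoint L)) = (g ≫ f) u₀ := by
    have h2 := congr(($hy).base (closedPoint L))
    refine h2.trans ?_
    exact congrArg (g ≫ f) (Scheme.fromSpecResidueField_apply u₀ _)
  have hsp : (g ≫ f) u₀ ⤳ s := by
    rw [← hgen]
    exact (specializes_closedPoint _).map y.continuous
  let φ : S.presheaf.stalk s ⟶ CommRingCat.of L :=
    S.presheaf.stalkSpecializes hsp ≫ (g ≫ f).stalkMap u₀ ≫ U.residue u₀
  have w' : U.fromSpecResidueField u₀ ≫ (g ≫ f) = Spec.map φ ≫ S.fromSpecStalk s :=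
    fromSpecResidueField_comp_eq (g ≫ f) u₀ s hsp
  have hφψ : φ = ψ ≫ CommRingCat.ofHom C.subtype := by
    apply Spec.map_injective
    rw [← cancel_mono (S.fromSpecStalk s), ← w', Spec.map_comp, Category.assoc, hψ, hy]
  obtain ⟨sfin, hsfin⟩ := exists_finset_closure_residueField_eq_top (g ≫ f) u₀ s hsp
  -- an affine open neighbourhood of `s` and a finite affine cover of its preimage
  obtain ⟨_, ⟨S₀, hS₀', rfl⟩, hsS₀, -⟩ :=
    S.isBasis_affineOpens.exists_subset_of_mem_open (Set.mem_univ s) isOpen_univ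
  have hS₀ : IsAffineOpen S₀ := hS₀'
  have hcomp : IsCompact ((f ⁻¹ᵁ S₀ : X.Opens) : Set X) := f.isCompact_preimage hS₀.isCompact
  obtain ⟨𝒲, h𝒲fin, h𝒲⟩ := isCompact_iff_finite_and_eq_biUnion_affineOpens.mp hcomp
  have hle : ∀ W ∈ 𝒲, (W : X.Opens) ≤ f ⁻¹ᵁ S₀ := by
    intro W hW
    rw [h𝒲]
    exact le_iSup₂ (f := fun (i : X.affineOpens) (_ : i ∈ 𝒲) => (i : X.Opens)) W hW
  have hcover : ∀ x : X, f x ∈ S₀ → ∃ W ∈ 𝒲, x ∈ (W : X.Opens) := by
    intro x hx
    have : x ∈ f ⁻¹ᵁ S₀ := hx
    rw [h𝒲] at this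
    simpa using this
  -- for every chart through the generic point there is a function not in `C`
  have hbad : ∀ W : X.affineOpens, W ∈ 𝒲 → g u₀ ∈ (W : X.Opens) →
      ∃ z : L, z ∉ C ∧ ∀ (V : ValuationSubring L) (l : Spec (CommRingCat.of V) ⟶ X),
        Spec.map (CommRingCat.ofHom V.subtype) ≫ l = t → l (closedPoint V) ∈ (W : X.Opens) →
          z ∈ V := by
    intro W hW hηW
    obtain ⟨ρ, hρ⟩ := exists_rho t W.2 (range_subset_of_closedPoint_mem t (by rw [ht]; exact hηW))
    by_cases hall : ∀ x, ρ.hom x ∈ C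
    · exact absurd (exists_lift_of_forall_mem f hS₀ W.2 (hle W hW) t ρ hρ C y
        (by rw [hy, Category.assoc]) hsS₀ hall) hcon
    · push Not at hall
      obtain ⟨x, hx⟩ := hall
      exact ⟨ρ.hom x, hx, fun V l hl hlW => forall_mem_of_lift W.2 t ρ hρ V l hl hlW x⟩
  choose! zf hzf using hbad
  have hηS₀ : f (g u₀) ∈ S₀ := hsp.mem_open S₀.isOpen hsS₀
  let J : Finset X.affineOpens := h𝒲fin.toFinset.filter (fun W => g u₀ ∈ (W : X.Opens))
  have hJ : ∀ W, W ∈ J ↔ W ∈ 𝒲 ∧ g u₀ ∈ (W : X.Opens) := by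
    intro W; simp [J]
  let Wset : Finset L := J.image (fun W => (zf W)⁻¹)
  have hW1 : ∀ w ∈ Wset, w ∈ C.nonunits := by
    intro w hw
    obtain ⟨W, hWJ, rfl⟩ := Finset.mem_image.mp hw
    obtain ⟨h1, h2⟩ := (hJ W).mp hWJ
    exact C.inv_mem_nonunits_iff.mpr (Or.inr (hzf W h1 h2).1)
  have hW0 : ∃ w ∈ Wset, w ≠ 0 := by
    obtain ⟨W, hW, hηW⟩ := hcover (g u₀) hηS₀
    refine ⟨(zf W)⁻¹, Finset.mem_image_of_mem _ ((hJ W).mpr ⟨hW, hηW⟩), ?_⟩
    have : zf W ≠ 0 := by
      intro h0
      exact (hzf W hW hηW).1 (h0 ▸ C.zero_mem)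
    exact inv_ne_zero this
  let _ : Algebra (S.presheaf.stalk s) L := φ.hom.toAlgebra
  have hAC : ∀ a, algebraMap (S.presheaf.stalk s) L a ∈ C := by
    intro a
    show φ.hom a ∈ C
    rw [hφψ]
    exact (ψ.hom a).2
  obtain ⟨V, hVdvr, hV1, hV2⟩ := exists_dvr_of_valuationSubring (S.presheaf.stalk s) L sfin hsfin C
    hAC Wset hW1 hW0
  have hV1' : ∀ a, φ.hom a ∈ V.toSubring := fun a => hV1 a
  let ψV : S.presheaf.stalk s ⟶ CommRingCat.of V :=
    CommRingCat.ofHom (φ.hom.codRestrict V.toSubring hV1')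
  let yV : Spec (CommRingCat.of V) ⟶ S := Spec.map ψV ≫ S.fromSpecStalk s
  have hyV : Spec.map (CommRingCat.ofHom V.subtype) ≫ yV =
      U.fromSpecResidueField u₀ ≫ g ≫ f := by
    rw [w', ← Spec.map_comp_assoc]
    rfl
  obtain ⟨lV, hlV1, hlV2⟩ := H V hVdvr yV hyV
  have hxV : f (lV (closedPoint V)) ∈ S₀ := by
    have h1 : f (lV (closedPoint V)) = yV (closedPoint V) := by
      rw [← hlV1]; rfl
    rw [h1]
    have h2 : yV (closedPoint V) ⤳ s := by
      have : yV (closedPoint V) ∈ Set.range (S.fromSpecStalk s) := ⟨Spec.map ψV (closedPoint V), rfl⟩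
      rw [Scheme.range_fromSpecStalk] at this
      exact this
    exact h2.mem_open S₀.isOpen hsS₀
  obtain ⟨W, hW, hxW⟩ := hcover _ hxV
  have hηW : g u₀ ∈ (W : X.Opens) := by
    have h1 := range_subset_of_closedPoint_mem lV hxW
    have h2 : lV (Spec.map (CommRingCat.ofHom V.subtype) (closedPoint L)) = g u₀ := by
      have h3 := congr(($hlV2).base (closedPoint L))
      exact h3.trans ht
    rw [← h2]
    exact h1 ⟨_, rfl⟩
  have hz1 : zf W ∈ V := (hzf W hW hηW).2 V lV hlV2 hxW
  have hz2 : (zf W)⁻¹ ∈ V.nonunits :=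
    hV2 _ (Finset.mem_image_of_mem _ ((hJ W).mpr ⟨hW, hηW⟩))
  rcases V.inv_mem_nonunits_iff.mp hz2 with h0 | h0
  · exact (hzf W hW hηW).1 (h0 ▸ C.zero_mem)
  · exact h0 hz1

end Core

section Composite

variable {L : Type*} [Field L]

/-- The composite of a valuation subring `B` of `L` with a valuation subring `R'` of the residue
field of `B`: the elements of `B` whose residue class lies in `R'`. -/
noncomputable def composite (B : ValuationSubring L) (R' : ValuationSubring (ResidueField B)) :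
    ValuationSubring L :=
  { (R'.toSubring.comap (residue B)).map B.subtype with
    mem_or_inv_mem' := by
      intro x
      rcases B.mem_or_inv_mem x with hx | hx
      · rcases R'.mem_or_inv_mem (residue B ⟨x, hx⟩) with h | h
        · exact Or.inl ⟨⟨x, hx⟩, h, rfl⟩
        · by_cases hu : IsUnit (⟨x, hx⟩ : B)
          · obtain ⟨b', hb'⟩ := hu.exists_right_inv
            refine Or.inr ⟨b', ?_, ?_⟩
            · have h1 : residue B ⟨x, hx⟩ * residue B b' = 1 := by
                rw [← map_mul, hb', map_one]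
              have h2 : residue B b' = (residue B ⟨x, hx⟩)⁻¹ := (eq_inv_of_mul_eq_one_right h1)
              show residue B b' ∈ R'
              rw [h2]; exact h
            · have h1 : x * (b' : L) = 1 := congrArg Subtype.val hb'
              exact (eq_inv_of_mul_eq_one_right h1)
          · have : residue B ⟨x, hx⟩ = 0 := (residue_eq_zero_iff _).mpr hu
            exact Or.inl ⟨⟨x, hx⟩, by show residue B ⟨x, hx⟩ ∈ R'; rw [this]; exact R'.zero_mem, rfl⟩
      · by_cases hu : IsUnit (⟨x⁻¹, hx⟩ : B)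
        · obtain ⟨b', hb'⟩ := hu.exists_right_inv
          have h1 : x⁻¹ * (b' : L) = 1 := congrArg Subtype.val hb'
          have h2 : (b' : L) = x := by
            have := eq_inv_of_mul_eq_one_right h1
            rwa [inv_inv] at this
          have hxB : x ∈ B := h2 ▸ b'.2
          rcases R'.mem_or_inv_mem (residue B ⟨x, hxB⟩) with h | h
          · exact Or.inl ⟨⟨x, hxB⟩, h, rfl⟩
          · refine Or.inr ⟨⟨x⁻¹, hx⟩, ?_, rfl⟩
            have h3 : residue B ⟨x, hxB⟩ * residue B ⟨x⁻¹, hx⟩ = 1 := by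
              rw [← map_mul]
              have : (⟨x, hxB⟩ : B) * ⟨x⁻¹, hx⟩ = 1 := by
                apply Subtype.ext
                show x * x⁻¹ = 1
                have hx0 : x ≠ 0 := by
                  rintro rfl
                  simp at h1
                exact mul_inv_cancel₀ hx0
              rw [this, map_one]
            show residue B ⟨x⁻¹, hx⟩ ∈ R'
            rw [eq_inv_of_mul_eq_one_right h3]; exact h
        · have : residue B ⟨x⁻¹, hx⟩ = 0 := (residue_eq_zero_iff _).mpr hu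
          exact Or.inr ⟨⟨x⁻¹, hx⟩, by show residue B ⟨x⁻¹, hx⟩ ∈ R'; rw [this]; exact R'.zero_mem,
            rfl⟩ }

theorem mem_composite {B : ValuationSubring L} {R' : ValuationSubring (ResidueField B)} {x : L} :
    x ∈ composite B R' ↔ ∃ h : x ∈ B, residue B ⟨x, h⟩ ∈ R' := by
  constructor
  · rintro ⟨b, hb, rfl⟩
    exact ⟨b.2, hb⟩
  · rintro ⟨h, hb⟩
    exact ⟨⟨x, h⟩, hb, rfl⟩

theorem composite_le (B : ValuationSubring L) (R' : ValuationSubring (ResidueField B)) :
    composite B R' ≤ B := fun _ hx => (mem_composite.mp hx).1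

/-- The residue map `composite B R' → R'`. -/
noncomputable def compositeToRes (B : ValuationSubring L) (R' : ValuationSubring (ResidueField B)) :
    composite B R' →+* R' :=
  ((residue B).comp (Subring.inclusion (composite_le B R'))).codRestrict R'.toSubring
    (fun c => (mem_composite.mp c.2).2)

theorem isLocalHom_codRestrict_composite {A : Type*} [CommRing A] (B : ValuationSubring L)
    (R' : ValuationSubring (ResidueField B)) (θ : A →+* B)
    (h : ∀ a, ((residue B).comp θ) a ∈ R'.toSubring)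
    (hloc : IsLocalHom (((residue B).comp θ).codRestrict R'.toSubring h))
    (h' : ∀ a, (B.subtype.comp θ) a ∈ (composite B R').toSubring) :
    IsLocalHom ((B.subtype.comp θ).codRestrict (composite B R').toSubring h') := by
  constructor
  intro a ha
  have h1 := ha.map (compositeToRes B R')
  have h2 : compositeToRes B R' ((B.subtype.comp θ).codRestrict (composite B R').toSubring h' a) =
      ((residue B).comp θ).codRestrict R'.toSubring h a := by
    apply Subtype.ext
    rfl
  rw [h2] at h1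
  exact hloc.map_nonunit a h1

end Composite

section Specializing

theorem isDominant_specMap_of_injective {R R' : CommRingCat.{u}} (φ : R ⟶ R')
    (hφ : Function.Injective φ.hom) : IsDominant (Spec.map φ) := by
  constructor
  show DenseRange (PrimeSpectrum.comap φ.hom)
  rw [PrimeSpectrum.denseRange_comap_iff_ker_le_nilRadical]
  rw [(RingHom.injective_iff_ker_eq_bot _).mp hφ]
  exact bot_le

/-- Lifting specializations along `f` from the existence of centres of discrete valuation rings
of `κ(u₀)`: if `g u₀ ⤳ x₁` and `f x₁ ⤳ s` then some specialization of `x₁` lies over `s`. -/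
theorem exists_specializes_of_dvrLiftAt [IsLocallyNoetherian S] (f : X ⟶ S)
    [LocallyOfFiniteType f] [QuasiCompact f] [IsSeparated f] (g : U ⟶ X) [LocallyOfFiniteType g]
    (u₀ : U) (H : DVRLiftAt g f u₀) (x₁ : X) (hx₁ : g u₀ ⤳ x₁) (s : S) (hs : f x₁ ⤳ s) :
    ∃ x : X, x₁ ⤳ x ∧ f x = s := by
  let L : Type u := U.residueField u₀
  let φB : X.presheaf.stalk x₁ ⟶ CommRingCat.of L :=
    X.presheaf.stalkSpecializes hx₁ ≫ g.stalkMap u₀ ≫ U.residue u₀
  have wB : U.fromSpecResidueField u₀ ≫ g = Spec.map φB ≫ X.fromSpecStalk x₁ :=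
    fromSpecResidueField_comp_eq g u₀ x₁ hx₁
  obtain ⟨B, hB, hBloc⟩ := IsLocalRing.exists_factor_valuationRing φB.hom
  let ψB : X.presheaf.stalk x₁ ⟶ CommRingCat.of B :=
    CommRingCat.ofHom (φB.hom.codRestrict B.toSubring hB)
  let lB : Spec (CommRingCat.of B) ⟶ X := Spec.map ψB ≫ X.fromSpecStalk x₁
  have hlB : Spec.map (CommRingCat.ofHom B.subtype) ≫ lB = U.fromSpecResidueField u₀ ≫ g := by
    rw [wB, ← Spec.map_comp_assoc]
    rfl
  have hlBcl : lB (closedPoint B) = x₁ := by
    have : Spec.map ψB (closedPoint B) = closedPoint (X.presheaf.stalk x₁) :=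
      IsLocalRing.comap_closedPoint (S := B) (φB.hom.codRestrict B.toSubring hB)
    change (X.fromSpecStalk x₁) ((Spec.map ψB) (closedPoint B)) = x₁
    rw [this, X.fromSpecStalk_closedPoint]
  let θS : S.presheaf.stalk s ⟶ CommRingCat.of B :=
    S.presheaf.stalkSpecializes hs ≫ f.stalkMap x₁ ≫ ψB
  have hθS : Spec.map θS ≫ S.fromSpecStalk s = lB ≫ f := by
    show Spec.map (S.presheaf.stalkSpecializes hs ≫ f.stalkMap x₁ ≫ ψB) ≫ S.fromSpecStalk s = _
    rw [Spec.map_comp, Spec.map_comp, Category.assoc, Category.assoc,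
      Scheme.SpecMap_stalkSpecializes_fromSpecStalk hs, Scheme.SpecMap_stalkMap_fromSpecStalk]
    rfl
  let φR : S.presheaf.stalk s →+* ResidueField B := (residue B).comp θS.hom
  obtain ⟨R', hR', hR'loc⟩ := IsLocalRing.exists_factor_valuationRing φR
  let C : ValuationSubring L := composite B R'
  have hC : ∀ a, (B.subtype.comp θS.hom) a ∈ C.toSubring := fun a =>
    mem_composite.mpr ⟨(θS.hom a).2, hR' a⟩
  let ψC : S.presheaf.stalk s ⟶ CommRingCat.of C :=
    CommRingCat.ofHom ((B.subtype.comp θS.hom).codRestrict C.toSubring hC)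
  have hψCloc : IsLocalHom ψC.hom :=
    isLocalHom_codRestrict_composite B R' θS.hom hR' hR'loc hC
  let y : Spec (CommRingCat.of C) ⟶ S := Spec.map ψC ≫ S.fromSpecStalk s
  let incl : CommRingCat.of C ⟶ CommRingCat.of B :=
    CommRingCat.ofHom (Subring.inclusion (composite_le B R'))
  have h1 : ψC ≫ incl = θS := by
    ext a; rfl
  have h2 : incl ≫ CommRingCat.ofHom B.subtype = CommRingCat.ofHom C.subtype := by
    ext a; rfl
  have hinclY : Spec.map incl ≫ y = lB ≫ f := by
    rw [← hθS, ← h1, Spec.map_comp, Category.assoc]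
  have hy : Spec.map (CommRingCat.ofHom C.subtype) ≫ y = U.fromSpecResidueField u₀ ≫ g ≫ f := by
    rw [← h2, Spec.map_comp, Category.assoc, hinclY, ← Category.assoc, hlB, Category.assoc]
  obtain ⟨l, hl1, hl2⟩ := exists_lift_valuationSubring f g u₀ H C y hy
  refine ⟨l (closedPoint C), ?_, ?_⟩
  · have hBred : IsReduced (Spec (CommRingCat.of B)) := inferInstance
    have hdom : IsDominant (Spec.map (CommRingCat.ofHom B.subtype)) :=
      isDominant_specMap_of_injective _ Subtype.val_injective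
    have heq : lB = Spec.map incl ≫ l := by
      refine ext_of_isDominant_of_isSeparated f ?_ (Spec.map (CommRingCat.ofHom B.subtype)) ?_
      · show lB ≫ f = (Spec.map incl ≫ l) ≫ f
        rw [Category.assoc (Spec.map incl) l f, hl1, hinclY]
      · rw [hlB, ← Category.assoc, ← Spec.map_comp, h2, hl2]
    rw [← hlBcl, heq]
    exact (specializes_closedPoint (Spec.map incl (closedPoint B))).map l.continuous
  · have h3 : f (l (closedPoint C)) = y (closedPoint C) := by
      rw [← hl1]; rfl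
    rw [h3]
    have : Spec.map ψC (closedPoint C) = closedPoint (S.presheaf.stalk s) :=
      IsLocalRing.comap_closedPoint (S := C) ψC.hom
    change (S.fromSpecStalk s) ((Spec.map ψC) (closedPoint C)) = s
    rw [this, S.fromSpecStalk_closedPoint]

end Specializing

end Groth.Agent.Lib.Helper25.ValCenter
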