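import Mathlib
import Groth.Agent.Lib.Helper25.ValCenter
import Groth.Agent.Lib.Helper39.DVRDominate
import Groth.Agent.Lib.Helper39.DVRIntersect
import Groth.Agent.Lib.Helper39.ClosureSpecializes
import Groth.Agent.Lib.Helper67.ExtendVal

/-!
# Extending rational sections at normal points (EGA IV 20.4)

Helper lemmas for `Groth.Agent.S3848` and `Groth.Agent.S3849`.
-/

set_option autoImplicit false
set_option linter.style.haveILetI false

universe u

open CategoryTheory CategoryTheory.Limits AlgebraicGeometry IsLocalRing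

namespace Groth.Agent.Lib.Helper25.RatExt

open Groth.Agent.Lib.Helper39.KA

section Algebra

/-- The nonunits of a valuation subring containing the generators of an ideal contain the ideal. -/
theorem mem_nonunits_of_span {A K : Type*} [CommRing A] [Field K] [Algebra A K]
    (V : ValuationSubring K) (hAV : ∀ a, algebraMap A K a ∈ V) (G : Set A)
    (hG : ∀ g ∈ G, algebraMap A K g ∈ V.nonunits) (a : A) (ha : a ∈ Ideal.span G) :
    algebraMap A K a ∈ V.nonunits := by
  let f : A →+* V := (algebraMap A K).codRestrict V.toSubring hAV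
  have hle : Ideal.span G ≤ (IsLocalRing.maximalIdeal V).comap f := by
    rw [Ideal.span_le]
    intro g hg
    have h3 := hG g hg
    rw [ValuationSubring.mem_nonunits_iff_exists_mem_maximalIdeal] at h3
    obtain ⟨_, h4⟩ := h3
    exact h4
  have h1 : f a ∈ IsLocalRing.maximalIdeal V := hle ha
  rw [ValuationSubring.mem_nonunits_iff_exists_mem_maximalIdeal]
  exact ⟨hAV a, h1⟩

/-- A normal Noetherian local domain is the intersection of the discrete valuation rings of its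
fraction field which dominate it. -/
theorem exists_dvr_not_mem (A K : Type u) [CommRing A] [IsDomain A] [IsNoetherianRing A]
    [IsLocalRing A] [IsIntegrallyClosed A] [Field K] [Algebra A K] [IsFractionRing A K] (k : K)
    (hk : k ∉ Set.range (algebraMap A K)) :
    ∃ V : ValuationSubring K, IsDiscreteValuationRing V ∧ (∀ a, algebraMap A K a ∈ V) ∧
      (∀ a ∈ maximalIdeal A, algebraMap A K a ∈ V.nonunits) ∧ k ∉ V := by
  classical
  let R : LocalSubring K := LocalSubring.range (algebraMap A K)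
  have hRmem : ∀ z, z ∈ R.toSubring ↔ z ∈ Set.range (algebraMap A K) := fun z => Iff.rfl
  have hic : IsIntegrallyClosedIn R.toSubring K := by
    rw [Subring.isIntegrallyClosedIn_iff]
    intro z hz
    rw [hRmem]
    have hz' : IsIntegral A z := by
      let f : A →+* R.toSubring :=
        (algebraMap A K).codRestrict R.toSubring (fun a => (hRmem _).mpr ⟨a, rfl⟩)
      let _ : Algebra A R.toSubring := f.toAlgebra
      have : IsScalarTower A R.toSubring K := IsScalarTower.of_algebraMap_eq (fun _ => rfl)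
      have hsurj : Function.Surjective (algebraMap A R.toSubring) := by
        rintro ⟨b, hb⟩
        obtain ⟨a, rfl⟩ := (hRmem b).mp hb
        exact ⟨a, rfl⟩
      have : Algebra.IsIntegral A R.toSubring := Algebra.isIntegral_of_surjective hsurj
      exact isIntegral_trans z hz
    exact (IsIntegrallyClosed.isIntegral_iff (R := A) (K := K)).mp hz'
  have hkR : k ∉ R.toSubring := fun h => hk ((hRmem k).mp h)
  obtain ⟨V₀, hV₀1, hV₀2⟩ :=
    LocalSubring.exists_le_valuationSubring_of_isIntegrallyClosedIn (x := k) (R := R) hkR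
  obtain ⟨hle, hloc⟩ := hV₀1
  have hAV₀ : ∀ a, algebraMap A K a ∈ V₀ := fun a => hle ((hRmem _).mpr ⟨a, rfl⟩)
  have hk0 : k ≠ 0 := by
    rintro rfl
    exact hk ⟨0, map_zero _⟩
  obtain ⟨G, hG⟩ := (isNoetherianRing_iff_ideal_fg A).mp inferInstance (maximalIdeal A)
  let W : Finset K := insert k⁻¹ (G.image (algebraMap A K))
  have hmV₀ : ∀ a ∈ maximalIdeal A, algebraMap A K a ∈ V₀.nonunits := by
    intro a ha
    rw [ValuationSubring.mem_nonunits_iff_exists_mem_maximalIdeal]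
    refine ⟨hAV₀ a, ?_⟩
    intro hu
    have h1 : IsUnit (⟨algebraMap A K a, (hRmem _).mpr ⟨a, rfl⟩⟩ : R.toSubring) :=
      hloc.map_nonunit _ hu
    have h2 : IsUnit (algebraMap A K a) := h1.map R.toSubring.subtype
    have h3 : IsUnit a := by
      obtain ⟨⟨b, hb⟩, hab⟩ := h1.exists_right_inv
      obtain ⟨a', rfl⟩ := (hRmem b).mp hb
      have h4 : algebraMap A K a * algebraMap A K a' = 1 := congrArg Subtype.val hab
      rw [← map_mul, ← map_one (algebraMap A K)] at h4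
      exact IsUnit.of_mul_eq_one _ (IsFractionRing.injective A K h4)
    exact ha h3
  have hW : ∀ w ∈ W, w ∈ V₀.nonunits := by
    intro w hw
    rcases Finset.mem_insert.mp hw with rfl | hw
    · exact V₀.inv_mem_nonunits_iff.mpr (Or.inr hV₀2)
    · obtain ⟨g, hg, rfl⟩ := Finset.mem_image.mp hw
      apply hmV₀
      rw [← hG]
      exact Ideal.subset_span hg
  have hs : Subfield.closure (Set.range (algebraMap A K) ∪ ((∅ : Finset K) : Set K)) = ⊤ := by
    rw [eq_top_iff]
    intro z _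
    obtain ⟨a, b, -, rfl⟩ := IsFractionRing.div_surjective (A := A) z
    exact Subfield.div_mem _ (Subfield.subset_closure (Or.inl ⟨a, rfl⟩))
      (Subfield.subset_closure (Or.inl ⟨b, rfl⟩))
  obtain ⟨V, hVdvr, hV1, hV2⟩ := exists_dvr_of_valuationSubring A K ∅ hs V₀ hAV₀ W hW
    ⟨k⁻¹, Finset.mem_insert_self _ _, inv_ne_zero hk0⟩
  refine ⟨V, hVdvr, hV1, ?_, ?_⟩
  · intro a ha
    rw [← hG] at ha
    refine mem_nonunits_of_span V hV1 (G : Set A) ?_ a ha
    intro g hg
    exact hV2 _ (Finset.mem_insert_of_mem (Finset.mem_image_of_mem _ hg))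
  · have h1 := hV2 _ (Finset.mem_insert_self _ _)
    rcases V.inv_mem_nonunits_iff.mp h1 with h0 | h0
    · exact absurd h0 hk0
    · exact h0

end Algebra

section Stalk

variable {X : Scheme.{u}}

/-- For `x' ⤳ x` with `𝒪_{X,x}` a domain, the local ring at `x'` embeds compatibly into the
fraction field of `𝒪_{X,x}`. -/
theorem exists_injective_toFractionRing {x x' : X} (h : x' ⤳ x) [IsDomain (X.presheaf.stalk x)]
    (K : Type u) [Field K] [Algebra (X.presheaf.stalk x) K]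
    [IsFractionRing (X.presheaf.stalk x) K] :
    ∃ ι : X.presheaf.stalk x' ⟶ CommRingCat.of K, Function.Injective ι.hom ∧
      X.presheaf.stalkSpecializes h ≫ ι =
        CommRingCat.ofHom (algebraMap (X.presheaf.stalk x) K) := by
  obtain ⟨_, ⟨V, hV', rfl⟩, hxV, -⟩ := X.isBasis_affineOpens.exists_subset_of_mem_open
    (Set.mem_univ x) isOpen_univ
  have hV : IsAffineOpen V := hV'
  have hx'V : x' ∈ V := h.mem_open V.isOpen hxV
  let _ : Algebra Γ(X, V) (X.presheaf.stalk x) := X.presheaf.algebra_section_stalk ⟨x, hxV⟩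
  let _ : Algebra Γ(X, V) (X.presheaf.stalk x') := X.presheaf.algebra_section_stalk ⟨x', hx'V⟩
  let _ : Algebra (X.presheaf.stalk x) (X.presheaf.stalk x') :=
    (X.presheaf.stalkSpecializes h).hom.toAlgebra
  have : IsScalarTower Γ(X, V) (X.presheaf.stalk x) (X.presheaf.stalk x') :=
    IsScalarTower.of_algebraMap_eq (fun c =>
      (congr($(X.presheaf.germ_stalkSpecializes (U := V) hxV h).hom c)).symm)
  have hloc := hV.isLocalization_stalk ⟨x, hxV⟩
  have hloc' := hV.isLocalization_stalk ⟨x', hx'V⟩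
  let M := (hV.primeIdealOf ⟨x, hxV⟩).asIdeal.primeCompl
  let N := (hV.primeIdealOf ⟨x', hx'V⟩).asIdeal.primeCompl
  have hMN : M ≤ N := by
    intro t ht
    have h1 : IsUnit (algebraMap Γ(X, V) (X.presheaf.stalk x) t) :=
      IsLocalization.map_units (X.presheaf.stalk x) ⟨t, ht⟩
    have h2 : IsUnit (algebraMap Γ(X, V) (X.presheaf.stalk x') t) := by
      rw [IsScalarTower.algebraMap_apply Γ(X, V) (X.presheaf.stalk x) (X.presheaf.stalk x')]
      exact h1.map _
    exact (IsLocalization.AtPrime.isUnit_to_map_iff (X.presheaf.stalk x')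
      (hV.primeIdealOf ⟨x', hx'V⟩).asIdeal t).mp h2
  have hNloc : IsLocalization (N.map (algebraMap Γ(X, V) (X.presheaf.stalk x)))
      (X.presheaf.stalk x') :=
    IsLocalization.isLocalization_of_submonoid_le (X.presheaf.stalk x) (X.presheaf.stalk x') M N hMN
  have hN0 : ∀ y ∈ N.map (algebraMap Γ(X, V) (X.presheaf.stalk x)), y ≠ 0 := by
    rintro _ ⟨t, ht, rfl⟩ h0
    have h2 : IsUnit (algebraMap Γ(X, V) (X.presheaf.stalk x') t) :=
      IsLocalization.map_units (X.presheaf.stalk x') ⟨t, ht⟩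
    rw [IsScalarTower.algebraMap_apply Γ(X, V) (X.presheaf.stalk x) (X.presheaf.stalk x'),
      show algebraMap Γ(X, V) (X.presheaf.stalk x) t = 0 from h0, map_zero] at h2
    exact not_isUnit_zero h2
  have hNle : N.map (algebraMap Γ(X, V) (X.presheaf.stalk x)) ≤
      nonZeroDivisors (X.presheaf.stalk x) :=
    fun y hy => mem_nonZeroDivisors_of_ne_zero (hN0 y hy)
  have hinj : Function.Injective (algebraMap (X.presheaf.stalk x) (X.presheaf.stalk x')) :=
    IsLocalization.injective _ hNle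
  have hunits : ∀ y : N.map (algebraMap Γ(X, V) (X.presheaf.stalk x)),
      IsUnit (algebraMap (X.presheaf.stalk x) K y) := by
    intro y
    apply IsUnit.mk0
    intro h0
    rw [← map_zero (algebraMap (X.presheaf.stalk x) K)] at h0
    exact hN0 y y.2 (IsFractionRing.injective _ K h0)
  let ι₀ : X.presheaf.stalk x' →+* K := IsLocalization.lift hunits
  refine ⟨CommRingCat.ofHom ι₀, ?_, ?_⟩
  · show Function.Injective ι₀
    rw [IsLocalization.lift_injective_iff]
    intro a b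
    rw [hinj.eq_iff, (IsFractionRing.injective (X.presheaf.stalk x) K).eq_iff]
  · ext a
    exact IsLocalization.lift_eq hunits a

/-- Generizations of a point whose local ring is a domain have injective generization maps. -/
theorem stalkSpecializes_injective {x x' : X} (h : x' ⤳ x) [IsDomain (X.presheaf.stalk x)] :
    Function.Injective (X.presheaf.stalkSpecializes h).hom := by
  obtain ⟨ι, -, hι⟩ := exists_injective_toFractionRing h (FractionRing (X.presheaf.stalk x))
  intro a b hab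
  have h1 := congr($(hι).hom a)
  have h2 := congr($(hι).hom b)
  apply IsFractionRing.injective (X.presheaf.stalk x) (FractionRing (X.presheaf.stalk x))
  refine h1.symm.trans (Eq.trans ?_ h2)
  show ι.hom ((X.presheaf.stalkSpecializes h).hom a) = ι.hom ((X.presheaf.stalkSpecializes h).hom b)
  rw [hab]

end Stalk

section Germ

/-- A morphism from the spectrum of a local ring factors through the local ring of the image of
the closed point. -/
theorem exists_eq_SpecMap_comp_fromSpecStalk {R : CommRingCat.{u}} [IsLocalRing R]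
    {Y : Scheme.{u}} (t : Spec R ⟶ Y) (y : Y) (h : t (closedPoint R) = y) :
    ∃ φ : Y.presheaf.stalk y ⟶ R, IsLocalHom φ.hom ∧
      t = Spec.map φ ≫ Y.fromSpecStalk y := by
  subst h
  exact ⟨Scheme.stalkClosedPointTo t, inferInstance,
    (Scheme.Spec_stalkClosedPointTo_fromSpecStalk t).symm⟩

/-- Two morphisms agreeing at a point `d` and on a "dominant" point of `Spec 𝒪_d` have the same
germ at `d`. -/
theorem fromSpecStalk_comp_eq_of_injective {V Y : Scheme.{u}} (a b : V ⟶ Y) (d : V)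
    (hd : a d = b d) {K : Type u} [CommRing K] (ι : V.presheaf.stalk d ⟶ CommRingCat.of K)
    (hι : Function.Injective ι.hom)
    (hab : Spec.map ι ≫ V.fromSpecStalk d ≫ a = Spec.map ι ≫ V.fromSpecStalk d ≫ b) :
    V.fromSpecStalk d ≫ a = V.fromSpecStalk d ≫ b := by
  obtain ⟨φa, -, ha⟩ := exists_eq_SpecMap_comp_fromSpecStalk (V.fromSpecStalk d ≫ a) (a d)
    (by
      show a (V.fromSpecStalk d (closedPoint _)) = a d
      rw [V.fromSpecStalk_closedPoint])
  obtain ⟨φb, -, hb⟩ := exists_eq_SpecMap_comp_fromSpecStalk (V.fromSpecStalk d ≫ b) (a d)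
    (by
      show b (V.fromSpecStalk d (closedPoint _)) = a d
      rw [V.fromSpecStalk_closedPoint, hd])
  rw [ha, hb] at hab ⊢
  rw [← Category.assoc, ← Category.assoc, cancel_mono, ← Spec.map_comp, ← Spec.map_comp] at hab
  have h1 := Spec.map_injective hab
  have : φa = φb := by
    ext r
    exact hι (congr($(h1).hom r))
  rw [this]

variable {X Y : Scheme.{u}}

/-- **Germ of the extension.**  If every discrete valuation ring of the fraction field of the
normal local domain `𝒪_{X,x}` dominating it carries a lift of `t` centred at `y₀`, then `t`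
extends to a section germ `Spec 𝒪_{X,x} ⟶ Y` centred at `y₀`. -/
theorem exists_germ_section [IsLocallyNoetherian X] (q : Y ⟶ X) (y₀ : Y)
    [IsDomain (X.presheaf.stalk (q y₀))] (hx : IsIntegrallyClosed (X.presheaf.stalk (q y₀)))
    (hnf : ¬ IsField (X.presheaf.stalk (q y₀)))
    (K : Type u) [Field K] [Algebra (X.presheaf.stalk (q y₀)) K]
    [IsFractionRing (X.presheaf.stalk (q y₀)) K]
    (t : Spec (CommRingCat.of K) ⟶ Y)
    (ht : t ≫ q = Spec.map (CommRingCat.ofHom (algebraMap (X.presheaf.stalk (q y₀)) K)) ≫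
      X.fromSpecStalk (q y₀))
    (H : ∀ V : ValuationSubring K, IsDiscreteValuationRing V →
        (∀ a, algebraMap (X.presheaf.stalk (q y₀)) K a ∈ V) →
        (∀ a ∈ maximalIdeal (X.presheaf.stalk (q y₀)),
          algebraMap (X.presheaf.stalk (q y₀)) K a ∈ V.nonunits) →
        ∃ h₁ : Spec (CommRingCat.of V) ⟶ Y, h₁ (closedPoint V) = y₀ ∧
          Spec.map (CommRingCat.ofHom V.subtype) ≫ h₁ = t) :
    ∃ π : Y.presheaf.stalk y₀ ⟶ X.presheaf.stalk (q y₀), IsLocalHom π.hom ∧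
      q.stalkMap y₀ ≫ π = 𝟙 _ ∧
      Spec.map (CommRingCat.ofHom (algebraMap (X.presheaf.stalk (q y₀)) K)) ≫
        Spec.map π ≫ Y.fromSpecStalk y₀ = t := by
  obtain ⟨V₀, hV₀dvr, hV₀1, hV₀2⟩ := exists_dvr_dominating (X.presheaf.stalk (q y₀)) K hnf
  have hV₀2' : ∀ a ∈ maximalIdeal (X.presheaf.stalk (q y₀)), algebraMap (X.presheaf.stalk (q y₀)) K a ∈ V₀.nonunits := fun a ha =>
    (ValuationSubring.mem_nonunits_iff V₀).mpr (hV₀2 a ha)
  obtain ⟨h₁0, h0cl, h0t⟩ := H V₀ hV₀dvr hV₀1 hV₀2'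
  obtain ⟨ψ₀, hψ₀loc, hψ₀⟩ := exists_eq_SpecMap_comp_fromSpecStalk h₁0 y₀ h0cl
  let φ : Y.presheaf.stalk y₀ ⟶ CommRingCat.of K := ψ₀ ≫ CommRingCat.ofHom V₀.subtype
  have hφ : t = Spec.map φ ≫ Y.fromSpecStalk y₀ := by
    rw [← h0t, hψ₀, Spec.map_comp, Category.assoc]
  have hφV : ∀ V : ValuationSubring K, IsDiscreteValuationRing V →
      (∀ a, algebraMap (X.presheaf.stalk (q y₀)) K a ∈ V) → (∀ a ∈ maximalIdeal (X.presheaf.stalk (q y₀)), algebraMap (X.presheaf.stalk (q y₀)) K a ∈ V.nonunits) →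
      ∀ b, φ.hom b ∈ V := by
    intro V hV hV1 hV2 b
    obtain ⟨h₁, hcl, h1t⟩ := H V hV hV1 hV2
    obtain ⟨ψ, -, hψ⟩ := exists_eq_SpecMap_comp_fromSpecStalk h₁ y₀ hcl
    have h2 : Spec.map (ψ ≫ CommRingCat.ofHom V.subtype) ≫ Y.fromSpecStalk y₀ =
        Spec.map φ ≫ Y.fromSpecStalk y₀ := by
      rw [← hφ, ← h1t, hψ, Spec.map_comp, Category.assoc]
    rw [cancel_mono] at h2
    have h3 := Spec.map_injective h2
    have h4 : (ψ.hom b : K) = φ.hom b := congr($(h3).hom b)
    rw [← h4]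
    exact (ψ.hom b).2
  have hφA : ∀ b, φ.hom b ∈ (algebraMap (X.presheaf.stalk (q y₀)) K).range := by
    intro b
    by_contra hb
    obtain ⟨V, hV, hV1, hV2, hV3⟩ := exists_dvr_not_mem (X.presheaf.stalk (q y₀)) K (φ.hom b) hb
    exact hV3 (hφV V hV hV1 hV2 b)
  have hinj : Function.Injective (algebraMap (X.presheaf.stalk (q y₀)) K) := IsFractionRing.injective (X.presheaf.stalk (q y₀)) K
  let e : X.presheaf.stalk (q y₀) ≃+* (algebraMap (X.presheaf.stalk (q y₀)) K).range :=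
    RingEquiv.ofBijective (algebraMap (X.presheaf.stalk (q y₀)) K).rangeRestrict
      ⟨fun a b hab => hinj (congrArg Subtype.val hab), (algebraMap (X.presheaf.stalk (q y₀)) K).rangeRestrict_surjective⟩
  let π₀ : Y.presheaf.stalk y₀ →+* X.presheaf.stalk (q y₀) := e.symm.toRingHom.comp (φ.hom.codRestrict (algebraMap (X.presheaf.stalk (q y₀)) K).range hφA)
  have hπ₀ : ∀ b, algebraMap (X.presheaf.stalk (q y₀)) K (π₀ b) = φ.hom b := by
    intro b
    have h1 : e (π₀ b) = ⟨φ.hom b, hφA b⟩ := e.apply_symm_apply _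
    exact congrArg Subtype.val h1
  have hαφ : q.stalkMap y₀ ≫ φ = CommRingCat.ofHom (algebraMap (X.presheaf.stalk (q y₀)) K) := by
    apply Spec.map_injective
    rw [← cancel_mono (X.fromSpecStalk (q y₀)), Spec.map_comp, Category.assoc,
      Scheme.SpecMap_stalkMap_fromSpecStalk, ← Category.assoc, ← hφ, ht]
  have hπα : ∀ a, π₀ ((q.stalkMap y₀).hom a) = a := by
    intro a
    apply hinj
    rw [hπ₀]
    exact congr($(hαφ).hom a)
  have hπloc : IsLocalHom π₀ := by
    constructor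
    intro b hb
    by_contra hnb
    have hbm : b ∈ maximalIdeal (Y.presheaf.stalk y₀) := hnb
    have h1 : ψ₀.hom b ∈ maximalIdeal V₀ := by
      rw [IsLocalRing.mem_maximalIdeal, mem_nonunits_iff]
      intro hu
      exact hbm (hψ₀loc.map_nonunit b hu)
    have h2 : φ.hom b ∈ V₀.nonunits := by
      rw [ValuationSubring.mem_nonunits_iff_exists_mem_maximalIdeal]
      exact ⟨(ψ₀.hom b).2, h1⟩
    rw [← hπ₀] at h2
    have h3 : IsUnit ((algebraMap (X.presheaf.stalk (q y₀)) K).codRestrict V₀.toSubring hV₀1 (π₀ b)) := hb.map _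
    rw [ValuationSubring.mem_nonunits_iff_exists_mem_maximalIdeal] at h2
    obtain ⟨_, h4⟩ := h2
    exact h4 h3
  let π : Y.presheaf.stalk y₀ ⟶ X.presheaf.stalk (q y₀) := CommRingCat.ofHom π₀
  have hπφ : π ≫ CommRingCat.ofHom (algebraMap (X.presheaf.stalk (q y₀)) K) = φ := by
    ext b
    exact hπ₀ b
  refine ⟨π, hπloc, ?_, ?_⟩
  · ext a
    exact hπα a
  · have h5 : Spec.map (CommRingCat.ofHom (algebraMap (X.presheaf.stalk (q y₀)) K)) ≫ Spec.map π =
        Spec.map φ := by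
      rw [← hπφ]
      exact (Spec.map_comp π (CommRingCat.ofHom (algebraMap (X.presheaf.stalk (q y₀)) K))).symm
    rw [← Category.assoc, h5, hφ]

end Germ

section Small

open Groth.Agent.Lib.Helper67.ExtendVal

variable {X : Scheme.{u}}

/-- On a locally Noetherian scheme, a dense open contains the generic point of `Spec 𝒪_{X,x}` when
the latter is a domain. -/
theorem genPt_mem_of_dense (x : X) [X.IsGermInjectiveAt x] [IsDomain (X.presheaf.stalk x)]
    (U : X.Opens) (hU : Dense (U : Set X)) : genPt x ∈ U := by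
  obtain ⟨W, hxW, hWaff, hinj⟩ := X.exists_germ_injective x
  haveI : IsAffine (W : Scheme.{u}) := hWaff
  haveI : Nonempty (W : Scheme.{u}) := ⟨⟨x, hxW⟩⟩
  haveI : IsDomain Γ(X, W) := hinj.isDomain (X.presheaf.germ W x hxW).hom
  haveI : IsDomain Γ((W : Scheme.{u}), ⊤) :=
    (ConcreteCategory.bijective_of_isIso W.topIso.hom).1.isDomain W.topIso.hom.hom
  have hint : IsIntegral (W : Scheme.{u}) := isIntegral_of_isAffine_of_isDomain _
  let η₁ : (W : Scheme.{u}) := genericPoint (W : Scheme.{u})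
  have h1 : ∀ z : (W : Scheme.{u}), η₁ ⤳ z := fun z => genericPoint_specializes z
  have h2 : η₁.1 ⤳ x := (h1 ⟨x, hxW⟩).map continuous_subtype_val
  have h3 : genPt x ⤳ η₁.1 := genPt_specializes_of_specializes x h2
  obtain ⟨y, hyW, hyU⟩ := mem_closure_iff.mp (hU x) W W.isOpen hxW
  have h4 : η₁.1 ⤳ y := (h1 ⟨y, hyW⟩).map continuous_subtype_val
  exact (h3.trans h4).mem_open U.isOpen hyU

/-- The image of a point of the spectrum of a field is the kernel. -/
theorem SpecMap_apply_asIdeal_of_field {A K : Type u} [CommRing A] [Field K] (f : A →+* K)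
    (z : Spec (CommRingCat.of K)) :
    (Spec.map (CommRingCat.ofHom f) z).asIdeal = RingHom.ker f := by
  change Ideal.comap f z.asIdeal = RingHom.ker f
  have : z.asIdeal = ⊥ := by
    have := z.isPrime
    exact (Ideal.eq_bot_or_top z.asIdeal).resolve_right this.ne_top
  rw [this, RingHom.ker_eq_comap_bot]

/-- The image of a point of the spectrum of a field is the kernel. -/
theorem SpecMap_apply_asIdeal_of_field' {R : CommRingCat.{u}} {K : Type u} [Field K]
    (φ : R ⟶ CommRingCat.of K) (z : Spec (CommRingCat.of K)) :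
    (Spec.map φ z).asIdeal = RingHom.ker φ.hom := by
  change Ideal.comap φ.hom z.asIdeal = RingHom.ker φ.hom
  have : z.asIdeal = ⊥ := by
    have := z.isPrime
    exact (Ideal.eq_bot_or_top z.asIdeal).resolve_right this.ne_top
  rw [this, RingHom.ker_eq_comap_bot]

/-- A ring map into a valuation subring sending the maximal ideal into the nonunits is local. -/
theorem isLocalHom_codRestrict {A K : Type u} [CommRing A] [IsLocalRing A] [Field K] (f : A →+* K)
    (V : ValuationSubring K) (hAV : ∀ a, f a ∈ V) (hmV : ∀ a ∈ maximalIdeal A, f a ∈ V.nonunits) :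
    IsLocalHom (f.codRestrict V.toSubring hAV) := by
  constructor
  intro a ha
  by_contra hna
  have h1 := hmV a hna
  rw [ValuationSubring.mem_nonunits_iff_exists_mem_maximalIdeal] at h1
  obtain ⟨_, h2⟩ := h1
  exact h2 ha

end Small

section DVRThrough

/-- A discrete valuation ring through a non-maximal prime of a Noetherian local ring. -/
theorem exists_dvr_of_prime (A : Type u) [CommRing A] [IsNoetherianRing A] [IsLocalRing A]
    (p : Ideal A) [p.IsPrime] (hp : p ≠ maximalIdeal A) :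
    ∃ (L : Type u) (_ : Field L) (f : A →+* L) (V : ValuationSubring L),
      IsDiscreteValuationRing V ∧ RingHom.ker f = p ∧
        ∃ hfV : ∀ a, f a ∈ V, IsLocalHom (f.codRestrict V.toSubring hfV) := by
  have hloc : IsLocalRing (A ⧸ p) :=
    IsLocalRing.of_surjective' (Ideal.Quotient.mk p) Ideal.Quotient.mk_surjective
  have hmkloc : IsLocalHom (Ideal.Quotient.mk p) :=
    IsLocalHom.of_surjective _ Ideal.Quotient.mk_surjective
  have hnf : ¬ IsField (A ⧸ p) := by
    intro hf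
    have hmax : p.IsMaximal := Ideal.Quotient.maximal_of_isField p hf
    exact hp (IsLocalRing.eq_maximalIdeal hmax)
  obtain ⟨V, hVdvr, hV1, hV2⟩ := exists_dvr_dominating (A ⧸ p) (FractionRing (A ⧸ p)) hnf
  let f : A →+* FractionRing (A ⧸ p) :=
    (algebraMap (A ⧸ p) (FractionRing (A ⧸ p))).comp (Ideal.Quotient.mk p)
  have hfV : ∀ a, f a ∈ V := fun a => hV1 _
  have hfm : ∀ a ∈ maximalIdeal A, f a ∈ V.nonunits := by
    intro a ha
    rw [ValuationSubring.mem_nonunits_iff]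
    apply hV2
    intro hu
    exact ha (hmkloc.map_nonunit a hu)
  refine ⟨FractionRing (A ⧸ p), inferInstance, f, V, hVdvr, ?_, hfV,
    isLocalHom_codRestrict f V hfV hfm⟩
  ext a
  rw [RingHom.mem_ker]
  constructor
  · intro h1
    have h2 : Ideal.Quotient.mk p a = 0 :=
      IsFractionRing.injective (A ⧸ p) (FractionRing (A ⧸ p)) (by rw [map_zero]; exact h1)
    exact Ideal.Quotient.eq_zero_iff_mem.mp h2
  · intro h
    show algebraMap (A ⧸ p) (FractionRing (A ⧸ p)) (Ideal.Quotient.mk p a) = 0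
    rw [Ideal.Quotient.eq_zero_iff_mem.mpr h, map_zero]

end DVRThrough

section Main

open Groth.Agent.Lib.Helper67.ExtendVal Groth.Agent.Lib.Helper25.ValCenter

variable {X Y : Scheme.{u}}

/-- The hypothesis of the valuative criterion for extending a section at a point. -/
def DVRHyp (q : Y ⟶ X) (U : X.Opens) (h : (U : Scheme.{u}) ⟶ Y) (y₀ : Y) : Prop :=
  ∀ (R : Type u) [CommRing R] [IsDomain R] [IsDiscreteValuationRing R]
    (u : Spec (CommRingCat.of R) ⟶ X), u (IsLocalRing.closedPoint R) = q y₀ →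
    ∀ ub : Spec (CommRingCat.of (FractionRing R)) ⟶ (U : Scheme.{u}),
      ub ≫ U.ι = Spec.map (CommRingCat.ofHom (algebraMap R (FractionRing R))) ≫ u →
      ∃ h₁ : Spec (CommRingCat.of R) ⟶ Y, h₁ ≫ q = u ∧ h₁ (IsLocalRing.closedPoint R) = y₀ ∧
        Spec.map (CommRingCat.ofHom (algebraMap R (FractionRing R))) ≫ h₁ = ub ≫ h

/-- Translation of the hypothesis to valuation subrings of a fixed fraction field. -/
theorem DVRHyp.valuationSubring {q : Y ⟶ X} {U : X.Opens} {h : (U : Scheme.{u}) ⟶ Y} {y₀ : Y}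
    (H : DVRHyp q U h y₀) {K : Type u} [Field K] (V : ValuationSubring K)
    [IsDiscreteValuationRing V] (u : Spec (CommRingCat.of V) ⟶ X)
    (hu : u (closedPoint V) = q y₀) (ub : Spec (CommRingCat.of K) ⟶ (U : Scheme.{u}))
    (hub : ub ≫ U.ι = Spec.map (CommRingCat.ofHom V.subtype) ≫ u) :
    ∃ h₁ : Spec (CommRingCat.of V) ⟶ Y, h₁ ≫ q = u ∧ h₁ (closedPoint V) = y₀ ∧
      Spec.map (CommRingCat.ofHom V.subtype) ≫ h₁ = ub ≫ h := by
  let e : FractionRing V ≃ₐ[V] K := FractionRing.algEquiv V K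
  have he : ∀ v : V, e (algebraMap V (FractionRing V) v) = (v : K) := fun v => e.commutes v
  have he' : ∀ v : V, e.symm (v : K) = algebraMap V (FractionRing V) v := fun v => e.symm.commutes v
  let ub' : Spec (CommRingCat.of (FractionRing V)) ⟶ (U : Scheme.{u}) :=
    Spec.map (CommRingCat.ofHom (e.symm : K →+* FractionRing V)) ≫ ub
  have h1 : CommRingCat.ofHom V.subtype ≫ CommRingCat.ofHom (e.symm : K →+* FractionRing V) =
      CommRingCat.ofHom (algebraMap V (FractionRing V)) := by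
    ext v
    exact he' v
  have h2 : CommRingCat.ofHom (algebraMap V (FractionRing V)) ≫
      CommRingCat.ofHom (e : FractionRing V →+* K) = CommRingCat.ofHom V.subtype := by
    ext v
    exact he v
  have h3 : CommRingCat.ofHom (e.symm : K →+* FractionRing V) ≫
      CommRingCat.ofHom (e : FractionRing V →+* K) = 𝟙 _ := by
    ext k
    exact e.apply_symm_apply k
  have hub' : ub' ≫ U.ι = Spec.map (CommRingCat.ofHom (algebraMap V (FractionRing V))) ≫ u := by
    rw [Category.assoc, hub, ← Category.assoc, ← Spec.map_comp, h1]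
  obtain ⟨h₁, hq, hcl, hgen⟩ := H V u hu ub' hub'
  refine ⟨h₁, hq, hcl, ?_⟩
  rw [← h2, Spec.map_comp, Category.assoc, hgen, ← Category.assoc, ← Category.assoc,
    ← Spec.map_comp, h3, Spec.map_id, Category.id_comp]

/-- Stage 1: the germ of the extension and its spreading out to an affine neighbourhood. -/
theorem exists_spread_section [IsLocallyNoetherian X] (q : Y ⟶ X) [LocallyOfFiniteType q]
    (U : X.Opens) (hU : Dense (U : Set ↥X)) (h : (U : Scheme.{u}) ⟶ Y) (hh : h ≫ q = U.ι) (y₀ : Y)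
    (hxU : q y₀ ∉ U) [IsDomain ↑(X.presheaf.stalk (q y₀))]
    (hx : IsIntegrallyClosed ↑(X.presheaf.stalk (q y₀))) (H : DVRHyp q U h y₀) :
    ∃ (π : Y.presheaf.stalk y₀ ⟶ X.presheaf.stalk (q y₀))
      (ub₀ : Spec (CommRingCat.of (FractionRing (X.presheaf.stalk (q y₀)))) ⟶ (U : Scheme.{u}))
      (W : X.Opens) (hxW : q y₀ ∈ W) (σ : (W : Scheme.{u}) ⟶ Y),
      IsLocalHom π.hom ∧ q.stalkMap y₀ ≫ π = 𝟙 _ ∧
      ub₀ ≫ U.ι = Spec.map (CommRingCat.ofHom (algebraMap (X.presheaf.stalk (q y₀))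
        (FractionRing (X.presheaf.stalk (q y₀))))) ≫ X.fromSpecStalk (q y₀) ∧
      Spec.map (CommRingCat.ofHom (algebraMap (X.presheaf.stalk (q y₀))
        (FractionRing (X.presheaf.stalk (q y₀))))) ≫ Spec.map π ≫ Y.fromSpecStalk y₀ = ub₀ ≫ h ∧
      IsAffineOpen W ∧ σ ≫ q = W.ι ∧
      W.fromSpecStalkOfMem (q y₀) hxW ≫ σ = Spec.map π ≫ Y.fromSpecStalk y₀ := by
  let K : Type u := FractionRing (X.presheaf.stalk (q y₀))
  let jK : Spec (CommRingCat.of K) ⟶ Spec (X.presheaf.stalk (q y₀)) :=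
    Spec.map (CommRingCat.ofHom (algebraMap (X.presheaf.stalk (q y₀)) K))
  let j₀ : Spec (CommRingCat.of K) ⟶ X := jK ≫ X.fromSpecStalk (q y₀)
  have hξU : genPt (q y₀) ∈ U := genPt_mem_of_dense (q y₀) U hU
  have hj₀pt : ∀ z, j₀ z = genPt (q y₀) := by
    intro z
    show X.fromSpecStalk (q y₀) (jK z) = _
    congr 1
    apply PrimeSpectrum.ext
    exact (SpecMap_apply_asIdeal_of_field (algebraMap (X.presheaf.stalk (q y₀)) K) z).trans
      ((RingHom.injective_iff_ker_eq_bot _).mp (IsFractionRing.injective _ K))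
  have hrange : Set.range j₀ ⊆ Set.range U.ι := by
    rw [Scheme.Opens.range_ι]
    rintro _ ⟨z, rfl⟩
    rw [hj₀pt]
    exact hξU
  let ub₀ : Spec (CommRingCat.of K) ⟶ (U : Scheme.{u}) := IsOpenImmersion.lift U.ι j₀ hrange
  have hub₀ : ub₀ ≫ U.ι = j₀ := IsOpenImmersion.lift_fac _ _ _
  let t : Spec (CommRingCat.of K) ⟶ Y := ub₀ ≫ h
  have ht : t ≫ q = j₀ := by
    rw [Category.assoc, hh, hub₀]
  have hnf : ¬ IsField (X.presheaf.stalk (q y₀)) := by
    intro hf
    apply hxU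
    have h1 : maximalIdeal (X.presheaf.stalk (q y₀)) = ⊥ :=
      IsLocalRing.isField_iff_maximalIdeal_eq.mp hf
    have h2 : genPt (q y₀) = q y₀ := by
      have : (⟨⊥, Ideal.isPrime_bot⟩ : PrimeSpectrum (X.presheaf.stalk (q y₀))) =
          closedPoint (X.presheaf.stalk (q y₀)) := by
        apply PrimeSpectrum.ext
        exact h1.symm
      show X.fromSpecStalk (q y₀) _ = _
      rw [this, X.fromSpecStalk_closedPoint]
    rw [← h2]
    exact hξU
  obtain ⟨π, hπloc, hπα, hπt⟩ := exists_germ_section q y₀ hx hnf K t ht (by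
    intro V hV hAV hmV
    have hρloc := isLocalHom_codRestrict (algebraMap (X.presheaf.stalk (q y₀)) K) V hAV hmV
    let ρ : X.presheaf.stalk (q y₀) ⟶ CommRingCat.of V :=
      CommRingCat.ofHom ((algebraMap (X.presheaf.stalk (q y₀)) K).codRestrict V.toSubring hAV)
    let u : Spec (CommRingCat.of V) ⟶ X := Spec.map ρ ≫ X.fromSpecStalk (q y₀)
    have hu : u (closedPoint V) = q y₀ := by
      have : Spec.map ρ (closedPoint V) = closedPoint (X.presheaf.stalk (q y₀)) :=
        IsLocalRing.comap_closedPoint (S := V)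
          ((algebraMap (X.presheaf.stalk (q y₀)) K).codRestrict V.toSubring hAV)
      change (X.fromSpecStalk (q y₀)) ((Spec.map ρ) (closedPoint V)) = q y₀
      rw [this, X.fromSpecStalk_closedPoint]
    have hub : ub₀ ≫ U.ι = Spec.map (CommRingCat.ofHom V.subtype) ≫ u := by
      rw [hub₀, ← Category.assoc, ← Spec.map_comp]
      rfl
    obtain ⟨h₁, -, hcl, hgen⟩ := H.valuationSubring V u hu ub₀ hub
    exact ⟨h₁, hcl, hgen⟩)
  let s : Spec (X.presheaf.stalk (q y₀)) ⟶ Y := Spec.map π ≫ Y.fromSpecStalk y₀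
  have hsq : s ≫ q = X.fromSpecStalk (q y₀) ≫ 𝟙 X := by
    rw [Category.comp_id, Category.assoc, ← Scheme.SpecMap_stalkMap_fromSpecStalk,
      ← Category.assoc, ← Spec.map_comp, hπα, Spec.map_id, Category.id_comp]
  obtain ⟨W₀, hxW₀, σ₀, hσ₀s, hσ₀q⟩ := spread_out_of_isGermInjective' (𝟙 X) q s hsq
  obtain ⟨_, ⟨W, hW', rfl⟩, hxW, hWW₀⟩ := X.isBasis_affineOpens.exists_subset_of_mem_open
    hxW₀ W₀.isOpen
  have hW : IsAffineOpen W := hW'
  have hWW₀' : W ≤ W₀ := hWW₀
  refine ⟨π, ub₀, W, hxW, X.homOfLE hWW₀' ≫ σ₀, hπloc, hπα, hub₀, hπt, hW, ?_, ?_⟩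
  · rw [Category.assoc, hσ₀q, Category.comp_id, X.homOfLE_ι]
  · show _ = s
    rw [hσ₀s, ← Category.assoc]
    congr 1
    rw [← cancel_mono W₀.ι, Category.assoc, X.homOfLE_ι, Scheme.Opens.fromSpecStalkOfMem_ι,
      Scheme.Opens.fromSpecStalkOfMem_ι]

/-- Stage 2a: the spread-out section agrees with `h` at the points of `U ∩ W` which are
generizations of `x`. -/
theorem point_agree [IsLocallyNoetherian X] (q : Y ⟶ X)
    (U : X.Opens) (h : (U : Scheme.{u}) ⟶ Y) (y₀ : Y)
    (hxU : q y₀ ∉ U) [IsDomain ↑(X.presheaf.stalk (q y₀))] (H : DVRHyp q U h y₀)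
    (π : Y.presheaf.stalk y₀ ⟶ X.presheaf.stalk (q y₀)) (hπα : q.stalkMap y₀ ≫ π = 𝟙 _)
    (ub₀ : Spec (CommRingCat.of (FractionRing (X.presheaf.stalk (q y₀)))) ⟶ (U : Scheme.{u}))
    (hub₀ : ub₀ ≫ U.ι = Spec.map (CommRingCat.ofHom (algebraMap (X.presheaf.stalk (q y₀))
        (FractionRing (X.presheaf.stalk (q y₀))))) ≫ X.fromSpecStalk (q y₀))
    (hπt : Spec.map (CommRingCat.ofHom (algebraMap (X.presheaf.stalk (q y₀))
        (FractionRing (X.presheaf.stalk (q y₀))))) ≫ Spec.map π ≫ Y.fromSpecStalk y₀ = ub₀ ≫ h)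
    (W : X.Opens) (hxW : q y₀ ∈ W) (σ : (W : Scheme.{u}) ⟶ Y)
    (hσs : W.fromSpecStalkOfMem (q y₀) hxW ≫ σ = Spec.map π ≫ Y.fromSpecStalk y₀)
    (d : X) (hdU : d ∈ U) (hdW : d ∈ W) (hd : d ⤳ q y₀) :
    σ ⟨d, hdW⟩ = h ⟨d, hdU⟩ := by
  let K : Type u := FractionRing (X.presheaf.stalk (q y₀))
  have hdr : d ∈ Set.range (X.fromSpecStalk (q y₀)) := by
    rw [Scheme.range_fromSpecStalk]
    exact hd
  obtain ⟨p, hp⟩ := hdr
  have hpne : p.asIdeal ≠ maximalIdeal (X.presheaf.stalk (q y₀)) := by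
    intro hpe
    have h1 : p = closedPoint (X.presheaf.stalk (q y₀)) := PrimeSpectrum.ext hpe
    rw [h1, X.fromSpecStalk_closedPoint] at hp
    exact hxU (hp ▸ hdU)
  have hpprime : p.asIdeal.IsPrime := p.isPrime
  obtain ⟨L, _, f, V, hVdvr, hker, hfV, hloc⟩ :=
    exists_dvr_of_prime (X.presheaf.stalk (q y₀)) p.asIdeal hpne
  let ρ : X.presheaf.stalk (q y₀) ⟶ CommRingCat.of V :=
    CommRingCat.ofHom (f.codRestrict V.toSubring hfV)
  let u : Spec (CommRingCat.of V) ⟶ X := Spec.map ρ ≫ X.fromSpecStalk (q y₀)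
  have hu : u (closedPoint V) = q y₀ := by
    have : Spec.map ρ (closedPoint V) = closedPoint (X.presheaf.stalk (q y₀)) :=
      IsLocalRing.comap_closedPoint (S := V) (f.codRestrict V.toSubring hfV)
    change (X.fromSpecStalk (q y₀)) ((Spec.map ρ) (closedPoint V)) = q y₀
    rw [this, X.fromSpecStalk_closedPoint]
  let jL : Spec (CommRingCat.of L) ⟶ Spec (CommRingCat.of V) :=
    Spec.map (CommRingCat.ofHom V.subtype)
  have hjLρ : jL ≫ Spec.map ρ = Spec.map (CommRingCat.ofHom f) := by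
    rw [← Spec.map_comp]
    rfl
  have hpt : ∀ z : Spec (CommRingCat.of L), (jL ≫ u) z = d := by
    intro z
    show X.fromSpecStalk (q y₀) ((jL ≫ Spec.map ρ) z) = d
    rw [hjLρ, ← hp]
    congr 1
    apply PrimeSpectrum.ext
    rw [SpecMap_apply_asIdeal_of_field, hker]
  have hrange : Set.range (jL ≫ u) ⊆ Set.range U.ι := by
    rw [Scheme.Opens.range_ι]
    rintro _ ⟨z, rfl⟩
    rw [hpt]
    exact hdU
  let ub : Spec (CommRingCat.of L) ⟶ (U : Scheme.{u}) := IsOpenImmersion.lift U.ι (jL ≫ u) hrange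
  have hub : ub ≫ U.ι = jL ≫ u := IsOpenImmersion.lift_fac _ _ _
  have hubpt : ∀ z, ub z = ⟨d, hdU⟩ := by
    intro z
    apply U.ι.isEmbedding.injective
    have h1 := congr(($hub).base z)
    exact h1.trans (hpt z)
  obtain ⟨h₁, hq, hcl, hgen⟩ := H.valuationSubring V u hu ub hub
  obtain ⟨ψ₁, -, hψ₁⟩ := exists_eq_SpecMap_comp_fromSpecStalk h₁ y₀ hcl
  -- (i)
  have hαψ : q.stalkMap y₀ ≫ ψ₁ = ρ := by
    apply Spec.map_injective
    rw [← cancel_mono (X.fromSpecStalk (q y₀)), Spec.map_comp, Category.assoc,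
      Scheme.SpecMap_stalkMap_fromSpecStalk, ← Category.assoc, ← hψ₁, hq]
  -- (ii)
  have hkerle : ∀ b, π.hom b = 0 → ψ₁.hom b = 0 := by
    intro b hb
    let z₀ : Spec (CommRingCat.of K) := closedPoint K
    let z₁ : Spec (CommRingCat.of L) := closedPoint L
    let φξ : Y.presheaf.stalk y₀ ⟶ CommRingCat.of K :=
      π ≫ CommRingCat.ofHom (algebraMap (X.presheaf.stalk (q y₀)) K)
    let φd : Y.presheaf.stalk y₀ ⟶ CommRingCat.of L := ψ₁ ≫ CommRingCat.ofHom V.subtype
    have hφξ : Spec.map φξ = Spec.map (CommRingCat.ofHom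
        (algebraMap (X.presheaf.stalk (q y₀)) K)) ≫ Spec.map π := Spec.map_comp _ _
    have hφd : Spec.map φd = Spec.map (CommRingCat.ofHom V.subtype) ≫ Spec.map ψ₁ :=
      Spec.map_comp _ _
    have h1 : Y.fromSpecStalk y₀ (Spec.map φξ z₀) = h (ub₀ z₀) := by
      have h2 := congr(($hπt).base z₀)
      rw [hφξ]
      exact h2
    have h2 : Y.fromSpecStalk y₀ (Spec.map φd z₁) = h (ub z₁) := by
      have h3 := congr(($hgen).base z₁)
      rw [hψ₁] at h3
      rw [hφd]
      exact h3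
    have h3 : ub₀ z₀ ⤳ ub z₁ := by
      rw [← U.ι.isEmbedding.isInducing.specializes_iff]
      have h4 : U.ι (ub₀ z₀) = genPt (q y₀) := by
        have h5 := congr(($hub₀).base z₀)
        refine h5.trans ?_
        show X.fromSpecStalk (q y₀) _ = X.fromSpecStalk (q y₀) _
        congr 1
        apply PrimeSpectrum.ext
        exact (SpecMap_apply_asIdeal_of_field (algebraMap (X.presheaf.stalk (q y₀)) K) z₀).trans
          ((RingHom.injective_iff_ker_eq_bot _).mp (IsFractionRing.injective _ K))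
      have h6 : U.ι (ub z₁) = d := by
        rw [hubpt]
        rfl
      rw [h4, h6]
      exact genPt_specializes_of_specializes (q y₀) hd
    have h4 : h (ub₀ z₀) ⤳ h (ub z₁) := h3.map h.continuous
    rw [← h1, ← h2, (Y.fromSpecStalk y₀).isEmbedding.isInducing.specializes_iff] at h4
    replace h4 : (Spec.map φξ z₀).asIdeal ≤ (Spec.map φd z₁).asIdeal :=
      (PrimeSpectrum.le_iff_specializes
        (Spec.map φξ z₀ : PrimeSpectrum (Y.presheaf.stalk y₀)) (Spec.map φd z₁)).mpr h4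
    have h5 : b ∈ (Spec.map φξ z₀).asIdeal := by
      rw [SpecMap_apply_asIdeal_of_field', RingHom.mem_ker]
      show algebraMap (X.presheaf.stalk (q y₀)) K (π.hom b) = 0
      rw [hb, map_zero]
    have h6 : b ∈ (Spec.map φd z₁).asIdeal := h4 h5
    rw [SpecMap_apply_asIdeal_of_field', RingHom.mem_ker] at h6
    exact Subtype.ext h6
  -- (iii)
  have hψπρ : ψ₁ = π ≫ ρ := by
    ext b
    have h1 : π.hom (b - (q.stalkMap y₀).hom (π.hom b)) = 0 := by
      rw [map_sub, sub_eq_zero]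
      exact (congr($(hπα).hom (π.hom b))).symm
    have h2 := hkerle _ h1
    rw [map_sub, sub_eq_zero] at h2
    rw [h2]
    exact congr($(hαψ).hom (π.hom b))
  -- (iv)
  let uW : Spec (CommRingCat.of V) ⟶ (W : Scheme.{u}) :=
    Spec.map ρ ≫ W.fromSpecStalkOfMem (q y₀) hxW
  have huW : uW ≫ W.ι = u := by
    rw [Category.assoc, Scheme.Opens.fromSpecStalkOfMem_ι]
  have hh₁ : h₁ = uW ≫ σ := by
    rw [Category.assoc, hσs, ← Category.assoc, ← Spec.map_comp, ← hψπρ, hψ₁]
  -- (v)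
  let z₁ : Spec (CommRingCat.of L) := closedPoint L
  have h7 : (jL ≫ uW) z₁ = ⟨d, hdW⟩ := by
    apply W.ι.isEmbedding.injective
    have h8 : ((jL ≫ uW) ≫ W.ι) z₁ = d := by
      rw [Category.assoc, huW]
      exact hpt z₁
    exact h8
  have h9 := congr(($hgen).base z₁)
  have h10 : h₁ (jL z₁) = h (ub z₁) := h9
  rw [hubpt, hh₁] at h10
  rw [← h10, ← h7]
  rfl

theorem range_subschemeι_vanishingIdeal {X : Scheme.{u}} (W : TopologicalSpace.Closeds X) :
    Set.range (Scheme.IdealSheafData.vanishingIdeal W).subschemeι = (W : Set X) := by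
  rw [Scheme.IdealSheafData.range_subschemeι, Scheme.IdealSheafData.coe_support_vanishingIdeal]

/-- Stage 2b: after shrinking the neighbourhood, the spread-out section agrees with `h`, and the two
glue. -/
theorem exists_extension_of_dvrHyp [IsLocallyNoetherian X] (q : Y ⟶ X) [LocallyOfFiniteType q]
    (U : X.Opens) (hU : Dense (U : Set ↥X)) (h : (U : Scheme.{u}) ⟶ Y) (hh : h ≫ q = U.ι) (y₀ : Y)
    (hxU : q y₀ ∉ U) [IsDomain ↑(X.presheaf.stalk (q y₀))]
    (hx : IsIntegrallyClosed ↑(X.presheaf.stalk (q y₀))) (H : DVRHyp q U h y₀) :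
    ∃ (U' : X.Opens) (hUU' : U ≤ U') (hxU' : q y₀ ∈ U') (h' : (U' : Scheme.{u}) ⟶ Y),
      h' ≫ q = U'.ι ∧ X.homOfLE hUU' ≫ h' = h ∧ h' ⟨q y₀, hxU'⟩ = y₀ := by
  obtain ⟨π, ub₀, W, hxW, σ, hπloc, hπα, hub₀, hπt, hW, hσq, hσs⟩ :=
    exists_spread_section q U hU h hh y₀ hxU hx H
  let K : Type u := FractionRing (X.presheaf.stalk (q y₀))
  let jK : Spec (CommRingCat.of K) ⟶ Spec (X.presheaf.stalk (q y₀)) :=
    Spec.map (CommRingCat.ofHom (algebraMap (X.presheaf.stalk (q y₀)) K))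
  let V : X.Opens := U ⊓ W
  obtain ⟨a, ha⟩ : ∃ a : (V : Scheme.{u}) ⟶ Y, a = X.homOfLE (inf_le_right : U ⊓ W ≤ W) ≫ σ :=
    ⟨_, rfl⟩
  obtain ⟨b, hb⟩ : ∃ b : (V : Scheme.{u}) ⟶ Y, b = X.homOfLE (inf_le_left : U ⊓ W ≤ U) ≫ h :=
    ⟨_, rfl⟩
  let Ofam : {O : (V : Scheme.{u}).Opens // O.ι ≫ a = O.ι ≫ b} → (V : Scheme.{u}).Opens :=
    fun O => O.1
  let E : (V : Scheme.{u}).Opens := ⨆ O, Ofam O
  have hE : E.ι ≫ a = E.ι ≫ b := by
    refine (Scheme.Opens.iSupOpenCover Ofam).hom_ext _ _ fun O => ?_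
    have h1 : (Scheme.Opens.iSupOpenCover Ofam).f O ≫ E.ι = (Ofam O).ι :=
      (V : Scheme.{u}).homOfLE_ι (le_iSup Ofam O)
    rw [← Category.assoc, ← Category.assoc, h1]
    exact O.2
  -- key claim
  have KC : ∀ d : (V : Scheme.{u}), V.ι d ⤳ q y₀ → d ∈ E := by
    intro d hd
    have hab : a d = b d := by
      have h1 : X.homOfLE (inf_le_right : U ⊓ W ≤ W) d = ⟨V.ι d, d.2.2⟩ := by
        apply W.ι.isEmbedding.injective
        exact congr(($(X.homOfLE_ι (inf_le_right : U ⊓ W ≤ W))).base d)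
      have h2 : X.homOfLE (inf_le_left : U ⊓ W ≤ U) d = ⟨V.ι d, d.2.1⟩ := by
        apply U.ι.isEmbedding.injective
        exact congr(($(X.homOfLE_ι (inf_le_left : U ⊓ W ≤ U))).base d)
      rw [ha, hb]
      show σ (X.homOfLE (inf_le_right : U ⊓ W ≤ W) d) = h (X.homOfLE (inf_le_left : U ⊓ W ≤ U) d)
      rw [h1, h2]
      exact point_agree q U h y₀ hxU H π hπα ub₀ hub₀ hπt W hxW σ hσs (V.ι d) d.2.1 d.2.2 hd
    obtain ⟨ιd, hιd, hcomp⟩ := exists_injective_toFractionRing hd K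
    let ι' : (V : Scheme.{u}).presheaf.stalk d ⟶ CommRingCat.of K := inv (V.ι.stalkMap d) ≫ ιd
    have hι' : Function.Injective ι'.hom := by
      have h1 : Function.Bijective (inv (V.ι.stalkMap d)).hom :=
        ConcreteCategory.bijective_of_isIso (inv (V.ι.stalkMap d))
      exact hιd.comp h1.1
    let c : Spec (CommRingCat.of K) ⟶ (V : Scheme.{u}) :=
      Spec.map ι' ≫ (V : Scheme.{u}).fromSpecStalk d
    have hcι : c ≫ V.ι = jK ≫ X.fromSpecStalk (q y₀) := by
      show (Spec.map ι' ≫ (V : Scheme.{u}).fromSpecStalk d) ≫ V.ι = _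
      rw [Category.assoc, ← Scheme.SpecMap_stalkMap_fromSpecStalk, ← Category.assoc,
        ← Spec.map_comp]
      have h1 : V.ι.stalkMap d ≫ ι' = ιd := by
        show V.ι.stalkMap d ≫ inv (V.ι.stalkMap d) ≫ ιd = ιd
        rw [IsIso.hom_inv_id_assoc]
      rw [h1, ← Scheme.SpecMap_stalkSpecializes_fromSpecStalk hd, ← Category.assoc,
        ← Spec.map_comp, hcomp]
      rfl
    have hca : c ≫ a = ub₀ ≫ h := by
      have h1 : c ≫ X.homOfLE (inf_le_right : U ⊓ W ≤ W) =
          jK ≫ W.fromSpecStalkOfMem (q y₀) hxW := by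
        rw [← cancel_mono W.ι, Category.assoc, X.homOfLE_ι, hcι, Category.assoc,
          Scheme.Opens.fromSpecStalkOfMem_ι]
      rw [ha, ← Category.assoc, h1, Category.assoc, hσs]
      exact hπt
    have hcb : c ≫ b = ub₀ ≫ h := by
      have h1 : c ≫ X.homOfLE (inf_le_left : U ⊓ W ≤ U) = ub₀ := by
        rw [← cancel_mono U.ι, Category.assoc, X.homOfLE_ι, hcι, hub₀]
        rfl
      rw [hb, ← Category.assoc, h1]
    have hgerm : (V : Scheme.{u}).fromSpecStalk d ≫ a = (V : Scheme.{u}).fromSpecStalk d ≫ b :=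
      fromSpecStalk_comp_eq_of_injective a b d hab ι' hι' (by
        have := hca.trans hcb.symm
        simpa only [c, Category.assoc] using this)
    obtain ⟨O, hdO, hO⟩ := spread_out_unique_of_isGermInjective' a b hgerm
    exact (le_iSup Ofam ⟨O, hO⟩) hdO
  -- the bad locus
  let D : TopologicalSpace.Closeds (V : Scheme.{u}) := ⟨(E : Set (V : Scheme.{u}))ᶜ,
    E.isOpen.isClosed_compl⟩
  let iD := (Scheme.IdealSheafData.vanishingIdeal D).subschemeι
  have hriD : Set.range iD = (E : Set (V : Scheme.{u}))ᶜ := range_subschemeι_vanishingIdeal D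
  let g : (Scheme.IdealSheafData.vanishingIdeal D).subscheme ⟶ X := iD ≫ V.ι
  have hNR : IsNoetherianRing Γ(X, W) := IsLocallyNoetherian.component_noetherian ⟨W, hW⟩
  have hNW : TopologicalSpace.NoetherianSpace W := noetherianSpace_of_isAffineOpen W hW
  have hNV : TopologicalSpace.NoetherianSpace (V : Scheme.{u}) :=
    (X.homOfLE (inf_le_right : U ⊓ W ≤ W)).isEmbedding.isInducing.noetherianSpace
  have hNT : TopologicalSpace.NoetherianSpace (Scheme.IdealSheafData.vanishingIdeal D).subscheme :=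
    iD.isEmbedding.isInducing.noetherianSpace
  have hqc : QuasiCompact g := inferInstance
  have hxcl : q y₀ ∉ closure (Set.range g) := by
    intro hcon
    obtain ⟨t, ht⟩ :=
      Groth.Agent.Lib.Helper39.KA.exists_specializes_of_mem_closure_range g (q y₀) hcon
    have h1 : iD t ∈ (E : Set (V : Scheme.{u}))ᶜ := hriD ▸ Set.mem_range_self t
    exact h1 (KC (iD t) ht)
  let W₁ : X.Opens := W ⊓ ⟨(closure (Set.range g))ᶜ, isClosed_closure.isOpen_compl⟩
  have hxW₁ : q y₀ ∈ W₁ := ⟨hxW, hxcl⟩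
  have hW₁W : W₁ ≤ W := inf_le_left
  obtain ⟨σ₁, hσ₁⟩ : ∃ σ₁ : (W₁ : Scheme.{u}) ⟶ Y, σ₁ = X.homOfLE hW₁W ≫ σ := ⟨_, rfl⟩
  have hle : U ⊓ W₁ ≤ V := inf_le_inf_left U hW₁W
  have hagree : X.homOfLE (inf_le_left : U ⊓ W₁ ≤ U) ≫ h =
      X.homOfLE (inf_le_right : U ⊓ W₁ ≤ W₁) ≫ σ₁ := by
    have hrange : Set.range (X.homOfLE hle) ⊆ Set.range E.ι := by
      rw [Scheme.Opens.range_ι]
      rintro _ ⟨p, rfl⟩
      by_contra hp
      have h1 : X.homOfLE hle p ∈ Set.range iD := by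
        rw [hriD]
        exact hp
      obtain ⟨t, ht⟩ := h1
      have h2 : g t = (U ⊓ W₁).ι p := by
        show V.ι (iD t) = _
        rw [ht]
        exact congr(($(X.homOfLE_ι hle)).base p)
      have h3 : (U ⊓ W₁).ι p ∈ W₁ := p.2.2
      exact h3.2 (subset_closure ⟨t, h2⟩)
    let κ' : ((U ⊓ W₁ : X.Opens) : Scheme.{u}) ⟶ (E : Scheme.{u}) :=
      IsOpenImmersion.lift E.ι (X.homOfLE hle) hrange
    have hκ' : κ' ≫ E.ι = X.homOfLE hle := IsOpenImmersion.lift_fac _ _ _
    have h1 : X.homOfLE hle ≫ a = X.homOfLE hle ≫ b := by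
      rw [← hκ', Category.assoc, hE, Category.assoc]
    rw [ha, hb, X.homOfLE_homOfLE_assoc, X.homOfLE_homOfLE_assoc] at h1
    rw [hσ₁, X.homOfLE_homOfLE_assoc]
    exact h1.symm
  obtain ⟨U', h₁, h₂, f', hf'1, hf'2, hext⟩ := exists_glue₂ U W₁ h σ₁ hagree
  refine ⟨U', h₁, h₂ hxW₁, f', ?_, hf'1, ?_⟩
  · apply hext
    · rw [← Category.assoc, hf'1, hh, X.homOfLE_ι]
    · rw [← Category.assoc, hf'2, hσ₁, Category.assoc, hσq, X.homOfLE_ι, X.homOfLE_ι]
  · have h3 : f' ⟨q y₀, h₂ hxW₁⟩ = σ ⟨q y₀, hxW⟩ := by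
      have h4 := congr(($hf'2).base ⟨q y₀, hxW₁⟩)
      rw [hσ₁] at h4
      have e1 : X.homOfLE h₂ ⟨q y₀, hxW₁⟩ = ⟨q y₀, h₂ hxW₁⟩ :=
        U'.ι.isEmbedding.injective (congr(($(X.homOfLE_ι h₂)).base ⟨q y₀, hxW₁⟩))
      have e2 : X.homOfLE hW₁W ⟨q y₀, hxW₁⟩ = ⟨q y₀, hxW⟩ :=
        W.ι.isEmbedding.injective (congr(($(X.homOfLE_ι hW₁W)).base ⟨q y₀, hxW₁⟩))
      have h4' : f' (X.homOfLE h₂ ⟨q y₀, hxW₁⟩) = σ (X.homOfLE hW₁W ⟨q y₀, hxW₁⟩) := h4
      rw [e1, e2] at h4'
      exact h4'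
    rw [h3]
    have h5 := congr(($hσs).base (closedPoint (X.presheaf.stalk (q y₀))))
    have h6 : W.fromSpecStalkOfMem (q y₀) hxW (closedPoint (X.presheaf.stalk (q y₀))) =
        ⟨q y₀, hxW⟩ := by
      apply W.ι.isEmbedding.injective
      have h7 := congr(($(W.fromSpecStalkOfMem_ι (q y₀) hxW)).base
        (closedPoint (X.presheaf.stalk (q y₀))))
      refine h7.trans ?_
      exact X.fromSpecStalk_closedPoint
    have h8 : σ (W.fromSpecStalkOfMem (q y₀) hxW (closedPoint (X.presheaf.stalk (q y₀)))) =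
        Y.fromSpecStalk y₀ (Spec.map π (closedPoint (X.presheaf.stalk (q y₀)))) := h5
    rw [h6] at h8
    rw [h8]
    have h9 : Spec.map π (closedPoint (X.presheaf.stalk (q y₀))) =
        closedPoint (Y.presheaf.stalk y₀) := IsLocalRing.comap_closedPoint π.hom
    rw [h9, Y.fromSpecStalk_closedPoint]

end Main

section QuasiFinite

open Groth.Agent.Lib.Helper67.ExtendVal Groth.Agent.Lib.Helper25.ValCenter

variable {X Y : Scheme.{u}}

/-- A field-valued point specializing to `y₀` factors through `Spec 𝒪_{Y,y₀}`. -/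
theorem exists_eq_SpecMap_comp_of_specializes {K : Type u} [Field K]
    (t : Spec (CommRingCat.of K) ⟶ Y) (y₀ : Y) (hsp : t (closedPoint K) ⤳ y₀) :
    ∃ φ : Y.presheaf.stalk y₀ ⟶ CommRingCat.of K, t = Spec.map φ ≫ Y.fromSpecStalk y₀ := by
  obtain ⟨φt, -, hφt⟩ := exists_eq_SpecMap_comp_fromSpecStalk t (t (closedPoint K)) rfl
  refine ⟨Y.presheaf.stalkSpecializes hsp ≫ φt, ?_⟩
  rw [Spec.map_comp, Category.assoc, Scheme.SpecMap_stalkSpecializes_fromSpecStalk hsp]
  exact hφt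

/-- **Zariski's main theorem, birational local form.**  If `q` is locally of finite type and
locally quasi-finite, `𝒪_{X,q y₀}` is a normal domain with fraction field `K`, and
`φ : 𝒪_{Y,y₀} ⟶ K` extends the inclusion of `𝒪_{X,q y₀}`, then `φ` takes values in `𝒪_{X,q y₀}`. -/
theorem range_le_of_quasiFiniteAt (q : Y ⟶ X) [LocallyOfFiniteType q]
    (y₀ : Y) (hqfAt : q.QuasiFiniteAt y₀) [IsDomain (X.presheaf.stalk (q y₀))]
    (hx : IsIntegrallyClosed (X.presheaf.stalk (q y₀)))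
    (K : Type u) [Field K] [Algebra (X.presheaf.stalk (q y₀)) K]
    [IsFractionRing (X.presheaf.stalk (q y₀)) K]
    (φ : Y.presheaf.stalk y₀ ⟶ CommRingCat.of K)
    (hαφ : q.stalkMap y₀ ≫ φ = CommRingCat.ofHom (algebraMap (X.presheaf.stalk (q y₀)) K)) :
    ∀ b, φ.hom b ∈ (algebraMap (X.presheaf.stalk (q y₀)) K).range := by
  classical
  obtain ⟨_, ⟨U, hU', rfl⟩, hxU, -⟩ := X.isBasis_affineOpens.exists_subset_of_mem_open
    (Set.mem_univ (q y₀)) isOpen_univ
  have hU : IsAffineOpen U := hU'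
  obtain ⟨_, ⟨V, hV', rfl⟩, hyV, hVU⟩ := Y.isBasis_affineOpens.exists_subset_of_mem_open
    (show y₀ ∈ q ⁻¹ᵁ U from hxU) (q ⁻¹ᵁ U).isOpen
  have hV : IsAffineOpen V := hV'
  have hVU' : V ≤ q ⁻¹ᵁ U := hVU
  -- the ring maps
  let θ : Γ(X, U) →+* Γ(Y, V) := (q.appLE U V hVU').hom
  let gU : Γ(X, U) →+* X.presheaf.stalk (q y₀) := (X.presheaf.germ U (q y₀) hxU).hom
  let gV : Γ(Y, V) →+* Y.presheaf.stalk y₀ := (Y.presheaf.germ V y₀ hyV).hom
  let φ₀ : Γ(Y, V) →+* K := φ.hom.comp gV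
  have hnat : q.appLE U V hVU' ≫ Y.presheaf.germ V y₀ hyV =
      X.presheaf.germ U (q y₀) hxU ≫ q.stalkMap y₀ := by
    rw [Scheme.Hom.germ_stalkMap, Scheme.Hom.appLE, Category.assoc, Y.presheaf.germ_res]
  have hcomp : ∀ c, φ₀ (θ c) = algebraMap (X.presheaf.stalk (q y₀)) K (gU c) := by
    intro c
    have h1 := congr($(hnat).hom c)
    have h2 := congr($(hαφ).hom (gU c))
    show φ.hom (gV (θ c)) = _
    refine Eq.trans ?_ h2
    exact congrArg φ.hom h1
  -- integrality transfers to `K`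
  have hint : ∀ s : Γ(Y, V), θ.IsIntegralElem s → φ₀ s ∈ (algebraMap (X.presheaf.stalk (q y₀)) K).range := by
    rintro s ⟨p, hp, hps⟩
    have h1 : IsIntegral (X.presheaf.stalk (q y₀)) (φ₀ s) := by
      refine ⟨p.map gU, hp.map gU, ?_⟩
      rw [Polynomial.eval₂_map]
      have h2 : (algebraMap (X.presheaf.stalk (q y₀)) K).comp gU = φ₀.comp θ := by
        ext c
        exact (hcomp c).symm
      rw [h2, ← Polynomial.hom_eval₂, hps, map_zero]
    exact (IsIntegrallyClosed.isIntegral_iff (R := X.presheaf.stalk (q y₀)) (K := K)).mp h1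
  -- Zariski's main theorem
  have hqf : θ.QuasiFiniteAt (hV.primeIdealOf ⟨y₀, hyV⟩).asIdeal :=
    hqfAt.quasiFiniteAt hV hU hVU' hyV
  have hft : θ.FiniteType := q.finiteType_appLE hU hV hVU'
  let 𝔮 : Ideal Γ(Y, V) := (hV.primeIdealOf ⟨y₀, hyV⟩).asIdeal
  let _ : Algebra Γ(Y, V) (Y.presheaf.stalk y₀) := Y.presheaf.algebra_section_stalk ⟨y₀, hyV⟩
  have hloc : IsLocalization.AtPrime (Y.presheaf.stalk y₀) 𝔮 := hV.isLocalization_stalk ⟨y₀, hyV⟩
  have h𝔮 : ∀ s, s ∉ 𝔮 ↔ IsUnit (gV s) := by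
    intro s
    exact (IsLocalization.AtPrime.isUnit_to_map_iff (Y.presheaf.stalk y₀) 𝔮 s).symm
  obtain ⟨r, hr𝔮, hrint, hrall⟩ : ∃ r ∉ 𝔮, θ.IsIntegralElem r ∧
      ∀ s, ∃ m : ℕ, θ.IsIntegralElem (r ^ m * s) := by
    algebraize [θ]
    have : Algebra.QuasiFiniteAt Γ(X, U) 𝔮 := hqf
    exact Algebra.zariskisMainProperty_iff.mp (Algebra.ZariskisMainProperty.of_finiteType 𝔮)
  -- units of `𝒪_{Y,y₀}` with image in `𝒪_{X,x}` come from units
  have hunit : ∀ b, IsUnit b → ∀ a, φ.hom b = algebraMap (X.presheaf.stalk (q y₀)) K a →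
      IsUnit a := by
    intro b hb a hba
    by_contra hna
    have h1 : (q.stalkMap y₀).hom a ∈ maximalIdeal (Y.presheaf.stalk y₀) := by
      rw [IsLocalRing.mem_maximalIdeal, mem_nonunits_iff]
      intro hu
      exact hna ((isUnit_map_iff (q.stalkMap y₀).hom a).mp hu)
    have h2 : φ.hom ((q.stalkMap y₀).hom a) = algebraMap (X.presheaf.stalk (q y₀)) K a :=
      congr($(hαφ).hom a)
    have h3 : b - (q.stalkMap y₀).hom a ∈ RingHom.ker φ.hom := by
      rw [RingHom.mem_ker, map_sub, hba, h2, sub_self]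
    have h4 : RingHom.ker φ.hom ≤ maximalIdeal (Y.presheaf.stalk y₀) :=
      IsLocalRing.le_maximalIdeal (RingHom.ker_ne_top _)
    have h5 : b ∈ maximalIdeal (Y.presheaf.stalk y₀) := by
      have := Ideal.add_mem _ (h4 h3) h1
      rwa [sub_add_cancel] at this
    exact h5 hb
  have hφ₀ : ∀ s, φ₀ s ∈ (algebraMap (X.presheaf.stalk (q y₀)) K).range := by
    intro s
    obtain ⟨ar, har⟩ := hint r hrint
    have haru : IsUnit ar := hunit (gV r) ((h𝔮 r).mp hr𝔮) ar har.symm
    obtain ⟨m, hm⟩ := hrall s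
    obtain ⟨c, hc⟩ := hint _ hm
    obtain ⟨arinv, harinv⟩ := haru.exists_right_inv
    refine ⟨arinv ^ m * c, ?_⟩
    rw [map_mul, map_pow, hc, map_mul, map_pow, ← har, ← mul_assoc, ← mul_pow, ← map_mul,
      mul_comm arinv, harinv, map_one, one_pow, one_mul]
  intro b
  obtain ⟨⟨s, s'⟩, hss'⟩ := IsLocalization.surj 𝔮.primeCompl b
  have hss'' : b * gV s'.1 = gV s := hss'
  obtain ⟨c, hc⟩ := hφ₀ s
  obtain ⟨c', hc'⟩ := hφ₀ s'.1
  have hc'u : IsUnit c' := hunit (gV s'.1) ((h𝔮 s'.1).mp s'.2) c' hc'.symm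
  obtain ⟨c'inv, hc'inv⟩ := hc'u.exists_right_inv
  refine ⟨c * c'inv, ?_⟩
  have h1 : φ.hom b * algebraMap (X.presheaf.stalk (q y₀)) K c' =
      algebraMap (X.presheaf.stalk (q y₀)) K c := by
    rw [hc, hc']
    show φ.hom b * φ.hom (gV s'.1) = φ.hom (gV s)
    rw [← map_mul, hss'']
  rw [map_mul, ← h1, mul_assoc, ← map_mul, hc'inv, map_one, mul_one]

/-- In an integral open neighbourhood of `x`, every point is a specialization of `genPt x`. -/
theorem genPt_specializes_of_isIntegral (x : X) [IsDomain (X.presheaf.stalk x)] (W : X.Opens)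
    (hxW : x ∈ W) [IsIntegral (W : Scheme.{u})] (w : X) (hw : w ∈ W) : genPt x ⤳ w := by
  let η₁ : (W : Scheme.{u}) := genericPoint (W : Scheme.{u})
  have h1 : ∀ z : (W : Scheme.{u}), η₁ ⤳ z := fun z => genericPoint_specializes z
  have h2 : η₁.1 ⤳ x := (h1 ⟨x, hxW⟩).map continuous_subtype_val
  have h3 : genPt x ⤳ η₁.1 := genPt_specializes_of_specializes x h2
  have h4 : η₁.1 ⤳ w := (h1 ⟨w, hw⟩).map continuous_subtype_val
  exact h3.trans h4

/-- A retraction `𝒪_{Y,y₀} ⟶ 𝒪_{X,x}` from a map to the fraction field with values in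
`𝒪_{X,x}`. -/
theorem exists_retraction_of_range_le (q : Y ⟶ X) (y₀ : Y) [IsDomain (X.presheaf.stalk (q y₀))]
    (K : Type u) [Field K] [Algebra (X.presheaf.stalk (q y₀)) K]
    [IsFractionRing (X.presheaf.stalk (q y₀)) K]
    (φ : Y.presheaf.stalk y₀ ⟶ CommRingCat.of K)
    (hαφ : q.stalkMap y₀ ≫ φ = CommRingCat.ofHom (algebraMap (X.presheaf.stalk (q y₀)) K))
    (hφA : ∀ b, φ.hom b ∈ (algebraMap (X.presheaf.stalk (q y₀)) K).range) :
    ∃ π : Y.presheaf.stalk y₀ ⟶ X.presheaf.stalk (q y₀), IsLocalHom π.hom ∧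
      q.stalkMap y₀ ≫ π = 𝟙 _ ∧
      Spec.map (CommRingCat.ofHom (algebraMap (X.presheaf.stalk (q y₀)) K)) ≫ Spec.map π =
        Spec.map φ := by
  have hinj : Function.Injective (algebraMap (X.presheaf.stalk (q y₀)) K) :=
    IsFractionRing.injective (X.presheaf.stalk (q y₀)) K
  let e : X.presheaf.stalk (q y₀) ≃+* (algebraMap (X.presheaf.stalk (q y₀)) K).range :=
    RingEquiv.ofBijective (algebraMap (X.presheaf.stalk (q y₀)) K).rangeRestrict
      ⟨fun a b hab => hinj (congrArg Subtype.val hab),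
        (algebraMap (X.presheaf.stalk (q y₀)) K).rangeRestrict_surjective⟩
  let π₀ : Y.presheaf.stalk y₀ →+* X.presheaf.stalk (q y₀) :=
    e.symm.toRingHom.comp (φ.hom.codRestrict (algebraMap (X.presheaf.stalk (q y₀)) K).range hφA)
  have hπ₀ : ∀ b, algebraMap (X.presheaf.stalk (q y₀)) K (π₀ b) = φ.hom b := by
    intro b
    have h1 : e (π₀ b) = ⟨φ.hom b, hφA b⟩ := e.apply_symm_apply _
    exact congrArg Subtype.val h1
  have hπα : ∀ a, π₀ ((q.stalkMap y₀).hom a) = a := by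
    intro a
    apply hinj
    rw [hπ₀]
    exact congr($(hαφ).hom a)
  have hπloc : IsLocalHom π₀ := by
    constructor
    intro b hb
    by_contra hnb
    have hbm : b ∈ maximalIdeal (Y.presheaf.stalk y₀) := hnb
    have h1 : b - (q.stalkMap y₀).hom (π₀ b) ∈ RingHom.ker π₀ := by
      rw [RingHom.mem_ker, map_sub, hπα, sub_self]
    have h2 : RingHom.ker π₀ ≤ maximalIdeal (Y.presheaf.stalk y₀) :=
      IsLocalRing.le_maximalIdeal (RingHom.ker_ne_top _)
    have h3 : (q.stalkMap y₀).hom (π₀ b) ∈ maximalIdeal (Y.presheaf.stalk y₀) := by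
      have := Ideal.sub_mem _ hbm (h2 h1)
      rwa [sub_sub_cancel] at this
    exact h3 (hb.map (q.stalkMap y₀).hom)
  let π : Y.presheaf.stalk y₀ ⟶ X.presheaf.stalk (q y₀) := CommRingCat.ofHom π₀
  have hπφ : π ≫ CommRingCat.ofHom (algebraMap (X.presheaf.stalk (q y₀)) K) = φ := by
    ext b
    exact hπ₀ b
  refine ⟨π, hπloc, ?_, ?_⟩
  · ext a
    exact hπα a
  · rw [← hπφ]
    exact (Spec.map_comp π (CommRingCat.ofHom (algebraMap (X.presheaf.stalk (q y₀)) K))).symm

/-- **Extension of a rational section at a normal point, quasi-finite separated case.** -/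
theorem exists_extension_of_specializes (q : Y ⟶ X)
    [LocallyOfFiniteType q] [IsSeparated q] (U : X.Opens)
    (h : (U : Scheme.{u}) ⟶ Y) (hh : h ≫ q = U.ι) (y₀ : Y) (hqfAt : q.QuasiFiniteAt y₀)
    [X.IsGermInjectiveAt (q y₀)] [IsDomain ↑(X.presheaf.stalk (q y₀))]
    (hξU : genPt (q y₀) ∈ U)
    (hx : IsIntegrallyClosed ↑(X.presheaf.stalk (q y₀)))
    (d : (U : Scheme.{u})) (hd : U.ι d ⤳ q y₀) (hhd : h d ⤳ y₀) :
    ∃ (U' : X.Opens) (hUU' : U ≤ U') (h' : (U' : Scheme.{u}) ⟶ Y),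
      q y₀ ∈ U' ∧ h' ≫ q = U'.ι ∧ X.homOfLE hUU' ≫ h' = h := by
  let K : Type u := FractionRing (X.presheaf.stalk (q y₀))
  obtain ⟨jK, hjK⟩ : ∃ jK : Spec (CommRingCat.of K) ⟶ Spec (X.presheaf.stalk (q y₀)),
      jK = Spec.map (CommRingCat.ofHom (algebraMap (X.presheaf.stalk (q y₀)) K)) := ⟨_, rfl⟩
  obtain ⟨j₀, hj₀⟩ : ∃ j₀ : Spec (CommRingCat.of K) ⟶ X, j₀ = jK ≫ X.fromSpecStalk (q y₀) :=
    ⟨_, rfl⟩
  have hj₀pt : ∀ z, j₀ z = genPt (q y₀) := by
    intro z
    rw [hj₀, hjK]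
    show X.fromSpecStalk (q y₀) (Spec.map (CommRingCat.ofHom
      (algebraMap (X.presheaf.stalk (q y₀)) K)) z) = _
    congr 1
    apply PrimeSpectrum.ext
    exact (SpecMap_apply_asIdeal_of_field (algebraMap (X.presheaf.stalk (q y₀)) K) z).trans
      ((RingHom.injective_iff_ker_eq_bot _).mp (IsFractionRing.injective _ K))
  have hrange : Set.range j₀ ⊆ Set.range U.ι := by
    rw [Scheme.Opens.range_ι]
    rintro _ ⟨z, rfl⟩
    rw [hj₀pt]
    exact hξU
  let ub₀ : Spec (CommRingCat.of K) ⟶ (U : Scheme.{u}) := IsOpenImmersion.lift U.ι j₀ hrange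
  have hub₀ : ub₀ ≫ U.ι = j₀ := IsOpenImmersion.lift_fac _ _ _
  obtain ⟨t, ht'⟩ : ∃ t : Spec (CommRingCat.of K) ⟶ Y, t = ub₀ ≫ h := ⟨_, rfl⟩
  have ht : t ≫ q = j₀ := by
    rw [ht', Category.assoc, hh, hub₀]
  have hub₀sp : ub₀ (closedPoint K) ⤳ d := by
    rw [← U.ι.isEmbedding.isInducing.specializes_iff]
    have h1 : U.ι (ub₀ (closedPoint K)) = genPt (q y₀) := by
      have := congr(($hub₀).base (closedPoint K))
      exact this.trans (hj₀pt _)
    rw [h1]
    exact genPt_specializes_of_specializes (q y₀) hd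
  have htsp : t (closedPoint K) ⤳ y₀ := by
    rw [ht']
    exact (hub₀sp.map h.continuous).trans hhd
  obtain ⟨φ, hφ⟩ := exists_eq_SpecMap_comp_of_specializes t y₀ htsp
  have hαφ : q.stalkMap y₀ ≫ φ = CommRingCat.ofHom (algebraMap (X.presheaf.stalk (q y₀)) K) := by
    apply Spec.map_injective
    rw [← cancel_mono (X.fromSpecStalk (q y₀)), Spec.map_comp, Category.assoc,
      Scheme.SpecMap_stalkMap_fromSpecStalk, ← Category.assoc, ← hφ, ht, hj₀, hjK]
  have hφA := range_le_of_quasiFiniteAt q y₀ hqfAt hx K φ hαφ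
  obtain ⟨π, hπloc, hπα, hπφ⟩ := exists_retraction_of_range_le q y₀ K φ hαφ hφA
  obtain ⟨s, hs⟩ : ∃ s : Spec (X.presheaf.stalk (q y₀)) ⟶ Y, s = Spec.map π ≫ Y.fromSpecStalk y₀ :=
    ⟨_, rfl⟩
  have hsq : s ≫ q = X.fromSpecStalk (q y₀) ≫ 𝟙 X := by
    rw [hs, Category.comp_id, Category.assoc, ← Scheme.SpecMap_stalkMap_fromSpecStalk,
      ← Category.assoc, ← Spec.map_comp, hπα, Spec.map_id, Category.id_comp]
  have hjs : jK ≫ s = t := by
    rw [hs, ← Category.assoc, hjK, hπφ, hφ]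
  obtain ⟨W₀, hxW₀, σ₀, hσ₀s, hσ₀q⟩ := spread_out_of_isGermInjective' (𝟙 X) q s hsq
  obtain ⟨W, hxW, hWaff, hWW₀, hinj⟩ := X.exists_le_and_germ_injective (q y₀) W₀ hxW₀
  haveI : IsAffine (W : Scheme.{u}) := hWaff
  haveI : Nonempty (W : Scheme.{u}) := ⟨⟨q y₀, hxW⟩⟩
  haveI : IsDomain Γ(X, W) := hinj.isDomain (X.presheaf.germ W (q y₀) hxW).hom
  haveI : IsDomain Γ((W : Scheme.{u}), ⊤) :=
    (ConcreteCategory.bijective_of_isIso W.topIso.hom).1.isDomain W.topIso.hom.hom
  have hint : IsIntegral (W : Scheme.{u}) := isIntegral_of_isAffine_of_isDomain _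
  obtain ⟨σ, hσ⟩ : ∃ σ : (W : Scheme.{u}) ⟶ Y, σ = X.homOfLE hWW₀ ≫ σ₀ := ⟨_, rfl⟩
  have hσq : σ ≫ q = W.ι := by
    rw [hσ, Category.assoc, hσ₀q, Category.comp_id, X.homOfLE_ι]
  have hσs : W.fromSpecStalkOfMem (q y₀) hxW ≫ σ = s := by
    rw [hσ₀s, hσ, ← Category.assoc]
    congr 1
    rw [← cancel_mono W₀.ι, Category.assoc, X.homOfLE_ι, Scheme.Opens.fromSpecStalkOfMem_ι,
      Scheme.Opens.fromSpecStalkOfMem_ι]
  -- agreement on `U ⊓ W`
  let V : X.Opens := U ⊓ W
  have hredV : IsReduced (V : Scheme.{u}) :=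
    isReduced_of_isOpenImmersion (X.homOfLE (inf_le_right : U ⊓ W ≤ W))
  have hrangeV : Set.range j₀ ⊆ Set.range V.ι := by
    rw [Scheme.Opens.range_ι]
    rintro _ ⟨z, rfl⟩
    rw [hj₀pt]
    exact ⟨hξU, (genPt_specializes (q y₀)).mem_open W.isOpen hxW⟩
  let c : Spec (CommRingCat.of K) ⟶ (V : Scheme.{u}) := IsOpenImmersion.lift V.ι j₀ hrangeV
  have hc : c ≫ V.ι = j₀ := IsOpenImmersion.lift_fac _ _ _
  have hcdom : IsDominant c := by
    constructor
    intro v
    have h1 : c (closedPoint K) ⤳ v := by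
      rw [← V.ι.isEmbedding.isInducing.specializes_iff]
      have h2 : V.ι (c (closedPoint K)) = genPt (q y₀) := by
        have := congr(($hc).base (closedPoint K))
        exact this.trans (hj₀pt _)
      rw [h2]
      exact genPt_specializes_of_isIntegral (q y₀) W hxW (V.ι v) v.2.2
    exact h1.mem_closed isClosed_closure (subset_closure ⟨_, rfl⟩)
  have hagree : X.homOfLE (inf_le_left : U ⊓ W ≤ U) ≫ h =
      X.homOfLE (inf_le_right : U ⊓ W ≤ W) ≫ σ := by
    refine ext_of_isDominant_of_isSeparated q ?_ c ?_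
    · rw [Category.assoc, Category.assoc, hh, hσq, X.homOfLE_ι, X.homOfLE_ι]
    · have h1 : c ≫ X.homOfLE (inf_le_left : U ⊓ W ≤ U) = ub₀ := by
        rw [← cancel_mono U.ι, Category.assoc, X.homOfLE_ι, hc, hub₀]
      have h2 : c ≫ X.homOfLE (inf_le_right : U ⊓ W ≤ W) =
          jK ≫ W.fromSpecStalkOfMem (q y₀) hxW := by
        rw [← cancel_mono W.ι, Category.assoc, X.homOfLE_ι, hc, Category.assoc,
          Scheme.Opens.fromSpecStalkOfMem_ι, hj₀]
      rw [← Category.assoc, h1, ← Category.assoc, h2, Category.assoc, hσs, hjs, ht']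
  obtain ⟨U', h₁, h₂, f', hf'1, hf'2, hext⟩ := exists_glue₂ U W h σ hagree
  refine ⟨U', h₁, f', h₂ hxW, ?_, hf'1⟩
  apply hext
  · rw [← Category.assoc, hf'1, hh, X.homOfLE_ι]
  · rw [← Category.assoc, hf'2, hσq, X.homOfLE_ι]

/-- Existence of a discrete valuation ring through `x` and the generic point, with a lift given by
an extension of the section. -/
theorem exists_dvr_of_extension [IsLocallyNoetherian X] (q : Y ⟶ X) (U : X.Opens)
    (hU : Dense (U : Set ↥X)) (h : (U : Scheme.{u}) ⟶ Y) (x : X) (hxU : x ∉ U)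
    [IsDomain ↑(X.presheaf.stalk x)]
    (U' : X.Opens) (hUU' : U ≤ U') (h' : (U' : Scheme.{u}) ⟶ Y) (hxU' : x ∈ U')
    (hq' : h' ≫ q = U'.ι) (hres : X.homOfLE hUU' ≫ h' = h) :
    ∃ (R : Type u) (_ : CommRing R) (_ : IsDomain R) (_ : IsDiscreteValuationRing R)
      (u : Spec (CommRingCat.of R) ⟶ X)
      (ub : Spec (CommRingCat.of (FractionRing R)) ⟶ (U : Scheme.{u}))
      (h₁ : Spec (CommRingCat.of R) ⟶ Y),
      u (IsLocalRing.closedPoint R) = x ∧
        ub ≫ U.ι = Spec.map (CommRingCat.ofHom (algebraMap R (FractionRing R))) ≫ u ∧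
        h₁ ≫ q = u ∧
        Spec.map (CommRingCat.ofHom (algebraMap R (FractionRing R))) ≫ h₁ = ub ≫ h := by
  let K : Type u := FractionRing (X.presheaf.stalk x)
  have hξU : genPt x ∈ U := genPt_mem_of_dense x U hU
  have hnf : ¬ IsField (X.presheaf.stalk x) := by
    intro hf
    apply hxU
    have h1 : maximalIdeal (X.presheaf.stalk x) = ⊥ :=
      IsLocalRing.isField_iff_maximalIdeal_eq.mp hf
    have h2 : genPt x = x := by
      have : (⟨⊥, Ideal.isPrime_bot⟩ : PrimeSpectrum (X.presheaf.stalk x)) =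
          closedPoint (X.presheaf.stalk x) := by
        apply PrimeSpectrum.ext
        exact h1.symm
      show X.fromSpecStalk x _ = _
      rw [this, X.fromSpecStalk_closedPoint]
    rw [← h2]
    exact hξU
  obtain ⟨V, hVdvr, hV1, hV2⟩ := exists_dvr_dominating (X.presheaf.stalk x) K hnf
  have hV2' : ∀ a ∈ maximalIdeal (X.presheaf.stalk x),
      algebraMap (X.presheaf.stalk x) K a ∈ V.nonunits := fun a ha =>
    (ValuationSubring.mem_nonunits_iff V).mpr (hV2 a ha)
  have hρloc := isLocalHom_codRestrict (algebraMap (X.presheaf.stalk x) K) V hV1 hV2'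
  let ρ₀ : X.presheaf.stalk x →+* V := (algebraMap (X.presheaf.stalk x) K).codRestrict V.toSubring hV1
  let ρ : X.presheaf.stalk x ⟶ CommRingCat.of V := CommRingCat.ofHom ρ₀
  let u : Spec (CommRingCat.of V) ⟶ X := Spec.map ρ ≫ X.fromSpecStalk x
  have hu : u (closedPoint V) = x := by
    have : Spec.map ρ (closedPoint V) = closedPoint (X.presheaf.stalk x) :=
      IsLocalRing.comap_closedPoint (S := V) ρ₀
    change (X.fromSpecStalk x) ((Spec.map ρ) (closedPoint V)) = x
    rw [this, X.fromSpecStalk_closedPoint]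
  let jV : Spec (CommRingCat.of (FractionRing V)) ⟶ Spec (CommRingCat.of V) :=
    Spec.map (CommRingCat.ofHom (algebraMap V (FractionRing V)))
  have hpt : ∀ z, (jV ≫ u) z = genPt x := by
    intro z
    show X.fromSpecStalk x ((jV ≫ Spec.map ρ) z) = _
    have h1 : jV ≫ Spec.map ρ =
        Spec.map (CommRingCat.ofHom ((algebraMap V (FractionRing V)).comp ρ₀)) := by
      rw [← Spec.map_comp]
      rfl
    rw [h1]
    show _ = X.fromSpecStalk x _
    congr 1
    apply PrimeSpectrum.ext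
    refine (SpecMap_apply_asIdeal_of_field _ z).trans ?_
    rw [← RingHom.injective_iff_ker_eq_bot]
    intro a b hab
    have h2 : ρ₀ a = ρ₀ b := IsFractionRing.injective V (FractionRing V) hab
    have h3 : algebraMap (X.presheaf.stalk x) K a = algebraMap (X.presheaf.stalk x) K b :=
      congrArg Subtype.val h2
    exact IsFractionRing.injective _ K h3
  have hrange : Set.range (jV ≫ u) ⊆ Set.range U.ι := by
    rw [Scheme.Opens.range_ι]
    rintro _ ⟨z, rfl⟩
    rw [hpt]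
    exact hξU
  let ub : Spec (CommRingCat.of (FractionRing V)) ⟶ (U : Scheme.{u}) :=
    IsOpenImmersion.lift U.ι (jV ≫ u) hrange
  have hub : ub ≫ U.ι = jV ≫ u := IsOpenImmersion.lift_fac _ _ _
  have hr : Set.range u ⊆ Set.range U'.ι := by
    rw [Scheme.Opens.range_ι]
    exact range_subset_of_closedPoint_mem u (by rw [hu]; exact hxU')
  let u' : Spec (CommRingCat.of V) ⟶ (U' : Scheme.{u}) := IsOpenImmersion.lift U'.ι u hr
  have hu' : u' ≫ U'.ι = u := IsOpenImmersion.lift_fac _ _ _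
  refine ⟨V, inferInstance, inferInstance, hVdvr, u, ub, u' ≫ h', hu, hub, ?_, ?_⟩
  · rw [Category.assoc, hq', hu']
  · rw [← hres, ← Category.assoc, ← Category.assoc]
    congr 1
    rw [← cancel_mono U'.ι, Category.assoc, Category.assoc, hu', X.homOfLE_ι, hub]

end QuasiFinite

end Groth.Agent.Lib.Helper25.RatExt
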