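import Mathlib
import Groth.Prelude.Def_EGA43
import Groth.Agent.Lib.Helper25.RatExt

/-!
# Universal openness at a point: the discrete valuation ring criterion (EGA IV 14.5.8)

Helper lemmas for `Groth.Agent.S2587`.
-/

set_option autoImplicit false
set_option linter.style.haveILetI false

universe u

open CategoryTheory CategoryTheory.Limits AlgebraicGeometry IsLocalRing Topology TensorProduct

namespace Groth.Agent.Lib.Helper25.UnivOpenAt

section Top

variable {α β γ δ : Type*} [TopologicalSpace α] [TopologicalSpace β] [TopologicalSpace γ]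
  [TopologicalSpace δ]

/-- Openness at a point passes from a restriction to opens to the ambient map. -/
lemma isOpenAt_of_isOpenEmbedding {h₀ : α → β} {h : γ → δ} {j : α → γ} {i : β → δ}
    (hj : Continuous j) (hi : IsOpenEmbedding i) (hcomm : ∀ a, h (j a) = i (h₀ a)) (a : α)
    (H : EGA43.IsOpenAt h₀ a) : EGA43.IsOpenAt h (j a) := by
  intro W hW
  have h1 : j ⁻¹' W ∈ 𝓝 a := hj.continuousAt hW
  have h2 := H _ h1
  have h3 : i '' (h₀ '' (j ⁻¹' W)) ∈ 𝓝 (i (h₀ a)) := (hi.image_mem_nhds).mpr h2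
  rw [hcomm]
  refine Filter.mem_of_superset h3 ?_
  rintro _ ⟨_, ⟨w, hw, rfl⟩, rfl⟩
  exact ⟨j w, hw, hcomm w⟩

/-- Openness at a point passes from the ambient map to a restriction to opens. -/
lemma isOpenAt_of_isOpenEmbedding' {h₀ : α → β} {h : γ → δ} {j : α → γ} {i : β → δ}
    (hj : IsOpenEmbedding j) (hi : IsOpenEmbedding i) (hcomm : ∀ a, h (j a) = i (h₀ a)) (a : α)
    (H : EGA43.IsOpenAt h (j a)) : EGA43.IsOpenAt h₀ a := by
  intro W hW
  have h1 : j '' W ∈ 𝓝 (j a) := hj.image_mem_nhds.mpr hW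
  have h2 := H _ h1
  rw [hcomm] at h2
  rw [← hi.image_mem_nhds]
  refine Filter.mem_of_superset h2 ?_
  rintro _ ⟨_, ⟨w, hw, rfl⟩, rfl⟩
  exact ⟨h₀ w, ⟨w, hw, rfl⟩, (hcomm w).symm⟩

end Top

/-- A constructible subset of a prime spectrum containing all generizations of a point is a
neighbourhood of that point. -/
lemma mem_nhds_of_isConstructible {R : Type u} [CommRing R] {s : Set (PrimeSpectrum R)}
    (hs : IsConstructible s) (y : PrimeSpectrum R) (hy : ∀ z, z ⤳ y → z ∈ s) : s ∈ 𝓝 y := by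
  obtain ⟨S, _, f, hf⟩ := PrimeSpectrum.exists_range_eq_of_isConstructible hs.compl
  rw [← mem_interior_iff_mem_nhds, ← compl_compl s, interior_compl, Set.mem_compl_iff, ← hf,
    PrimeSpectrum.closure_range_comap]
  intro hmem
  have hle : (⊥ : Ideal S).comap f ≤ y.asIdeal := hmem
  obtain ⟨q, -, hq, hqle⟩ := y.asIdeal.exists_ideal_comap_le_prime ⊥ hle
  have hspec : (PrimeSpectrum.comap f ⟨q, hq⟩) ⤳ y :=
    (PrimeSpectrum.le_iff_specializes _ _).mp hqle
  have : PrimeSpectrum.comap f ⟨q, hq⟩ ∈ sᶜ := hf ▸ ⟨_, rfl⟩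
  exact this (hy _ hspec)

set_option backward.isDefEq.respectTransparency false in
/-- **Pointwise Chevalley**: a morphism locally of finite presentation is open at every point
at which generizations lift. -/
theorem isOpenAt_of_generizations_lift {P Y' : Scheme.{u}} (h : P ⟶ Y')
    [LocallyOfFinitePresentation h] (x' : P)
    (hgen : ∀ y₁ : Y', y₁ ⤳ h x' → ∃ z : P, z ⤳ x' ∧ h z = y₁) :
    EGA43.IsOpenAt h.base x' := by
  intro W hW
  obtain ⟨_, ⟨V', hV', rfl⟩, hyV', -⟩ := Y'.isBasis_affineOpens.exists_subset_of_mem_open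
    (Set.mem_univ (h x')) isOpen_univ
  have hopen : IsOpen (interior W ∩ h ⁻¹' (V' : Set Y')) :=
    isOpen_interior.inter (V'.isOpen.preimage h.continuous)
  obtain ⟨_, ⟨W₀', hW₀', rfl⟩, hxW₀', hW₀sub'⟩ := P.isBasis_affineOpens.exists_subset_of_mem_open
    (show x' ∈ interior W ∩ h ⁻¹' (V' : Set Y') from ⟨mem_interior_iff_mem_nhds.mpr hW, hyV'⟩)
    hopen
  obtain ⟨W₀, hW₀, hxW₀, hW₀sub⟩ : ∃ W₀ : P.Opens, IsAffineOpen W₀ ∧ x' ∈ W₀ ∧
      (W₀ : Set P) ⊆ interior W ∩ h ⁻¹' (V' : Set Y') := ⟨W₀', hW₀', hxW₀', hW₀sub'⟩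
  replace hV' : IsAffineOpen (V' : Y'.Opens) := hV'
  haveI : IsAffine (W₀ : Scheme.{u}) := hW₀
  have hsub : Set.range (W₀.ι ≫ h) ⊆ Set.range hV'.fromSpec := by
    rintro _ ⟨w, rfl⟩
    rw [hV'.range_fromSpec]
    have : W₀.ι w ∈ (W₀ : Set P) := w.2
    exact (hW₀sub this).2
  let h₀ : (W₀ : Scheme.{u}) ⟶ Spec Γ(Y', V') := IsOpenImmersion.lift hV'.fromSpec (W₀.ι ≫ h) hsub
  have fac : h₀ ≫ hV'.fromSpec = W₀.ι ≫ h := IsOpenImmersion.lift_fac _ _ _
  haveI : LocallyOfFinitePresentation h₀ := by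
    refine MorphismProperty.of_postcomp (W := @LocallyOfFinitePresentation)
      (W' := @IsOpenImmersion) h₀ hV'.fromSpec inferInstance ?_
    rw [fac]; infer_instance
  have hE : IsConstructible (Set.range h₀) := by
    rw [← Set.image_univ]
    exact h₀.isConstructible_image IsConstructible.univ
  let x₀ : (W₀ : Scheme.{u}) := ⟨x', hxW₀⟩
  have hx₀ : hV'.fromSpec (h₀ x₀) = h x' := by
    rw [← Scheme.Hom.comp_apply, fac, Scheme.Hom.comp_apply]; rfl
  have hmem : Set.range h₀ ∈ 𝓝 (h₀ x₀) := by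
    refine mem_nhds_of_isConstructible hE (h₀ x₀) fun z hz => ?_
    have hz' : hV'.fromSpec z ⤳ h x' := by
      rw [← hx₀]; exact hz.map hV'.fromSpec.continuous
    obtain ⟨t, ht, hht⟩ := hgen _ hz'
    have htW₀ : t ∈ W₀ := ht.mem_open W₀.isOpen hxW₀
    refine ⟨(⟨t, htW₀⟩ : (W₀ : Scheme.{u})), ?_⟩
    apply hV'.fromSpec.isOpenEmbedding.injective
    rw [← Scheme.Hom.comp_apply, fac, Scheme.Hom.comp_apply]
    exact hht
  have h3 : hV'.fromSpec '' (Set.range h₀) ∈ 𝓝 (h x') := by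
    rw [← hx₀]
    exact hV'.fromSpec.isOpenEmbedding.image_mem_nhds.mpr hmem
  refine Filter.mem_of_superset h3 ?_
  rintro _ ⟨_, ⟨w, rfl⟩, rfl⟩
  refine ⟨W₀.ι w, interior_subset (hW₀sub w.2).1, ?_⟩
  rw [← Scheme.Hom.comp_apply, ← Scheme.Hom.comp_apply, fac]

/-- The discrete valuation ring criterion of EGA IV 14.5.8. -/
def DVRCrit {X Y : Scheme.{u}} (f : X ⟶ Y) (x : X) : Prop :=
  ∀ (A : Type u) [CommRing A] [IsDomain A] [IsDiscreteValuationRing A]
    (g : Spec (CommRingCat.of A) ⟶ Y), g.base (IsLocalRing.closedPoint A) = f.base x →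
    ∀ x' : ↥(pullback f g), (pullback.fst f g).base x' = x →
      (pullback.snd f g).base x' = IsLocalRing.closedPoint A →
      ∃ z' : ↥(pullback f g), z' ⤳ x' ∧ (pullback.snd f g).base z' ≠ IsLocalRing.closedPoint A

/-- A point of the spectrum of a discrete valuation ring other than the closed point is the
generic point. -/
lemma asIdeal_eq_bot_of_ne_closedPoint {V : Type u} [CommRing V] [IsDomain V]
    [IsDiscreteValuationRing V] (v : PrimeSpectrum V) (hv : v ≠ closedPoint V) :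
    v.asIdeal = ⊥ := by
  by_contra hne
  have hmax : v.asIdeal.IsMaximal := Ring.DimensionLEOne.maximalOfPrime hne v.2
  exact hv (PrimeSpectrum.ext (IsLocalRing.eq_maximalIdeal hmax))

/-- Under the discrete valuation ring criterion, generizations lift along every base change to
a locally Noetherian scheme, at points over `x`. -/
theorem exists_generization_of_dvrCrit {X Y Y' : Scheme.{u}} [IsLocallyNoetherian Y']
    (f : X ⟶ Y) (x : X) (H : DVRCrit f x) (g : Y' ⟶ Y) (x' : ↥(pullback f g))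
    (hx' : (pullback.fst f g).base x' = x) (y₁ : Y')
    (hy₁ : y₁ ⤳ (pullback.snd f g).base x') :
    ∃ z : ↥(pullback f g), z ⤳ x' ∧ (pullback.snd f g).base z = y₁ := by
  set y' := (pullback.snd f g).base x' with hy'
  by_cases hyy : y₁ = y'
  · exact ⟨x', specializes_rfl, hyy.symm⟩
  -- the prime of the local ring at `y'` corresponding to `y₁`
  obtain ⟨ξ, hξ⟩ : y₁ ∈ Set.range (Y'.fromSpecStalk y') := by
    rw [Scheme.range_fromSpecStalk]; exact hy₁
  have hp : ξ.asIdeal ≠ maximalIdeal (Y'.presheaf.stalk y') := by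
    intro hpe
    have h1 : ξ = closedPoint (Y'.presheaf.stalk y') := PrimeSpectrum.ext hpe
    rw [h1, Y'.fromSpecStalk_closedPoint] at hξ
    exact hyy hξ.symm
  haveI : ξ.asIdeal.IsPrime := ξ.2
  obtain ⟨L, _, f₁, V, hDVR, hker, hfV, hloc⟩ :=
    Groth.Agent.Lib.Helper25.RatExt.exists_dvr_of_prime (Y'.presheaf.stalk y') ξ.asIdeal hp
  let ρ : Y'.presheaf.stalk y' →+* V := f₁.codRestrict V.toSubring hfV
  let γ₀ : Spec (CommRingCat.of V) ⟶ Spec (Y'.presheaf.stalk y') :=
    Spec.map (CommRingCat.ofHom ρ)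
  let γ : Spec (CommRingCat.of V) ⟶ Y' := γ₀ ≫ Y'.fromSpecStalk y'
  have hγc : γ (closedPoint V) = y' := by
    have : γ₀ (closedPoint V) = closedPoint (Y'.presheaf.stalk y') :=
      IsLocalRing.comap_closedPoint (S := V) ρ
    change (Y'.fromSpecStalk y') (γ₀ (closedPoint V)) = y'
    rw [this, Y'.fromSpecStalk_closedPoint]
  have hγg : ∀ v : Spec (CommRingCat.of V), v ≠ closedPoint V → γ v = y₁ := by
    intro v hv
    have hv0 : v.asIdeal = ⊥ := asIdeal_eq_bot_of_ne_closedPoint v hv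
    have h1 : γ₀ v = ξ := by
      apply PrimeSpectrum.ext
      change Ideal.comap ρ v.asIdeal = ξ.asIdeal
      rw [hv0, ← hker]
      ext a
      simp only [Ideal.mem_comap, Ideal.mem_bot, RingHom.mem_ker]
      constructor
      · intro h; exact congrArg Subtype.val h
      · intro h; exact Subtype.ext h
    change (Y'.fromSpecStalk y') (γ₀ v) = y₁
    rw [h1, hξ]
  -- the base change to the trait
  let e := pullbackLeftPullbackSndIso f g γ
  obtain ⟨q₀, hq₀1, hq₀2⟩ := Scheme.Pullback.exists_preimage_pullback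
    (f := pullback.snd f g) (g := γ) x' (closedPoint V) hγc.symm
  have hgc : (γ ≫ g).base (closedPoint V) = f.base x := by
    have : (γ ≫ g) (closedPoint V : Spec (CommRingCat.of V)) = g (γ (closedPoint V)) :=
      Scheme.Hom.comp_apply _ _ _
    refine this.trans ?_
    rw [hγc, hy', ← hx', ← Scheme.Hom.comp_apply, ← Scheme.Hom.comp_apply, pullback.condition]
  have h1 : (pullback.fst f (γ ≫ g)).base (e.hom q₀) = x := by
    rw [← Scheme.Hom.comp_apply, pullbackLeftPullbackSndIso_hom_fst, Scheme.Hom.comp_apply]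
    erw [hq₀1]
    exact hx'
  have h2 : (pullback.snd f (γ ≫ g)).base (e.hom q₀) = closedPoint V := by
    rw [← Scheme.Hom.comp_apply, pullbackLeftPullbackSndIso_hom_snd]
    exact hq₀2
  obtain ⟨z', hz', hz'ne⟩ := H V (γ ≫ g) hgc (e.hom q₀) h1 h2
  refine ⟨pullback.fst (pullback.snd f g) γ (e.inv z'), ?_, ?_⟩
  · have h3 : e.inv z' ⤳ q₀ := by
      have := hz'.map e.inv.continuous
      rwa [Scheme.hom_inv_apply] at this
    have := h3.map (pullback.fst (pullback.snd f g) γ).continuous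
    rwa [hq₀1] at this
  · rw [← Scheme.Hom.comp_apply, pullback.condition, Scheme.Hom.comp_apply]
    have h4 : pullback.snd (pullback.snd f g) γ (e.inv z') = pullback.snd f (γ ≫ g) z' := by
      rw [← Scheme.Hom.comp_apply, pullbackLeftPullbackSndIso_inv_snd_snd]
    rw [h4]
    exact hγg _ hz'ne

/-- Reduction of openness at a point of `Spec (B ⊗ R') → Spec R'` to the polynomial algebras. -/
theorem isOpenAt_tensor_of_mvPolynomial (R B R' : Type u) [CommRing R] [CommRing B] [CommRing R']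
    [Algebra R B] [Algebra R R'] (b₀ : Spec (CommRingCat.of B))
    (Hn : ∀ (σ : Type u) [Finite σ] (t : Spec (CommRingCat.of (B ⊗[R] MvPolynomial σ R))),
      Spec.map (CommRingCat.ofHom (Algebra.TensorProduct.includeLeftRingHom
        (R := R) (A := B) (B := MvPolynomial σ R))) t = b₀ →
      EGA43.IsOpenAt (Spec.map (CommRingCat.ofHom (Algebra.TensorProduct.includeRight
        (R := R) (A := B) (B := MvPolynomial σ R)).toRingHom)).base t)
    (t : Spec (CommRingCat.of (B ⊗[R] R')))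
    (ht : Spec.map (CommRingCat.ofHom (Algebra.TensorProduct.includeLeftRingHom
        (R := R) (A := B) (B := R'))) t = b₀) :
    EGA43.IsOpenAt (Spec.map (CommRingCat.ofHom (Algebra.TensorProduct.includeRight
        (R := R) (A := B) (B := R')).toRingHom)).base t := by
  intro W hW
  obtain ⟨_, ⟨h, rfl⟩, hth, hsub⟩ :=
    (PrimeSpectrum.isTopologicalBasis_basic_opens (R := B ⊗[R] R')).mem_nhds_iff.mp hW
  obtain ⟨S, hS⟩ := TensorProduct.exists_finset h
  let σ : Type u := ↥S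
  let ψ : MvPolynomial σ R →ₐ[R] R' := MvPolynomial.aeval (fun i : σ => i.1.2)
  let hσ : B ⊗[R] MvPolynomial σ R := ∑ i : σ, i.1.1 ⊗ₜ[R] MvPolynomial.X i
  let Θ : B ⊗[R] MvPolynomial σ R →ₐ[R] B ⊗[R] R' :=
    Algebra.TensorProduct.map (AlgHom.id R B) ψ
  have hΘ : Θ hσ = h := by
    rw [hS, map_sum, ← Finset.sum_coe_sort S]
    refine Finset.sum_congr rfl fun i _ => ?_
    simp [Θ, ψ]
  -- the pushout square of rings
  have hleft := (CommRingCat.isPushout_tensorProduct R B (MvPolynomial σ R)).flip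
  have houter := (CommRingCat.isPushout_tensorProduct R B R').flip
  have hpo : IsPushout (CommRingCat.ofHom ψ.toRingHom)
      (CommRingCat.ofHom (Algebra.TensorProduct.includeRight
        (R := R) (A := B) (B := MvPolynomial σ R)).toRingHom)
      (CommRingCat.ofHom (Algebra.TensorProduct.includeRight
        (R := R) (A := B) (B := R')).toRingHom)
      (CommRingCat.ofHom Θ.toRingHom) := by
    refine IsPushout.of_left (h₁₁ := CommRingCat.ofHom (algebraMap R (MvPolynomial σ R)))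
      (v₁₁ := CommRingCat.ofHom (algebraMap R B))
      (h₂₁ := CommRingCat.ofHom (Algebra.TensorProduct.includeLeftRingHom
        (R := R) (A := B) (B := MvPolynomial σ R))) ?_ ?_ hleft
    · convert houter using 1
      · rw [← CommRingCat.ofHom_comp]
        exact congrArg CommRingCat.ofHom (RingHom.ext fun a => by simp)
      · rw [← CommRingCat.ofHom_comp]
        exact congrArg CommRingCat.ofHom (RingHom.ext fun b => by simp [Θ])
    · rw [← CommRingCat.ofHom_comp, ← CommRingCat.ofHom_comp]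
      exact congrArg CommRingCat.ofHom (RingHom.ext fun a => by simp [Θ])
  have hpb := (isPullback_SpecMap_of_isPushout _ _ _ _ hpo).flip
  have himg := Scheme.image_preimage_eq_of_isPullback hpb
    (PrimeSpectrum.basicOpen hσ : Set (PrimeSpectrum (B ⊗[R] MvPolynomial σ R)))
  have htσ : Spec.map (CommRingCat.ofHom (Algebra.TensorProduct.includeLeftRingHom
      (R := R) (A := B) (B := MvPolynomial σ R))) (Spec.map (CommRingCat.ofHom Θ.toRingHom) t)
      = b₀ := by
    rw [← Scheme.Hom.comp_apply, ← Spec.map_comp, ← CommRingCat.ofHom_comp]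
    have : Θ.toRingHom.comp (Algebra.TensorProduct.includeLeftRingHom
        (R := R) (A := B) (B := MvPolynomial σ R)) = Algebra.TensorProduct.includeLeftRingHom :=
      RingHom.ext fun b => by simp [Θ]
    rw [this]; exact ht
  have hmemσ : (PrimeSpectrum.basicOpen hσ : Set (PrimeSpectrum (B ⊗[R] MvPolynomial σ R))) ∈
      𝓝 (Spec.map (CommRingCat.ofHom Θ.toRingHom) t) := by
    refine (PrimeSpectrum.basicOpen hσ).isOpen.mem_nhds ?_
    show Θ hσ ∉ t.asIdeal
    rw [hΘ]; exact hth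
  have hopen := Hn σ _ htσ _ hmemσ
  have h1 : (Spec.map (CommRingCat.ofHom ψ.toRingHom))
      ((Spec.map (CommRingCat.ofHom (Algebra.TensorProduct.includeRight
        (R := R) (A := B) (B := R')).toRingHom)) t) =
      (Spec.map (CommRingCat.ofHom (Algebra.TensorProduct.includeRight
        (R := R) (A := B) (B := MvPolynomial σ R)).toRingHom))
        (Spec.map (CommRingCat.ofHom Θ.toRingHom) t) := by
    rw [← Scheme.Hom.comp_apply, ← Scheme.Hom.comp_apply, hpb.w]
  rw [← h1] at hopen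
  have h2 := (Spec.map (CommRingCat.ofHom ψ.toRingHom)).continuous.continuousAt hopen
  rw [Filter.mem_map] at h2
  erw [← himg] at h2
  refine Filter.mem_of_superset h2 (Set.image_mono ?_)
  intro p hp
  apply hsub
  show h ∉ p.asIdeal
  rw [← hΘ]
  exact hp

/-- The spectrum of a tensor product as an open subscheme of a fibre product. -/
theorem exists_openImmersion_Spec_tensor {X Y Y' : Scheme.{u}} (f : X ⟶ Y) (g : Y' ⟶ Y)
    (R B R' : Type u) [CommRing R] [CommRing B] [CommRing R'] [Algebra R B] [Algebra R R']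
    (i₁ : Spec (CommRingCat.of B) ⟶ X) (i₂ : Spec (CommRingCat.of R') ⟶ Y')
    (i₃ : Spec (CommRingCat.of R) ⟶ Y) [IsOpenImmersion i₁] [IsOpenImmersion i₂] [Mono i₃]
    (e₁ : Spec.map (CommRingCat.ofHom (algebraMap R B)) ≫ i₃ = i₁ ≫ f)
    (e₂ : Spec.map (CommRingCat.ofHom (algebraMap R R')) ≫ i₃ = i₂ ≫ g) :
    ∃ j : Spec (CommRingCat.of (B ⊗[R] R')) ⟶ pullback f g, IsOpenImmersion j ∧
      j ≫ pullback.fst f g = Spec.map (CommRingCat.ofHom (Algebra.TensorProduct.includeLeftRingHom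
        (R := R) (A := B) (B := R'))) ≫ i₁ ∧
      j ≫ pullback.snd f g = Spec.map (CommRingCat.ofHom (Algebra.TensorProduct.includeRight
        (R := R) (A := B) (B := R')).toRingHom) ≫ i₂ ∧
      Set.range j = (pullback.fst f g) ⁻¹' Set.range i₁ ∩ (pullback.snd f g) ⁻¹' Set.range i₂ := by
  have hpb := isPullback_SpecMap_of_isPushout _ _ _ _ (CommRingCat.isPushout_tensorProduct R B R')
  let e := hpb.isoPullback
  let m := pullback.map _ _ f g i₁ i₂ i₃ e₁ e₂
  refine ⟨e.hom ≫ m, inferInstance, ?_, ?_, ?_⟩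
  · rw [Category.assoc, pullback.lift_fst, ← Category.assoc, hpb.isoPullback_hom_fst]
  · rw [Category.assoc, pullback.lift_snd, ← Category.assoc, hpb.isoPullback_hom_snd]
  · rw [← Scheme.Pullback.range_map (i₁ := i₁) (i₂ := i₂) (i₃ := i₃) (e₁ := e₁) (e₂ := e₂)]
    have hsurj : Function.Surjective e.hom := e.hom.surjective
    rw [Scheme.Hom.comp_base, TopCat.coe_comp, Set.range_comp, hsurj.range_eq, Set.image_univ]

/-- Universal openness at a point may be tested on locally Noetherian base changes. -/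
theorem isUnivOpenAt_of_noetherian {X Y : Scheme.{u}} [IsLocallyNoetherian Y] (f : X ⟶ Y) (x : X)
    (H : ∀ (Y₁ : Scheme.{u}) [IsLocallyNoetherian Y₁] (g₁ : Y₁ ⟶ Y) (x₁ : ↥(pullback f g₁)),
      (pullback.fst f g₁).base x₁ = x → EGA43.IsOpenAt (pullback.snd f g₁).base x₁) :
    EGA43.IsUnivOpenAt f x := by
  intro Y' g x' hx'
  -- affine opens
  obtain ⟨V, hV, hfxV⟩ : ∃ V : Y.Opens, IsAffineOpen V ∧ f x ∈ V := by
    obtain ⟨_, ⟨V, hV, rfl⟩, hyV, -⟩ := Y.isBasis_affineOpens.exists_subset_of_mem_open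
      (Set.mem_univ (f x)) isOpen_univ
    exact ⟨V, hV, hyV⟩
  obtain ⟨U, hU, hxU, hUV⟩ : ∃ U : X.Opens, IsAffineOpen U ∧ x ∈ U ∧ U ≤ f ⁻¹ᵁ V := by
    obtain ⟨_, ⟨U, hU, rfl⟩, hxU, hUV⟩ := X.isBasis_affineOpens.exists_subset_of_mem_open
      (show x ∈ ((f ⁻¹ᵁ V : X.Opens) : Set X) from hfxV) (f ⁻¹ᵁ V).isOpen
    exact ⟨U, hU, hxU, hUV⟩
  have hgy : g (pullback.snd f g x') ∈ V := by
    rw [← Scheme.Hom.comp_apply, ← pullback.condition, Scheme.Hom.comp_apply]
    erw [hx']
    exact hfxV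
  obtain ⟨V', hV', hyV', hV'V⟩ : ∃ V' : Y'.Opens, IsAffineOpen V' ∧ pullback.snd f g x' ∈ V' ∧
      V' ≤ g ⁻¹ᵁ V := by
    obtain ⟨_, ⟨V', hV', rfl⟩, hyV', hV'V⟩ := Y'.isBasis_affineOpens.exists_subset_of_mem_open
      (show pullback.snd f g x' ∈ ((g ⁻¹ᵁ V : Y'.Opens) : Set Y') from hgy) (g ⁻¹ᵁ V).isOpen
    exact ⟨V', hV', hyV', hV'V⟩
  letI : Algebra Γ(Y, V) Γ(X, U) := (f.appLE V U hUV).hom.toAlgebra
  letI : Algebra Γ(Y, V) Γ(Y', V') := (g.appLE V V' hV'V).hom.toAlgebra
  have e₁ : Spec.map (CommRingCat.ofHom (algebraMap Γ(Y, V) Γ(X, U))) ≫ hV.fromSpec =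
      hU.fromSpec ≫ f := IsAffineOpen.SpecMap_appLE_fromSpec f hV hU hUV
  have e₂ : Spec.map (CommRingCat.ofHom (algebraMap Γ(Y, V) Γ(Y', V'))) ≫ hV.fromSpec =
      hV'.fromSpec ≫ g := IsAffineOpen.SpecMap_appLE_fromSpec g hV hV' hV'V
  obtain ⟨j, hj, hj1, hj2, hjr⟩ := exists_openImmersion_Spec_tensor f g Γ(Y, V) Γ(X, U) Γ(Y', V')
    hU.fromSpec hV'.fromSpec hV.fromSpec e₁ e₂
  -- `x'` lies in the affine piece
  obtain ⟨t, rfl⟩ : x' ∈ Set.range j := by
    rw [hjr]
    refine ⟨?_, ?_⟩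
    · show pullback.fst f g x' ∈ Set.range hU.fromSpec
      rw [hU.range_fromSpec]
      erw [hx']
      exact hxU
    · show pullback.snd f g x' ∈ Set.range hV'.fromSpec
      rw [hV'.range_fromSpec]
      exact hyV'
  refine isOpenAt_of_isOpenEmbedding
    (h₀ := (Spec.map (CommRingCat.ofHom (Algebra.TensorProduct.includeRight
        (R := Γ(Y, V)) (A := Γ(X, U)) (B := Γ(Y', V'))).toRingHom)).base)
    (j := j.base) (i := hV'.fromSpec.base) j.continuous hV'.fromSpec.isOpenEmbedding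
    (fun a => ?_) t ?_
  · exact congr(($hj2).base a)
  set b₀ := Spec.map (CommRingCat.ofHom (Algebra.TensorProduct.includeLeftRingHom
        (R := Γ(Y, V)) (A := Γ(X, U)) (B := Γ(Y', V')))) t with hb₀def
  have hb₀ : hU.fromSpec b₀ = x := by
    have := congr(($hj1).base t)
    rw [← hx']
    exact this.symm
  refine isOpenAt_tensor_of_mvPolynomial Γ(Y, V) Γ(X, U) Γ(Y', V') b₀ ?_ t rfl
  intro σ _ tσ htσ
  haveI : IsNoetherianRing Γ(Y, V) := IsLocallyNoetherian.component_noetherian ⟨V, hV⟩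
  let g₁ : Spec (CommRingCat.of (MvPolynomial σ Γ(Y, V))) ⟶ Y :=
    Spec.map (CommRingCat.ofHom (algebraMap Γ(Y, V) (MvPolynomial σ Γ(Y, V)))) ≫ hV.fromSpec
  obtain ⟨jσ, hjσ, hjσ1, hjσ2, -⟩ := exists_openImmersion_Spec_tensor f g₁ Γ(Y, V) Γ(X, U)
    (MvPolynomial σ Γ(Y, V)) hU.fromSpec (𝟙 _) hV.fromSpec e₁ (by simp [g₁])
  have hfst : (pullback.fst f g₁).base (jσ tσ) = x := by
    have := congr(($hjσ1).base tσ)
    refine this.trans ?_
    rw [← hb₀, ← htσ]
    rfl
  have hopen := H (Spec (CommRingCat.of (MvPolynomial σ Γ(Y, V)))) g₁ (jσ tσ) hfst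
  refine isOpenAt_of_isOpenEmbedding' (j := jσ.base) (i := id) jσ.isOpenEmbedding
    IsOpenEmbedding.id (fun a => ?_) tσ hopen
  have := congr(($hjσ2).base a)
  simpa using this

end Groth.Agent.Lib.Helper25.UnivOpenAt
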