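import Mathlib.RingTheory.Jacobson.Ring
import Mathlib.RingTheory.DedekindDomain.Basic
import Mathlib.RingTheory.DedekindDomain.PID
import Mathlib.GroupTheory.FiniteAbelian.Basic
import Mathlib.RingTheory.FiniteType
import Mathlib.RingTheory.Finiteness.Basic
import Mathlib.RingTheory.RingHom.FiniteType
import Mathlib.RingTheory.RingHom.Finite

/-!
# Finite-type algebras over (rings isomorphic to) `ℤ`

* `ℤ` is a Jacobson ring;
* a field which is module-finite over a ring isomorphic to `ℤ` is finite;
* there are only finitely many ring homomorphisms from a finite type algebra over a ring `R` into a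
  finite ring `F`, provided `R →+* F` is a subsingleton.
-/

set_option autoImplicit false
set_option linter.style.haveILetI false

namespace Groth.Agent.Lib.Helper25

/-- `ℤ` is a Jacobson ring. -/
instance Int.isJacobsonRing : IsJacobsonRing ℤ := by
  rw [isJacobsonRing_iff_prime_eq]
  intro P hP
  by_cases hP0 : P = ⊥
  · subst hP0
    apply le_antisymm _ Ideal.le_jacobson
    intro x hx
    rw [Ideal.mem_jacobson_bot] at hx
    have h1 := hx x
    rw [Int.isUnit_iff] at h1
    have hx0 : x = 0 := by
      rcases h1 with h1 | h1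
      · have : x * x = 0 := by linarith
        exact mul_self_eq_zero.mp this
      · nlinarith [mul_self_nonneg x]
    rw [hx0]
    exact Ideal.zero_mem _
  · haveI : P.IsMaximal := hP.isMaximal hP0
    exact Ideal.jacobson_eq_self_of_isMaximal

/-- A ring isomorphic to `ℤ` is Jacobson. -/
theorem isJacobsonRing_of_ringEquiv_int {R : Type*} [CommRing R] (e : R ≃+* ℤ) :
    IsJacobsonRing R :=
  (isJacobsonRing_iso e).mpr Int.isJacobsonRing

/-- A field which is finite over a ring isomorphic to `ℤ` is a finite set. -/
theorem finite_of_finite_ringHom_of_ringEquiv_int {R K : Type*} [CommRing R] [Field K]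
    (e : R ≃+* ℤ) (φ : R →+* K) (hφ : φ.Finite) : Finite K := by
  -- `K` is a finite `ℤ`-module
  have h1 : (φ.comp (e.symm : ℤ →+* R)).Finite :=
    hφ.comp (RingHom.Finite.of_surjective _ e.symm.surjective)
  have h2 : φ.comp (e.symm : ℤ →+* R) = algebraMap ℤ K := Subsingleton.elim _ _
  rw [h2] at h1
  have hfin : Module.Finite ℤ K := RingHom.finite_algebraMap.mp h1
  -- `ℤ → K` is not injective
  have hint : Algebra.IsIntegral ℤ K := inferInstance
  have hninj : ¬ Function.Injective (algebraMap ℤ K) := by
    intro hinj
    have := isField_of_isIntegral_of_isField hinj (Field.toIsField K)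
    exact Int.not_isField this
  obtain ⟨n, hn, hn0⟩ : ∃ n : ℤ, algebraMap ℤ K n = 0 ∧ n ≠ 0 := by
    rw [injective_iff_map_eq_zero] at hninj
    push Not at hninj
    exact hninj
  apply Module.finite_of_fg_torsion K
  intro x
  refine ⟨⟨n, mem_nonZeroDivisors_of_ne_zero hn0⟩, ?_⟩
  change n • x = 0
  rw [Algebra.smul_def, hn, zero_mul]

/-- If `A` is of finite type over `R`, `F` is finite and there is at most one ring homomorphism
`R →+* F`, then there are finitely many ring homomorphisms `A →+* F`. -/
theorem finite_ringHom_of_finiteType {R A F : Type*} [CommRing R] [CommRing A] [CommRing F]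
    [Finite F] (φ : R →+* A) (hφ : φ.FiniteType) [Subsingleton (R →+* F)] :
    Finite (A →+* F) := by
  classical
  algebraize [φ]
  obtain ⟨s, hs⟩ := (Algebra.FiniteType.out : (⊤ : Subalgebra R A).FG)
  let res : (A →+* F) → (s → F) := fun ψ a => ψ a
  refine Finite.of_injective res ?_
  intro ψ₁ ψ₂ h
  letI : Algebra R F := (ψ₁.comp (algebraMap R A)).toAlgebra
  let a₁ : A →ₐ[R] F := { ψ₁ with commutes' := fun r => rfl }
  let a₂ : A →ₐ[R] F := { ψ₂ with
    commutes' := fun r => by
      have : ψ₂.comp (algebraMap R A) = ψ₁.comp (algebraMap R A) := Subsingleton.elim _ _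
      exact RingHom.congr_fun this r }
  have : a₁ = a₂ := by
    apply AlgHom.ext_of_adjoin_eq_top hs
    intro a ha
    exact congrFun h ⟨a, ha⟩
  ext a
  exact AlgHom.congr_fun this a

end Groth.Agent.Lib.Helper25
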