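import Mathlib.RingTheory.Jacobson.Ring
import Mathlib.RingTheory.Localization.Away.Basic
import Mathlib.RingTheory.Localization.Integral
import Mathlib.RingTheory.Localization.FractionRing
import Mathlib.RingTheory.FiniteType
import Mathlib.RingTheory.Algebraic.Integral
import Mathlib.RingTheory.IntegralClosure.IsIntegralClosure.Basic
import Mathlib.RingTheory.Localization.Ideal
import Mathlib.RingTheory.Spectrum.Prime.Topology
import Mathlib.RingTheory.Localization.Away.AdjoinRoot

/-!
Goldman domains: if a field `K` is a finitely generated algebra over a subdomain `B`, then `B_f` is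
a field for some nonzero `f`.
-/

set_option autoImplicit false
set_option linter.style.haveILetI false

namespace Groth.Agent.Lib.Helper25

theorem exists_away_isField_of_finiteType_field (B K : Type*) [CommRing B] [IsDomain B]
    [Field K] [Algebra B K] (hinj : Function.Injective (algebraMap B K))
    [hft : Algebra.FiniteType B K] :
    ∃ f : B, f ≠ 0 ∧ IsField (Localization.Away f) := by
  classical
  have halg : Algebra.IsAlgebraic B K := by
    letI : Algebra (FractionRing B) K := (IsFractionRing.lift hinj).toAlgebra
    haveI : IsScalarTower B (FractionRing B) K :=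
      IsScalarTower.of_algebraMap_eq (fun x => (IsFractionRing.lift_algebraMap hinj x).symm)
    haveI : Algebra.FiniteType (FractionRing B) K :=
      Algebra.FiniteType.of_restrictScalars_finiteType B (FractionRing B) K
    haveI : Module.Finite (FractionRing B) K :=
      finite_of_finite_type_of_isJacobsonRing (FractionRing B) K
    haveI : Algebra.IsAlgebraic (FractionRing B) K := Algebra.IsAlgebraic.of_finite _ K
    exact (IsFractionRing.comap_isAlgebraic_iff (A := B) (K := FractionRing B) (C := K)).mpr
      inferInstance
  obtain ⟨s, hs⟩ := hft.out
  obtain ⟨y, hy0, hy⟩ := Algebra.IsAlgebraic.exists_integral_multiples B s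
  refine ⟨y, hy0, ?_⟩
  have hyK : algebraMap B K y ≠ 0 := (map_ne_zero_iff _ hinj).mpr hy0
  have hunit : IsUnit (algebraMap B K y) := IsUnit.mk0 _ hyK
  letI : Algebra (Localization.Away y) K := (IsLocalization.Away.lift y hunit).toAlgebra
  haveI : IsScalarTower B (Localization.Away y) K :=
    IsScalarTower.of_algebraMap_eq (fun x => (IsLocalization.Away.lift_eq y hunit x).symm)
  have hint : Algebra.IsIntegral (Localization.Away y) K := by
    have hle : Algebra.adjoin B (s : Set K) ≤
        (integralClosure (Localization.Away y) K).restrictScalars B := by
      apply Algebra.adjoin_le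
      intro z hz
      have h1 : IsIntegral (Localization.Away y) (y • z) := (hy z hz).tower_top
      have h2 : z = algebraMap (Localization.Away y) K (IsLocalization.Away.invSelf y) *
          (y • z) := by
        rw [Algebra.smul_def, ← mul_assoc, IsScalarTower.algebraMap_apply B (Localization.Away y) K,
          ← map_mul, mul_comm (IsLocalization.Away.invSelf y), IsLocalization.Away.mul_invSelf,
          map_one, one_mul]
      change z ∈ integralClosure (Localization.Away y) K
      rw [h2]
      exact Subalgebra.mul_mem _ (Subalgebra.algebraMap_mem _ _) h1
    constructor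
    intro z
    have : z ∈ Algebra.adjoin B (s : Set K) := by rw [hs]; trivial
    exact hle this
  have hinj' : Function.Injective (algebraMap (Localization.Away y) K) := by
    change Function.Injective (IsLocalization.Away.lift y hunit)
    unfold IsLocalization.Away.lift
    rw [IsLocalization.lift_injective_iff]
    intro a b
    rw [(IsLocalization.injective (Localization.Away y)
      (powers_le_nonZeroDivisors_of_noZeroDivisors hy0)).eq_iff]
    exact hinj.eq_iff.symm
  exact isField_of_isIntegral_of_isField hinj' (Field.toIsField K)

/-- For a domain `B` and `f ≠ 0`: `B_f` is a field iff every prime of `B` not containing `f` is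
zero. -/
theorem away_isField_iff (B : Type*) [CommRing B] [IsDomain B] {f : B} (hf : f ≠ 0) :
    IsField (Localization.Away f) ↔ ∀ q : Ideal B, q.IsPrime → f ∉ q → q = ⊥ := by
  have hinj : Function.Injective (algebraMap B (Localization.Away f)) :=
    IsLocalization.injective _ (powers_le_nonZeroDivisors_of_noZeroDivisors hf)
  have hnt : Nontrivial (Localization.Away f) := hinj.nontrivial
  constructor
  · intro hfield q hq hfq
    by_contra hq0
    have hdisj : Disjoint (Submonoid.powers f : Set B) (q : Set B) := by
      rw [Set.disjoint_left]
      rintro _ ⟨n, rfl⟩ hn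
      exact hfq (hq.mem_of_pow_mem n hn)
    have hprime := IsLocalization.isPrime_of_isPrime_disjoint (Submonoid.powers f)
      (Localization.Away f) q hq hdisj
    refine (Ring.not_isField_iff_exists_prime.mpr ⟨_, ?_, hprime⟩) hfield
    intro hbot
    apply hq0
    rw [← IsLocalization.under_map_of_isPrime_disjoint (Submonoid.powers f)
      (Localization.Away f) hq hdisj, hbot]
    exact Ideal.comap_bot_of_injective _ hinj
  · intro h
    by_contra hnf
    obtain ⟨P, hP0, hP⟩ := Ring.not_isField_iff_exists_prime.mp hnf
    obtain ⟨hq, hdisj⟩ := (IsLocalization.isPrime_iff_isPrime_disjoint (Submonoid.powers f)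
      (Localization.Away f) P).mp hP
    have hfq : f ∉ P.under B := fun hmem =>
      Set.disjoint_left.mp hdisj (Submonoid.mem_powers f) hmem
    have h0 := h _ hq hfq
    apply hP0
    rw [← IsLocalization.map_under (Submonoid.powers f) (Localization.Away f) P, h0, Ideal.map_bot]

end Groth.Agent.Lib.Helper25
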