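import Mathlib

/-!
# "Path-colimit systems" of algebras

A family of `k`-algebra maps `g i : G i →ₐ[k] A`, together with a class `Φ i j` of "path maps"
`G i →ₐ[k] G j` compatible with the `g i` (containing identities and stable under composition),
is a *colimit system* if any two stages are dominated by a third through path maps, the `g i` are
jointly surjective and every element of a kernel of `g i` dies under some path map.
No functoriality of transition maps is required.  Main result: the tensor product with a module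
commutes with such colimits (`IsColimSys.rTensor_ker`), so that colimit systems are stable under
base change (`IsColimSys.baseChange`) and under passing to polynomial rings
(`IsColimSys.mvPolynomial`).
-/

set_option autoImplicit false

universe u

open TensorProduct

namespace Groth.Agent.Lib.Helper25

/-- Colimit systems: see the module docstring. -/
structure IsColimSys (k : Type u) [CommRing k] {ι : Type u} (G : ι → Type u)
    [∀ i, CommRing (G i)] [∀ i, Algebra k (G i)] (A : Type u) [CommRing A] [Algebra k A]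
    (g : ∀ i, G i →ₐ[k] A) (Φ : ∀ i j, Set (G i →ₐ[k] G j)) : Prop where
  nonempty : Nonempty ι
  id_mem : ∀ i, AlgHom.id k (G i) ∈ Φ i i
  comp_mem : ∀ {i j l : ι} {φ : G i →ₐ[k] G j} {ψ : G j →ₐ[k] G l},
    φ ∈ Φ i j → ψ ∈ Φ j l → ψ.comp φ ∈ Φ i l
  compat : ∀ {i j : ι} {φ : G i →ₐ[k] G j}, φ ∈ Φ i j → (g j).comp φ = g i
  directed : ∀ i i', ∃ (j : ι) (φ : G i →ₐ[k] G j) (φ' : G i' →ₐ[k] G j),
    φ ∈ Φ i j ∧ φ' ∈ Φ i' j
  surj : ∀ a : A, ∃ (i : ι) (x : G i), g i x = a
  ker : ∀ (i : ι) (x : G i), g i x = 0 →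
    ∃ (j : ι) (φ : G i →ₐ[k] G j), φ ∈ Φ i j ∧ φ x = 0

/-- `Algebra.TensorProduct.map id φ` is `lTensor` of `φ` on elements. -/
theorem map_id_apply_eq_lTensor {k : Type*} [CommRing k] (B : Type*) [CommRing B] [Algebra k B]
    {G G' : Type*} [CommRing G] [Algebra k G] [CommRing G'] [Algebra k G'] (φ : G →ₐ[k] G')
    (z : B ⊗[k] G) :
    Algebra.TensorProduct.map (AlgHom.id B B) φ z = LinearMap.lTensor B φ.toLinearMap z := by
  induction z with
  | zero => simp
  | tmul b x => simp
  | add x y hx hy => simp only [map_add, hx, hy]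

/-- `Algebra.TensorProduct.map φ id` is `rTensor` of `φ` on elements. -/
theorem map_id_apply_eq_rTensor {k : Type*} [CommRing k] (C : Type*) [CommRing C] [Algebra k C]
    {G G' : Type*} [CommRing G] [Algebra k G] [CommRing G'] [Algebra k G'] (φ : G →ₐ[k] G')
    (z : G ⊗[k] C) :
    Algebra.TensorProduct.map φ (AlgHom.id k C) z = LinearMap.rTensor C φ.toLinearMap z := by
  induction z with
  | zero => simp
  | tmul b x => simp
  | add x y hx hy => simp only [map_add, hx, hy]

namespace IsColimSys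

variable {k : Type u} [CommRing k] {ι : Type u} {G : ι → Type u}
  [∀ i, CommRing (G i)] [∀ i, Algebra k (G i)] {A : Type u} [CommRing A] [Algebra k A]
  {g : ∀ i, G i →ₐ[k] A} {Φ : ∀ i j, Set (G i →ₐ[k] G j)}

/-- A directed system in the sense of the statements of the `CAlg` block is a colimit system,
with all compatible maps as path maps. -/
theorem of_directed [Preorder ι] [IsDirected ι (· ≤ ·)] [Nonempty ι]
    (f : ∀ i j, i ≤ j → (G i →ₐ[k] G j))
    (hg : ∀ i j (h : i ≤ j), (g j).comp (f i j h) = g i)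
    (hsurj : ∀ a : A, ∃ i, ∃ x : G i, g i x = a)
    (hker : ∀ i (x : G i), g i x = 0 → ∃ j, ∃ h : i ≤ j, f i j h x = 0) :
    IsColimSys k G A g (fun i j => {φ | (g j).comp φ = g i}) where
  nonempty := inferInstance
  id_mem i := by ext; simp
  comp_mem {i j l φ ψ} hφ hψ := by
    change (g l).comp (ψ.comp φ) = g i
    have hφ' : (g j).comp φ = g i := hφ
    have hψ' : (g l).comp ψ = g j := hψ
    rw [← AlgHom.comp_assoc, hψ', hφ']
  compat hφ := hφ
  directed i i' := by
    obtain ⟨j, hij, hi'j⟩ := exists_ge_ge i i'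
    exact ⟨j, f i j hij, f i' j hi'j, hg i j hij, hg i' j hi'j⟩
  surj := hsurj
  ker i x hx := by
    obtain ⟨j, hij, hj⟩ := hker i x hx
    exact ⟨j, f i j hij, hg i j hij, hj⟩

theorem compat_apply (h : IsColimSys k G A g Φ) {i j : ι} {φ : G i →ₐ[k] G j} (hφ : φ ∈ Φ i j)
    (x : G i) : g j (φ x) = g i x :=
  congrArg (fun ψ => ψ x) (h.compat hφ)

/-- Finitely many elements of a kernel die simultaneously. -/
theorem exists_kill (h : IsColimSys k G A g Φ) {i : ι} (s : Finset (G i))
    (hs : ∀ x ∈ s, g i x = 0) :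
    ∃ (j : ι) (φ : G i →ₐ[k] G j), φ ∈ Φ i j ∧ ∀ x ∈ s, φ x = 0 := by
  classical
  induction s using Finset.induction_on with
  | empty => exact ⟨i, AlgHom.id k _, h.id_mem i, by simp⟩
  | insert x s hx ih =>
    obtain ⟨j, φ, hφ, hφs⟩ := ih (fun y hy => hs y (Finset.mem_insert_of_mem hy))
    have h1 : g j (φ x) = 0 := by
      rw [h.compat_apply hφ]
      exact hs x (Finset.mem_insert_self _ _)
    obtain ⟨j', ψ, hψ, hψx⟩ := h.ker j (φ x) h1
    refine ⟨j', ψ.comp φ, h.comp_mem hφ hψ, ?_⟩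
    intro y hy
    rcases Finset.mem_insert.mp hy with rfl | hy
    · exact hψx
    · rw [AlgHom.comp_apply, hφs y hy, map_zero]

/-- A finite family of elements of a kernel dies simultaneously. -/
theorem exists_kill_family (h : IsColimSys k G A g Φ) {i : ι} {κ : Type*} [Finite κ]
    (x : κ → G i) (hx : ∀ l, g i (x l) = 0) :
    ∃ (j : ι) (φ : G i →ₐ[k] G j), φ ∈ Φ i j ∧ ∀ l, φ (x l) = 0 := by
  classical
  have := Fintype.ofFinite κ
  obtain ⟨j, φ, hφ, hs⟩ := h.exists_kill (Finset.univ.image x) (by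
    intro y hy
    obtain ⟨l, -, rfl⟩ := Finset.mem_image.mp hy
    exact hx l)
  exact ⟨j, φ, hφ, fun l => hs _ (Finset.mem_image_of_mem x (Finset.mem_univ l))⟩

/-- Finitely many elements of the colimit lift to a common stage, above a given stage. -/
theorem exists_lift_finset (h : IsColimSys k G A g Φ) (i₀ : ι) (s : Finset A) :
    ∃ (j : ι) (φ : G i₀ →ₐ[k] G j), φ ∈ Φ i₀ j ∧ ∀ a ∈ s, ∃ x : G j, g j x = a := by
  classical
  induction s using Finset.induction_on with
  | empty => exact ⟨i₀, AlgHom.id k _, h.id_mem i₀, by simp⟩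
  | insert a s ha ih =>
    obtain ⟨j, φ, hφ, hφs⟩ := ih
    obtain ⟨i', x', hx'⟩ := h.surj a
    obtain ⟨j', ψ, ψ', hψ, hψ'⟩ := h.directed j i'
    refine ⟨j', ψ.comp φ, h.comp_mem hφ hψ, ?_⟩
    intro b hb
    rcases Finset.mem_insert.mp hb with rfl | hb
    · exact ⟨ψ' x', by rw [h.compat_apply hψ', hx']⟩
    · obtain ⟨y, hy⟩ := hφs b hb
      exact ⟨ψ y, by rw [h.compat_apply hψ, hy]⟩

/-- A finite family of elements of the colimit lifts to a common stage, above a given stage. -/
theorem exists_lift_family (h : IsColimSys k G A g Φ) (i₀ : ι) {κ : Type*} [Finite κ]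
    (a : κ → A) :
    ∃ (j : ι) (φ : G i₀ →ₐ[k] G j) (x : κ → G j), φ ∈ Φ i₀ j ∧ ∀ l, g j (x l) = a l := by
  classical
  have := Fintype.ofFinite κ
  obtain ⟨j, φ, hφ, hs⟩ := h.exists_lift_finset i₀ (Finset.univ.image a)
  have h' : ∀ l, ∃ x : G j, g j x = a l := fun l =>
    hs (a l) (Finset.mem_image_of_mem a (Finset.mem_univ l))
  choose x hx using h'
  exact ⟨j, φ, x, hφ, hx⟩

/-- **Tensor products commute with colimit systems** (kernel part): an element of `G i ⊗ M` dying
in `A ⊗ M` dies in `G j ⊗ M` along some path map. -/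
theorem rTensor_ker (h : IsColimSys k G A g Φ) (M : Type*) [AddCommGroup M] [Module k M] {i : ι}
    (z : G i ⊗[k] M) (hz : LinearMap.rTensor M (g i).toLinearMap z = 0) :
    ∃ (j : ι) (φ : G i →ₐ[k] G j), φ ∈ Φ i j ∧ LinearMap.rTensor M φ.toLinearMap z = 0 := by
  classical
  obtain ⟨n, x, m, rfl⟩ := TensorProduct.exists_sum_tmul_eq z
  simp only [map_sum, LinearMap.rTensor_tmul, AlgHom.toLinearMap_apply] at hz
  -- the f.g. submodule generated by the `g i (x k)`
  let P : Submodule k A := Submodule.span k (Set.range fun l => g i (x l))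
  have hP : P.FG := Submodule.fg_span (Set.finite_range _)
  let t : P ⊗[k] M := ∑ l, (⟨g i (x l), Submodule.subset_span ⟨l, rfl⟩⟩ : P) ⊗ₜ[k] m l
  have ht : LinearMap.rTensor M P.subtype t = 0 := by
    simp only [t, map_sum, LinearMap.rTensor_tmul, Submodule.subtype_apply]
    exact hz
  obtain ⟨Q, hPQ, hQ, htQ⟩ := TensorProduct.eq_zero_of_fg_of_subtype_eq_zero hP ht
  obtain ⟨r, q, hq⟩ := Submodule.fg_iff_exists_fin_generating_family.mp hQ
  have hqQ : ∀ l, q l ∈ Q := fun l => hq ▸ Submodule.subset_span ⟨l, rfl⟩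
  -- the generating family of `Q`
  let u : Fin n ⊕ Fin r → Q := Sum.elim
    (fun l => ⟨g i (x l), hPQ (Submodule.subset_span ⟨l, rfl⟩)⟩) (fun l => ⟨q l, hqQ l⟩)
  let v : Fin n ⊕ Fin r → M := Sum.elim m (fun _ => 0)
  have hu : Submodule.span k (Set.range u) = ⊤ := by
    rw [eq_top_iff]
    rintro ⟨y, hy⟩ -
    have hy' : y ∈ Submodule.span k (Set.range q) := hq ▸ hy
    have : Submodule.span k (Set.range q) ≤
        (Submodule.span k (Set.range u)).map Q.subtype := by
      rw [Submodule.span_le]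
      rintro _ ⟨l, rfl⟩
      exact ⟨u (Sum.inr l), Submodule.subset_span ⟨_, rfl⟩, rfl⟩
    obtain ⟨w, hw, hwy⟩ := this hy'
    have : w = ⟨y, hy⟩ := Subtype.ext hwy
    rwa [← this]
  have huv : ∑ s, u s ⊗ₜ[k] v s = (0 : Q ⊗[k] M) := by
    rw [Fintype.sum_sum_type]
    simp only [u, v, Sum.elim_inl, Sum.elim_inr, tmul_zero, Finset.sum_const_zero, add_zero]
    simpa only [t, map_sum, LinearMap.rTensor_tmul, Submodule.inclusion_apply] using htQ
  obtain ⟨κ, a, y, hay, ham⟩ := TensorProduct.vanishesTrivially_of_sum_tmul_eq_zero k hu huv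
  -- lift the generators `q` to a stage
  obtain ⟨j₀, φ₀, q', hφ₀, hq'⟩ := h.exists_lift_family i q
  let û : Fin n ⊕ Fin r → G j₀ := Sum.elim (fun l => φ₀ (x l)) q'
  have hû : ∀ s, g j₀ (û s) = (u s : A) := by
    rintro (l | l)
    · simp only [û, u, Sum.elim_inl]
      exact h.compat_apply hφ₀ (x l)
    · simp only [û, u, Sum.elim_inr]
      exact hq' l
  let ρ : Fin κ → G j₀ := fun c => ∑ s, a s c • û s
  have hρ : ∀ c, g j₀ (ρ c) = 0 := by
    intro c
    simp only [ρ, map_sum, map_smul, hû]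
    have := congrArg (Q.subtype) (ham c)
    simpa only [map_sum, map_smul, Submodule.subtype_apply, map_zero] using this
  obtain ⟨j₁, χ, hχ, hχρ⟩ := h.exists_kill_family ρ hρ
  refine ⟨j₁, χ.comp φ₀, h.comp_mem hφ₀ hχ, ?_⟩
  simp only [map_sum, LinearMap.rTensor_tmul, AlgHom.toLinearMap_apply, AlgHom.comp_apply]
  have key : ∑ s, χ (û s) ⊗ₜ[k] v s = (0 : G j₁ ⊗[k] M) := by
    apply TensorProduct.sum_tmul_eq_zero_of_vanishesTrivially k
    refine ⟨κ, a, y, hay, fun c => ?_⟩
    have := hχρ c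
    simpa only [ρ, map_sum, map_smul] using this
  rw [Fintype.sum_sum_type] at key
  simpa only [û, v, Sum.elim_inl, Sum.elim_inr, tmul_zero, Finset.sum_const_zero, add_zero]
    using key

/-- `lTensor` form of `rTensor_ker`. -/
theorem lTensor_ker (h : IsColimSys k G A g Φ) (M : Type*) [AddCommGroup M] [Module k M] {i : ι}
    (z : M ⊗[k] G i) (hz : LinearMap.lTensor M (g i).toLinearMap z = 0) :
    ∃ (j : ι) (φ : G i →ₐ[k] G j), φ ∈ Φ i j ∧ LinearMap.lTensor M φ.toLinearMap z = 0 := by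
  have h1 : LinearMap.rTensor M (g i).toLinearMap (TensorProduct.comm k M (G i) z) = 0 := by
    rw [← LinearMap.comm_comp_lTensor_comp_comm_eq]
    simp [hz]
  obtain ⟨j, φ, hφ, hφz⟩ := h.rTensor_ker M _ h1
  refine ⟨j, φ, hφ, ?_⟩
  have h2 := congrArg (TensorProduct.comm k (G j) M) hφz
  rw [map_zero] at h2
  rw [← h2, ← LinearMap.comm_comp_lTensor_comp_comm_eq]
  simp

/-- Finitely many elements of `G i ⊗ M` dying in `A ⊗ M` die simultaneously along a path map. -/
theorem exists_kill_rTensor (h : IsColimSys k G A g Φ) (M : Type*) [AddCommGroup M] [Module k M]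
    {i : ι} (s : Finset (G i ⊗[k] M))
    (hs : ∀ z ∈ s, LinearMap.rTensor M (g i).toLinearMap z = 0) :
    ∃ (j : ι) (φ : G i →ₐ[k] G j), φ ∈ Φ i j ∧
      ∀ z ∈ s, LinearMap.rTensor M φ.toLinearMap z = 0 := by
  classical
  induction s using Finset.induction_on with
  | empty => exact ⟨i, AlgHom.id k _, h.id_mem i, by simp⟩
  | insert x s hx ih =>
    obtain ⟨j, φ, hφ, hφs⟩ := ih (fun y hy => hs y (Finset.mem_insert_of_mem hy))
    have h1 : LinearMap.rTensor M (g j).toLinearMap (LinearMap.rTensor M φ.toLinearMap x) = 0 := by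
      rw [← LinearMap.comp_apply, ← LinearMap.rTensor_comp, ← AlgHom.comp_toLinearMap,
        h.compat hφ]
      exact hs x (Finset.mem_insert_self _ _)
    obtain ⟨j', ψ, hψ, hψx⟩ := h.rTensor_ker M _ h1
    refine ⟨j', ψ.comp φ, h.comp_mem hφ hψ, ?_⟩
    intro y hy
    rw [AlgHom.comp_toLinearMap, LinearMap.rTensor_comp, LinearMap.comp_apply]
    rcases Finset.mem_insert.mp hy with rfl | hy
    · exact hψx
    · rw [hφs y hy, map_zero]

/-- A finite family of elements of `G i ⊗ M` dying in `A ⊗ M` dies along a path map. -/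
theorem exists_kill_rTensor_family (h : IsColimSys k G A g Φ) (M : Type*) [AddCommGroup M]
    [Module k M] {i : ι} {κ : Type*} [Finite κ] (z : κ → G i ⊗[k] M)
    (hz : ∀ l, LinearMap.rTensor M (g i).toLinearMap (z l) = 0) :
    ∃ (j : ι) (φ : G i →ₐ[k] G j), φ ∈ Φ i j ∧
      ∀ l, LinearMap.rTensor M φ.toLinearMap (z l) = 0 := by
  classical
  have := Fintype.ofFinite κ
  obtain ⟨j, φ, hφ, hs⟩ := h.exists_kill_rTensor M (Finset.univ.image z) (by
    intro y hy
    obtain ⟨l, -, rfl⟩ := Finset.mem_image.mp hy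
    exact hz l)
  exact ⟨j, φ, hφ, fun l => hs _ (Finset.mem_image_of_mem z (Finset.mem_univ l))⟩

/-- Colimit systems are stable under base change. -/
theorem baseChange (h : IsColimSys k G A g Φ) (B : Type u) [CommRing B] [Algebra k B] :
    IsColimSys B (fun i => B ⊗[k] G i) (B ⊗[k] A)
      (fun i => Algebra.TensorProduct.map (AlgHom.id B B) (g i))
      (fun i j => (fun φ => Algebra.TensorProduct.map (AlgHom.id B B) φ) '' Φ i j) where
  nonempty := h.nonempty
  id_mem i := ⟨AlgHom.id k _, h.id_mem i, by ext; simp⟩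
  comp_mem := by
    rintro i j l _ _ ⟨φ, hφ, rfl⟩ ⟨ψ, hψ, rfl⟩
    exact ⟨ψ.comp φ, h.comp_mem hφ hψ, by ext; simp⟩
  compat := by
    rintro i j _ ⟨φ, hφ, rfl⟩
    rw [← h.compat hφ]
    ext; simp
  directed i i' := by
    obtain ⟨j, φ, φ', hφ, hφ'⟩ := h.directed i i'
    exact ⟨j, _, _, ⟨φ, hφ, rfl⟩, ⟨φ', hφ', rfl⟩⟩
  surj a := by
    classical
    obtain ⟨n, b, x, rfl⟩ := TensorProduct.exists_sum_tmul_eq a
    obtain ⟨i₀⟩ := h.nonempty
    obtain ⟨j, -, x', -, hx'⟩ := h.exists_lift_family i₀ x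
    refine ⟨j, ∑ l, b l ⊗ₜ[k] x' l, ?_⟩
    simp [hx']
  ker i z hz := by
    have h1 : LinearMap.lTensor B (g i).toLinearMap z = 0 := by
      rw [← hz, map_id_apply_eq_lTensor]
    obtain ⟨j, φ, hφ, hφz⟩ := h.lTensor_ker B z h1
    exact ⟨j, _, ⟨φ, hφ, rfl⟩, by rw [← hφz, map_id_apply_eq_lTensor]⟩

/-- Colimit systems are stable under passing to polynomial rings. -/
theorem mvPolynomial (h : IsColimSys k G A g Φ) (σ : Type) :
    IsColimSys k (fun i => MvPolynomial σ (G i)) (MvPolynomial σ A)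
      (fun i => MvPolynomial.mapAlgHom (g i))
      (fun i j => (fun φ => MvPolynomial.mapAlgHom (σ := σ) φ) '' Φ i j) where
  nonempty := h.nonempty
  id_mem i := ⟨AlgHom.id k _, h.id_mem i, by ext <;> simp⟩
  comp_mem := by
    rintro i j l _ _ ⟨φ, hφ, rfl⟩ ⟨ψ, hψ, rfl⟩
    exact ⟨ψ.comp φ, h.comp_mem hφ hψ, by ext <;> simp⟩
  compat := by
    rintro i j _ ⟨φ, hφ, rfl⟩
    rw [← h.compat hφ]
    ext <;> simp
  directed i i' := by
    obtain ⟨j, φ, φ', hφ, hφ'⟩ := h.directed i i'
    exact ⟨j, _, _, ⟨φ, hφ, rfl⟩, ⟨φ', hφ', rfl⟩⟩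
  surj a := by
    induction a using MvPolynomial.induction_on with
    | C a =>
      obtain ⟨i, x, hx⟩ := h.surj a
      exact ⟨i, MvPolynomial.C x, by simp [hx]⟩
    | add p q hp hq =>
      obtain ⟨i, p', hp'⟩ := hp
      obtain ⟨i', q', hq'⟩ := hq
      obtain ⟨j, φ, φ', hφ, hφ'⟩ := h.directed i i'
      refine ⟨j, MvPolynomial.mapAlgHom φ p' + MvPolynomial.mapAlgHom φ' q', ?_⟩
      rw [map_add, ← hp', ← hq', ← h.compat hφ, ← h.compat hφ']
      simp [MvPolynomial.map_map]
      rfl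
    | mul_X p n hp =>
      obtain ⟨i, p', hp'⟩ := hp
      exact ⟨i, p' * MvPolynomial.X n, by simp [← hp']⟩
  ker i p hp := by
    classical
    have hc : ∀ d : p.support, g i (MvPolynomial.coeff d.1 p) = 0 := by
      intro d
      have := congrArg (MvPolynomial.coeff d.1) hp
      simpa [MvPolynomial.coeff_map] using this
    obtain ⟨j, φ, hφ, hφc⟩ := h.exists_kill_family (fun d : p.support => MvPolynomial.coeff d.1 p) hc
    refine ⟨j, _, ⟨φ, hφ, rfl⟩, ?_⟩
    ext d
    simp only [MvPolynomial.mapAlgHom_apply, MvPolynomial.coeff_map, MvPolynomial.coeff_zero]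
    by_cases hd : d ∈ p.support
    · exact hφc ⟨d, hd⟩
    · rw [MvPolynomial.notMem_support_iff.mp hd, map_zero]

end IsColimSys

end Groth.Agent.Lib.Helper25
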