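import Groth.Agent.Lib.Helper25.ColimSys4

/-!
# Descending étaleness to a stage of a colimit system

Versions of the descent of formal unramifiedness and formal smoothness which hold at all later
stages, combined to descend étaleness.
-/

set_option autoImplicit false

universe u

open TensorProduct MvPolynomial

namespace Groth.Agent.Lib.Helper25

attribute [local instance] Algebra.TensorProduct.rightAlgebra in
/-- If `C` is generated by `s` and `1 ⊗ d c = 0` in `T ⊗ Ω[C⁄k]` for `c ∈ s`, then `T ⊗ C` is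
formally unramified over `T`. -/
theorem formallyUnramified_of_tmul_D_eq_zero {k : Type*} [CommRing k] (T : Type*) [CommRing T]
    [Algebra k T] {C : Type*} [CommRing C] [Algebra k C] (s : Set C)
    (hs : Algebra.adjoin k s = ⊤)
    (H : ∀ c ∈ s, (1 : T) ⊗ₜ[k] KaehlerDifferential.D k C c = 0) :
    Algebra.FormallyUnramified T (T ⊗[k] C) := by
  refine ⟨?_⟩
  apply subsingleton_kaehler_of_adjoin (((1 : T) ⊗ₜ[k] ·) '' s)
    (Algebra.TensorProduct.adjoin_one_tmul_image_eq_top s hs)
  rintro _ ⟨c, hc, rfl⟩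
  have h2 := congrArg (KaehlerDifferential.tensorKaehlerEquivBase k T C (T ⊗[k] C)) (H c hc)
  rw [KaehlerDifferential.tensorKaehlerEquivBase_tmul, one_smul, KaehlerDifferential.map_D,
    map_zero] at h2
  exact h2

/-- Formal smoothness data transport along a base change. -/
theorem formallySmooth_of_data_map {k : Type*} [CommRing k] {C : Type*} [CommRing C] [Algebra k C]
    {ι σ' : Type*} (P₀ : Algebra.Presentation k C ι σ') {T T' : Type*} [CommRing T] [Algebra k T]
    [CommRing T'] [Algebra k T'] (θ : T →ₐ[k] T')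
    (h : ι → MvPolynomial ι T) (p : σ' → MvPolynomial σ' (MvPolynomial ι T))
    (hphom : ∀ j, (p j).IsHomogeneous 2)
    (hp : ∀ j, eval (P₀.baseChange T).relation (p j) = aeval h ((P₀.baseChange T).relation j))
    (q : ι → MvPolynomial σ' (MvPolynomial ι T)) (hqhom : ∀ i, (q i).IsHomogeneous 1)
    (hq : ∀ i, eval (P₀.baseChange T).relation (q i) = h i - X i) :
    Algebra.FormallySmooth T' (T' ⊗[k] C) := by
  refine formallySmooth_of_data (P₀.baseChange T')
    (fun t => MvPolynomial.map (θ : T →+* T') (h t))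
    (fun j => MvPolynomial.map (MvPolynomial.map (θ : T →+* T')) (p j)) ?_ ?_
    (fun t => MvPolynomial.map (MvPolynomial.map (θ : T →+* T')) (q t)) ?_ ?_
  · intro j
    exact (hphom j).map _
  · intro j
    rw [← map_eval_baseChange_relation, ← map_aeval_baseChange_relation, hp j]
  · intro t
    exact (hqhom t).map _
  · intro t
    rw [← map_eval_baseChange_relation, hq t]
    simp

namespace IsColimSys

variable {k : Type u} [CommRing k] {ι : Type u} {R' : ι → Type u}
  [∀ i, CommRing (R' i)] [∀ i, Algebra k (R' i)] {R : Type u} [CommRing R] [Algebra k R]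
  {ρ : ∀ i, R' i →ₐ[k] R} {Φ : ∀ i j, Set (R' i →ₐ[k] R' j)}

attribute [local instance] Algebra.TensorProduct.rightAlgebra in
/-- **Formal unramifiedness descends to all sufficiently late stages.** -/
theorem exists_stage_forall_formallyUnramified (h : IsColimSys k R' R ρ Φ) (C : Type u)
    [CommRing C] [Algebra k C] [Algebra.FiniteType k C]
    (hu : Algebra.FormallyUnramified R (R ⊗[k] C)) :
    ∃ i, ∀ (j : ι) (φ : R' i →ₐ[k] R' j), φ ∈ Φ i j →
      Algebra.FormallyUnramified (R' j) (R' j ⊗[k] C) := by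
  classical
  obtain ⟨s, hs'⟩ := (Algebra.FiniteType.out : (⊤ : Subalgebra k C).FG)
  have hsub : Subsingleton (R ⊗[k] Ω[C⁄k]) :=
    (KaehlerDifferential.tensorKaehlerEquivBase k R C (R ⊗[k] C)).toEquiv.subsingleton
  obtain ⟨i₀⟩ := h.nonempty
  obtain ⟨j, φ, hφ, hφz⟩ := h.exists_kill_rTensor_family Ω[C⁄k]
    (fun c : s => (1 : R' i₀) ⊗ₜ[k] KaehlerDifferential.D k C (c : C))
    (fun c => Subsingleton.elim _ _)
  refine ⟨j, fun j' φ' _ => formallyUnramified_of_tmul_D_eq_zero (R' j') (s : Set C) hs' ?_⟩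
  intro c hc
  have h1 := hφz ⟨c, hc⟩
  simp only [LinearMap.rTensor_tmul, AlgHom.toLinearMap_apply, map_one] at h1
  have h2 := congrArg (LinearMap.rTensor Ω[C⁄k] φ'.toLinearMap) h1
  simpa using h2

/-- **Formal smoothness descends to all sufficiently late stages.** -/
theorem exists_stage_forall_formallySmooth (h : IsColimSys k R' R ρ Φ) (C : Type u) [CommRing C]
    [Algebra k C] [Algebra.FinitePresentation k C]
    (hs : Algebra.FormallySmooth R (R ⊗[k] C)) :
    ∃ i, ∀ (j : ι) (φ : R' i →ₐ[k] R' j), φ ∈ Φ i j →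
      Algebra.FormallySmooth (R' j) (R' j ⊗[k] C) := by
  classical
  let P₀ := Algebra.Presentation.ofFinitePresentation k C
  obtain ⟨hh, p, q, hphom, hp, hqhom, hq⟩ := exists_data_of_formallySmooth (P₀.baseChange R)
  have h1 := h.mvPolynomial (Fin (Algebra.Presentation.ofFinitePresentationVars k C))
  have h2 := h1.mvPolynomial (Fin (Algebra.Presentation.ofFinitePresentationRels k C))
  obtain ⟨i₀⟩ := h.nonempty
  obtain ⟨i₁, -, hh', -, hhh'⟩ := h1.exists_lift_family i₀ hh
  obtain ⟨i₂, _, pq', ⟨_, ⟨φ, hφ, rfl⟩, rfl⟩, hpq'⟩ := h2.exists_lift_family i₁ (Sum.elim p q)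
  -- data at stage `i₂`
  let h₂ : Fin (Algebra.Presentation.ofFinitePresentationVars k C) →
      MvPolynomial (Fin (Algebra.Presentation.ofFinitePresentationVars k C)) (R' i₂) :=
    fun t => MvPolynomial.map (φ : R' i₁ →+* R' i₂) (hh' t)
  let p₂ := fun j => homogeneousComponent 2 (pq' (Sum.inl j))
  let q₂ := fun t => homogeneousComponent 1 (pq' (Sum.inr t))
  have hh₂ : ∀ t, MvPolynomial.map (ρ i₂ : R' i₂ →+* R) (h₂ t) = hh t := by
    intro t
    simp only [h₂, MvPolynomial.map_map]
    rw [← hhh' t]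
    have : ((ρ i₂ : R' i₂ →+* R).comp (φ : R' i₁ →+* R' i₂)) = (ρ i₁ : R' i₁ →+* R) := by
      rw [← h.compat hφ]
      rfl
    rw [this]
    rfl
  have hp₂ : ∀ j, MvPolynomial.map (MvPolynomial.map (ρ i₂ : R' i₂ →+* R)) (p₂ j) = p j := by
    intro j
    simp only [p₂]
    rw [map_homogeneousComponent]
    have := hpq' (Sum.inl j)
    simp only [Sum.elim_inl] at this
    rw [← homogeneousComponent_eq_self (hphom j), ← this]
    rfl
  have hq₂ : ∀ t, MvPolynomial.map (MvPolynomial.map (ρ i₂ : R' i₂ →+* R)) (q₂ t) = q t := by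
    intro t
    simp only [q₂]
    rw [map_homogeneousComponent]
    have := hpq' (Sum.inr t)
    simp only [Sum.elim_inr] at this
    rw [← homogeneousComponent_eq_self (hqhom t), ← this]
    rfl
  -- the error terms
  let E : Fin (Algebra.Presentation.ofFinitePresentationRels k C) ⊕
      Fin (Algebra.Presentation.ofFinitePresentationVars k C) →
      MvPolynomial (Fin (Algebra.Presentation.ofFinitePresentationVars k C)) (R' i₂) := Sum.elim
    (fun j => eval (P₀.baseChange (R' i₂)).relation (p₂ j) -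
      aeval h₂ ((P₀.baseChange (R' i₂)).relation j))
    (fun t => eval (P₀.baseChange (R' i₂)).relation (q₂ t) - (h₂ t - X t))
  have hE : ∀ s, MvPolynomial.mapAlgHom (ρ i₂) (E s) = 0 := by
    rintro (j | t)
    · change MvPolynomial.map (ρ i₂ : R' i₂ →+* R) (E (Sum.inl j)) = 0
      simp only [E, Sum.elim_inl, map_sub]
      rw [map_eval_baseChange_relation, map_aeval_baseChange_relation, hp₂]
      simp only [hh₂]
      rw [hp j, sub_self]
    · change MvPolynomial.map (ρ i₂ : R' i₂ →+* R) (E (Sum.inr t)) = 0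
      simp only [E, Sum.elim_inr, map_sub]
      rw [map_eval_baseChange_relation, hq₂, hh₂, hq t]
      simp
  obtain ⟨i₃, _, ⟨φ', hφ', rfl⟩, hE'⟩ := h1.exists_kill_family E hE
  refine ⟨i₃, fun j φ'' _ => formallySmooth_of_data_map P₀ φ''
    (fun t => MvPolynomial.map (φ' : R' i₂ →+* R' i₃) (h₂ t))
    (fun j => MvPolynomial.map (MvPolynomial.map (φ' : R' i₂ →+* R' i₃)) (p₂ j)) ?_ ?_
    (fun t => MvPolynomial.map (MvPolynomial.map (φ' : R' i₂ →+* R' i₃)) (q₂ t)) ?_ ?_⟩
  · intro j
    exact (homogeneousComponent_isHomogeneous 2 _).map _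
  · intro j
    have := hE' (Sum.inl j)
    change MvPolynomial.map (φ' : R' i₂ →+* R' i₃) (E (Sum.inl j)) = 0 at this
    simp only [E, Sum.elim_inl, map_sub] at this
    rw [map_eval_baseChange_relation, map_aeval_baseChange_relation] at this
    exact sub_eq_zero.mp this
  · intro t
    exact (homogeneousComponent_isHomogeneous 1 _).map _
  · intro t
    have := hE' (Sum.inr t)
    change MvPolynomial.map (φ' : R' i₂ →+* R' i₃) (E (Sum.inr t)) = 0 at this
    simp only [E, Sum.elim_inr, map_sub] at this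
    rw [map_eval_baseChange_relation] at this
    simp only [MvPolynomial.map_X] at this
    exact sub_eq_zero.mp this

/-- **Étaleness descends to a stage.** -/
theorem exists_stage_etale (h : IsColimSys k R' R ρ Φ) (C : Type u) [CommRing C]
    [Algebra k C] [Algebra.FinitePresentation k C]
    (he : Algebra.Etale R (R ⊗[k] C)) :
    ∃ i, Algebra.Etale (R' i) (R' i ⊗[k] C) := by
  obtain ⟨hu, hsm⟩ := Algebra.Etale.iff_formallyUnramified_and_smooth.mp he
  obtain ⟨i₁, h₁⟩ := h.exists_stage_forall_formallyUnramified C hu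
  obtain ⟨i₂, h₂⟩ := h.exists_stage_forall_formallySmooth C hsm.formallySmooth
  obtain ⟨j, φ₁, φ₂, hφ₁, hφ₂⟩ := h.directed i₁ i₂
  have hU := h₁ j φ₁ hφ₁
  have hS := h₂ j φ₂ hφ₂
  exact ⟨j, Algebra.Etale.iff_formallyUnramified_and_smooth.mpr ⟨hU, ⟨hS, inferInstance⟩⟩⟩

end IsColimSys

end Groth.Agent.Lib.Helper25
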