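import Mathlib
import Groth.Prelude.Def_HTop2
import Groth.Agent.S0415

set_option autoImplicit false
universe u

open CategoryTheory AlgebraicGeometry

namespace Groth.Agent.Lib.Helper25.AWN

/-- Ring-level universal homeomorphisms: integral, universally injective, surjective on spectra. -/
structure IsUH {A B : Type u} [CommRing A] [CommRing B] (φ : A →+* B) : Prop where
  isIntegral : φ.IsIntegral
  inj : ∀ (K : Type u) [Field K] (g₁ g₂ : B →+* K), g₁.comp φ = g₂.comp φ → g₁ = g₂
  surj : Function.Surjective (PrimeSpectrum.comap φ)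

section Criterion

variable {A B : Type u} [CommRing A] [CommRing B] (φ : A →+* B)

theorem isUnivHomeo_specMap_iff :
    FlatMor.IsUnivHomeo (Spec.map (CommRingCat.ofHom φ)) ↔ IsUH φ := by
  rw [Groth.Agent.S0415.result]
  constructor
  · rintro ⟨h1, h2, h3⟩
    refine ⟨IsIntegralHom.SpecMap_iff.mp h1, ?_, ?_⟩
    · intro K _ g₁ g₂ hg
      have hi := ((tfae_universallyInjective (Spec.map (CommRingCat.ofHom φ))).out 0 1).mp h2
      have h1 : Spec.map (CommRingCat.ofHom g₁) = Spec.map (CommRingCat.ofHom g₂) := by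
        apply hi K
        dsimp only
        rw [← Spec.map_comp, ← Spec.map_comp]
        congr 1
        ext x
        exact RingHom.congr_fun hg x
      have h2 := Spec.map_injective h1
      exact congrArg CommRingCat.Hom.hom h2
    · intro x
      obtain ⟨y, hy⟩ := h3.surj x
      exact ⟨y, hy⟩
  · rintro ⟨h1, h2, h3⟩
    refine ⟨IsIntegralHom.SpecMap_iff.mpr h1, ?_, ⟨fun x => ?_⟩⟩
    · apply ((tfae_universallyInjective (Spec.map (CommRingCat.ofHom φ))).out 0 1).mpr
      intro K _ g₁ g₂ hg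
      dsimp only at hg
      rw [← Spec.map_preimage g₁, ← Spec.map_preimage g₂] at hg ⊢
      rw [← Spec.map_comp, ← Spec.map_comp] at hg
      have h4 := Spec.map_injective hg
      have h5 : (Spec.preimage g₁).hom = (Spec.preimage g₂).hom := by
        apply h2 K
        ext a
        exact congr($h4 a)
      congr 1
      exact CommRingCat.hom_ext h5
    · obtain ⟨y, hy⟩ := h3 x
      exact ⟨y, hy⟩

end Criterion

section Helpers

/-- An integral ring map with nil kernel is surjective on spectra. -/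
theorem comap_surjective_of_isIntegral {A B : Type*} [CommRing A] [CommRing B] (φ : A →+* B)
    (hφ : φ.IsIntegral) (hker : ∀ a, φ a = 0 → IsNilpotent a) :
    Function.Surjective (PrimeSpectrum.comap φ) := by
  intro p
  letI := φ.toAlgebra
  haveI : Algebra.IsIntegral A B := ⟨hφ⟩
  obtain ⟨Q, -, hQ, hQ'⟩ := Ideal.exists_ideal_over_prime_of_isIntegral p.asIdeal (⊥ : Ideal B) (by
    intro a ha
    rw [Ideal.mem_comap, Ideal.mem_bot] at ha
    obtain ⟨n, hn⟩ := hker a ha
    exact p.2.mem_of_pow_mem n (hn ▸ p.asIdeal.zero_mem))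
  exact ⟨⟨Q, hQ⟩, PrimeSpectrum.ext hQ'⟩

/-- Ring maps into algebraically closed fields extend along integral maps. -/
theorem exists_extension_of_isIntegral {A C Ω : Type*} [CommRing A] [CommRing C] [Field Ω]
    [IsAlgClosed Ω] (ψ : A →+* C) (hψ : ψ.IsIntegral) (θ : A →+* Ω) (q : Ideal C) [q.IsPrime]
    (hq : q.comap ψ = RingHom.ker θ) : ∃ χ : C →+* Ω, χ.comp ψ = θ := by
  let f : A ⧸ q.comap ψ →+* C ⧸ q := Ideal.quotientMap q ψ le_rfl
  have hf_inj : Function.Injective f := Ideal.quotientMap_injective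
  let θ' : A ⧸ q.comap ψ →+* Ω := Ideal.Quotient.lift (q.comap ψ) θ (fun a ha => by
    rw [hq] at ha; exact ha)
  have hθ'_inj : Function.Injective θ' := by
    rw [injective_iff_map_eq_zero]
    intro x hx
    obtain ⟨a, rfl⟩ := Ideal.Quotient.mk_surjective x
    have hx' : θ a = 0 := hx
    rw [Ideal.Quotient.eq_zero_iff_mem, hq]
    exact hx'
  letI : Algebra (A ⧸ q.comap ψ) (C ⧸ q) := f.toAlgebra
  letI : Algebra (A ⧸ q.comap ψ) Ω := θ'.toAlgebra
  haveI : Module.IsTorsionFree (A ⧸ q.comap ψ) (C ⧸ q) :=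
    Module.isTorsionFree_iff_algebraMap_injective.mpr hf_inj
  haveI : Module.IsTorsionFree (A ⧸ q.comap ψ) Ω :=
    Module.isTorsionFree_iff_algebraMap_injective.mpr hθ'_inj
  haveI : Algebra.IsIntegral (A ⧸ q.comap ψ) (C ⧸ q) := ⟨RingHom.IsIntegral.quotient ψ hψ⟩
  let g : C ⧸ q →ₐ[A ⧸ q.comap ψ] Ω := IsAlgClosed.lift
  refine ⟨g.toRingHom.comp (Ideal.Quotient.mk q), ?_⟩
  ext a
  have h1 : Ideal.Quotient.mk q (ψ a) = algebraMap (A ⧸ q.comap ψ) (C ⧸ q)
      (Ideal.Quotient.mk _ a) := rfl
  simp only [RingHom.coe_comp, Function.comp_apply, AlgHom.toRingHom_eq_coe, RingHom.coe_coe]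
  rw [h1, g.commutes]
  rfl

end Helpers

section Construction

variable (A : Type u) [CommRing A]

/-- The algebraically closed field attached to a prime. -/
abbrev Om (p : PrimeSpectrum A) : Type u := AlgebraicClosure p.asIdeal.ResidueField

/-- The ambient product of algebraically closed fields. -/
abbrev Amb : Type u := ∀ p : PrimeSpectrum A, Om A p

/-- The map to the factor at `p`. -/
noncomputable def ιp (p : PrimeSpectrum A) : A →+* Om A p :=
  (algebraMap p.asIdeal.ResidueField (Om A p)).comp (algebraMap A p.asIdeal.ResidueField)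

/-- The diagonal map. -/
noncomputable def ι : A →+* Amb A := RingHom.pi (ιp A)

lemma ker_ιp (p : PrimeSpectrum A) : RingHom.ker (ιp A p) = p.asIdeal := by
  ext a
  rw [RingHom.mem_ker, ιp, RingHom.comp_apply, map_eq_zero_iff _ (RingHom.injective _),
    Ideal.algebraMap_residueField_eq_zero]

lemma isNilpotent_of_ι_eq_zero {a : A} (h : ι A a = 0) : IsNilpotent a := by
  rw [nilpotent_iff_mem_prime]
  intro J hJ
  have h1 : ιp A ⟨J, hJ⟩ a = 0 := congrFun h ⟨J, hJ⟩
  have h2 : a ∈ RingHom.ker (ιp A ⟨J, hJ⟩) := h1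
  rw [ker_ιp] at h2
  exact h2

variable {A}

lemma isIntegralElem_codRestrict_iff (C : Subring (Amb A)) (h : ∀ a, ι A a ∈ C) (c : C) :
    ((ι A).codRestrict C h).IsIntegralElem c ↔ (ι A).IsIntegralElem (c : Amb A) := by
  have hcomp : C.subtype.comp ((ι A).codRestrict C h) = ι A := RingHom.ext fun _ => rfl
  have key : ∀ p : Polynomial A, ((Polynomial.eval₂ ((ι A).codRestrict C h) c p : C) : Amb A) =
      Polynomial.eval₂ (ι A) (c : Amb A) p := by
    intro p
    have := Polynomial.hom_eval₂ p ((ι A).codRestrict C h) C.subtype c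
    rw [hcomp] at this
    exact this
  constructor
  · rintro ⟨p, hp, hp0⟩
    exact ⟨p, hp, by rw [← key, hp0]; rfl⟩
  · rintro ⟨p, hp, hp0⟩
    exact ⟨p, hp, Subtype.ext (by rw [key, hp0]; rfl)⟩

/-- Criterion for a subring of the ambient product to be a universal homeomorphism over `A`. -/
lemma isUH_codRestrict (C : Subring (Amb A)) (h : ∀ a, ι A a ∈ C)
    (hint : ∀ c ∈ C, (ι A).IsIntegralElem c)
    (hinj : ∀ (K : Type u) [Field K] (g₁ g₂ : C →+* K),
      (∀ a, g₁ ⟨ι A a, h a⟩ = g₂ ⟨ι A a, h a⟩) → g₁ = g₂) :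
    IsUH ((ι A).codRestrict C h) := by
  have hi : ((ι A).codRestrict C h).IsIntegral := fun c =>
    (isIntegralElem_codRestrict_iff C h c).mpr (hint c c.2)
  refine ⟨hi, ?_, ?_⟩
  · intro K _ g₁ g₂ hg
    exact hinj K g₁ g₂ fun a => RingHom.congr_fun hg a
  · apply comap_surjective_of_isIntegral _ hi
    intro a ha
    exact isNilpotent_of_ι_eq_zero A (congrArg Subtype.val ha)

variable (A)

/-- The family of subrings of the ambient product that are universal homeomorphisms over `A`. -/
noncomputable def fam : Set (Subring (Amb A)) :=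
  {C | ∃ h : ∀ a, ι A a ∈ C, IsUH ((ι A).codRestrict C h)}

/-- The absolute weak normalization, as a subring of the ambient product. -/
noncomputable def W : Subring (Amb A) := sSup (fam A)

lemma range_mem_fam : (ι A).range ∈ fam A := by
  refine ⟨fun a => ⟨a, rfl⟩, isUH_codRestrict _ _ ?_ ?_⟩
  · rintro _ ⟨a, rfl⟩
    exact (ι A).isIntegralElem_map
  · intro K _ g₁ g₂ hg
    ext ⟨_, a, rfl⟩
    exact hg a

lemma ι_mem_W (a : A) : ι A a ∈ W A :=
  (le_sSup (range_mem_fam A) : (ι A).range ≤ W A) ⟨a, rfl⟩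

/-- The structure map of the absolute weak normalization. -/
noncomputable def φ : A →+* W A := (ι A).codRestrict (W A) (ι_mem_W A)

lemma isUH_φ : IsUH (φ A) := by
  refine isUH_codRestrict _ _ ?_ ?_
  · -- integrality
    letI := (ι A).toAlgebra
    have hle : W A ≤ (integralClosure A (Amb A)).toSubring := by
      apply sSup_le
      rintro C ⟨h, hC⟩ c hc
      exact (isIntegralElem_codRestrict_iff C h ⟨c, hc⟩).mp (hC.isIntegral ⟨c, hc⟩)
    intro c hc
    exact hle hc
  · intro K _ g₁ g₂ hg
    let E : Subring (Amb A) := (RingHom.eqLocus g₁ g₂).map (W A).subtype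
    have hle : W A ≤ E := by
      apply sSup_le
      rintro C ⟨h, hC⟩ c hc
      have hCW : C ≤ W A := le_sSup ⟨h, hC⟩
      have := hC.inj K (g₁.comp (Subring.inclusion hCW)) (g₂.comp (Subring.inclusion hCW))
        (RingHom.ext fun a => hg a)
      exact ⟨⟨c, hCW hc⟩, RingHom.congr_fun this ⟨c, hc⟩, rfl⟩
    ext w
    obtain ⟨w', hw', hww'⟩ := hle w.2
    have : w' = w := Subtype.ext hww'
    rw [← this]
    exact hw'

/-- The universal property: every universal homeomorphism out of `A` maps uniquely to `W A`. -/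
theorem existsUnique_of_isUH {C : Type u} [CommRing C] (ψ : A →+* C) (hψ : IsUH ψ) :
    ∃! χ : C →+* W A, χ.comp ψ = φ A := by
  -- componentwise extensions
  have hex : ∀ p : PrimeSpectrum A, ∃ χp : C →+* Om A p, χp.comp ψ = ιp A p := by
    intro p
    obtain ⟨q, hq⟩ := hψ.surj p
    have hq' : q.asIdeal.comap ψ = RingHom.ker (ιp A p) := by
      rw [ker_ιp]
      exact congrArg PrimeSpectrum.asIdeal hq
    exact exists_extension_of_isIntegral ψ hψ.isIntegral (ιp A p) q.asIdeal hq'
  choose χp hχp using hex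
  let χ₀ : C →+* Amb A := RingHom.pi χp
  have hχ₀ : ∀ a, χ₀ (ψ a) = ι A a := by
    intro a
    funext p
    exact RingHom.congr_fun (hχp p) a
  -- the image lies in the family
  have hmem : χ₀.range ∈ fam A := by
    have h : ∀ a, ι A a ∈ χ₀.range := fun a => ⟨ψ a, hχ₀ a⟩
    refine ⟨h, isUH_codRestrict _ h ?_ ?_⟩
    · rintro _ ⟨c, rfl⟩
      obtain ⟨P, hP, hP0⟩ := hψ.isIntegral c
      refine ⟨P, hP, ?_⟩
      have := Polynomial.hom_eval₂ P ψ χ₀ c
      rw [hP0, map_zero] at this
      rw [this]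
      congr 1
      exact RingHom.ext fun a => (hχ₀ a).symm
    · intro K _ g₁ g₂ hg
      have := hψ.inj K (g₁.comp χ₀.rangeRestrict) (g₂.comp χ₀.rangeRestrict) (by
        ext a
        simp only [RingHom.coe_comp, Function.comp_apply]
        have h1 : χ₀.rangeRestrict (ψ a) = ⟨ι A a, h a⟩ := Subtype.ext (hχ₀ a)
        rw [h1]
        exact hg a)
      ext ⟨_, c, rfl⟩
      exact RingHom.congr_fun this c
  have hle : χ₀.range ≤ W A := le_sSup hmem
  refine ⟨χ₀.codRestrict (W A) (fun c => hle ⟨c, rfl⟩), ?_, ?_⟩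
  · exact RingHom.ext fun a => Subtype.ext (hχ₀ a)
  · intro χ' hχ'
    refine RingHom.ext fun c => Subtype.ext (funext fun p => ?_)
    have := hψ.inj (Om A p) ((Pi.evalRingHom _ p).comp ((W A).subtype.comp χ'))
      (χp p) (by
        ext a
        simp only [RingHom.coe_comp, Function.comp_apply]
        have h1 : χ' (ψ a) = φ A a := RingHom.congr_fun hχ' a
        rw [h1]
        exact (RingHom.congr_fun (hχp p) a).symm)
    exact RingHom.congr_fun this c

/-- Stacks 0EUS (ring level): the absolute weak normalization exists. -/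
theorem isRingAWN_φ : HTop.IsRingAWN (φ A) := by
  refine ⟨(isUnivHomeo_specMap_iff _).mpr (isUH_φ A), ?_⟩
  intro C _ ψ hψ
  exact existsUnique_of_isUH A ψ ((isUnivHomeo_specMap_iff ψ).mp hψ)

end Construction

end Groth.Agent.Lib.Helper25.AWN
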