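import Mathlib
import Groth.Prelude.Def_HTop2
import Groth.Agent.Lib.Helper25.AWN
import Groth.Agent.Lib.Helper69.UHRing

set_option autoImplicit false
universe u

open CategoryTheory AlgebraicGeometry Polynomial

namespace Groth.Agent.Lib.Helper25.AWN

section Calculus

variable {A B C : Type u} [CommRing A] [CommRing B] [CommRing C]

theorem IsUH.comap_injective {φ : A →+* B} (h : IsUH φ) :
    Function.Injective (PrimeSpectrum.comap φ) :=
  (Groth.Agent.Lib.Helper69.UHRing.of_isUnivHomeo φ ((isUnivHomeo_specMap_iff φ).mpr h)).2.1.1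

theorem IsUH.comp {φ : A →+* B} {ψ : B →+* C} (hφ : IsUH φ) (hψ : IsUH ψ) :
    IsUH (ψ.comp φ) where
  isIntegral := RingHom.IsIntegral.trans _ _ hφ.isIntegral hψ.isIntegral
  inj K _ g₁ g₂ h := hψ.inj K g₁ g₂ (hφ.inj K _ _ (by
    rwa [RingHom.comp_assoc, RingHom.comp_assoc]))
  surj p := by
    obtain ⟨q, rfl⟩ := hφ.surj p
    obtain ⟨r, rfl⟩ := hψ.surj q
    exact ⟨r, rfl⟩

theorem IsUH.of_comp {φ : A →+* B} {ψ : B →+* C} (hφ : IsUH φ) (h : IsUH (ψ.comp φ)) :
    IsUH ψ where
  isIntegral := RingHom.IsIntegral.tower_top φ ψ h.isIntegral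
  inj K _ g₁ g₂ hg := h.inj K g₁ g₂ (by rw [← RingHom.comp_assoc, hg, RingHom.comp_assoc])
  surj q := by
    obtain ⟨r, hr⟩ := h.surj (PrimeSpectrum.comap φ q)
    exact ⟨r, hφ.comap_injective hr⟩

theorem IsUH.of_bijective {φ : A →+* B} (h : Function.Bijective φ) : IsUH φ := by
  have hi : φ.IsIntegral := RingHom.isIntegral_of_surjective φ h.2
  refine ⟨hi, ?_, ?_⟩
  · intro K _ g₁ g₂ hg
    exact (RingHom.cancel_right h.2).mp hg
  · apply comap_surjective_of_isIntegral φ hi
    intro a ha
    have : a = 0 := h.1 (by rw [ha, map_zero])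
    rw [this]
    exact IsNilpotent.zero

/-- Maps out of a universal homeomorphism into a reduced ring are determined on the base. -/
theorem IsUH.hom_ext_of_isReduced {R : Type u} [CommRing R] [IsReduced R] {ψ : A →+* C}
    (hψ : IsUH ψ) (χ₁ χ₂ : C →+* R) (h : χ₁.comp ψ = χ₂.comp ψ) : χ₁ = χ₂ := by
  ext c
  rw [← sub_eq_zero]
  apply IsReduced.eq_zero
  rw [nilpotent_iff_mem_prime]
  intro J hJ
  have := hψ.inj (FractionRing (R ⧸ J))
    (((algebraMap (R ⧸ J) (FractionRing (R ⧸ J))).comp (Ideal.Quotient.mk J)).comp χ₁)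
    (((algebraMap (R ⧸ J) (FractionRing (R ⧸ J))).comp (Ideal.Quotient.mk J)).comp χ₂)
    (by
      ext a
      simp only [RingHom.coe_comp, Function.comp_apply]
      have := RingHom.congr_fun h a
      simp only [RingHom.coe_comp, Function.comp_apply] at this
      rw [this])
  have h2 := RingHom.congr_fun this c
  simp only [RingHom.coe_comp, Function.comp_apply] at h2
  have h3 := IsFractionRing.injective (R ⧸ J) (FractionRing (R ⧸ J)) h2
  rw [← Ideal.Quotient.eq_zero_iff_mem, map_sub, h3, sub_self]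

end Calculus

section Quotient

variable {R : Type u} [CommRing R]

lemma eval₂_mk_X (I : Ideal R[X]) (P : R[X]) :
    eval₂ (algebraMap R (R[X] ⧸ I)) (Ideal.Quotient.mk I X) P = Ideal.Quotient.mk I P := by
  have := Polynomial.hom_eval₂ P (C : R →+* R[X]) (Ideal.Quotient.mk I) X
  rw [Polynomial.eval₂_C_X] at this
  rw [this]
  rfl

/-- Criterion for `R → R[X]/(S)` to be a universal homeomorphism. -/
theorem isUH_quotient_span (S : Set R[X])
    (hint : IsIntegral R (Ideal.Quotient.mk (Ideal.span S) X))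
    (hdet : ∀ (K : Type u) [Field K] (θ : R →+* K) (a b : K), (∀ P ∈ S, P.eval₂ θ a = 0) →
      (∀ P ∈ S, P.eval₂ θ b = 0) → a = b)
    (hex : ∀ (K : Type u) [Field K] [IsAlgClosed K] (θ : R →+* K),
      ∃ a : K, ∀ P ∈ S, P.eval₂ θ a = 0) :
    IsUH (algebraMap R (R[X] ⧸ Ideal.span S)) := by
  set I := Ideal.span S with hI
  set t : R[X] ⧸ I := Ideal.Quotient.mk I X with ht
  refine ⟨?_, ?_, ?_⟩
  · intro c
    obtain ⟨P, rfl⟩ := Ideal.Quotient.mk_surjective c
    have h1 : Algebra.adjoin R {t} ≤ integralClosure R (R[X] ⧸ I) :=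
      Algebra.adjoin_le (by
        intro z hz
        rw [Set.mem_singleton_iff] at hz
        rw [hz]
        exact hint)
    have h2 : Ideal.Quotient.mk I P ∈ Algebra.adjoin R {t} := by
      rw [← eval₂_mk_X]
      exact Polynomial.aeval_mem_adjoin_singleton R t
    exact h1 h2
  · intro K _ g₁ g₂ hg
    have key : ∀ (g : (R[X] ⧸ I) →+* K), ∀ P ∈ S,
        P.eval₂ (g.comp (algebraMap R (R[X] ⧸ I))) (g t) = 0 := by
      intro g P hP
      rw [← Polynomial.hom_eval₂, eval₂_mk_X, Ideal.Quotient.eq_zero_iff_mem.mpr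
        (Ideal.subset_span hP), map_zero]
    have hab : g₁ t = g₂ t := by
      apply hdet K (g₁.comp (algebraMap R (R[X] ⧸ I)))
      · exact key g₁
      · rw [hg]; exact key g₂
    apply Ideal.Quotient.ringHom_ext
    apply Polynomial.ringHom_ext
    · intro a
      exact RingHom.congr_fun hg a
    · exact hab
  · intro p
    let K := AlgebraicClosure p.asIdeal.ResidueField
    let θ : R →+* K := (algebraMap p.asIdeal.ResidueField K).comp
      (algebraMap R p.asIdeal.ResidueField)
    have hker : RingHom.ker θ = p.asIdeal := by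
      ext a
      rw [RingHom.mem_ker, RingHom.comp_apply, map_eq_zero_iff _ (RingHom.injective _),
        Ideal.algebraMap_residueField_eq_zero]
    obtain ⟨a, ha⟩ := hex K θ
    let χ : (R[X] ⧸ I) →+* K := Ideal.Quotient.lift I (eval₂RingHom θ a) (by
      intro P hP
      have : I ≤ RingHom.ker (eval₂RingHom θ a) := by
        rw [hI, Ideal.span_le]
        intro Q hQ
        exact ha Q hQ
      exact this hP)
    refine ⟨⟨RingHom.ker χ, RingHom.ker_isPrime χ⟩, ?_⟩
    apply PrimeSpectrum.ext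
    change (RingHom.ker χ).comap (algebraMap R (R[X] ⧸ I)) = p.asIdeal
    have h1 : (RingHom.ker χ).comap (algebraMap R (R[X] ⧸ I)) = RingHom.ker θ := by
      rw [RingHom.comap_ker]
      congr 1
      ext r
      change eval₂ θ a (C r) = θ r
      rw [eval₂_C]
    rw [h1, hker]

end Quotient

section Elementary

variable {R : Type u} [CommRing R]

/-- Stacks 0CNB part: adjoining `t` with `t² = x`, `t³ = y` is a universal homeomorphism. -/
theorem isUH_sqCube (x y : R) (h : x ^ 3 = y ^ 2) :
    IsUH (algebraMap R (R[X] ⧸ Ideal.span ({X ^ 2 - C x, X ^ 3 - C y} : Set R[X]))) := by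
  apply isUH_quotient_span
  · refine ⟨X ^ 2 - C x, monic_X_pow_sub_C x two_ne_zero, ?_⟩
    rw [eval₂_mk_X]
    exact Ideal.Quotient.eq_zero_iff_mem.mpr (Ideal.subset_span (by simp))
  · intro K _ θ a b ha hb
    have ha2 : a ^ 2 = θ x := by
      have := ha (X ^ 2 - C x) (by simp)
      simpa [sub_eq_zero] using this
    have ha3 : a ^ 3 = θ y := by
      have := ha (X ^ 3 - C y) (by simp)
      simpa [sub_eq_zero] using this
    have hb2 : b ^ 2 = θ x := by
      have := hb (X ^ 2 - C x) (by simp)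
      simpa [sub_eq_zero] using this
    have hb3 : b ^ 3 = θ y := by
      have := hb (X ^ 3 - C y) (by simp)
      simpa [sub_eq_zero] using this
    by_cases hx : θ x = 0
    · have h1 : a = 0 := by
        rw [hx] at ha2
        exact pow_eq_zero_iff two_ne_zero |>.mp ha2
      have h2 : b = 0 := by
        rw [hx] at hb2
        exact pow_eq_zero_iff two_ne_zero |>.mp hb2
      rw [h1, h2]
    · have h1 : a * θ x = θ y := by rw [← ha2, ← ha3]; ring
      have h2 : b * θ x = θ y := by rw [← hb2, ← hb3]; ring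
      exact mul_right_cancel₀ hx (h1.trans h2.symm)
  · intro K _ _ θ
    have hθ : θ x ^ 3 = θ y ^ 2 := by rw [← map_pow, ← map_pow, h]
    by_cases hx : θ x = 0
    · have hy : θ y = 0 := by
        rw [hx] at hθ
        have : θ y ^ 2 = 0 := by rw [← hθ]; simp
        exact pow_eq_zero_iff two_ne_zero |>.mp this
      refine ⟨0, ?_⟩
      intro P hP
      rcases hP with rfl | rfl
      · simp [hx]
      · simp [hy]
    · refine ⟨θ y / θ x, ?_⟩
      intro P hP
      rcases hP with rfl | rfl
      · simp only [eval₂_sub, eval₂_X_pow, eval₂_C, sub_eq_zero]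
        field_simp
        rw [← hθ]
      · simp only [eval₂_sub, eval₂_X_pow, eval₂_C, sub_eq_zero]
        field_simp
        rw [hθ]
        ring

/-- Stacks 0CNC part: adjoining `t` with `t^p = x`, `p t = y` is a universal homeomorphism. -/
theorem isUH_primeElem (p : ℕ) (hp : p.Prime) (x y : R) (h : (p : R) ^ p * x = y ^ p) :
    IsUH (algebraMap R (R[X] ⧸ Ideal.span ({X ^ p - C x, C (p : R) * X - C y} : Set R[X]))) := by
  apply isUH_quotient_span
  · refine ⟨X ^ p - C x, monic_X_pow_sub_C x hp.ne_zero, ?_⟩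
    rw [eval₂_mk_X]
    exact Ideal.Quotient.eq_zero_iff_mem.mpr (Ideal.subset_span (by simp))
  · intro K _ θ a b ha hb
    have ha2 : a ^ p = θ x := by
      have := ha (X ^ p - C x) (by simp)
      simpa [sub_eq_zero] using this
    have ha3 : (p : K) * a = θ y := by
      have := ha (C (p : R) * X - C y) (by simp)
      simpa [sub_eq_zero] using this
    have hb2 : b ^ p = θ x := by
      have := hb (X ^ p - C x) (by simp)
      simpa [sub_eq_zero] using this
    have hb3 : (p : K) * b = θ y := by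
      have := hb (C (p : R) * X - C y) (by simp)
      simpa [sub_eq_zero] using this
    by_cases hpK : (p : K) = 0
    · obtain ⟨r, hr⟩ := exists_add_pow_prime_eq hp b (a - b)
      rw [add_sub_cancel, ha2, hb2, hpK] at hr
      have h1 : (a - b) ^ p = 0 := by
        have : θ x = θ x + (a - b) ^ p := by simpa using hr
        exact (left_eq_add.mp this)
      exact sub_eq_zero.mp (pow_eq_zero_iff hp.ne_zero |>.mp h1)
    · exact mul_left_cancel₀ hpK (ha3.trans hb3.symm)
  · intro K _ _ θ
    have hθ : (p : K) ^ p * θ x = θ y ^ p := by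
      rw [← map_pow, ← h, map_mul, map_pow, map_natCast]
    by_cases hpK : (p : K) = 0
    · have hy : θ y = 0 := by
        rw [hpK, zero_pow hp.ne_zero, zero_mul] at hθ
        exact pow_eq_zero_iff hp.ne_zero |>.mp hθ.symm
      obtain ⟨a, ha⟩ := IsAlgClosed.exists_pow_nat_eq (θ x) hp.pos
      refine ⟨a, ?_⟩
      intro P hP
      rcases hP with rfl | rfl
      · simp [ha]
      · simp [hy, hpK]
    · refine ⟨θ y / p, ?_⟩
      intro P hP
      rcases hP with rfl | rfl
      · simp only [eval₂_sub, eval₂_X_pow, eval₂_C, sub_eq_zero]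
        rw [div_pow, ← hθ]
        field_simp
      · simp only [eval₂_sub, eval₂_mul, eval₂_X, eval₂_C, sub_eq_zero, map_natCast,
          eval₂_natCast]
        field_simp

end Elementary

section AWNRing

variable {A W : Type u} [CommRing A] [CommRing W]

/-- Universal homeomorphisms out of an absolute weak normalization have a unique retraction. -/
theorem exists_retraction (φ : A →+* W) (hφ : HTop.IsRingAWN φ) {C : Type u} [CommRing C]
    (j : W →+* C) (hj : IsUH j) :
    ∃ χ : C →+* W, χ.comp j = RingHom.id W ∧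
      ∀ χ' : C →+* W, χ'.comp j = RingHom.id W → χ' = χ := by
  have hφU : IsUH φ := (isUnivHomeo_specMap_iff φ).mp hφ.1
  obtain ⟨χ, hχ, huniq⟩ := hφ.2 C (j.comp φ) ((isUnivHomeo_specMap_iff _).mpr (hφU.comp hj))
  obtain ⟨e, he, heuniq⟩ := hφ.2 W φ hφ.1
  refine ⟨χ, ?_, ?_⟩
  · have h1 : (χ.comp j).comp φ = φ := by rw [RingHom.comp_assoc]; exact hχ
    have h2 : (RingHom.id W).comp φ = φ := RingHom.id_comp φ
    rw [heuniq _ h1, heuniq _ h2]
  · intro χ' hχ'
    apply huniq
    rw [← RingHom.comp_assoc, hχ', RingHom.id_comp]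

/-- Roots in `W` of the generators give retractions of `W → W[X]/(S)`. -/
lemma lift_comp_algebraMap (S : Set W[X]) (b : W) (hb : ∀ P ∈ S, P.eval₂ (RingHom.id W) b = 0) :
    ∃ χb : (W[X] ⧸ Ideal.span S) →+* W, χb.comp (algebraMap W (W[X] ⧸ Ideal.span S)) =
      RingHom.id W ∧ χb (Ideal.Quotient.mk _ X) = b := by
  refine ⟨Ideal.Quotient.lift (Ideal.span S) (eval₂RingHom (RingHom.id W) b) ?_, ?_, ?_⟩
  · intro P hP
    have : Ideal.span S ≤ RingHom.ker (eval₂RingHom (RingHom.id W) b) := by
      rw [Ideal.span_le]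
      intro Q hQ
      exact hb Q hQ
    exact this hP
  · ext w
    change eval₂ (RingHom.id W) b (C w) = w
    rw [eval₂_C]
    rfl
  · change eval₂ (RingHom.id W) b X = b
    rw [eval₂_X]

lemma mk_eq_algebraMap_of_sub_mem (S : Set W[X]) (P : W[X]) (w : W) (h : P - C w ∈ S) :
    Ideal.Quotient.mk (Ideal.span S) P = algebraMap W (W[X] ⧸ Ideal.span S) w := by
  have := Ideal.Quotient.eq_zero_iff_mem.mpr (Ideal.subset_span h)
  rw [map_sub, sub_eq_zero] at this
  exact this

/-- The target of an absolute weak normalization is an absolutely weakly normal ring. -/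
theorem isAWNRing_of_isRingAWN (φ : A →+* W) (hφ : HTop.IsRingAWN φ) : HTop.IsAWNRing W := by
  refine ⟨?_, ?_⟩
  · intro x y hxy
    obtain ⟨χ, hχ, huniq⟩ := exists_retraction φ hφ _ (isUH_sqCube x y hxy)
    have hχ' : ∀ w, χ (algebraMap W _ w) = w := fun w => RingHom.congr_fun hχ w
    refine ⟨χ (Ideal.Quotient.mk _ X), ⟨?_, ?_⟩, ?_⟩
    · rw [← map_pow, ← map_pow, mk_eq_algebraMap_of_sub_mem _ (X ^ 2) x (by simp), hχ']
    · rw [← map_pow, ← map_pow, mk_eq_algebraMap_of_sub_mem _ (X ^ 3) y (by simp), hχ']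
    · rintro b ⟨hb2, hb3⟩
      obtain ⟨χb, h1, h2⟩ := lift_comp_algebraMap ({X ^ 2 - C x, X ^ 3 - C y} : Set W[X]) b (by
        rintro Q (rfl | rfl)
        · simp [hb2]
        · simp [hb3])
      rw [← h2, huniq χb h1]
  · intro p hp x y hxy
    obtain ⟨χ, hχ, huniq⟩ := exists_retraction φ hφ _ (isUH_primeElem p hp x y hxy)
    have hχ' : ∀ w, χ (algebraMap W _ w) = w := fun w => RingHom.congr_fun hχ w
    refine ⟨χ (Ideal.Quotient.mk _ X), ⟨?_, ?_⟩, ?_⟩
    · rw [← map_pow, ← map_pow, mk_eq_algebraMap_of_sub_mem _ (X ^ p) x (by simp), hχ']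
    · have h1 : (p : W) * χ (Ideal.Quotient.mk _ X) =
          χ (Ideal.Quotient.mk (Ideal.span ({X ^ p - C x, C (p : W) * X - C y} : Set W[X]))
            (C (p : W) * X)) := by
        rw [map_mul, map_mul]
        congr 1
        have : Ideal.Quotient.mk (Ideal.span ({X ^ p - C x, C (p : W) * X - C y} : Set W[X]))
            (C (p : W)) = algebraMap W _ (p : W) := rfl
        rw [this, hχ']
      rw [h1, mk_eq_algebraMap_of_sub_mem _ (C (p : W) * X) y (by simp), hχ']
    · rintro b ⟨hb2, hb3⟩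
      obtain ⟨χb, h1, h2⟩ := lift_comp_algebraMap
        ({X ^ p - C x, C (p : W) * X - C y} : Set W[X]) b (by
        rintro Q (rfl | rfl)
        · simp [hb2]
        · simp [hb3])
      rw [← h2, huniq χb h1]

/-- Absolute weak normality transfers along ring isomorphisms. -/
theorem isAWNRing_of_ringEquiv {B B' : Type u} [CommRing B] [CommRing B'] (e : B ≃+* B')
    (h : HTop.IsAWNRing B) : HTop.IsAWNRing B' := by
  refine ⟨?_, ?_⟩
  · intro x y hxy
    obtain ⟨a, ⟨ha2, ha3⟩, hau⟩ := h.1 (e.symm x) (e.symm y) (by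
      rw [← map_pow, ← map_pow, hxy])
    refine ⟨e a, ⟨?_, ?_⟩, ?_⟩
    · rw [← map_pow, ← ha2, e.apply_symm_apply]
    · rw [← map_pow, ← ha3, e.apply_symm_apply]
    · rintro b ⟨hb2, hb3⟩
      rw [← hau (e.symm b) ⟨by rw [← map_pow, ← hb2], by rw [← map_pow, ← hb3]⟩,
        e.apply_symm_apply]
  · intro p hp x y hxy
    obtain ⟨a, ⟨ha2, ha3⟩, hau⟩ := h.2 p hp (e.symm x) (e.symm y) (by
      rw [← map_pow, ← hxy, map_mul, map_pow, map_natCast])
    refine ⟨e a, ⟨?_, ?_⟩, ?_⟩
    · rw [← map_pow, ← ha2, e.apply_symm_apply]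
    · have := congrArg e ha3
      rw [e.apply_symm_apply, map_mul, map_natCast] at this
      exact this
    · rintro b ⟨hb2, hb3⟩
      rw [← hau (e.symm b) ⟨by rw [← map_pow, ← hb2], by
        rw [hb3, map_mul, map_natCast]⟩, e.apply_symm_apply]

end AWNRing

end Groth.Agent.Lib.Helper25.AWN
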