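import Mathlib
import Groth.Prelude.Def_HTop2
import Groth.Agent.Lib.Helper25.AWN2
import Groth.Agent.S7399

set_option autoImplicit false
set_option linter.style.haveILetI false
universe u

open CategoryTheory AlgebraicGeometry Polynomial

namespace Groth.Agent.Lib.Helper25.AWN

section KL

variable {B B' : Type u} [CommRing B] [CommRing B']

theorem isReduced_of_isAWNRing (hB : HTop.IsAWNRing B) : IsReduced B :=
  Groth.Agent.Lib.Helper69.SemiNormalDescent.isReduced_of_isSeminormalRing hB.1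

theorem IsUH.injective_of_isReduced [IsReduced B] {χ : B →+* B'} (hχ : IsUH χ) :
    Function.Injective χ := by
  rw [injective_iff_map_eq_zero]
  intro x hx
  apply IsReduced.eq_zero
  rw [nilpotent_iff_mem_prime]
  intro J hJ
  obtain ⟨q, hq⟩ := hχ.surj ⟨J, hJ⟩
  have hq' : q.asIdeal.comap χ = J := congrArg PrimeSpectrum.asIdeal hq
  rw [← hq']
  change χ x ∈ q.asIdeal
  rw [hx]
  exact q.asIdeal.zero_mem

theorem mem_range_of_sq_cube [IsReduced B'] (χ : B →+* B') (hinj : Function.Injective χ)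
    (hB : HTop.IsSeminormalRing B) (b : B') (h2 : b ^ 2 ∈ χ.range) (h3 : b ^ 3 ∈ χ.range) :
    b ∈ χ.range := by
  obtain ⟨x, hx⟩ := h2
  obtain ⟨y, hy⟩ := h3
  have hxy : x ^ 3 = y ^ 2 := hinj (by rw [map_pow, map_pow, hx, hy]; ring)
  obtain ⟨a, ⟨ha2, ha3⟩, -⟩ := hB x y hxy
  refine ⟨a, ?_⟩
  have hu2 : χ a ^ 2 = b ^ 2 := by rw [← map_pow, ← ha2, hx]
  have hu3 : χ a ^ 3 = b ^ 3 := by rw [← map_pow, ← ha3, hy]
  have h0 : (χ a - b) ^ 3 = 0 := by
    linear_combination 4 * hu3 - (3 * b + 3 * χ a) * hu2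
  exact sub_eq_zero.mp (pow_eq_zero_iff (three_ne_zero) |>.mp h0)

theorem mem_range_of_prime [IsReduced B'] (χ : B →+* B') (hinj : Function.Injective χ)
    (hB : HTop.IsAWNRing B) (p : ℕ) (hp : p.Prime) (b : B') (h2 : (p : B') * b ∈ χ.range)
    (h3 : b ^ p ∈ χ.range) : b ∈ χ.range := by
  obtain ⟨y, hy⟩ := h2
  obtain ⟨x, hx⟩ := h3
  have hxy : (p : B) ^ p * x = y ^ p := hinj (by
    rw [map_mul, map_pow, map_pow, map_natCast, hx, hy]; ring)
  obtain ⟨a, ⟨ha2, ha3⟩, -⟩ := hB.2 p hp x y hxy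
  refine ⟨a, ?_⟩
  have hu2 : χ a ^ p = b ^ p := by rw [← map_pow, ← ha2, hx]
  have hu3 : (p : B') * χ a = (p : B') * b := by
    rw [← hy, ha3, map_mul, map_natCast]
  have hd : (p : B') * (χ a - b) = 0 := by rw [mul_sub, hu3, sub_self]
  obtain ⟨r, hr⟩ := exists_add_pow_prime_eq hp b (χ a - b)
  rw [add_sub_cancel, hu2] at hr
  have h0 : (χ a - b) ^ p = 0 := by
    have h1 : (p : B') * b * (χ a - b) * r = 0 := by
      rw [mul_comm (p : B') b, mul_assoc b, hd, mul_zero, zero_mul]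
    rw [h1, add_zero] at hr
    exact left_eq_add.mp hr
  exact sub_eq_zero.mp (pow_eq_zero_iff hp.ne_zero |>.mp h0)

/-- **Key lemma.** A universal homeomorphism from an absolutely weakly normal ring to a reduced
ring is bijective. -/
theorem IsUH.bijective_of_isAWNRing [IsReduced B'] {χ : B →+* B'} (hχ : IsUH χ)
    (hB : HTop.IsAWNRing B) : Function.Bijective χ := by
  haveI := isReduced_of_isAWNRing hB
  have hinj := hχ.injective_of_isReduced
  refine ⟨hinj, ?_⟩
  by_contra hns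
  rcases Groth.Agent.S7399.result χ hinj hns ((isUnivHomeo_specMap_iff χ).mpr hχ) with
    ⟨b, hb, h2, h3⟩ | ⟨p, b, hp, hb, h2, h3⟩
  · exact hb (mem_range_of_sq_cube χ hinj hB.1 b h2 h3)
  · exact hb (mem_range_of_prime χ hinj hB p hp b h2 h3)

end KL

section Main

variable {A B W : Type u} [CommRing A] [CommRing B] [CommRing W]

/-- Stacks 0EUM (ring level). -/
theorem bijective_iff_isAWNRing (φ : A →+* W) (hφ : HTop.IsRingAWN φ) (ψ : A →+* B)
    (hψ : IsUH ψ) (χ : B →+* W) (hχ : χ.comp ψ = φ) :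
    Function.Bijective χ ↔ HTop.IsAWNRing B := by
  have hW := isAWNRing_of_isRingAWN φ hφ
  constructor
  · intro h
    exact isAWNRing_of_ringEquiv (RingEquiv.ofBijective χ h).symm hW
  · intro hB
    haveI := isReduced_of_isAWNRing hW
    have hχU : IsUH χ := IsUH.of_comp hψ (by rw [hχ]; exact (isUnivHomeo_specMap_iff φ).mp hφ.1)
    exact hχU.bijective_of_isAWNRing hB

/-- A universal homeomorphism to an absolutely weakly normal ring is an absolute weak
normalization. -/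
theorem isRingAWN_of_isAWNRing (ψ : A →+* B) (hψ : IsUH ψ) (hB : HTop.IsAWNRing B) :
    HTop.IsRingAWN ψ := by
  refine ⟨(isUnivHomeo_specMap_iff ψ).mpr hψ, ?_⟩
  intro C _ ψ' hψ'
  have hψ'U : IsUH ψ' := (isUnivHomeo_specMap_iff ψ').mp hψ'
  haveI := isReduced_of_isAWNRing hB
  obtain ⟨χB, hχB, -⟩ := existsUnique_of_isUH A ψ hψ
  obtain ⟨χC, hχC, -⟩ := existsUnique_of_isUH A ψ' hψ'U
  have hb := (bijective_iff_isAWNRing (φ A) (isRingAWN_φ A) ψ hψ χB hχB).mpr hB
  let e := RingEquiv.ofBijective χB hb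
  refine ⟨e.symm.toRingHom.comp χC, ?_, ?_⟩
  · ext a
    have h1 := RingHom.congr_fun hχC a
    have h2 := RingHom.congr_fun hχB a
    simp only [RingHom.coe_comp, Function.comp_apply] at h1 h2 ⊢
    rw [h1, ← h2]
    exact e.symm_apply_apply (ψ a)
  · intro χ' hχ'
    apply hψ'U.hom_ext_of_isReduced
    rw [hχ']
    ext a
    have h1 := RingHom.congr_fun hχC a
    have h2 := RingHom.congr_fun hχB a
    simp only [RingHom.coe_comp, Function.comp_apply] at h1 h2 ⊢
    rw [h1, ← h2]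
    exact (e.symm_apply_apply (ψ a)).symm

/-- Characterisation: `ψ` universal homeomorphism is an AWN iff target is an AWN ring. -/
theorem isRingAWN_iff_isAWNRing (ψ : A →+* B) (hψ : IsUH ψ) :
    HTop.IsRingAWN ψ ↔ HTop.IsAWNRing B :=
  ⟨isAWNRing_of_isRingAWN ψ, isRingAWN_of_isAWNRing ψ hψ⟩

end Main

end Groth.Agent.Lib.Helper25.AWN
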