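import Mathlib
import Groth.Prelude.Def_HTop2
import Groth.Agent.Lib.Helper25.AWN3

set_option autoImplicit false
set_option linter.style.haveILetI false
universe u

open CategoryTheory AlgebraicGeometry Polynomial

namespace Groth.Agent.Lib.Helper25.AWN

section Uniqueness

variable {S : Type u} [CommRing S] [IsReduced S]

theorem eq_of_sq_cube (a b : S) (h2 : a ^ 2 = b ^ 2) (h3 : a ^ 3 = b ^ 3) : a = b := by
  have h0 : (a - b) ^ 3 = 0 := by
    linear_combination 4 * h3 - (3 * b + 3 * a) * h2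
  exact sub_eq_zero.mp (pow_eq_zero_iff (three_ne_zero) |>.mp h0)

theorem eq_of_prime (p : ℕ) (hp : p.Prime) (a b : S) (h2 : a ^ p = b ^ p)
    (h3 : (p : S) * a = (p : S) * b) : a = b := by
  have hd : (p : S) * (a - b) = 0 := by rw [mul_sub, h3, sub_self]
  obtain ⟨r, hr⟩ := exists_add_pow_prime_eq hp b (a - b)
  rw [add_sub_cancel, h2] at hr
  have h0 : (a - b) ^ p = 0 := by
    have h1 : (p : S) * b * (a - b) * r = 0 := by
      rw [mul_comm (p : S) b, mul_assoc b, hd, mul_zero, zero_mul]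
    rw [h1, add_zero] at hr
    exact left_eq_add.mp hr
  exact sub_eq_zero.mp (pow_eq_zero_iff hp.ne_zero |>.mp h0)

theorem isSeminormalRing_of_exists
    (h : ∀ x y : S, x ^ 3 = y ^ 2 → ∃ a : S, x = a ^ 2 ∧ y = a ^ 3) :
    HTop.IsSeminormalRing S := by
  intro x y hxy
  obtain ⟨a, ha2, ha3⟩ := h x y hxy
  refine ⟨a, ⟨ha2, ha3⟩, ?_⟩
  rintro b ⟨hb2, hb3⟩
  exact eq_of_sq_cube b a (hb2.symm.trans ha2) (hb3.symm.trans ha3)

theorem isAWNRing_of_exists
    (h : ∀ x y : S, x ^ 3 = y ^ 2 → ∃ a : S, x = a ^ 2 ∧ y = a ^ 3)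
    (h' : ∀ p : ℕ, p.Prime → ∀ x y : S, (p : S) ^ p * x = y ^ p →
      ∃ a : S, x = a ^ p ∧ y = (p : S) * a) :
    HTop.IsAWNRing S := by
  refine ⟨isSeminormalRing_of_exists h, ?_⟩
  intro p hp x y hxy
  obtain ⟨a, ha2, ha3⟩ := h' p hp x y hxy
  refine ⟨a, ⟨ha2, ha3⟩, ?_⟩
  rintro b ⟨hb2, hb3⟩
  exact eq_of_prime p hp b a (hb2.symm.trans ha2) (hb3.symm.trans ha3)

end Uniqueness

section Localization

variable {A : Type u} [CommRing A] (f : A) (S : Type u) [CommRing S] [Algebra A S]
  [IsLocalization.Away f S]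

include f in
theorem isReduced_of_isLocalization_away [IsReduced A] : IsReduced S :=
  isReduced_localizationPreserves (Submonoid.powers f) S inferInstance

include f in
theorem exists_sq_cube_localization (hA : HTop.IsSeminormalRing A) (x' y' : S)
    (hxy : x' ^ 3 = y' ^ 2) : ∃ a : S, x' = a ^ 2 ∧ y' = a ^ 3 := by
  set u := algebraMap A S f with hu
  obtain ⟨v, huv⟩ := (IsLocalization.Away.algebraMap_isUnit (S := S) f).exists_right_inv
  have huvn : ∀ n : ℕ, u ^ n * v ^ n = 1 := fun n => by rw [← mul_pow, huv, one_pow]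
  obtain ⟨n₁, a₁, h₁⟩ := IsLocalization.Away.surj f x'
  obtain ⟨n₂, a₂, h₂⟩ := IsLocalization.Away.surj f y'
  obtain ⟨k, hk⟩ : ∃ k, k = n₁ + n₂ := ⟨_, rfl⟩
  obtain ⟨x, hx'⟩ : ∃ x : A, x' * u ^ (2 * k) = algebraMap A S x := by
    refine ⟨a₁ * f ^ (n₁ + 2 * n₂), ?_⟩
    rw [map_mul, ← h₁, map_pow, hk, mul_assoc, ← pow_add]
    congr 2
    ring
  obtain ⟨y, hy'⟩ : ∃ y : A, y' * u ^ (3 * k) = algebraMap A S y := by
    refine ⟨a₂ * f ^ (3 * n₁ + 2 * n₂), ?_⟩
    rw [map_mul, ← h₂, map_pow, hk, mul_assoc, ← pow_add]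
    congr 2
    ring
  have hxy' : algebraMap A S (x ^ 3) = algebraMap A S (y ^ 2) := by
    rw [map_pow, map_pow, ← hx', ← hy', mul_pow, mul_pow, hxy, ← pow_mul, ← pow_mul]
    congr 2
    ring
  obtain ⟨N, hN⟩ := IsLocalization.Away.exists_of_eq f hxy'
  have hXY : (x * f ^ (2 * N)) ^ 3 = (y * f ^ (3 * N)) ^ 2 := by
    have e1 : (x * f ^ (2 * N)) ^ 3 = f ^ (5 * N) * (f ^ N * x ^ 3) := by ring
    have e2 : (y * f ^ (3 * N)) ^ 2 = f ^ (5 * N) * (f ^ N * y ^ 2) := by ring
    rw [e1, e2, hN]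
  obtain ⟨a, ⟨ha2, ha3⟩, -⟩ := hA _ _ hXY
  have ha2' : algebraMap A S x * u ^ (2 * N) = algebraMap A S a ^ 2 := by
    have := congrArg (algebraMap A S) ha2
    rw [map_mul, map_pow, map_pow] at this
    exact this
  have ha3' : algebraMap A S y * u ^ (3 * N) = algebraMap A S a ^ 3 := by
    have := congrArg (algebraMap A S) ha3
    rw [map_mul, map_pow, map_pow] at this
    exact this
  have hxv : x' = algebraMap A S x * v ^ (2 * k) := by
    rw [← hx', mul_assoc, huvn, mul_one]
  have hyv : y' = algebraMap A S y * v ^ (3 * k) := by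
    rw [← hy', mul_assoc, huvn, mul_one]
  refine ⟨algebraMap A S a * v ^ (k + N), ?_, ?_⟩
  · have h1 : v ^ (2 * k) = u ^ (2 * N) * (v ^ (k + N)) ^ 2 := by
      rw [← pow_mul, show (k + N) * 2 = 2 * N + 2 * k by ring, pow_add, ← mul_assoc, huvn,
        one_mul]
    calc x' = algebraMap A S x * v ^ (2 * k) := hxv
      _ = (algebraMap A S x * u ^ (2 * N)) * (v ^ (k + N)) ^ 2 := by rw [h1]; ring
      _ = (algebraMap A S a * v ^ (k + N)) ^ 2 := by rw [ha2']; ring
  · have h1 : v ^ (3 * k) = u ^ (3 * N) * (v ^ (k + N)) ^ 3 := by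
      rw [← pow_mul, show (k + N) * 3 = 3 * N + 3 * k by ring, pow_add, ← mul_assoc, huvn,
        one_mul]
    calc y' = algebraMap A S y * v ^ (3 * k) := hyv
      _ = (algebraMap A S y * u ^ (3 * N)) * (v ^ (k + N)) ^ 3 := by rw [h1]; ring
      _ = (algebraMap A S a * v ^ (k + N)) ^ 3 := by rw [ha3']; ring

include f in
theorem exists_prime_localization (hA : HTop.IsAWNRing A) (p : ℕ) (hp : p.Prime) (x' y' : S)
    (hxy : (p : S) ^ p * x' = y' ^ p) : ∃ a : S, x' = a ^ p ∧ y' = (p : S) * a := by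
  set u := algebraMap A S f with hu
  obtain ⟨v, huv⟩ := (IsLocalization.Away.algebraMap_isUnit (S := S) f).exists_right_inv
  have huvn : ∀ n : ℕ, u ^ n * v ^ n = 1 := fun n => by rw [← mul_pow, huv, one_pow]
  obtain ⟨n₁, a₁, h₁⟩ := IsLocalization.Away.surj f x'
  obtain ⟨n₂, a₂, h₂⟩ := IsLocalization.Away.surj f y'
  obtain ⟨k, hk⟩ : ∃ k, k = n₁ + n₂ := ⟨_, rfl⟩
  have hpk : n₁ ≤ p * k := by
    calc n₁ ≤ k := by rw [hk]; exact Nat.le_add_right _ _
      _ = 1 * k := (one_mul k).symm
      _ ≤ p * k := Nat.mul_le_mul_right k hp.one_lt.le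
  obtain ⟨x, hx'⟩ : ∃ x : A, x' * u ^ (p * k) = algebraMap A S x := by
    refine ⟨a₁ * f ^ (p * k - n₁), ?_⟩
    rw [map_mul, ← h₁, map_pow, mul_assoc, ← pow_add, Nat.add_sub_cancel' hpk]
  obtain ⟨y, hy'⟩ : ∃ y : A, y' * u ^ k = algebraMap A S y := by
    refine ⟨a₂ * f ^ n₁, ?_⟩
    rw [map_mul, ← h₂, map_pow, hk, mul_assoc, ← pow_add, add_comm]
  have hxy' : algebraMap A S ((p : A) ^ p * x) = algebraMap A S (y ^ p) := by
    rw [map_mul, map_pow, map_pow, map_natCast, ← hx', ← hy', mul_pow, ← mul_assoc, hxy,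
      ← pow_mul, mul_comm k p]
  obtain ⟨N, hN⟩ := IsLocalization.Away.exists_of_eq f hxy'
  have hpN : p * N = (p - 1) * N + N := by
    rw [← Nat.succ_mul, Nat.succ_eq_add_one, Nat.sub_add_cancel hp.one_le]
  have hXY : (p : A) ^ p * (x * f ^ (p * N)) = (y * f ^ N) ^ p := by
    have e1 : (p : A) ^ p * (x * f ^ (p * N)) =
        f ^ ((p - 1) * N) * (f ^ N * ((p : A) ^ p * x)) := by
      rw [hpN, pow_add]
      ring
    have e2 : (y * f ^ N) ^ p = f ^ ((p - 1) * N) * (f ^ N * y ^ p) := by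
      rw [mul_pow, ← pow_mul, mul_comm N p, hpN, pow_add]
      ring
    rw [e1, e2, hN]
  obtain ⟨a, ⟨ha2, ha3⟩, -⟩ := hA.2 p hp _ _ hXY
  have ha2' : algebraMap A S x * u ^ (p * N) = algebraMap A S a ^ p := by
    have := congrArg (algebraMap A S) ha2
    rw [map_mul, map_pow, map_pow] at this
    exact this
  have ha3' : algebraMap A S y * u ^ N = (p : S) * algebraMap A S a := by
    have := congrArg (algebraMap A S) ha3
    rw [map_mul, map_pow, map_mul, map_natCast] at this
    exact this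
  have hxv : x' = algebraMap A S x * v ^ (p * k) := by
    rw [← hx', mul_assoc, huvn, mul_one]
  have hyv : y' = algebraMap A S y * v ^ k := by
    rw [← hy', mul_assoc, huvn, mul_one]
  refine ⟨algebraMap A S a * v ^ (k + N), ?_, ?_⟩
  · have h1 : v ^ (p * k) = u ^ (p * N) * (v ^ (k + N)) ^ p := by
      rw [← pow_mul, show (k + N) * p = p * N + p * k by ring, pow_add, ← mul_assoc, huvn,
        one_mul]
    calc x' = algebraMap A S x * v ^ (p * k) := hxv
      _ = (algebraMap A S x * u ^ (p * N)) * (v ^ (k + N)) ^ p := by rw [h1]; ring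
      _ = (algebraMap A S a * v ^ (k + N)) ^ p := by rw [ha2']; ring
  · have h1 : v ^ k = u ^ N * v ^ (k + N) := by
      rw [show k + N = N + k by ring, pow_add, ← mul_assoc, huvn, one_mul]
    calc y' = algebraMap A S y * v ^ k := hyv
      _ = (algebraMap A S y * u ^ N) * v ^ (k + N) := by rw [h1]; ring
      _ = (p : S) * (algebraMap A S a * v ^ (k + N)) := by rw [ha3']; ring

include f in
theorem isSeminormalRing_of_isLocalization_away (hA : HTop.IsSeminormalRing A) :
    HTop.IsSeminormalRing S := by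
  haveI := Groth.Agent.Lib.Helper69.SemiNormalDescent.isReduced_of_isSeminormalRing hA
  haveI := isReduced_of_isLocalization_away f S
  exact isSeminormalRing_of_exists (exists_sq_cube_localization f S hA)

include f in
theorem isAWNRing_of_isLocalization_away (hA : HTop.IsAWNRing A) : HTop.IsAWNRing S := by
  haveI := isReduced_of_isAWNRing hA
  haveI := isReduced_of_isLocalization_away f S
  exact isAWNRing_of_exists (exists_sq_cube_localization f S hA.1)
    (exists_prime_localization f S hA)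

end Localization

end Groth.Agent.Lib.Helper25.AWN

namespace Groth.Agent.Lib.Helper25.AWN

section BaseChange

/-- Universal homeomorphisms are stable under cobase change of rings. -/
theorem IsUH.of_isPushout {R S R' S' : Type u} [CommRing R] [CommRing S] [CommRing R']
    [CommRing S'] [Algebra R S] [Algebra R R'] [Algebra S S'] [Algebra R' S'] [Algebra R S']
    [IsScalarTower R S S'] [IsScalarTower R R' S'] [Algebra.IsPushout R S R' S']
    (h : IsUH (algebraMap R S)) : IsUH (algebraMap R' S') := by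
  rw [← isUnivHomeo_specMap_iff] at h ⊢
  have sq := CommRingCat.isPushout_of_isPushout R S R' S'
  have pb := isPullback_SpecMap_of_isPushout _ _ _ _ sq
  have : (FlatMor.IsUnivHomeo : MorphismProperty Scheme.{u}).IsStableUnderBaseChange := by
    unfold FlatMor.IsUnivHomeo
    infer_instance
  exact MorphismProperty.of_isPullback (P := FlatMor.IsUnivHomeo) pb h

theorem IsUH.awayMap {A W : Type u} [CommRing A] [CommRing W] {φ : A →+* W} (h : IsUH φ)
    (f : A) : IsUH (Localization.awayMap φ f) := by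
  letI := φ.toAlgebra
  letI := (Localization.awayMap φ f).toAlgebra
  haveI : IsScalarTower A (Localization.Away f) (Localization.Away (φ f)) :=
    IsScalarTower.of_algebraMap_eq (fun a => by
      rw [IsScalarTower.algebraMap_apply A W (Localization.Away (φ f))]
      simp only [RingHom.algebraMap_toAlgebra]
      exact (IsLocalization.map_eq _ _).symm)
  haveI : IsLocalization (Algebra.algebraMapSubmonoid W (Submonoid.powers f))
      (Localization.Away (φ f)) := by
    rw [Algebra.algebraMapSubmonoid_powers]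
    exact (inferInstance : IsLocalization.Away (φ f) (Localization.Away (φ f)))
  haveI : Algebra.IsPushout A W (Localization.Away f) (Localization.Away (φ f)) :=
    Algebra.isPushout_of_isLocalization (Submonoid.powers f) (Localization.Away f) W
      (Localization.Away (φ f))
  exact IsUH.of_isPushout (R := A) (S := W) (R' := Localization.Away f)
    (S' := Localization.Away (φ f)) h

end BaseChange

end Groth.Agent.Lib.Helper25.AWN
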