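import Mathlib
import Groth.Prelude.Def_HTop2
import Groth.Agent.Lib.Helper25.AWN4

set_option autoImplicit false
set_option linter.style.haveILetI false
universe u

open CategoryTheory AlgebraicGeometry Polynomial TensorProduct

namespace Groth.Agent.Lib.Helper25.AWN

section Uniq

variable {A W₁ W₂ : Type u} [CommRing A] [CommRing W₁] [CommRing W₂]

/-- Two absolute weak normalizations of the same ring are uniquely isomorphic. -/
theorem exists_ringEquiv_of_isRingAWN (φ₁ : A →+* W₁) (φ₂ : A →+* W₂) (h₁ : HTop.IsRingAWN φ₁)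
    (h₂ : HTop.IsRingAWN φ₂) : ∃ e : W₁ ≃+* W₂, e.toRingHom.comp φ₁ = φ₂ := by
  obtain ⟨χ₁₂, h12, -⟩ := h₂.2 W₁ φ₁ h₁.1
  obtain ⟨χ₂₁, h21, -⟩ := h₁.2 W₂ φ₂ h₂.1
  obtain ⟨e₁, -, u₁⟩ := h₁.2 W₁ φ₁ h₁.1
  obtain ⟨e₂, -, u₂⟩ := h₂.2 W₂ φ₂ h₂.1
  have hl : χ₂₁.comp χ₁₂ = RingHom.id W₁ := by
    rw [u₁ (χ₂₁.comp χ₁₂) (by change (χ₂₁.comp χ₁₂).comp φ₁ = φ₁; rw [RingHom.comp_assoc, h12, h21]),
      u₁ (RingHom.id W₁) (RingHom.id_comp _)]
  have hr : χ₁₂.comp χ₂₁ = RingHom.id W₂ := by
    rw [u₂ (χ₁₂.comp χ₂₁) (by change (χ₁₂.comp χ₂₁).comp φ₂ = φ₂; rw [RingHom.comp_assoc, h21, h12]),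
      u₂ (RingHom.id W₂) (RingHom.id_comp _)]
  exact ⟨RingEquiv.ofRingHom χ₁₂ χ₂₁ hr hl, h12⟩

end Uniq

section Functoriality

variable {A A' A'' : Type u} [CommRing A] [CommRing A'] [CommRing A'']

attribute [local instance] Algebra.TensorProduct.rightAlgebra in
theorem exists_Wmap (ρ : A →+* A') : ∃ g : W A →+* W A', g.comp (φ A) = (φ A').comp ρ := by
  letI := ρ.toAlgebra
  letI := (φ A).toAlgebra
  have hU : IsUH (algebraMap A' (A' ⊗[A] W A)) :=
    IsUH.of_isPushout (R := A) (S := W A) (R' := A') (S' := A' ⊗[A] W A) (isUH_φ A)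
  obtain ⟨χ, hχ, -⟩ := existsUnique_of_isUH A' _ hU
  refine ⟨χ.comp (algebraMap (W A) (A' ⊗[A] W A)), ?_⟩
  ext a
  have h1 : algebraMap (W A) (A' ⊗[A] W A) (φ A a) = algebraMap A' (A' ⊗[A] W A) (ρ a) := by
    change algebraMap (W A) (A' ⊗[A] W A) (algebraMap A (W A) a) =
      algebraMap A' (A' ⊗[A] W A) (algebraMap A A' a)
    rw [← IsScalarTower.algebraMap_apply, ← IsScalarTower.algebraMap_apply]
  have h2 := RingHom.congr_fun hχ (ρ a)
  simp only [RingHom.coe_comp, Function.comp_apply] at h2 ⊢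
  rw [h1, h2]

/-- Functoriality of the absolute weak normalization. -/
noncomputable def Wmap (ρ : A →+* A') : W A →+* W A' := (exists_Wmap ρ).choose

theorem Wmap_comp_φ (ρ : A →+* A') : (Wmap ρ).comp (φ A) = (φ A').comp ρ :=
  (exists_Wmap ρ).choose_spec

theorem Wmap_φ_apply (ρ : A →+* A') (a : A) : Wmap ρ (φ A a) = φ A' (ρ a) :=
  RingHom.congr_fun (Wmap_comp_φ ρ) a

instance isReduced_W : IsReduced (W A) :=
  isReduced_of_isAWNRing (isAWNRing_of_isRingAWN (φ A) (isRingAWN_φ A))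

theorem isAWNRing_W : HTop.IsAWNRing (W A) := isAWNRing_of_isRingAWN (φ A) (isRingAWN_φ A)

theorem Wmap_unique (ρ : A →+* A') (g : W A →+* W A') (hg : g.comp (φ A) = (φ A').comp ρ) :
    g = Wmap ρ :=
  (isUH_φ A).hom_ext_of_isReduced g (Wmap ρ) (by rw [hg, Wmap_comp_φ])

theorem Wmap_id : Wmap (RingHom.id A) = RingHom.id (W A) :=
  (Wmap_unique _ _ (by rw [RingHom.id_comp, RingHom.comp_id])).symm

theorem Wmap_comp (ρ : A →+* A') (ρ' : A' →+* A'') :
    Wmap (ρ'.comp ρ) = (Wmap ρ').comp (Wmap ρ) :=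
  (Wmap_unique _ _ (by
    rw [RingHom.comp_assoc, Wmap_comp_φ, ← RingHom.comp_assoc, Wmap_comp_φ,
      RingHom.comp_assoc])).symm

end Functoriality

section Loc

variable {A A' : Type u} [CommRing A] [CommRing A']

/-- Universal homeomorphisms localize (general `IsLocalization.Away` form). -/
theorem IsUH.of_isLocalization_away {W L : Type u} [CommRing W] [CommRing L] [Algebra A W]
    [Algebra A A'] [Algebra W L] [Algebra A' L] [Algebra A L] [IsScalarTower A W L]
    [IsScalarTower A A' L] (f : A) [IsLocalization.Away f A']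
    [IsLocalization.Away (algebraMap A W f) L] (h : IsUH (algebraMap A W)) :
    IsUH (algebraMap A' L) := by
  haveI : IsLocalization (Algebra.algebraMapSubmonoid W (Submonoid.powers f)) L := by
    rw [Algebra.algebraMapSubmonoid_powers]
    exact (inferInstance : IsLocalization.Away (algebraMap A W f) L)
  haveI : Algebra.IsPushout A W A' L :=
    Algebra.isPushout_of_isLocalization (Submonoid.powers f) A' W L
  exact IsUH.of_isPushout (R := A) (S := W) (R' := A') (S' := L) h

/-- The absolute weak normalization commutes with localization away from an element. -/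
theorem isLocalization_away_Wmap (ρ : A →+* A') (f : A)
    (hρ : letI := ρ.toAlgebra; IsLocalization.Away f A') :
    letI := (Wmap ρ).toAlgebra; IsLocalization.Away (φ A f) (W A') := by
  letI := ρ.toAlgebra
  letI := (φ A).toAlgebra
  letI := (Wmap ρ).toAlgebra
  let L := Localization.Away (φ A f)
  have hunit : IsUnit ((algebraMap (W A) L).comp (φ A) f) :=
    IsLocalization.Away.algebraMap_isUnit (S := L) (φ A f)
  let ψ : A' →+* L := IsLocalization.Away.lift f hunit
  have hψ : ψ.comp ρ = (algebraMap (W A) L).comp (φ A) := IsLocalization.Away.lift_comp f hunit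
  letI : Algebra A' L := ψ.toAlgebra
  haveI : IsScalarTower A A' L := IsScalarTower.of_algebraMap_eq (fun a => by
    rw [IsScalarTower.algebraMap_apply A (W A) L]
    exact (RingHom.congr_fun hψ a).symm)
  have hψU : IsUH ψ := IsUH.of_isLocalization_away (A := A) (A' := A') (W := W A) (L := L) f
    (isUH_φ A)
  have hL : HTop.IsAWNRing L := isAWNRing_of_isLocalization_away (φ A f) L isAWNRing_W
  have hψA : HTop.IsRingAWN ψ := isRingAWN_of_isAWNRing ψ hψU hL
  obtain ⟨e, he⟩ := exists_ringEquiv_of_isRingAWN ψ (φ A') hψA (isRingAWN_φ A')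
  have hcomm : e.toRingHom.comp (algebraMap (W A) L) = Wmap ρ := by
    apply Wmap_unique
    rw [RingHom.comp_assoc, ← hψ, ← RingHom.comp_assoc, he]
  let e' : L ≃ₐ[W A] W A' :=
    { e with
      commutes' := fun w => RingHom.congr_fun hcomm w }
  exact IsLocalization.isLocalization_of_algEquiv (Submonoid.powers (φ A f)) e'

end Loc

end Groth.Agent.Lib.Helper25.AWN
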