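import Mathlib
import Groth.Prelude.Def_HTop2
import Groth.Agent.Lib.Helper25.AWN5

set_option autoImplicit false
set_option linter.style.haveILetI false
universe u

open CategoryTheory AlgebraicGeometry Polynomial

namespace Groth.Agent.Lib.Helper25.AWN

section SNLocal

variable {A : Type u} [CommRing A]

theorem isSeminormalRing_of_ringEquiv {B B' : Type u} [CommRing B] [CommRing B'] (e : B ≃+* B')
    (h : HTop.IsSeminormalRing B) : HTop.IsSeminormalRing B' := by
  intro x y hxy
  obtain ⟨a, ⟨ha2, ha3⟩, hau⟩ := h (e.symm x) (e.symm y) (by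
    rw [← map_pow, ← map_pow, hxy])
  refine ⟨e a, ⟨?_, ?_⟩, ?_⟩
  · rw [← map_pow, ← ha2, e.apply_symm_apply]
  · rw [← map_pow, ← ha3, e.apply_symm_apply]
  · rintro b ⟨hb2, hb3⟩
    rw [← hau (e.symm b) ⟨by rw [← map_pow, ← hb2], by rw [← map_pow, ← hb3]⟩,
      e.apply_symm_apply]

/-- Reducedness is local for a finite (or any) set of elements spanning the unit ideal. -/
theorem isReduced_of_span (s : Set A) (hs : Ideal.span s = ⊤)
    (H : ∀ f ∈ s, IsReduced (Localization.Away f)) : IsReduced A := by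
  refine ⟨fun a ha => ?_⟩
  have h0 : a ∈ (⊥ : Submodule A A) := by
    apply Submodule.mem_of_span_eq_top_of_smul_pow_mem ⊥ s hs
    rintro ⟨f, hf⟩
    haveI := H f hf
    have h1 : algebraMap A (Localization.Away f) a = 0 := (ha.map _).eq_zero
    have h2 : algebraMap A (Localization.Away f) a = algebraMap A (Localization.Away f) 0 := by
      rw [h1, map_zero]
    obtain ⟨n, hn⟩ := IsLocalization.Away.exists_of_eq f h2
    refine ⟨n, ?_⟩
    rw [Submodule.mem_bot, smul_eq_mul, hn, mul_zero]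
  simpa using h0

/-- The kernel of a universal homeomorphism is nil. -/
theorem IsUH.isNilpotent_of_map_eq_zero {B : Type u} [CommRing B] {j : A →+* B} (hj : IsUH j)
    {z : A} (hz : IsNilpotent (j z)) : IsNilpotent z := by
  rw [nilpotent_iff_mem_prime]
  intro J hJ
  obtain ⟨q, hq⟩ := hj.surj ⟨J, hJ⟩
  have hq' : q.asIdeal.comap j = J := congrArg PrimeSpectrum.asIdeal hq
  rw [← hq']
  obtain ⟨n, hn⟩ := hz
  exact q.2.mem_of_pow_mem n (hn ▸ q.asIdeal.zero_mem)

/-- Seminormality is local: local-to-global. -/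
theorem isSeminormalRing_of_span (s : Set A) (hs : Ideal.span s = ⊤)
    (H : ∀ f ∈ s, HTop.IsSeminormalRing (Localization.Away f)) : HTop.IsSeminormalRing A := by
  haveI : IsReduced A := isReduced_of_span s hs fun f hf =>
    Groth.Agent.Lib.Helper69.SemiNormalDescent.isReduced_of_isSeminormalRing (H f hf)
  apply isSeminormalRing_of_exists
  intro x y hxy
  set I := Ideal.span ({X ^ 2 - C x, X ^ 3 - C y} : Set A[X]) with hI
  have hjU : IsUH (algebraMap A (A[X] ⧸ I)) := isUH_sqCube x y hxy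
  set t : A[X] ⧸ I := Ideal.Quotient.mk I X with ht
  have ht2 : t ^ 2 = algebraMap A (A[X] ⧸ I) x := by
    rw [ht, ← map_pow]
    exact mk_eq_algebraMap_of_sub_mem _ (X ^ 2) x (by simp)
  have ht3 : t ^ 3 = algebraMap A (A[X] ⧸ I) y := by
    rw [ht, ← map_pow]
    exact mk_eq_algebraMap_of_sub_mem _ (X ^ 3) y (by simp)
  let N := nilradical (A[X] ⧸ I)
  haveI : IsReduced ((A[X] ⧸ I) ⧸ N) :=
    (Ideal.isRadical_iff_quotient_reduced N).mp (Ideal.radical_isRadical _)
  let q : (A[X] ⧸ I) →+* (A[X] ⧸ I) ⧸ N := Ideal.Quotient.mk N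
  let j' : A →+* (A[X] ⧸ I) ⧸ N := algebraMap A ((A[X] ⧸ I) ⧸ N)
  have hj' : ∀ a, j' a = q (algebraMap A (A[X] ⧸ I) a) := fun a => rfl
  have ht2' : q t ^ 2 = j' x := by rw [← map_pow, ht2, hj']
  have ht3' : q t ^ 3 = j' y := by rw [← map_pow, ht3, hj']
  have hmem : q t ∈ LinearMap.range (Algebra.linearMap A ((A[X] ⧸ I) ⧸ N)) := by
    apply Submodule.mem_of_span_eq_top_of_smul_pow_mem _ s hs
    rintro ⟨f, hf⟩
    obtain ⟨α, ⟨hα2, hα3⟩, -⟩ := H f hf (algebraMap A _ x) (algebraMap A _ y) (by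
      rw [← map_pow, ← map_pow, hxy])
    obtain ⟨n, c, hc⟩ := IsLocalization.Away.surj f α
    have e2 : algebraMap A (Localization.Away f) (c ^ 2) =
        algebraMap A (Localization.Away f) (x * f ^ (2 * n)) := by
      rw [map_pow, ← hc, mul_pow, ← hα2, map_mul, map_pow, ← pow_mul, mul_comm n 2]
    have e3 : algebraMap A (Localization.Away f) (c ^ 3) =
        algebraMap A (Localization.Away f) (y * f ^ (3 * n)) := by
      rw [map_pow, ← hc, mul_pow, ← hα3, map_mul, map_pow, ← pow_mul, mul_comm n 3]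
    obtain ⟨m₂, hm₂⟩ := IsLocalization.Away.exists_of_eq f e2
    obtain ⟨m₃, hm₃⟩ := IsLocalization.Away.exists_of_eq f e3
    set M := m₂ + m₃ with hM
    have hc2 : (f ^ M * c) ^ 2 = x * f ^ (2 * (n + M)) := by
      have : (f ^ M * c) ^ 2 = f ^ (m₂ + 2 * m₃) * (f ^ m₂ * c ^ 2) := by
        rw [hM]; ring
      rw [this, hm₂, hM]
      ring
    have hc3 : (f ^ M * c) ^ 3 = y * f ^ (3 * (n + M)) := by
      have : (f ^ M * c) ^ 3 = f ^ (3 * m₂ + 2 * m₃) * (f ^ m₃ * c ^ 3) := by
        rw [hM]; ring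
      rw [this, hm₃, hM]
      ring
    refine ⟨n + M, f ^ M * c, ?_⟩
    rw [Algebra.linearMap_apply, Algebra.smul_def]
    change j' (f ^ M * c) = j' (f ^ (n + M)) * q t
    apply eq_of_sq_cube
    · have e : j' ((f ^ M * c) ^ 2) = j' (x * f ^ (2 * (n + M))) := by rw [hc2]
      rw [map_pow] at e
      rw [e, map_mul, map_pow, map_pow, ← ht2']
      ring
    · have e : j' ((f ^ M * c) ^ 3) = j' (y * f ^ (3 * (n + M))) := by rw [hc3]
      rw [map_pow] at e
      rw [e, map_mul, map_pow, map_pow, ← ht3']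
      ring
  obtain ⟨a, ha⟩ := hmem
  rw [Algebra.linearMap_apply] at ha
  have hker : ∀ z : A, j' z = 0 → z = 0 := by
    intro z hz
    apply IsReduced.eq_zero
    apply hjU.isNilpotent_of_map_eq_zero
    have : algebraMap A (A[X] ⧸ I) z ∈ N := Ideal.Quotient.eq_zero_iff_mem.mp hz
    exact this
  refine ⟨a, ?_, ?_⟩
  · have : j' (x - a ^ 2) = 0 := by
      rw [map_sub, map_pow]
      change j' x - (algebraMap A _ a) ^ 2 = 0
      rw [ha, ht2', sub_self]
    exact sub_eq_zero.mp (hker _ this)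
  · have : j' (y - a ^ 3) = 0 := by
      rw [map_sub, map_pow]
      change j' y - (algebraMap A _ a) ^ 3 = 0
      rw [ha, ht3', sub_self]
    exact sub_eq_zero.mp (hker _ this)

end SNLocal

end Groth.Agent.Lib.Helper25.AWN
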