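import Mathlib.FieldTheory.IsPerfectClosure
import Mathlib.FieldTheory.PerfectClosure
import Mathlib.Algebra.CharP.Lemmas
import Mathlib.RingTheory.Flat.EquationalCriterion
import Mathlib.RingTheory.RingHom.Flat

/-!
# Ring-level perfection lemmas (allowing the zero ring)

`PerfectRing R p` in Mathlib only asks `x ↦ x ^ p` to be bijective; `IsPRadical i p` asks that every
element of the target has a `p`-power-power in the image and that the kernel is nil.
We prove the universal property of `p`-radical maps into perfect rings *without* `ExpChar`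
hypotheses (only `(p : M) = 0`), so that the zero ring (sections over the empty open) is allowed.
-/

set_option autoImplicit false
set_option linter.style.haveILetI false

universe u

namespace Groth.Agent.Lib.Helper25

section Univ

variable {K L M : Type*} [CommRing K] [CommRing L] [CommRing M]

/-- A ring in which the prime `p` vanishes and which is nontrivial has characteristic `p`. -/
theorem charP_of_natCast_eq_zero (p : ℕ) [Fact p.Prime] (R : Type*) [CommRing R] [Nontrivial R]
    (h : (p : R) = 0) : CharP R p :=
  (CharP.charP_iff_prime_eq_zero Fact.out).2 h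

/-- Universal property of `p`-radical maps, without `ExpChar` hypotheses: if `i : K →+* L` is
`p`-radical, `p = 0` in `K`, `L`, `M` and `M` is perfect, then composition with `i` is a bijection
`(L →+* M) → (K →+* M)`. -/
theorem bijective_comp_of_isPRadical (p : ℕ) [Fact p.Prime] (i : K →+* L) [IsPRadical i p]
    (hK : (p : K) = 0) (hL : (p : L) = 0) (hM : (p : M) = 0) [PerfectRing M p] :
    Function.Bijective (fun f : L →+* M => f.comp i) := by
  rcases subsingleton_or_nontrivial M with hsub | hnt
  · -- every hom set into the zero ring is a singleton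
    have hsubK : Subsingleton (K →+* M) :=
      ⟨fun a b => RingHom.ext fun x => Subsingleton.elim _ _⟩
    have hsubL : Subsingleton (L →+* M) :=
      ⟨fun a b => RingHom.ext fun x => Subsingleton.elim _ _⟩
    have hne : Nonempty (K →+* M) := by
      refine ⟨{ toFun := fun _ => 0, map_one' := Subsingleton.elim _ _,
                map_mul' := fun _ _ => Subsingleton.elim _ _, map_zero' := rfl,
                map_add' := fun _ _ => Subsingleton.elim _ _ }⟩
    have hne' : Nonempty (L →+* M) := by
      refine ⟨{ toFun := fun _ => 0, map_one' := Subsingleton.elim _ _,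
                map_mul' := fun _ _ => Subsingleton.elim _ _, map_zero' := rfl,
                map_add' := fun _ _ => Subsingleton.elim _ _ }⟩
    refine ⟨fun a b _ => Subsingleton.elim _ _, fun g => ?_⟩
    obtain ⟨f⟩ := hne'
    exact ⟨f, Subsingleton.elim _ _⟩
  · rcases subsingleton_or_nontrivial L with hLsub | hLnt
    · -- `L` trivial: `K` is trivial too (1 is nilpotent), so both hom sets are empty
      have hK1 : (1 : K) ∈ RingHom.ker i := by
        rw [RingHom.mem_ker]
        exact Subsingleton.elim _ _
      have hnil := IsPRadical.ker_le i p hK1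
      rw [pNilradical_eq_nilradical (Fact.out : p.Prime).one_lt, mem_nilradical] at hnil
      have hK0 : (1 : K) = 0 := by
        obtain ⟨n, hn⟩ := hnil
        simpa using hn
      have hKM : IsEmpty (K →+* M) := ⟨fun g => by
        have := congrArg g hK0
        rw [map_one, map_zero] at this
        exact one_ne_zero this⟩
      have hLM : IsEmpty (L →+* M) := ⟨fun g => by
        have : (1 : L) = 0 := Subsingleton.elim _ _
        have := congrArg g this
        rw [map_one, map_zero] at this
        exact one_ne_zero this⟩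
      exact ⟨fun a => (hLM.false a).elim, fun g => (hKM.false g).elim⟩
    · rcases subsingleton_or_nontrivial K with hKsub | hKnt
      · exfalso
        have : (1 : L) = 0 := by
          have h10 : (1 : K) = 0 := Subsingleton.elim _ _
          have := congrArg i h10
          rwa [map_one, map_zero] at this
        exact one_ne_zero this
      · haveI : CharP K p := charP_of_natCast_eq_zero p K hK
        haveI : CharP L p := charP_of_natCast_eq_zero p L hL
        haveI : CharP M p := charP_of_natCast_eq_zero p M hM
        haveI : ExpChar K p := ExpChar.prime Fact.out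
        haveI : ExpChar L p := ExpChar.prime Fact.out
        haveI : ExpChar M p := ExpChar.prime Fact.out
        exact (PerfectRing.liftEquiv M i p).symm.bijective

end Univ

section Exists

/-- Every ring in which the prime `p` vanishes has a perfect closure (in the same universe): a
`p`-radical map to a perfect ring in which `p` vanishes. -/
theorem exists_perfectClosure (p : ℕ) [Fact p.Prime] (A : Type u) [CommRing A] (hA : (p : A) = 0) :
    ∃ (B : Type u) (_ : CommRing B) (φ : A →+* B),
      (p : B) = 0 ∧ PerfectRing B p ∧ IsPRadical φ p := by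
  rcases subsingleton_or_nontrivial A with hsub | hnt
  · refine ⟨A, inferInstance, RingHom.id A, hA, ⟨⟨fun a b _ => Subsingleton.elim _ _,
      fun b => ⟨b, Subsingleton.elim _ _⟩⟩⟩, inferInstance⟩
  · haveI : CharP A p := charP_of_natCast_eq_zero p A hA
    refine ⟨PerfectClosure A p, inferInstance, PerfectClosure.of A p, ?_, inferInstance,
      inferInstance⟩
    exact CharP.cast_eq_zero _ p

end Exists

section Square

variable {A B A' B' : Type*} [CommRing A] [CommRing B] [CommRing A'] [CommRing B']

/-- In a "perfection square" `φ' ∘ α = β ∘ φ` (with `β` `p`-radical and `A'`, `B'` perfect),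
surjectivity of `φ` implies surjectivity of `φ'`. -/
theorem surjective_of_perf_square (p : ℕ) [Fact p.Prime] (α : A →+* A') (β : B →+* B')
    (φ : A →+* B) (φ' : A' →+* B') (hsq : φ'.comp α = β.comp φ)
    (hβ : ∀ b' : B', ∃ (n : ℕ) (b : B), β b = b' ^ p ^ n) [PerfectRing A' p] [PerfectRing B' p]
    (hφ : Function.Surjective φ) : Function.Surjective φ' := by
  intro b'
  obtain ⟨n, b, hb⟩ := hβ b'
  obtain ⟨a, rfl⟩ := hφ b
  obtain ⟨c', hc'⟩ := (PerfectRing.bijective_frobenius (R := A') (p := p ^ n)).2 (α a)
  refine ⟨c', ?_⟩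
  apply (PerfectRing.bijective_frobenius (R := B') (p := p ^ n)).1
  change (φ' c') ^ p ^ n = b' ^ p ^ n
  have hc'' : c' ^ p ^ n = α a := hc'
  rw [← map_pow, hc'', ← hb]
  exact RingHom.congr_fun hsq a

/-- In a perfection square (`α`, `β` `p`-radical, `A'`, `B'` perfect, `p = 0` everywhere), flatness of
`φ` implies flatness of `φ'`. -/
theorem flat_of_perf_square (p : ℕ) [Fact p.Prime] (α : A →+* A') (β : B →+* B')
    (φ : A →+* B) (φ' : A' →+* B') (hsq : φ'.comp α = β.comp φ)
    (hA' : (p : A') = 0) (hB : (p : B) = 0) (hB' : (p : B') = 0)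
    [IsPRadical α p] [IsPRadical β p] [PerfectRing A' p] [PerfectRing B' p]
    (hφ : φ.Flat) : φ'.Flat := by
  classical
  rcases subsingleton_or_nontrivial B' with hsub | hnt
  · letI := φ'.toAlgebra
    change Module.Flat A' B'
    infer_instance
  haveI : Nontrivial A' := φ'.domain_nontrivial
  haveI : Nontrivial B := β.domain_nontrivial
  haveI : CharP A' p := charP_of_natCast_eq_zero p A' hA'
  haveI : CharP B' p := charP_of_natCast_eq_zero p B' hB'
  haveI : CharP B p := charP_of_natCast_eq_zero p B hB
  haveI : ExpChar A' p := ExpChar.prime Fact.out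
  haveI : ExpChar B' p := ExpChar.prime Fact.out
  haveI : ExpChar B p := ExpChar.prime Fact.out
  have hsq' : ∀ a, φ' (α a) = β (φ a) := fun a => RingHom.congr_fun hsq a
  letI algφ := φ.toAlgebra
  letI algφ' := φ'.toAlgebra
  have hflat : Module.Flat A B := hφ
  change Module.Flat A' B'
  rw [Module.Flat.iff_forall_isTrivialRelation]
  intro l f' x' hrel
  have hrel' : ∑ i, φ' (f' i) * x' i = 0 := by
    simpa [Algebra.smul_def, RingHom.algebraMap_toAlgebra] using hrel
  -- Step 1: uniform exponent
  have hex : ∀ i, ∃ n : ℕ, ∀ N, n ≤ N → (∃ a : A, α a = f' i ^ p ^ N) ∧ ∃ b : B, β b = x' i ^ p ^ N := by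
    intro i
    obtain ⟨n₁, a, ha⟩ := IsPRadical.pow_mem α p (f' i)
    obtain ⟨n₂, b, hb⟩ := IsPRadical.pow_mem β p (x' i)
    refine ⟨max n₁ n₂, fun N hN => ⟨⟨a ^ p ^ (N - n₁), ?_⟩, ⟨b ^ p ^ (N - n₂), ?_⟩⟩⟩
    · rw [map_pow, ha, ← pow_mul, ← pow_add, Nat.add_sub_cancel' (le_trans (le_max_left _ _) hN)]
    · rw [map_pow, hb, ← pow_mul, ← pow_add, Nat.add_sub_cancel' (le_trans (le_max_right _ _) hN)]
  choose n hn using hex
  let N₀ : ℕ := Finset.univ.sup n
  have hN₀ : ∀ i, n i ≤ N₀ := fun i => Finset.le_sup (Finset.mem_univ i)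
  choose a₀ ha₀ using fun i => (hn i N₀ (hN₀ i)).1
  choose b₀ hb₀ using fun i => (hn i N₀ (hN₀ i)).2
  -- Step 2: the relation holds in `B` up to a nilpotent
  have hz : β (∑ i, φ (a₀ i) * b₀ i) = 0 := by
    rw [map_sum]
    have : ∀ i, β (φ (a₀ i) * b₀ i) = (φ' (f' i) * x' i) ^ p ^ N₀ := fun i => by
      rw [map_mul, ← hsq', ha₀, hb₀, map_pow, mul_pow]
    simp_rw [this]
    rw [← sum_pow_char_pow, hrel', zero_pow (pow_ne_zero _ (Fact.out : p.Prime).ne_zero)]
  have hznil := IsPRadical.ker_le β p (RingHom.mem_ker.mpr hz)
  rw [mem_pNilradical] at hznil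
  obtain ⟨m, hm⟩ := hznil
  -- Step 3: raise to the `p ^ m`
  let N : ℕ := N₀ + m
  let a : Fin l → A := fun i => a₀ i ^ p ^ m
  let b : Fin l → B := fun i => b₀ i ^ p ^ m
  have ha : ∀ i, α (a i) = f' i ^ p ^ N := fun i => by
    simp only [a, N]
    rw [map_pow, ha₀, ← pow_mul, ← pow_add]
  have hb : ∀ i, β (b i) = x' i ^ p ^ N := fun i => by
    simp only [b, N]
    rw [map_pow, hb₀, ← pow_mul, ← pow_add]
  have hrelB : ∑ i, a i • b i = 0 := by
    have : ∀ i, a i • b i = (φ (a₀ i) * b₀ i) ^ p ^ m := fun i => by
      simp only [a, b]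
      rw [Algebra.smul_def, RingHom.algebraMap_toAlgebra, map_pow, mul_pow]
    simp_rw [this]
    rw [← sum_pow_char_pow, hm]
  -- Step 4: flatness of `B` over `A`
  obtain ⟨k, d, c, hbc, hda⟩ := Module.Flat.isTrivialRelation_of_sum_smul_eq_zero hrelB
  -- Step 5: take `p ^ N`-th roots
  let σA := iterateFrobeniusEquiv A' p N
  let σB := iterateFrobeniusEquiv B' p N
  have hσ : ∀ y : A', φ' (σA.symm y) = σB.symm (φ' y) := by
    intro y
    apply σB.injective
    rw [RingEquiv.apply_symm_apply]
    change (φ' (σA.symm y)) ^ p ^ N = φ' y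
    rw [← map_pow]
    congr 1
    exact σA.apply_symm_apply y
  refine ⟨k, fun i j => σA.symm (α (d i j)), fun j => σB.symm (β (c j)), ?_, ?_⟩
  · intro i
    apply σB.injective
    rw [map_sum]
    change x' i ^ p ^ N = _
    rw [← hb, hbc i, map_sum]
    refine Finset.sum_congr rfl fun j _ => ?_
    rw [Algebra.smul_def, RingHom.algebraMap_toAlgebra, Algebra.smul_def,
      RingHom.algebraMap_toAlgebra, map_mul, map_mul, hσ, RingEquiv.apply_symm_apply,
      RingEquiv.apply_symm_apply, hsq']
  · intro j
    apply σA.injective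
    rw [map_sum, map_zero]
    have : ∀ i, σA (f' i * σA.symm (α (d i j))) = α (a i * d i j) := fun i => by
      rw [map_mul, RingEquiv.apply_symm_apply, map_mul, ha]
      rfl
    simp_rw [this]
    rw [← map_sum, hda j, map_zero]

end Square

end Groth.Agent.Lib.Helper25
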