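import Mathlib
import Groth.Agent.Lib.Helper25.PerfRing

/-!
# An integral radicial map of perfect rings is surjective

`surjective_of_perfect_of_integral_of_radicial`: if `φ : A → B` is an integral ring map, `A`
semiperfect of characteristic `p`, `B` reduced with `p = 0`, injective on field valued points and on
spectra, then `φ` is surjective.  (The conductor of `A` in `A[b]` is a radical ideal; localising at a
minimal prime over it one finds `A[b] = A`.)
-/

set_option autoImplicit false
set_option linter.style.haveILetI false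

universe u

namespace Groth.Agent.Lib.Helper25

section PA

/-- Prime avoidance in the form: if `y` lies in every prime containing `J` and disjoint from `S`,
then `s * y ^ n ∈ J` for some `s ∈ S`. -/
theorem exists_mul_pow_mem_of_forall_prime {R : Type*} [CommRing R] (J : Ideal R) (S : Submonoid R)
    (y : R) (h : ∀ Q : Ideal R, Q.IsPrime → J ≤ Q → Disjoint (Q : Set R) S → y ∈ Q) :
    ∃ s ∈ S, ∃ n : ℕ, s * y ^ n ∈ J := by
  by_contra hcon
  push Not at hcon
  have hdisj : Disjoint (J : Set R) ((S ⊔ Submonoid.powers y : Submonoid R) : Set R) := by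
    rw [Set.disjoint_left]
    intro z hzJ hzM
    obtain ⟨s, hs, w, ⟨n, rfl⟩, rfl⟩ := Submonoid.mem_sup.mp hzM
    exact hcon s hs n hzJ
  obtain ⟨Q, hQ, hJQ, hQM⟩ := Ideal.exists_le_prime_disjoint J _ hdisj
  have hQS : Disjoint (Q : Set R) S := by
    rw [Set.disjoint_left] at hQM ⊢
    intro z hz hzS
    exact hQM hz (Submonoid.mem_sup_left hzS)
  have hy := h Q hQ hJQ hQS
  exact Set.disjoint_left.mp hQM hy (Submonoid.mem_sup_right (Submonoid.mem_powers y))

end PA

section Frob

variable {p : ℕ} [Fact p.Prime]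

theorem sub_pow_char_pow_of_natCast_eq_zero' {R : Type*} [CommRing R] (h : (p : R) = 0) (x y : R)
    (m : ℕ) : (x - y) ^ p ^ m = x ^ p ^ m - y ^ p ^ m := by
  rcases subsingleton_or_nontrivial R with hs | hn
  · exact Subsingleton.elim _ _
  · have : CharP R p := charP_of_natCast_eq_zero p R h
    exact sub_pow_char_pow x y m

/-- In a reduced ring with `p = 0`, `x ↦ x ^ p ^ m` is injective. -/
theorem pow_char_pow_injective {R : Type*} [CommRing R] [IsReduced R] (h : (p : R) = 0) (m : ℕ)
    {x y : R} (hxy : x ^ p ^ m = y ^ p ^ m) : x = y := by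
  have : (x - y) ^ p ^ m = 0 := by
    rw [sub_pow_char_pow_of_natCast_eq_zero' h, hxy, sub_self]
  exact sub_eq_zero.mp (IsReduced.eq_zero _ ⟨_, this⟩)

omit [Fact p.Prime] in
/-- Iterated roots in a semiperfect ring. -/
theorem exists_pow_char_pow_eq {A : Type*} [CommRing A] (hA : ∀ a : A, ∃ c : A, c ^ p = a) (m : ℕ)
    (a : A) : ∃ c : A, c ^ p ^ m = a := by
  induction m generalizing a with
  | zero => exact ⟨a, by simp⟩
  | succ m ih =>
    obtain ⟨c, hc⟩ := hA a
    obtain ⟨d, hd⟩ := ih c
    exact ⟨d, by rw [pow_succ, pow_mul, hd, hc]⟩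

variable {A B : Type u} [CommRing A] [CommRing B] (φ : A →+* B)

/-- L1: roots of elements of the range are in the range. -/
theorem mem_range_of_pow_mem_range [IsReduced B] (hA : ∀ a : A, ∃ c : A, c ^ p = a)
    (hpB : (p : B) = 0) (z : B) (j : ℕ) (h : z ^ p ^ j ∈ φ.range) : z ∈ φ.range := by
  obtain ⟨c, hc⟩ := h
  obtain ⟨d, rfl⟩ := exists_pow_char_pow_eq hA j c
  refine ⟨d, ?_⟩
  apply pow_char_pow_injective hpB j
  rw [← hc, map_pow]

/-- L3: residue field extensions are trivial, in elementary form. -/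
theorem exists_mul_sub_mem_of_radicial (hA : ∀ a : A, ∃ c : A, c ^ p = a) (hpB : (p : B) = 0)
    (H1 : ∀ (K : Type u) [Field K], Function.Injective fun g : B →+* K => g.comp φ)
    (P : Ideal A) [P.IsPrime] (Q : Ideal B) [Q.IsPrime] (hQP : Q.comap φ = P) (t : B) :
    ∃ s a : A, s ∉ P ∧ φ s * t - φ a ∈ Q := by
  classical
  let K := FractionRing (A ⧸ P)
  let L := FractionRing (B ⧸ Q)
  have hPQ : P ≤ Q.comap φ := hQP.symm.le
  let ψ : A ⧸ P →+* B ⧸ Q := Ideal.quotientMap Q φ hPQ
  have hψ : Function.Injective ψ := Ideal.quotientMap_injective' hQP.le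
  let β : B →+* L := (algebraMap (B ⧸ Q) L).comp (Ideal.Quotient.mk Q)
  let α : A →+* K := (algebraMap (A ⧸ P) K).comp (Ideal.Quotient.mk P)
  have hinjL : Function.Injective ((algebraMap (B ⧸ Q) L).comp ψ) :=
    (IsFractionRing.injective (B ⧸ Q) L).comp hψ
  let ι : K →+* L := IsFractionRing.lift hinjL
  have hια : ι.comp α = β.comp φ := by
    ext a
    simp only [RingHom.comp_apply, ι, α, β, ψ, IsFractionRing.lift_algebraMap,
      Ideal.quotientMap_mk]
  have hpL : (p : L) = 0 := by
    have := congrArg β hpB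
    simpa using this
  have hpK : (p : K) = 0 := by
    apply ι.injective
    rw [map_natCast, map_zero, hpL]
  letI algKL : Algebra K L := ι.toAlgebra
  haveI : CharP K p := charP_of_natCast_eq_zero p K hpK
  haveI : ExpChar K p := ExpChar.prime Fact.out
  -- `L / K` is purely inseparable
  haveI hpi : IsPurelyInseparable K L := by
    haveI : Nonempty (L →+* AlgebraicClosure L) := ⟨algebraMap L (AlgebraicClosure L)⟩
    refine IsPurelyInseparable.of_injective_comp_algebraMap (F := K) (E := L)
      (AlgebraicClosure L) ?_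
    intro f g hfg
    dsimp only at hfg
    have h1 : (f.comp β).comp φ = (g.comp β).comp φ := by
      ext a
      have e1 : ι (α a) = β (φ a) := RingHom.congr_fun hια a
      have e2 : f (ι (α a)) = g (ι (α a)) := RingHom.congr_fun hfg (α a)
      change f (β (φ a)) = g (β (φ a))
      rw [← e1]
      exact e2
    have h2 : f.comp β = g.comp β := H1 (AlgebraicClosure L) h1
    apply IsLocalization.ringHom_ext (nonZeroDivisors (B ⧸ Q))
    apply Ideal.Quotient.ringHom_ext
    exact h2
  obtain ⟨n, κ, hκ⟩ := IsPurelyInseparable.pow_mem K p (β t)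
  obtain ⟨x, y, hy, hxy⟩ := IsFractionRing.div_surjective (A := A ⧸ P) κ
  obtain ⟨a₀, rfl⟩ := Ideal.Quotient.mk_surjective x
  obtain ⟨s₀, rfl⟩ := Ideal.Quotient.mk_surjective y
  obtain ⟨a, rfl⟩ := exists_pow_char_pow_eq hA n a₀
  obtain ⟨s, rfl⟩ := exists_pow_char_pow_eq hA n s₀
  have hs : s ∉ P := by
    intro hs
    have : Ideal.Quotient.mk P (s ^ p ^ n) = 0 :=
      Ideal.Quotient.eq_zero_iff_mem.mpr (P.pow_mem_of_mem hs _ (pow_pos (Fact.out : p.Prime).pos n))
    rw [this] at hy
    exact zero_notMem_nonZeroDivisors hy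
  have hαs : α s ≠ 0 := by
    intro h0
    apply hs
    have h1 : Ideal.Quotient.mk P s = 0 :=
      (IsFractionRing.injective (A ⧸ P) K) (by simpa [α] using h0)
    exact Ideal.Quotient.eq_zero_iff_mem.mp h1
  have hβs : β (φ s) ≠ 0 := by
    have : β (φ s) = ι (α s) := (RingHom.congr_fun hια s).symm
    rw [this]
    exact (map_ne_zero ι).mpr hαs
  refine ⟨s, a, hs, ?_⟩
  have hκ' : κ = (α a / α s) ^ p ^ n := by
    rw [← hxy, div_pow]
    simp [α, map_pow]
  have h3 : (β t) ^ p ^ n = (β (φ a) / β (φ s)) ^ p ^ n := by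
    rw [← hκ]
    change ι κ = _
    rw [hκ', map_pow, map_div₀]
    congr 2
    · exact RingHom.congr_fun hια a
    · exact RingHom.congr_fun hια s
  have h4 : β t = β (φ a) / β (φ s) := pow_char_pow_injective hpL n h3
  have h5 : β (φ s * t - φ a) = 0 := by
    rw [map_sub, map_mul, h4, mul_div_cancel₀ _ hβs, sub_self]
  have h6 : Ideal.Quotient.mk Q (φ s * t - φ a) = 0 :=
    (IsFractionRing.injective (B ⧸ Q) L) (by simpa [β] using h5)
  exact Ideal.Quotient.eq_zero_iff_mem.mp h6

/-- **Theorem P.** An integral ring map from a semiperfect ring of characteristic `p` to a reduced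
ring with `p = 0`, which is injective on field valued points and on prime spectra, is surjective. -/
theorem surjective_of_perfect_of_integral_of_radicial [IsReduced B]
    (hA : ∀ a : A, ∃ c : A, c ^ p = a) (hpB : (p : B) = 0) (hint : φ.IsIntegral)
    (H1 : ∀ (K : Type u) [Field K], Function.Injective fun g : B →+* K => g.comp φ)
    (H2 : ∀ Q Q' : Ideal B, Q.IsPrime → Q'.IsPrime → Q.comap φ = Q'.comap φ → Q = Q') :
    Function.Surjective φ := by
  classical
  intro b
  change b ∈ φ.range
  letI algAB : Algebra A B := φ.toAlgebra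
  haveI : Algebra.IsIntegral A B := ⟨hint⟩
  let T : Subalgebra A B := Algebra.adjoin A {b}
  have hbT : b ∈ T := Algebra.subset_adjoin (Set.mem_singleton b)
  have hTfg : T.toSubmodule.FG := IsIntegral.fg_adjoin_singleton (hint b)
  have hφT : ∀ a : A, φ a ∈ T := fun a => T.algebraMap_mem a
  -- the conductor
  let I : Ideal A :=
    { carrier := {a | ∀ t ∈ T, φ a * t ∈ φ.range}
      add_mem' := by
        intro a a' ha ha' t ht
        rw [map_add, add_mul]
        exact φ.range.add_mem (ha t ht) (ha' t ht)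
      zero_mem' := by
        intro t _
        rw [map_zero, zero_mul]
        exact φ.range.zero_mem
      smul_mem' := by
        intro c a ha t ht
        rw [smul_eq_mul, map_mul, mul_assoc]
        exact φ.range.mul_mem ⟨c, rfl⟩ (ha t ht) }
  have hI_mem : ∀ a, a ∈ I ↔ ∀ t ∈ T, φ a * t ∈ φ.range := fun a => Iff.rfl
  -- the conductor is `p`-radical
  have hI_p : ∀ a, a ^ p ∈ I → a ∈ I := by
    intro a ha t ht
    apply mem_range_of_pow_mem_range φ hA hpB _ 1
    rw [pow_one, mul_pow, ← map_pow]
    exact ha _ (T.pow_mem ht p)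
  have hI_rad : I.IsRadical := by
    intro a ⟨n, hn⟩
    have h1 : a ^ p ^ n ∈ I := by
      have hle : n ≤ p ^ n := (Nat.lt_pow_self (Fact.out : p.Prime).one_lt).le
      rw [← Nat.sub_add_cancel hle, pow_add]
      exact I.mul_mem_left _ hn
    clear hn
    induction n with
    | zero => simpa using h1
    | succ n ih =>
      apply ih
      apply hI_p
      rw [← pow_mul, ← pow_succ]
      exact h1
  by_cases hItop : I = ⊤
  · have h1 : (1 : A) ∈ I := hItop ▸ Submodule.mem_top
    have := h1 b hbT
    rwa [map_one, one_mul] at this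
  exfalso
  obtain ⟨⟨P, hPmin⟩⟩ := Ideal.nonempty_minimalPrimes hItop
  haveI hPprime : P.IsPrime := hPmin.1.1
  have hIP : I ≤ P := hPmin.1.2
  -- property of minimal primes
  have h3 : ∀ x ∈ P, ∃ s, s ∉ P ∧ s * x ∈ I := by
    intro x hx
    obtain ⟨s, hs, n, hsn⟩ := exists_mul_pow_mem_of_forall_prime I P.primeCompl x (by
      intro Q' hQ' hIQ' hdisj
      have hle : Q' ≤ P := by
        intro z hz
        by_contra hzP
        exact Set.disjoint_left.mp hdisj hz hzP
      have := hPmin.2 ⟨hQ', hIQ'⟩ hle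
      exact this hx)
    refine ⟨s, hs, hI_rad ⟨n + 1, ?_⟩⟩
    rw [mul_pow, pow_succ, pow_succ]
    have : s ^ n * s * (x ^ n * x) = (s ^ n * x) * (s * x ^ n) := by ring
    rw [this]
    exact I.mul_mem_left _ hsn
  -- a prime of `B` over `P`
  have hker : RingHom.ker (algebraMap A B) ≤ P := by
    intro a ha
    apply hIP
    intro t _
    have : φ a = 0 := ha
    rw [this, zero_mul]
    exact φ.range.zero_mem
  obtain ⟨Q, -, hQprime, hQP⟩ := Ideal.exists_ideal_over_prime_of_isIntegral P (⊥ : Ideal B)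
    (by rw [← RingHom.ker_eq_comap_bot]; exact hker)
  have hQP' : Q.comap φ = P := hQP
  -- key claim
  have hkey : ∀ t ∈ T, ∃ s, s ∉ P ∧ φ s * t ∈ φ.range := by
    intro t ht
    obtain ⟨s₀, a, hs₀, hy⟩ := exists_mul_sub_mem_of_radicial φ hA hpB H1 P Q hQP' t
    set y : B := φ s₀ * t - φ a with hydef
    have hyT : y ∈ T := T.sub_mem (T.mul_mem (hφT s₀) ht) (hφT a)
    -- sub-claim, by prime avoidance in `T`
    haveI : Algebra.IsIntegral T B := Algebra.IsIntegral.tower_top (R := A)
    obtain ⟨σ, hσ, n, hσn⟩ := exists_mul_pow_mem_of_forall_prime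
      (Ideal.map (algebraMap A T) P) (Submonoid.map (algebraMap A T) P.primeCompl)
      (⟨y, hyT⟩ : T) (by
        intro Q' hQ' hJQ' hdisj
        have hQ'P : Q'.comap (algebraMap A T) = P := by
          apply le_antisymm
          · intro x hx
            by_contra hxP
            exact Set.disjoint_left.mp hdisj hx ⟨x, hxP, rfl⟩
          · intro x hx
            exact hJQ' (Ideal.mem_map_of_mem _ hx)
        obtain ⟨Q'', -, hQ''prime, hQ''⟩ := Ideal.exists_ideal_over_prime_of_isIntegral Q'
          (⊥ : Ideal B) (by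
            rw [← RingHom.ker_eq_comap_bot]
            intro z hz
            have : (z : B) = 0 := hz
            have hz0 : z = 0 := Subtype.ext this
            rw [hz0]
            exact Q'.zero_mem)
        have hQ''P : Q''.comap φ = P := by
          rw [← hQ'P, ← hQ'', Ideal.comap_comap]
          rfl
        have hQQ : Q'' = Q := H2 Q'' Q hQ''prime hQprime (hQ''P.trans hQP'.symm)
        have : (algebraMap T B ⟨y, hyT⟩) ∈ Q'' := by
          rw [hQQ]
          exact hy
        rw [← hQ'']
        exact this)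
    obtain ⟨s₁, hs₁, rfl⟩ := hσ
    -- the ideal of `T` of elements conducted into the range after localising
    let W : Ideal T :=
      { carrier := {w | ∃ s₂, s₂ ∉ P ∧ ∀ τ ∈ T, φ s₂ * (w : B) * τ ∈ φ.range}
        add_mem' := by
          rintro w w' ⟨s, hs, hw⟩ ⟨s', hs', hw'⟩
          refine ⟨s * s', fun h => (hPprime.mem_or_mem h).elim hs hs', fun τ hτ => ?_⟩
          have e : φ (s * s') * ((w + w' : T) : B) * τ =
              φ s' * (φ s * (w : B) * τ) + φ s * (φ s' * (w' : B) * τ) := by
            push_cast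
            rw [map_mul]
            ring
          rw [e]
          exact φ.range.add_mem (φ.range.mul_mem ⟨s', rfl⟩ (hw τ hτ))
            (φ.range.mul_mem ⟨s, rfl⟩ (hw' τ hτ))
        zero_mem' := ⟨1, fun h => hPprime.ne_top ((Ideal.eq_top_iff_one _).mpr h), fun τ _ => by
          simp only [ZeroMemClass.coe_zero, mul_zero, zero_mul]
          exact φ.range.zero_mem⟩
        smul_mem' := by
          rintro c w ⟨s, hs, hw⟩
          refine ⟨s, hs, fun τ hτ => ?_⟩
          have e : φ s * ((c • w : T) : B) * τ = φ s * (w : B) * ((c : B) * τ) := by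
            simp only [smul_eq_mul, MulMemClass.coe_mul]
            ring
          rw [e]
          exact hw _ (T.mul_mem c.2 hτ) }
    have hJW : Ideal.map (algebraMap A T) P ≤ W := by
      rw [Ideal.map_le_iff_le_comap]
      intro x hx
      obtain ⟨s, hs, hsx⟩ := h3 x hx
      refine ⟨s, hs, fun τ hτ => ?_⟩
      have := hsx τ hτ
      rwa [map_mul] at this
    obtain ⟨s₂, hs₂, hW⟩ := hJW hσn
    -- choose `j` with `n ≤ p ^ j`
    have hle : n ≤ p ^ n := (Nat.lt_pow_self (Fact.out : p.Prime).one_lt).le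
    have h5 : φ (s₂ * s₁) * y ^ p ^ n ∈ φ.range := by
      have := hW (y ^ (p ^ n - n)) (T.pow_mem hyT _)
      have e : φ s₂ * ((algebraMap A T s₁ * (⟨y, hyT⟩ : T) ^ n : T) : B) * y ^ (p ^ n - n) =
          φ (s₂ * s₁) * y ^ p ^ n := by
        have : ((algebraMap A T s₁ * (⟨y, hyT⟩ : T) ^ n : T) : B) = φ s₁ * y ^ n := rfl
        rw [this, map_mul]
        calc φ s₂ * (φ s₁ * y ^ n) * y ^ (p ^ n - n)
            = φ s₂ * φ s₁ * (y ^ n * y ^ (p ^ n - n)) := by ring
          _ = φ s₂ * φ s₁ * y ^ p ^ n := by rw [← pow_add, Nat.add_sub_cancel' hle]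
      rwa [e] at this
    have h6 : (φ (s₂ * s₁) * y) ^ p ^ n ∈ φ.range := by
      have hpos : 0 < p ^ n := pow_pos (Fact.out : p.Prime).pos n
      have e : (φ (s₂ * s₁) * y) ^ p ^ n =
          φ (s₂ * s₁) ^ (p ^ n - 1) * (φ (s₂ * s₁) * y ^ p ^ n) := by
        rw [mul_pow, ← mul_assoc, ← pow_succ, Nat.sub_add_cancel hpos]
      rw [e]
      exact φ.range.mul_mem (φ.range.pow_mem ⟨_, rfl⟩ _) h5
    have h7 : φ (s₂ * s₁) * y ∈ φ.range := mem_range_of_pow_mem_range φ hA hpB _ n h6
    refine ⟨s₂ * s₁ * s₀, fun h => ?_, ?_⟩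
    · rcases hPprime.mem_or_mem h with h | h
      · rcases hPprime.mem_or_mem h with h | h
        · exact hs₂ h
        · exact hs₁ h
      · exact hs₀ h
    · have e : φ (s₂ * s₁ * s₀) * t = φ (s₂ * s₁) * y + φ (s₂ * s₁ * a) := by
        rw [hydef]
        simp only [map_mul]
        ring
      rw [e]
      exact φ.range.add_mem h7 ⟨_, rfl⟩
  -- finish: a common denominator for the finitely many generators of `T`
  obtain ⟨S, hS⟩ := hTfg
  have hfin : ∀ S' : Finset B, (∀ t ∈ S', t ∈ T) →
      ∃ s, s ∉ P ∧ ∀ t ∈ Submodule.span A (S' : Set B), φ s * t ∈ φ.range := by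
    intro S'
    induction S' using Finset.induction_on with
    | empty =>
      intro _
      refine ⟨1, fun h => hPprime.ne_top ((Ideal.eq_top_iff_one _).mpr h), fun t ht => ?_⟩
      rw [Finset.coe_empty, Submodule.span_empty, Submodule.mem_bot] at ht
      rw [ht, mul_zero]
      exact φ.range.zero_mem
    | insert t₀ S' _ ih =>
      intro hS'
      obtain ⟨s, hs, hsS⟩ := ih (fun t ht => hS' t (Finset.mem_insert_of_mem ht))
      obtain ⟨s₀, hs₀, hst₀⟩ := hkey t₀ (hS' t₀ (Finset.mem_insert_self _ _))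
      refine ⟨s * s₀, fun h => (hPprime.mem_or_mem h).elim hs hs₀, fun t ht => ?_⟩
      rw [Finset.coe_insert, Submodule.mem_span_insert] at ht
      obtain ⟨c, t', ht', rfl⟩ := ht
      have e : φ (s * s₀) * (c • t₀ + t') = φ (s * c) * (φ s₀ * t₀) + φ s₀ * (φ s * t') := by
        rw [Algebra.smul_def]
        change φ (s * s₀) * (φ c * t₀ + t') = _
        simp only [map_mul]
        ring
      rw [e]
      exact φ.range.add_mem (φ.range.mul_mem ⟨_, rfl⟩ hst₀) (φ.range.mul_mem ⟨_, rfl⟩ (hsS t' ht'))
  obtain ⟨s, hs, hsT⟩ := hfin S (fun t ht => by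
    have : t ∈ Submodule.span A (S : Set B) := Submodule.subset_span ht
    rw [hS] at this
    exact this)
  apply hs
  apply hIP
  intro t ht
  apply hsT
  rw [hS]
  exact ht

end Frob

end Groth.Agent.Lib.Helper25
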