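import Mathlib
import Groth.Prelude.Def_HTop2
import Groth.Agent.Lib.Helper25.AWN2
import Groth.Agent.Lib.Helper25.PerfIso

set_option autoImplicit false
set_option linter.style.haveILetI false
universe u

open CategoryTheory AlgebraicGeometry Polynomial

namespace Groth.Agent.Lib.Helper25.AWN

section Perf

variable (p : ℕ) [Fact p.Prime]

/-- A universal homeomorphism from a reduced semiperfect ring to a reduced ring of
characteristic `p` is bijective. -/
theorem IsUH.bijective_of_perfect {R S : Type u} [CommRing R] [CommRing S] [IsReduced R]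
    [IsReduced S] {ψ : R →+* S} (hψ : IsUH ψ) (hR : ∀ a : R, ∃ c : R, c ^ p = a)
    (hpS : (p : S) = 0) : Function.Bijective ψ := by
  constructor
  · rw [injective_iff_map_eq_zero]
    intro x hx
    apply IsReduced.eq_zero
    rw [nilpotent_iff_mem_prime]
    intro J hJ
    obtain ⟨q, hq⟩ := hψ.surj ⟨J, hJ⟩
    have hq' : q.asIdeal.comap ψ = J := congrArg PrimeSpectrum.asIdeal hq
    rw [← hq']
    change ψ x ∈ q.asIdeal
    rw [hx]
    exact q.asIdeal.zero_mem
  · apply Groth.Agent.Lib.Helper25.surjective_of_perfect_of_integral_of_radicial (p := p) ψ hR hpS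
      hψ.isIntegral
    · intro K _ g₁ g₂ hg
      exact hψ.inj K g₁ g₂ hg
    · intro Q Q' hQ hQ' hQQ'
      have : (⟨Q, hQ⟩ : PrimeSpectrum S) = ⟨Q', hQ'⟩ := by
        apply hψ.comap_injective
        apply PrimeSpectrum.ext
        exact hQQ'
      exact congrArg PrimeSpectrum.asIdeal this

variable (A : Type u) [CommRing A] [CharP A p]

theorem isUH_perfectClosure_of : IsUH (PerfectClosure.of A p) := by
  have hint : (PerfectClosure.of A p).IsIntegral := by
    intro c
    obtain ⟨⟨n, x⟩, rfl⟩ := PerfectClosure.mk_surjective A p c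
    refine ⟨X ^ (p ^ n) - C x, monic_X_pow_sub_C x (pow_pos (Fact.out : p.Prime).pos n).ne', ?_⟩
    rw [eval₂_sub, eval₂_X_pow, eval₂_C, ← iterate_frobenius, PerfectClosure.iterate_frobenius_mk,
      sub_self]
  refine ⟨hint, ?_, ?_⟩
  · intro K _ g₁ g₂ hg
    have hpK : (p : K) = 0 := by
      have : (p : K) = g₁ ((p : PerfectClosure A p)) := (map_natCast g₁ p).symm
      rw [this, CharP.cast_eq_zero, map_zero]
    haveI : CharP K p := (CharP.charP_iff_prime_eq_zero (Fact.out : p.Prime)).mpr hpK
    ext c
    obtain ⟨⟨n, x⟩, rfl⟩ := PerfectClosure.mk_surjective A p c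
    apply iterateFrobenius_inj K p n
    rw [iterateFrobenius_def, iterateFrobenius_def, ← map_pow, ← map_pow, ← iterate_frobenius,
      PerfectClosure.iterate_frobenius_mk]
    exact RingHom.congr_fun hg x
  · apply comap_surjective_of_isIntegral _ hint
    intro a ha
    rw [PerfectClosure.of_apply, ← PerfectClosure.mk_zero, PerfectClosure.mk_eq_iff] at ha
    obtain ⟨z, hz⟩ := ha
    refine ⟨p ^ z, ?_⟩
    simpa [iterate_frobenius] using hz

include p in
theorem nontrivial_of_charP : Nontrivial A := by
  by_contra h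
  rw [not_nontrivial_iff_subsingleton] at h
  have h1 : ((1 : ℕ) : A) = 0 := Subsingleton.elim _ _
  have := (CharP.cast_eq_zero_iff A p 1).mp h1
  exact (Fact.out : p.Prime).one_lt.ne' (Nat.dvd_one.mp this)

/-- The perfect closure is the absolute weak normalization in characteristic `p`. -/
theorem isRingAWN_perfectClosure_of : HTop.IsRingAWN (PerfectClosure.of A p) := by
  have hU := isUH_perfectClosure_of p A
  refine ⟨(isUnivHomeo_specMap_iff _).mpr hU, ?_⟩
  intro C _ ψ hψ
  have hψU : IsUH ψ := (isUnivHomeo_specMap_iff ψ).mp hψ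
  haveI := nontrivial_of_charP p A
  haveI : Nontrivial C := by
    obtain ⟨q, -⟩ := hψU.surj (Classical.arbitrary (PrimeSpectrum A))
    exact ⟨0, 1, fun h => q.2.ne_top ((Ideal.eq_top_iff_one _).mpr (h ▸ q.asIdeal.zero_mem))⟩
  have hpC : (p : C) = 0 := by
    rw [← map_natCast ψ p, CharP.cast_eq_zero, map_zero]
  haveI : CharP C p := (CharP.charP_iff_prime_eq_zero (Fact.out : p.Prime)).mpr hpC
  let g : PerfectClosure A p →+* PerfectClosure C p :=
    PerfectClosure.lift A p (PerfectClosure C p) ((PerfectClosure.of C p).comp ψ)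
  have hg : g.comp (PerfectClosure.of A p) = (PerfectClosure.of C p).comp ψ :=
    (PerfectClosure.lift A p (PerfectClosure C p)).symm_apply_apply _
  have hgU : IsUH g := by
    apply IsUH.of_comp hU
    rw [hg]
    exact hψU.comp (isUH_perfectClosure_of p C)
  have hgb : Function.Bijective g := hgU.bijective_of_perfect p
    (fun a => (PerfectRing.bijective_frobenius (R := PerfectClosure A p) (p := p)).2 a)
    (CharP.cast_eq_zero _ p)
  let e := RingEquiv.ofBijective g hgb
  refine ⟨e.symm.toRingHom.comp (PerfectClosure.of C p), ?_, ?_⟩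
  · ext a
    have := RingHom.congr_fun hg a
    simp only [RingHom.coe_comp, Function.comp_apply] at this ⊢
    rw [← this]
    exact e.symm_apply_apply (PerfectClosure.of A p a)
  · intro χ' hχ'
    apply hψU.hom_ext_of_isReduced
    rw [hχ']
    ext a
    have := RingHom.congr_fun hg a
    simp only [RingHom.coe_comp, Function.comp_apply] at this ⊢
    rw [← this]
    exact (e.symm_apply_apply (PerfectClosure.of A p a)).symm

end Perf

end Groth.Agent.Lib.Helper25.AWN
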