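import Mathlib
import Groth.Prelude.Def_HTop2
import Groth.Agent.Lib.Helper25.AWN5

set_option autoImplicit false
set_option linter.style.haveILetI false
universe u

open CategoryTheory AlgebraicGeometry Limits Opposite

namespace Groth.Agent.Lib.Helper25.AWN

section General

instance isUnivHomeo_respectsIso :
    (FlatMor.IsUnivHomeo : MorphismProperty Scheme.{u}).RespectsIso := by
  unfold FlatMor.IsUnivHomeo
  infer_instance

instance isUnivHomeo_isStableUnderBaseChange :
    (FlatMor.IsUnivHomeo : MorphismProperty Scheme.{u}).IsStableUnderBaseChange := by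
  unfold FlatMor.IsUnivHomeo
  infer_instance

theorem isUnivHomeo_iff' {X Y : Scheme.{u}} (f : X ⟶ Y) :
    FlatMor.IsUnivHomeo f ↔ IsIntegralHom f ∧ UniversallyInjective f ∧ Surjective f :=
  Groth.Agent.S0415.result f

/-- Local-at-target criterion through pullback squares over an open cover. -/
theorem of_isPullback_openCover (P : MorphismProperty Scheme.{u}) [IsZariskiLocalAtTarget P]
    {X' X : Scheme.{u}} (ν : X' ⟶ X) (𝒰 : X.OpenCover) {T : 𝒰.I₀ → Scheme.{u}}
    (g : ∀ i, T i ⟶ 𝒰.X i) (t : ∀ i, T i ⟶ X') (pb : ∀ i, IsPullback (t i) (g i) ν (𝒰.f i))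
    (h : ∀ i, P (g i)) : P ν := by
  rw [IsZariskiLocalAtTarget.iff_of_openCover (P := P) 𝒰]
  intro i
  have h1 : (pb i).isoPullback.hom ≫ pullback.snd ν (𝒰.f i) = g i := (pb i).isoPullback_hom_snd
  have h2 : P ((pb i).isoPullback.hom ≫ pullback.snd ν (𝒰.f i)) := by rw [h1]; exact h i
  change P (pullback.snd ν (𝒰.f i))
  exact (MorphismProperty.cancel_left_of_respectsIso P (pb i).isoPullback.hom
    (pullback.snd ν (𝒰.f i))).mp h2

set_option backward.isDefEq.respectTransparency false in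
theorem isUnivHomeo_of_isPullback_openCover {X' X : Scheme.{u}} (ν : X' ⟶ X) (𝒰 : X.OpenCover)
    {T : 𝒰.I₀ → Scheme.{u}} (g : ∀ i, T i ⟶ 𝒰.X i) (t : ∀ i, T i ⟶ X')
    (pb : ∀ i, IsPullback (t i) (g i) ν (𝒰.f i)) (h : ∀ i, FlatMor.IsUnivHomeo (g i)) :
    FlatMor.IsUnivHomeo ν := by
  rw [isUnivHomeo_iff']
  refine ⟨?_, ?_, ?_⟩
  · exact of_isPullback_openCover @IsIntegralHom.{u} ν 𝒰 g t pb fun i => ((isUnivHomeo_iff' _).mp (h i)).1
  · exact of_isPullback_openCover @UniversallyInjective.{u} ν 𝒰 g t pb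
      fun i => ((isUnivHomeo_iff' _).mp (h i)).2.1
  · exact of_isPullback_openCover @Surjective.{u} ν 𝒰 g t pb fun i => ((isUnivHomeo_iff' _).mp (h i)).2.2

/-- Two morphisms from a reduced scheme into a universally injective separated `Y/X` which agree
over `X` are equal. -/
theorem hom_ext_of_isReduced {T Y X : Scheme.{u}} [IsReduced T] (π : Y ⟶ X) [IsSeparated π]
    [UniversallyInjective π] (a b : T ⟶ Y) (h : a ≫ π = b ≫ π) : a = b := by
  haveI : Surjective (pullback.diagonal π) := (UniversallyInjective.iff_diagonal π).mp inferInstance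
  let g : T ⟶ pullback π π := pullback.lift a b h
  haveI : IsClosedImmersion (pullback.fst g (pullback.diagonal π)) := inferInstance
  haveI : Surjective (pullback.fst g (pullback.diagonal π)) := inferInstance
  haveI : IsIso (pullback.fst g (pullback.diagonal π)) :=
    isIso_of_isClosedImmersion_of_surjective _
  have ha : a = inv (pullback.fst g (pullback.diagonal π)) ≫ pullback.snd g (pullback.diagonal π) := by
    rw [IsIso.eq_inv_comp]
    have h1 : g ≫ pullback.fst π π = a := pullback.lift_fst _ _ _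
    rw [← h1, ← Category.assoc, pullback.condition, Category.assoc, pullback.diagonal_fst,
      Category.comp_id]
  have hb : b = inv (pullback.fst g (pullback.diagonal π)) ≫ pullback.snd g (pullback.diagonal π) := by
    rw [IsIso.eq_inv_comp]
    have h1 : g ≫ pullback.snd π π = b := pullback.lift_snd _ _ _
    rw [← h1, ← Category.assoc, pullback.condition, Category.assoc, pullback.diagonal_snd,
      Category.comp_id]
  rw [ha, hb]

theorem hom_ext_of_isUnivHomeo {T Y X : Scheme.{u}} [IsReduced T] (π : Y ⟶ X)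
    (hπ : FlatMor.IsUnivHomeo π) (a b : T ⟶ Y) (h : a ≫ π = b ≫ π) : a = b := by
  obtain ⟨h1, h2, -⟩ := (isUnivHomeo_iff' π).mp hπ
  exact hom_ext_of_isReduced π a b h

end General

section Affine

/-- A universal homeomorphism to `Spec A` receives a map from `Spec (W A)` over `Spec A`. -/
theorem exists_lift_affine (A : Type u) [CommRing A] {Y : Scheme.{u}}
    (π : Y ⟶ Spec (CommRingCat.of A)) (hπ : FlatMor.IsUnivHomeo π) :
    ∃ h : Spec (CommRingCat.of (W A)) ⟶ Y, h ≫ π = Spec.map (CommRingCat.ofHom (φ A)) := by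
  obtain ⟨h1, -, -⟩ := (isUnivHomeo_iff' π).mp hπ
  haveI : IsAffine Y := isAffine_of_isAffineHom π
  let ψ : CommRingCat.of A ⟶ Γ(Y, ⊤) := (Scheme.ΓSpecIso (CommRingCat.of A)).inv ≫ π.appTop
  have hπψ : π = Y.isoSpec.hom ≫ Spec.map ψ := by
    have h2 := Scheme.isoSpec_hom_naturality π
    rw [Scheme.isoSpec_Spec_hom] at h2
    have h3 : Spec.map ψ = Spec.map π.appTop ≫ Spec.map (Scheme.ΓSpecIso (CommRingCat.of A)).inv :=
      Spec.map_comp _ _
    rw [h3, ← Category.assoc, h2, Category.assoc, ← Spec.map_comp, Iso.inv_hom_id, Spec.map_id,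
      Category.comp_id]
  have hψ : FlatMor.IsUnivHomeo (Spec.map ψ) := by
    have h4 : Spec.map ψ = Y.isoSpec.inv ≫ π := by rw [hπψ, Iso.inv_hom_id_assoc]
    rw [h4]
    exact (MorphismProperty.cancel_left_of_respectsIso FlatMor.IsUnivHomeo Y.isoSpec.inv π).mpr hπ
  have hψU : IsUH ψ.hom := (isUnivHomeo_specMap_iff ψ.hom).mp hψ
  obtain ⟨χ, hχ, -⟩ := existsUnique_of_isUH A ψ.hom hψU
  refine ⟨Spec.map (CommRingCat.ofHom χ) ≫ Y.isoSpec.inv, ?_⟩
  rw [Category.assoc, hπψ, Iso.inv_hom_id_assoc, ← Spec.map_comp]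
  congr 1
  exact CommRingCat.hom_ext hχ

end Affine

section Global

/-- Absolute weak normality of schemes is invariant under isomorphism. -/
theorem isAWN_of_iso {Y Z : Scheme.{u}} (e : Y ≅ Z) (h : HTop.IsAWN Y) : HTop.IsAWN Z := by
  intro z
  obtain ⟨U, hzU, hU⟩ := h (e.inv z)
  refine ⟨⟨e.hom ''ᵁ U.1, U.2.image_of_isOpenImmersion e.hom⟩, ?_, ?_⟩
  · refine ⟨e.inv z, hzU, ?_⟩
    change e.hom (e.inv z) = z
    rw [← Scheme.Hom.comp_apply, e.inv_hom_id]
    rfl
  · exact isAWNRing_of_ringEquiv ((e.hom.appIso U.1).commRingCatIsoToRingEquiv).symm hU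

set_option backward.isDefEq.respectTransparency false in
/-- A universal homeomorphism from a reduced scheme to an absolutely weakly normal scheme is an
isomorphism. -/
theorem isIso_of_isAWN {T Y : Scheme.{u}} [IsReduced T] (h : T ⟶ Y)
    (hh : FlatMor.IsUnivHomeo h) (hY : HTop.IsAWN Y) : IsIso h := by
  obtain ⟨h1, -, -⟩ := (isUnivHomeo_iff' h).mp hh
  choose U hyU hU using hY
  have hcov : ⨆ y, (U y : Y.Opens) = ⊤ :=
    top_le_iff.mp fun y _ => TopologicalSpace.Opens.mem_iSup.mpr ⟨y, hyU y⟩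
  rw [← MorphismProperty.isomorphisms.iff,
    HasAffineProperty.iff_of_iSup_eq_top (P := MorphismProperty.isomorphisms Scheme.{u}) U hcov]
  intro y
  have hres : FlatMor.IsUnivHomeo (h ∣_ (U y).1) :=
    MorphismProperty.of_isPullback (P := FlatMor.IsUnivHomeo)
      (isPullback_morphismRestrict h (U y).1).flip hh
  have haff : IsAffine (h ⁻¹ᵁ (U y).1) := (U y).2.preimage h
  haveI : IsAffine ((U y).1 : Scheme.{u}) := (U y).2
  refine ⟨haff, ?_⟩
  have hρ : FlatMor.IsUnivHomeo (Spec.map (h ∣_ (U y).1).appTop) :=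
    (MorphismProperty.arrow_mk_iso_iff FlatMor.IsUnivHomeo
      (arrowIsoSpecΓOfIsAffine (h ∣_ (U y).1))).mp hres
  have hρU : IsUH (h ∣_ (U y).1).appTop.hom := (isUnivHomeo_specMap_iff _).mp hρ
  have hsrc : HTop.IsAWNRing Γ(((U y).1 : Scheme.{u}), ⊤) :=
    isAWNRing_of_ringEquiv ((U y).1.topIso.commRingCatIsoToRingEquiv).symm (hU y)
  have hb := hρU.bijective_of_isAWNRing hsrc
  exact (ConcreteCategory.isIso_iff_bijective _).mpr hb

end Global

end Groth.Agent.Lib.Helper25.AWN
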