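import Mathlib
import Groth.Prelude.Def_HTop2
import Groth.Agent.Lib.Helper25.AWNSch0

set_option autoImplicit false
set_option linter.style.haveILetI false
universe u

open CategoryTheory AlgebraicGeometry Limits Scheme.AffineZariskiSite Opposite

namespace Groth.Agent.Lib.Helper25.AWN

variable (X : Scheme.{u})

/-- The presheaf of absolute weak normalizations on the affine Zariski site. -/
noncomputable def awnDiagram : X.AffineZariskiSiteᵒᵖ ⥤ CommRingCat.{u} where
  obj U := CommRingCat.of (W Γ(X, U.unop.toOpens))
  map {V U} i := CommRingCat.ofHom (Wmap (((toOpensFunctor X).op ⋙ X.presheaf).map i).hom)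
  map_id U := by
    have h := CategoryTheory.Functor.map_id ((toOpensFunctor X).op ⋙ X.presheaf) U
    ext1
    change Wmap _ = RingHom.id _
    rw [h]
    exact Wmap_id
  map_comp i j := by
    have h := CategoryTheory.Functor.map_comp ((toOpensFunctor X).op ⋙ X.presheaf) i j
    ext1
    change Wmap _ = (Wmap _).comp (Wmap _)
    rw [h]
    exact Wmap_comp _ _

/-- The structure map of the presheaf of absolute weak normalizations. -/
noncomputable def awnDiagramMap : (toOpensFunctor X).op ⋙ X.presheaf ⟶ awnDiagram X where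
  app U := CommRingCat.ofHom (φ Γ(X, U.unop.toOpens))
  naturality {V U} i := by
    ext1
    exact (Wmap_comp_φ _).symm

lemma coequifibered_awnDiagramMap : (awnDiagramMap X).Coequifibered := by
  refine coequifibered_iff_forall_isLocalizationAway.mpr fun U r => ?_
  exact isLocalization_away_Wmap
    (((toOpensFunctor X).op ⋙ X.presheaf).map (homOfLE (U.basicOpen_le r)).op).hom r
    (U.2.isLocalization_basicOpen r)

/-- The gluing data for the absolute weak normalization. -/
noncomputable def awnGlueData : (directedCover X).RelativeGluingData :=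
  relativeGluingData (coequifibered_awnDiagramMap X)

instance : ((awnGlueData X).functor ⋙ Scheme.forget).IsLocallyDirected :=
  Scheme.Cover.RelativeGluingData.instIsLocallyDirectedI₀CompFunctorForgetOfIsThin ..

/-- The absolute weak normalization of a scheme. -/
noncomputable def awn : Scheme.{u} := (awnGlueData X).glued

/-- The affine open cover of the absolute weak normalization. -/
noncomputable def awnCover : (awn X).OpenCover := (awnGlueData X).cover

/-- The structure morphism of the absolute weak normalization. -/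
noncomputable def fromAwn : awn X ⟶ X := (awnGlueData X).toBase

/-- The open immersion of the affine chart over `U`. -/
noncomputable def awnι (U : X.AffineZariskiSite) :
    Spec (CommRingCat.of (W Γ(X, U.toOpens))) ⟶ awn X := (awnCover X).f U

instance (U : X.AffineZariskiSite) : IsOpenImmersion (awnι X U) :=
  (awnCover X).map_prop U

lemma ι_fromAwn (U : X.AffineZariskiSite) :
    awnι X U ≫ fromAwn X =
      Spec.map (CommRingCat.ofHom (φ Γ(X, U.toOpens))) ≫ U.2.fromSpec :=
  colimit.ι_desc _ _

lemma natTrans_app (U : X.AffineZariskiSite) :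
    (awnGlueData X).natTrans.app U =
      Spec.map (CommRingCat.ofHom (φ Γ(X, U.toOpens))) ≫ U.2.isoSpec.inv := rfl

lemma isPullback_awn (U : X.AffineZariskiSite) :
    IsPullback ((awnCover X).f U) ((awnGlueData X).natTrans.app U) (fromAwn X) U.toOpens.ι :=
  ((awnGlueData X).isPullback_natTrans_ι_toBase U).flip

theorem isUnivHomeo_fromAwn : FlatMor.IsUnivHomeo (fromAwn X) := by
  refine isUnivHomeo_of_isPullback_openCover (fromAwn X) (directedCover X)
    (fun U => (awnGlueData X).natTrans.app U) (fun U => (awnCover X).f U)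
    (fun U => isPullback_awn X U) ?_
  intro U
  rw [natTrans_app]
  exact (MorphismProperty.cancel_right_of_respectsIso FlatMor.IsUnivHomeo _ U.2.isoSpec.inv).mpr
    ((isUnivHomeo_specMap_iff _).mpr (isUH_φ _))

instance isReduced_awnCover (U : X.AffineZariskiSite) : IsReduced ((awnCover X).X U) :=
  inferInstanceAs (IsReduced (Spec (CommRingCat.of (W Γ(X, U.toOpens)))))

instance isReduced_awn : IsReduced (awn X) :=
  haveI : ∀ i, IsReduced ((awnCover X).X i) := fun U => isReduced_awnCover X U
  IsReduced.of_openCover _ (awnCover X)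

variable {X}

theorem exists_local_lift {Y : Scheme.{u}} (π : Y ⟶ X) (hπ : FlatMor.IsUnivHomeo π)
    (U : X.AffineZariskiSite) :
    ∃ hU : Spec (CommRingCat.of (W Γ(X, U.toOpens))) ⟶ Y, hU ≫ π = awnι X U ≫ fromAwn X := by
  have hπU : FlatMor.IsUnivHomeo (pullback.snd π U.2.fromSpec) :=
    MorphismProperty.pullback_snd _ _ hπ
  obtain ⟨h', hh'⟩ := exists_lift_affine Γ(X, U.toOpens) (pullback.snd π U.2.fromSpec) hπU
  refine ⟨h' ≫ pullback.fst π U.2.fromSpec, ?_⟩
  rw [Category.assoc, pullback.condition, ← Category.assoc, hh', ι_fromAwn]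

theorem exists_lift {Y : Scheme.{u}} (π : Y ⟶ X) (hπ : FlatMor.IsUnivHomeo π) :
    ∃ h : awn X ⟶ Y, h ≫ π = fromAwn X := by
  have key : ∀ U : (awnCover X).I₀, ∃ hU : (awnCover X).X U ⟶ Y,
      hU ≫ π = (awnCover X).f U ≫ fromAwn X := fun U => exists_local_lift π hπ U
  choose hU hhU using key
  have compat : ∀ U V, pullback.fst ((awnCover X).f U) ((awnCover X).f V) ≫ hU U =
      pullback.snd ((awnCover X).f U) ((awnCover X).f V) ≫ hU V := by
    intro U V
    haveI : IsReduced ((awnCover X).X U) := isReduced_awnCover X U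
    haveI : IsReduced (pullback ((awnCover X).f U) ((awnCover X).f V)) :=
      isReduced_of_isOpenImmersion (pullback.fst _ _)
    apply hom_ext_of_isUnivHomeo π hπ
    rw [Category.assoc, Category.assoc, hhU, hhU, ← Category.assoc, pullback.condition,
      Category.assoc]
  refine ⟨(awnCover X).glueMorphisms hU compat, ?_⟩
  apply (awnCover X).hom_ext
  intro U
  rw [← Category.assoc, Scheme.Cover.ι_glueMorphisms, hhU]

variable (X)

/-- **Stacks 0EUS**: every scheme has an absolute weak normalization. -/
theorem isAWNormalization_fromAwn : HTop.IsAWNormalization (fromAwn X) := by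
  refine ⟨isUnivHomeo_fromAwn X, fun Y π hπ => ?_⟩
  obtain ⟨h, hh⟩ := exists_lift π hπ
  exact ⟨h, hh, fun h' hh' => hom_ext_of_isUnivHomeo π hπ h' h (hh'.trans hh.symm)⟩

/-- The absolute weak normalization is absolutely weakly normal. -/
theorem isAWN_awn : HTop.IsAWN (awn X) := by
  intro x
  have key : ∀ (U : X.AffineZariskiSite) (y : Spec (CommRingCat.of (W Γ(X, U.toOpens)))),
      ∃ V : (awn X).affineOpens, awnι X U y ∈ (V : (awn X).Opens) ∧ HTop.IsAWNRing Γ(awn X, V) := by
    intro U y
    have hU : HTop.IsAWNRing Γ(awn X, awnι X U ''ᵁ ⊤) := isAWNRing_of_ringEquiv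
      (((awnι X U).appIso ⊤ ≪≫ Scheme.ΓSpecIso _).commRingCatIsoToRingEquiv).symm isAWNRing_W
    exact ⟨⟨awnι X U ''ᵁ ⊤, (isAffineOpen_top _).image_of_isOpenImmersion _⟩,
      ⟨y, ⟨trivial, rfl⟩⟩, hU⟩
  obtain ⟨U, y, rfl⟩ := (awnCover X).exists_eq x
  exact key U y

end Groth.Agent.Lib.Helper25.AWN
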