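import Mathlib
import Groth.Prelude.Def_HTop2
import Groth.Agent.Lib.Helper25.AWNSch

set_option autoImplicit false
set_option linter.style.haveILetI false
universe u

open CategoryTheory AlgebraicGeometry Limits Opposite

namespace Groth.Agent.Lib.Helper25.AWN

section Cancel

variable {X Y Z : Scheme.{u}}

theorem isUnivHomeo_of_isIso (f : X ⟶ Y) [IsIso f] : FlatMor.IsUnivHomeo f := by
  rw [isUnivHomeo_iff']
  exact ⟨inferInstance, inferInstance, inferInstance⟩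

set_option backward.isDefEq.respectTransparency false in
/-- Cancellation: if `h ≫ π` and `π` are universal homeomorphisms then so is `h`. -/
theorem isUnivHomeo_of_comp (h : X ⟶ Y) (π : Y ⟶ Z) (hπ : FlatMor.IsUnivHomeo π)
    (hc : FlatMor.IsUnivHomeo (h ≫ π)) : FlatMor.IsUnivHomeo h := by
  rw [isUnivHomeo_iff'] at hπ hc ⊢
  obtain ⟨π1, π2, π3⟩ := hπ
  obtain ⟨c1, c2, c3⟩ := hc
  refine ⟨?_, ?_, ?_⟩
  · exact MorphismProperty.of_postcomp (W := @IsIntegralHom) (W' := @IsSeparated) h π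
      inferInstance c1
  · apply ((tfae_universallyInjective h).out 0 1).mpr
    intro K _ g₁ g₂ hg
    have hc2 : ∀ (K : Type u) [Field K], Function.Injective
        (fun g : Spec (.of K) ⟶ X => g ≫ h ≫ π) :=
      ((tfae_universallyInjective (h ≫ π)).out 0 1).mp c2
    apply hc2 K
    dsimp only at hg ⊢
    rw [← Category.assoc, hg, Category.assoc]
  · refine ⟨fun y => ?_⟩
    obtain ⟨x, hx⟩ := c3.surj (π y)
    refine ⟨x, π.injective ?_⟩
    rw [← hx]
    rfl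

end Cancel

section Uniq

variable {X X₁ X₂ : Scheme.{u}}

/-- Two absolute weak normalizations of the same scheme are isomorphic over it. -/
theorem exists_iso_of_isAWNormalization (ν₁ : X₁ ⟶ X) (ν₂ : X₂ ⟶ X)
    (h₁ : HTop.IsAWNormalization ν₁) (h₂ : HTop.IsAWNormalization ν₂) :
    ∃ e : X₁ ≅ X₂, e.hom ≫ ν₂ = ν₁ := by
  obtain ⟨a, ha, -⟩ := h₁.2 X₂ ν₂ h₂.1
  obtain ⟨b, hb, -⟩ := h₂.2 X₁ ν₁ h₁.1
  obtain ⟨e₁, -, u₁⟩ := h₁.2 X₁ ν₁ h₁.1
  obtain ⟨e₂, -, u₂⟩ := h₂.2 X₂ ν₂ h₂.1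
  have hab : a ≫ b = 𝟙 X₁ := by
    rw [u₁ (a ≫ b) (by change (a ≫ b) ≫ ν₁ = ν₁; rw [Category.assoc, hb, ha]),
      u₁ (𝟙 X₁) (Category.id_comp _)]
  have hba : b ≫ a = 𝟙 X₂ := by
    rw [u₂ (b ≫ a) (by change (b ≫ a) ≫ ν₂ = ν₂; rw [Category.assoc, ha, hb]),
      u₂ (𝟙 X₂) (Category.id_comp _)]
  exact ⟨⟨a, b, hab, hba⟩, ha⟩

theorem isAWN_of_isAWNormalization (ν₁ : X₁ ⟶ X) (h₁ : HTop.IsAWNormalization ν₁) :
    HTop.IsAWN X₁ := by
  obtain ⟨e, -⟩ := exists_iso_of_isAWNormalization ν₁ (fromAwn X) h₁ (isAWNormalization_fromAwn X)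
  exact isAWN_of_iso e.symm (isAWN_awn X)

theorem isReduced_of_isAWNormalization (ν₁ : X₁ ⟶ X) (h₁ : HTop.IsAWNormalization ν₁) :
    IsReduced X₁ := by
  obtain ⟨e, -⟩ := exists_iso_of_isAWNormalization ν₁ (fromAwn X) h₁ (isAWNormalization_fromAwn X)
  exact isReduced_of_isOpenImmersion e.hom

end Uniq

section Main

/-- **Stacks 0EUS** (existence). -/
theorem exists_isAWNormalization (X : Scheme.{u}) :
    ∃ (X' : Scheme.{u}) (ν : X' ⟶ X), HTop.IsAWNormalization ν :=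
  ⟨awn X, fromAwn X, isAWNormalization_fromAwn X⟩

theorem isIso_iff_isAWN {X X' Y : Scheme.{u}} (ν : X' ⟶ X) (hν : HTop.IsAWNormalization ν)
    (π : Y ⟶ X) (hπ : FlatMor.IsUnivHomeo π) (h : X' ⟶ Y) (hh : h ≫ π = ν) :
    IsIso h ↔ HTop.IsAWN Y := by
  constructor
  · intro hi
    exact isAWN_of_iso (asIso h) (isAWN_of_isAWNormalization ν hν)
  · intro hY
    haveI := isReduced_of_isAWNormalization ν hν
    exact isIso_of_isAWN h (isUnivHomeo_of_comp h π hπ (hh ▸ hν.1)) hY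

theorem isAWN_iff_isAWNormalization_id (X : Scheme.{u}) :
    HTop.IsAWN X ↔ HTop.IsAWNormalization (𝟙 X) := by
  constructor
  · intro hX
    haveI : IsIso (fromAwn X) := isIso_of_isAWN (fromAwn X) (isUnivHomeo_fromAwn X) hX
    haveI : IsReduced X := isReduced_of_isOpenImmersion (inv (fromAwn X))
    refine ⟨isUnivHomeo_of_isIso _, fun Y π hπ => ?_⟩
    obtain ⟨h, hh⟩ := exists_lift π hπ
    refine ⟨inv (fromAwn X) ≫ h, ?_, ?_⟩
    · change (inv (fromAwn X) ≫ h) ≫ π = 𝟙 X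
      rw [Category.assoc, hh, IsIso.inv_hom_id]
    · intro s hs
      exact hom_ext_of_isUnivHomeo π hπ _ _ (by
        change s ≫ π = 𝟙 X at hs
        rw [hs, Category.assoc, hh, IsIso.inv_hom_id])
  · intro h
    exact isAWN_of_isAWNormalization (𝟙 X) h

theorem isAWN_iff_forall_isIso (X : Scheme.{u}) :
    HTop.IsAWN X ↔ ∀ (Y : Scheme.{u}) (π : Y ⟶ X), FlatMor.IsUnivHomeo π →
      AlgebraicGeometry.IsReduced Y → IsIso π := by
  constructor
  · intro hX Y π hπ hY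
    exact isIso_of_isAWN π hπ hX
  · intro H
    haveI : IsIso (fromAwn X) := H (awn X) (fromAwn X) (isUnivHomeo_fromAwn X) inferInstance
    exact isAWN_of_iso (asIso (fromAwn X)) (isAWN_awn X)

end Main

end Groth.Agent.Lib.Helper25.AWN
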