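import Mathlib
import Groth.Prelude.Def_Omega3

set_option autoImplicit false
universe u

open CategoryTheory CategoryTheory.Limits AlgebraicGeometry TopologicalSpace Opposite

namespace Groth.Agent.Lib.Helper25.SkyMod

variable {X : Scheme.{u}} (x : X) (M : Type u) [AddCommGroup M] [Module (X.presheaf.stalk x) M]

/-- sections of the skyscraper at `x` with value `M` over `U` -/
abbrev Sec (U : X.Opens) : Type u := PLift (x ∈ U) → M

noncomputable instance instModuleSec (U : X.Opens) : Module Γ(X, U) (Sec x M U) where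
  smul s φ := fun h => X.presheaf.germ U x h.down s • φ h
  one_smul φ := by
    funext h
    show X.presheaf.germ U x h.down 1 • φ h = φ h
    rw [map_one, one_smul]
  mul_smul a b φ := by
    funext h
    show X.presheaf.germ U x h.down (a * b) • φ h =
      X.presheaf.germ U x h.down a • (X.presheaf.germ U x h.down b • φ h)
    rw [map_mul, mul_smul]
  smul_zero a := by
    funext h
    show X.presheaf.germ U x h.down a • (0 : M) = 0
    rw [smul_zero]
  smul_add a φ ψ := by
    funext h
    show X.presheaf.germ U x h.down a • (φ h + ψ h) =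
      X.presheaf.germ U x h.down a • φ h + X.presheaf.germ U x h.down a • ψ h
    rw [smul_add]
  add_smul a b φ := by
    funext h
    show X.presheaf.germ U x h.down (a + b) • φ h =
      X.presheaf.germ U x h.down a • φ h + X.presheaf.germ U x h.down b • φ h
    rw [map_add, add_smul]
  zero_smul φ := by
    funext h
    show X.presheaf.germ U x h.down 0 • φ h = 0
    rw [map_zero, zero_smul]

lemma smul_apply (U : X.Opens) (s : Γ(X, U)) (φ : Sec x M U) (h : PLift (x ∈ U)) :
    (s • φ) h = X.presheaf.germ U x h.down s • φ h := rfl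

/-- the skyscraper presheaf of abelian groups -/
def presheaf : (Opens X)ᵒᵖ ⥤ Ab.{u} where
  obj U := AddCommGrpCat.of (Sec x M U.unop)
  map {_ _} i := AddCommGrpCat.ofHom
    { toFun := fun φ h => φ ⟨i.unop.le h.down⟩
      map_zero' := rfl
      map_add' := fun _ _ => rfl }
  map_id _ := rfl
  map_comp _ _ := rfl

noncomputable instance (U : (Opens X)ᵒᵖ) : Module ((X.presheaf ⋙ forget₂ CommRingCat RingCat).obj U)
    ((presheaf x M).obj U) :=
  inferInstanceAs (Module Γ(X, U.unop) (Sec x M U.unop))

omit [Module (X.presheaf.stalk x) M] in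
lemma presheaf_map_apply {U V : (Opens X)ᵒᵖ} (i : U ⟶ V) (φ : Sec x M U.unop)
    (h : PLift (x ∈ V.unop)) :
    ((presheaf x M).map i).hom φ h = φ ⟨i.unop.le h.down⟩ := rfl

/-- the skyscraper presheaf of modules -/
noncomputable def pmod : PresheafOfModules (X.presheaf ⋙ forget₂ CommRingCat RingCat) :=
  PresheafOfModules.ofPresheaf (presheaf x M) (by
    intro U V i r m
    funext h
    have := TopCat.Presheaf.germ_res_apply X.presheaf i.unop x h.down r
    show X.presheaf.germ U.unop x _ r • (show Sec x M U.unop from m) _ =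
      X.presheaf.germ V.unop x h.down (X.presheaf.map i r) • (show Sec x M U.unop from m) _
    rw [← this]
    rfl)


omit [Module (X.presheaf.stalk x) M] in
lemma isSheaf_presheaf : TopCat.Presheaf.IsSheaf (X := X.toTopCat) (presheaf x M) := by
  rw [TopCat.Presheaf.isSheaf_iff_isSheafUniqueGluing]
  intro ι U sf hsf
  have key : ∀ (i j : ι) (hi : x ∈ U i) (hj : x ∈ U j),
      (show Sec x M (U i) from sf i) ⟨hi⟩ = (show Sec x M (U j) from sf j) ⟨hj⟩ := by
    intro i j hi hj
    have := congrFun (hsf i j) ⟨(⟨hi, hj⟩ : x ∈ U i ⊓ U j)⟩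
    exact this
  refine ⟨(fun h => (show Sec x M (U (Opens.mem_iSup.mp h.down).choose) from sf _)
    ⟨(Opens.mem_iSup.mp h.down).choose_spec⟩ : Sec x M (iSup U)), ?_, ?_⟩
  · intro i
    funext h
    exact key _ _ _ _
  · intro s' hs'
    funext h
    have := congrFun (hs' (Opens.mem_iSup.mp h.down).choose)
      ⟨(Opens.mem_iSup.mp h.down).choose_spec⟩
    exact this

/-- the skyscraper `O_X`-module at `x` with value the `O_{X,x}`-module `M` -/
noncomputable def sky : X.Modules := ⟨pmod x M, isSheaf_presheaf x M⟩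

section Der

variable {Y : Scheme.{u}} (f : X ⟶ Y) {x M}
  (δ : X.presheaf.stalk x →+ M)
  (hmul : ∀ a b, δ (a * b) = a • δ b + b • δ a)
  (hzero : ∀ c, δ (f.stalkMap x c) = 0)

/-- the derivation into the skyscraper module induced by a derivation of the stalk -/
noncomputable def skyDer : OmegaSh.Der f (sky x M) where
  d {U} :=
    { toFun := fun s => (fun h => δ (X.presheaf.germ U.unop x h.down s) : Sec x M U.unop)
      map_zero' := by
        funext h
        show δ (X.presheaf.germ U.unop x h.down 0) = 0
        rw [map_zero, map_zero]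
      map_add' := fun a b => by
        funext h
        show δ (X.presheaf.germ U.unop x h.down (a + b)) = δ _ + δ _
        rw [map_add, map_add] }
  d_mul {U} a b := by
    funext h
    show δ (X.presheaf.germ U.unop x h.down (a * b)) =
      X.presheaf.germ U.unop x h.down a • δ (X.presheaf.germ U.unop x h.down b) +
      X.presheaf.germ U.unop x h.down b • δ (X.presheaf.germ U.unop x h.down a)
    rw [map_mul]
    exact hmul _ _
  d_map {U V} i a := by
    funext h
    have := TopCat.Presheaf.germ_res_apply X.presheaf i.unop x h.down a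
    show δ (X.presheaf.germ V.unop x h.down (X.presheaf.map i a)) = δ _
    rw [← this]
    rfl
  d_app {V} c := by
    funext h
    show δ (X.presheaf.germ (f ⁻¹ᵁ V.unop) x h.down (f.app V.unop c)) = 0
    have := Scheme.Hom.germ_stalkMap_apply f V.unop x h.down c
    rw [← this]
    exact hzero _

end Der


section Ring

/-- an additive Leibniz map out of a formally unramified algebra which kills the base is zero -/
lemma eq_zero_of_formallyUnramified {A B N : Type*} [CommRing A] [CommRing B] [AddCommGroup N]
    [Module B N] (φ : A →+* B) (hφ : φ.FormallyUnramified) (δ : B →+ N)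
    (hmul : ∀ a b, δ (a * b) = a • δ b + b • δ a) (hzero : ∀ a, δ (φ a) = 0) (b : B) :
    δ b = 0 := by
  algebraize [φ]
  let _ : Module A N := Module.compHom N φ
  have : IsScalarTower A B N := IsScalarTower.of_algebraMap_smul fun _ _ => rfl
  let D : Derivation A B N :=
    { toFun := δ
      map_add' := δ.map_add
      map_smul' := fun a b => by
        show δ (a • b) = φ a • δ b
        rw [Algebra.smul_def, hmul]
        show φ a • δ b + b • δ (φ a) = _
        rw [hzero, smul_zero, add_zero]
      map_one_eq_zero' := by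
        show δ 1 = 0
        have := hmul 1 1
        rw [mul_one, one_smul] at this
        exact (add_eq_left.mp this.symm)
      leibniz' := fun a b => by
        show δ (a * b) = a • δ b + b • δ a
        exact hmul a b }
  have h1 : D b = D.liftKaehlerDifferential (KaehlerDifferential.D A B b) :=
    (Derivation.liftKaehlerDifferential_comp_D D b).symm
  have h2 : KaehlerDifferential.D A B b = 0 := Subsingleton.elim _ _
  show D b = 0
  rw [h1, h2, map_zero]

end Ring


section Main

variable {X Y : Scheme.{u}} (f : X ⟶ Y) {Ω' : X.Modules} (d : OmegaSh.Der f Ω')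

/-- Sections of a module are determined by their restrictions to a cover. -/
lemma sections_ext_of_cover (F : X.Modules) {ι : Type*} (A : ι → X.Opens) (V : X.Opens)
    (hAV : ∀ i, A i ≤ V) (hcover : V ≤ iSup A) (s t : Γ(F, V))
    (h : ∀ i, F.presheaf.map (homOfLE (hAV i)).op s = F.presheaf.map (homOfLE (hAV i)).op t) :
    s = t :=
  TopCat.Sheaf.eq_of_locally_eq' (⟨F.presheaf, F.isSheaf⟩ : TopCat.Sheaf Ab X) A V
    (fun i => homOfLE (hAV i)) hcover s t h

lemma app_mul (U : X.Opens) (a b : Γ(X, U)) :
    d.app U (a * b) = a • d.app U b + b • d.app U a :=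
  d.d_mul a b

lemma app_map {U V : X.Opens} (i : V ⟶ U) (a : Γ(X, U)) :
    d.app V (X.presheaf.map i.op a) = Ω'.presheaf.map i.op (d.app U a) :=
  d.d_map i.op a

/-- on an affine pair, a derivation of a formally unramified morphism vanishes -/
lemma app_eq_zero_of_affine [FormallyUnramified f] {V : Y.Opens} (hV : IsAffineOpen V)
    {W : X.Opens} (hW : IsAffineOpen W) (e : W ≤ f ⁻¹ᵁ V) (s : Γ(X, W)) : d.app W s = 0 := by
  have hφ : (f.appLE V W e).hom.FormallyUnramified :=
    HasRingHomProperty.appLE (P := @FormallyUnramified) f inferInstance ⟨V, hV⟩ ⟨W, hW⟩ e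
  refine eq_zero_of_formallyUnramified (f.appLE V W e).hom hφ (d.app W) (app_mul f d W) ?_ s
  intro c
  have h1 : (f.appLE V W e).hom c = X.presheaf.map (homOfLE e).op (f.app V c) := rfl
  rw [h1, app_map]
  have h3 : d.app (f ⁻¹ᵁ V) (f.app V c) = 0 := d.d_app c
  rw [h3, map_zero]

/-- a derivation of a formally unramified morphism vanishes -/
lemma app_eq_zero [FormallyUnramified f] (U : X.Opens) (s : Γ(X, U)) : d.app U s = 0 := by
  have H : ∀ x : U, ∃ W : X.Opens, IsAffineOpen W ∧ x.1 ∈ W ∧ W ≤ U ∧
      ∃ V : Y.Opens, IsAffineOpen V ∧ W ≤ f ⁻¹ᵁ V := by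
    intro x
    obtain ⟨_, ⟨V, hV : IsAffineOpen V, rfl⟩, hxV, -⟩ :=
      (Y.isBasis_affineOpens).exists_subset_of_mem_open
        (Set.mem_univ (f x.1)) isOpen_univ
    obtain ⟨_, ⟨W, hW : IsAffineOpen W, rfl⟩, hxW, hWU⟩ :=
      (X.isBasis_affineOpens).exists_subset_of_mem_open
        (show x.1 ∈ ((U ⊓ f ⁻¹ᵁ V : X.Opens) : Set X) from ⟨x.2, hxV⟩) (U ⊓ f ⁻¹ᵁ V).2
    exact ⟨W, hW, hxW, fun y hy => (hWU hy).1, V, hV, fun y hy => (hWU hy).2⟩
  choose W hW hxW hWU V hV hWV using H
  refine sections_ext_of_cover Ω' W U hWU ?_ _ _ ?_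
  · intro y hy
    exact Opens.mem_iSup.mpr ⟨⟨y, hy⟩, hxW _⟩
  · intro x
    rw [map_zero, ← app_map]
    exact app_eq_zero_of_affine f d (hV x) (hW x) (hWV x) _

theorem isZero_of_formallyUnramified [FormallyUnramified f] (hd : OmegaSh.IsUniversal d) :
    IsZero Ω' := by
  obtain ⟨α, -, huniq⟩ := hd Ω' d
  have key : ∀ β : Ω' ⟶ Ω', d.postcomp β.val = d := by
    intro β
    ext U s
    have h1 : d.d (X := U) s = 0 := app_eq_zero f d U.unop s
    have h2 : (d.postcomp β.val).d s = (β.val.app U).hom (d.d s) := rfl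
    rw [h2, h1, map_zero]
  rw [IsZero.iff_id_eq_zero]
  exact (huniq _ (key _)).trans (huniq _ (key _)).symm

theorem formallyUnramified_iff_stalkMap :
    FormallyUnramified f ↔ ∀ x : X, (f.stalkMap x).hom.FormallyUnramified :=
  ⟨fun _ x => FormallyUnramified.stalkMap f x, fun H =>
    HasRingHomProperty.of_stalkMap (P := @FormallyUnramified)
      RingHom.FormallyUnramified.ofLocalizationPrime H⟩

theorem formallyUnramified_of_isZero (hd : OmegaSh.IsUniversal d) (h0 : IsZero Ω') :
    FormallyUnramified f := by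
  rw [formallyUnramified_iff_stalkMap]
  intro x
  algebraize [(f.stalkMap x).hom]
  let δ : X.presheaf.stalk x →+ Ω[X.presheaf.stalk x⁄Y.presheaf.stalk (f x)] :=
    (KaehlerDifferential.D (Y.presheaf.stalk (f x)) (X.presheaf.stalk x)).toLinearMap.toAddMonoidHom
  let D : OmegaSh.Der f (sky x Ω[X.presheaf.stalk x⁄Y.presheaf.stalk (f x)]) :=
    skyDer f δ (fun a b => (KaehlerDifferential.D _ _).leibniz a b)
      (fun c => (KaehlerDifferential.D (Y.presheaf.stalk (f x)) (X.presheaf.stalk x)).map_algebraMap c)
  obtain ⟨α, hα, -⟩ := hd _ D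
  have hD : ∀ (U : X.Opens) (hx : x ∈ U) (s : Γ(X, U)), δ (X.presheaf.germ U x hx s) = 0 := by
    intro U hx s
    have h1 := PresheafOfModules.Derivation.congr_d hα (X := op U) s
    have h3 : (d.postcomp α.val).d (X := op U) s = (α.val.app (op U)).hom (d.d s) := rfl
    rw [h3, h0.eq_of_src α 0] at h1
    have h2 := congrFun h1 ⟨hx⟩
    exact h2.symm
  have hδ : ∀ b, δ b = 0 := by
    intro b
    obtain ⟨U, hx, s, rfl⟩ := X.presheaf.exists_germ_eq b
    exact hD U hx s
  show Algebra.FormallyUnramified _ _
  constructor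
  have htop := KaehlerDifferential.span_range_derivation (Y.presheaf.stalk (f x)) (X.presheaf.stalk x)
  have hbot : Submodule.span (X.presheaf.stalk x)
      (Set.range (KaehlerDifferential.D (Y.presheaf.stalk (f x)) (X.presheaf.stalk x))) = ⊥ := by
    rw [Submodule.span_eq_bot]
    rintro _ ⟨b, rfl⟩
    exact hδ b
  rw [hbot] at htop
  exact (Submodule.subsingleton_iff _).mp (subsingleton_of_bot_eq_top htop)

end Main

end Groth.Agent.Lib.Helper25.SkyMod
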