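import Mathlib
import Groth.Prelude.Def_Omega3
import Groth.Agent.Lib.Helper25.SkyMod

set_option autoImplicit false
universe u

namespace Groth.Agent.Lib.Helper25.AffDer

section Ring

variable {B Bg N : Type*} [CommRing B] [CommRing Bg] [Algebra B Bg] (g : B)
  [IsLocalization.Away g Bg] [AddCommGroup N] [Module Bg N]

include g in
/-- Leibniz additive maps out of a localization are determined on the base ring. -/
lemma leibniz_ext (φ₁ φ₂ : Bg →+ N) (h₁ : ∀ x y, φ₁ (x * y) = x • φ₁ y + y • φ₁ x)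
    (h₂ : ∀ x y, φ₂ (x * y) = x • φ₂ y + y • φ₂ x)
    (h : ∀ b : B, φ₁ (algebraMap B Bg b) = φ₂ (algebraMap B Bg b)) : φ₁ = φ₂ := by
  ext x
  obtain ⟨⟨b, s⟩, hs⟩ := IsLocalization.surj (Submonoid.powers g) x
  have hu : IsUnit (algebraMap B Bg s) := IsLocalization.map_units Bg s
  have e1 := h₁ x (algebraMap B Bg s)
  have e2 := h₂ x (algebraMap B Bg s)
  simp only at hs
  rw [hs] at e1 e2
  have e3 : algebraMap B Bg s • φ₁ x = algebraMap B Bg s • φ₂ x := by
    have e1' : algebraMap B Bg s • φ₁ x = φ₁ (algebraMap B Bg b) - x • φ₁ (algebraMap B Bg s) := by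
      rw [e1]; abel
    have e2' : algebraMap B Bg s • φ₂ x = φ₂ (algebraMap B Bg b) - x • φ₂ (algebraMap B Bg s) := by
      rw [e2]; abel
    rw [e1', e2', h, h]
  exact hu.smul_left_cancel.mp e3

include g in
/-- Extension of a Leibniz additive map to a localization. -/
theorem exists_extend (δ : B →+ N)
    (hmul : ∀ a b, δ (a * b) = algebraMap B Bg a • δ b + algebraMap B Bg b • δ a) :
    ∃ δ' : Bg →+ N, (∀ x y, δ' (x * y) = x • δ' y + y • δ' x) ∧
      ∀ b, δ' (algebraMap B Bg b) = δ b := by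
  let _ : Module B N := Module.compHom N (algebraMap B Bg)
  have : IsScalarTower B Bg N := IsScalarTower.of_algebraMap_smul fun _ _ => rfl
  have h1 : δ 1 = 0 := by
    have := hmul 1 1
    rw [mul_one, (algebraMap B Bg).map_one, one_smul] at this
    exact add_eq_left.mp this.symm
  let D₀ : Derivation ℤ B N :=
    { toFun := δ
      map_add' := δ.map_add
      map_smul' := fun n b => by
        show δ (n • b) = n • δ b
        exact map_zsmul δ n b
      map_one_eq_zero' := h1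
      leibniz' := fun a b => hmul a b }
  let L₀ : Ω[B⁄ℤ] →ₗ[B] N := D₀.liftKaehlerDifferential
  have hunit : ∀ x : Submonoid.powers g, IsUnit (algebraMap B (Module.End B N) x) := by
    intro x
    have hu : IsUnit (algebraMap B Bg x) := IsLocalization.map_units Bg x
    rw [Module.End.isUnit_iff]
    constructor
    · intro n n' hn
      exact hu.smul_left_cancel.mp hn
    · intro n
      obtain ⟨u, hu'⟩ := hu
      refine ⟨(↑u⁻¹ : Bg) • n, ?_⟩
      show algebraMap B Bg x • ((↑u⁻¹ : Bg) • n) = n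
      rw [← hu', smul_smul, Units.mul_inv, one_smul]
  let L₁ : Ω[Bg⁄ℤ] →ₗ[B] N :=
    IsLocalizedModule.lift (Submonoid.powers g) (KaehlerDifferential.map ℤ ℤ B Bg) L₀ hunit
  let L : Ω[Bg⁄ℤ] →ₗ[Bg] N := LinearMap.extendScalarsOfIsLocalization (Submonoid.powers g) Bg L₁
  refine ⟨(L.toAddMonoidHom).comp (KaehlerDifferential.D ℤ Bg).toLinearMap.toAddMonoidHom, ?_, ?_⟩
  · intro x y
    show L (KaehlerDifferential.D ℤ Bg (x * y)) = x • L (KaehlerDifferential.D ℤ Bg y) +
      y • L (KaehlerDifferential.D ℤ Bg x)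
    rw [Derivation.leibniz, map_add, map_smul, map_smul]
  · intro b
    show L (KaehlerDifferential.D ℤ Bg (algebraMap B Bg b)) = δ b
    rw [← KaehlerDifferential.map_D ℤ ℤ B Bg b]
    show L₁ (KaehlerDifferential.map ℤ ℤ B Bg (KaehlerDifferential.D ℤ B b)) = δ b
    rw [IsLocalizedModule.lift_apply]
    exact D₀.liftKaehlerDifferential_comp_D b

end Ring


section Ring2

variable {B Bg R' N : Type*} [CommRing B] [CommRing Bg] [Algebra B Bg] (g : B)
  [IsLocalization.Away g Bg] [CommRing R'] [AddCommGroup N] [Module R' N]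

include g in
lemma leibniz_ext' (ρ : Bg →+* R') (φ₁ φ₂ : Bg →+ N)
    (h₁ : ∀ x y, φ₁ (x * y) = ρ x • φ₁ y + ρ y • φ₁ x)
    (h₂ : ∀ x y, φ₂ (x * y) = ρ x • φ₂ y + ρ y • φ₂ x)
    (h : ∀ b : B, φ₁ (algebraMap B Bg b) = φ₂ (algebraMap B Bg b)) : φ₁ = φ₂ := by
  let _ : Module Bg N := Module.compHom N ρ
  exact leibniz_ext g φ₁ φ₂ h₁ h₂ h

end Ring2

open CategoryTheory CategoryTheory.Limits AlgebraicGeometry TopologicalSpace Opposite
open Groth.Agent.Lib.Helper25.SkyMod

section Sch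

variable {X : Scheme.{u}} [IsAffine X] {F : X.Modules} (δ : Γ(X, ⊤) →+ Γ(F, ⊤))
  (hmul : ∀ a b, δ (a * b) = a • δ b + b • δ a)

include hmul in
lemma exists_basic (g : Γ(X, ⊤)) :
    ∃ Dg : Γ(X, X.basicOpen g) →+ Γ(F, X.basicOpen g),
      (∀ x y, Dg (x * y) = x • Dg y + y • Dg x) ∧
      ∀ b : Γ(X, ⊤), Dg (X.presheaf.map (homOfLE (X.basicOpen_le g)).op b) =
        F.presheaf.map (homOfLE (X.basicOpen_le g)).op (δ b) := by
  have : IsLocalization.Away g Γ(X, X.basicOpen g) :=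
    (isAffineOpen_top X).isLocalization_basicOpen g
  obtain ⟨δ', h1, h2⟩ := exists_extend (Bg := Γ(X, X.basicOpen g)) (N := Γ(F, X.basicOpen g)) g
    ((F.presheaf.map (homOfLE (X.basicOpen_le g)).op).hom.comp δ) (by
      intro a b
      show F.presheaf.map (homOfLE (X.basicOpen_le g)).op (δ (a * b)) = _
      rw [hmul, map_add, Scheme.Modules.map_smul, Scheme.Modules.map_smul]
      rfl)
  exact ⟨δ', h1, h2⟩


/-- data of a compatible system of Leibniz maps on all opens extending `δ` -/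
structure PreDer (F : X.Modules) (δ : Γ(X, ⊤) →+ Γ(F, ⊤)) where
  D : ∀ U : X.Opens, Γ(X, U) →+ Γ(F, U)
  D_mul : ∀ (U : X.Opens) (a b : Γ(X, U)), D U (a * b) = a • D U b + b • D U a
  D_map : ∀ {U V : X.Opens} (i : V ⟶ U) (a : Γ(X, U)),
    D V (X.presheaf.map i.op a) = F.presheaf.map i.op (D U a)
  D_top : ∀ b, D ⊤ b = δ b

lemma hcov_basic (W : X.Opens) (a b : Γ(F, W))
    (h : ∀ (g : Γ(X, ⊤)) (i : X.basicOpen g ⟶ W), F.presheaf.map i.op a = F.presheaf.map i.op b) :
    a = b := by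
  refine sections_ext_of_cover F (fun g : {g : Γ(X, ⊤) // X.basicOpen g ≤ W} => X.basicOpen g.1)
    W (fun g => g.2) ?_ a b (fun g => h g.1 (homOfLE g.2))
  intro x hx
  obtain ⟨_, ⟨g, rfl⟩, hxU, hUW⟩ := Opens.isBasis_iff_nbhd.mp (isBasis_basicOpen X) hx
  exact Opens.mem_iSup.mpr ⟨⟨g, hUW⟩, hxU⟩

include hmul in
theorem nonempty_preDer : Nonempty (PreDer F δ) := by
  choose Dg hDmul hDres using exists_basic δ hmul
  have hnat : ∀ (g g' : Γ(X, ⊤)) (i : X.basicOpen g' ⟶ X.basicOpen g) (x : Γ(X, X.basicOpen g)),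
      F.presheaf.map i.op (Dg g x) = Dg g' (X.presheaf.map i.op x) := by
    intro g g' i
    have : IsLocalization.Away g Γ(X, X.basicOpen g) :=
      (isAffineOpen_top X).isLocalization_basicOpen g
    have := leibniz_ext' (N := Γ(F, X.basicOpen g')) g (X.presheaf.map i.op).hom
      ((F.presheaf.map i.op).hom.comp (Dg g)) ((Dg g').comp (X.presheaf.map i.op).hom.toAddMonoidHom)
      ?_ ?_ ?_
    · intro x; exact DFunLike.congr_fun this x
    · intro x y
      show F.presheaf.map i.op (Dg g (x * y)) = _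
      rw [hDmul, map_add, Scheme.Modules.map_smul, Scheme.Modules.map_smul]
      rfl
    · intro x y
      show Dg g' (X.presheaf.map i.op (x * y)) = _
      rw [map_mul, hDmul]
      rfl
    · intro b
      show F.presheaf.map i.op (Dg g (X.presheaf.map (homOfLE (X.basicOpen_le g)).op b)) =
        Dg g' (X.presheaf.map i.op (X.presheaf.map (homOfLE (X.basicOpen_le g)).op b))
      rw [hDres]
      have e1 : X.presheaf.map i.op (X.presheaf.map (homOfLE (X.basicOpen_le g)).op b) =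
          X.presheaf.map (homOfLE (X.basicOpen_le g')).op b := by
        rw [← CommRingCat.comp_apply, ← Functor.map_comp]
        rfl
      rw [e1, hDres, ← ConcreteCategory.comp_apply, ← Functor.map_comp]
      rfl
  let 𝒪 : X.Modules := Coh.structureModule X
  let B : Γ(X, ⊤) → Opens X := fun g => X.basicOpen g
  have hB' : Opens.IsBasis (Set.range B) := isBasis_basicOpen X
  let τ : (inducedFunctor B).op ⋙ 𝒪.presheaf ⟶ (inducedFunctor B).op ⋙ F.presheaf :=
    { app := fun g => AddCommGrpCat.ofHom ((Dg g.unop).comp (OmegaSh.fnSect X (X.basicOpen g.unop)))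
      naturality := fun g g' i => by
        ext m
        exact (hnat g.unop g'.unop i.unop.hom (OmegaSh.fnSect X _ m)).symm }
  let φ : 𝒪.presheaf ⟶ F.presheaf :=
    TopCat.Sheaf.restrictHomEquivHom 𝒪.presheaf ⟨F.presheaf, F.isSheaf⟩ hB' τ
  have hφ : ∀ (g : Γ(X, ⊤)) (m : Γ(X, X.basicOpen g)),
      φ.app (op (X.basicOpen g)) (OmegaSh.strSect X _ m) = Dg g m := by
    intro g m
    have := TopCat.Sheaf.extend_hom_app 𝒪.presheaf ⟨F.presheaf, F.isSheaf⟩ hB' τ g
    exact congr($this (OmegaSh.strSect X _ m))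
  let DD : ∀ U : X.Opens, Γ(X, U) →+ Γ(F, U) := fun U =>
    (φ.app (op U)).hom.comp (OmegaSh.strSect X U)
  have hDDmap : ∀ {U V : X.Opens} (i : V ⟶ U) (a : Γ(X, U)),
      DD V (X.presheaf.map i.op a) = F.presheaf.map i.op (DD U a) := by
    intro U V i a
    exact congr($(φ.naturality i.op) (OmegaSh.strSect X U a))
  have hDDg : ∀ (g : Γ(X, ⊤)) (m : Γ(X, X.basicOpen g)), DD (X.basicOpen g) m = Dg g m := hφ
  have hDDmul : ∀ (U : X.Opens) (a b : Γ(X, U)), DD U (a * b) = a • DD U b + b • DD U a := by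
    intro U a b
    apply hcov_basic
    intro g i
    rw [← hDDmap, map_mul, hDDg, hDmul, map_add, Scheme.Modules.map_smul,
      Scheme.Modules.map_smul, ← hDDmap, ← hDDmap, hDDg, hDDg]
  have hDDtop : ∀ b, DD ⊤ b = δ b := by
    intro b
    apply hcov_basic
    intro g i
    rw [← hDDmap, hDDg]
    exact hDres g b
  exact ⟨⟨DD, hDDmul, hDDmap, hDDtop⟩⟩


end Sch

section Kill

variable {X S : Scheme.{u}} [IsAffine X] [IsAffine S] (f : X ⟶ S) {F : X.Modules}
  {δ : Γ(X, ⊤) →+ Γ(F, ⊤)} (P : PreDer F δ) (hzero : ∀ c : Γ(S, ⊤), δ (f.appTop c) = 0)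

omit [IsAffine X] in
lemma PreDer.res_top (W : X.Opens) (b : Γ(X, ⊤)) :
    P.D W (X.presheaf.map (homOfLE le_top).op b) = F.presheaf.map (homOfLE le_top).op (δ b) := by
  rw [P.D_map, P.D_top]

omit [IsAffine X] in
lemma PreDer.eq_zero_of_mul_unit {W : X.Opens} {t u : Γ(X, W)} (hu : IsUnit u)
    (hu' : P.D W u = 0) (h : P.D W (t * u) = 0) : P.D W t = 0 := by
  rw [P.D_mul, hu', smul_zero, zero_add] at h
  obtain ⟨v, rfl⟩ := hu
  have := congrArg (fun m => (↑v⁻¹ : Γ(X, W)) • m) h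
  simp only [smul_zero, smul_smul, Units.inv_mul, one_smul] at this
  exact this

include hzero in
omit [IsAffine X] in
lemma PreDer.app_eq_zero (V : S.Opens) (c : Γ(S, V)) : P.D (f ⁻¹ᵁ V) (f.app V c) = 0 := by
  have H : ∀ x : (f ⁻¹ᵁ V : X.Opens), ∃ h : Γ(S, ⊤), f x.1 ∈ S.basicOpen h ∧ S.basicOpen h ≤ V := by
    intro x
    obtain ⟨_, ⟨h, rfl⟩, hxU, hUV⟩ := Opens.isBasis_iff_nbhd.mp (isBasis_basicOpen S) x.2
    exact ⟨h, hxU, hUV⟩
  choose h hx hV using H
  refine sections_ext_of_cover F (fun x => f ⁻¹ᵁ (S.basicOpen (h x))) (f ⁻¹ᵁ V)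
    (fun x => f.preimage_mono (hV x)) ?_ _ _ ?_
  · intro y hy
    have h1 : y ∈ f ⁻¹ᵁ (S.basicOpen (h ⟨y, hy⟩)) := hx ⟨y, hy⟩
    exact Opens.mem_iSup.mpr ⟨⟨y, hy⟩, h1⟩
  intro x
  rw [map_zero, ← P.D_map]
  have : IsLocalization.Away (h x) Γ(S, S.basicOpen (h x)) :=
    (isAffineOpen_top S).isLocalization_basicOpen (h x)
  -- the restriction of `c` to the basic open
  set c₁ : Γ(S, S.basicOpen (h x)) := S.presheaf.map (homOfLE (hV x)).op c with hc₁
  have e0 : X.presheaf.map (homOfLE (f.preimage_mono (hV x))).op (f.app V c) =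
      f.app (S.basicOpen (h x)) c₁ := by
    have := f.naturality (homOfLE (hV x)).op
    exact (congr($this c)).symm
  rw [e0]
  obtain ⟨⟨c', s⟩, hs⟩ := IsLocalization.surj (Submonoid.powers (h x)) c₁
  simp only at hs
  have hres : ∀ b : Γ(S, ⊤), f.app (S.basicOpen (h x)) (algebraMap Γ(S, ⊤) Γ(S, S.basicOpen (h x)) b) =
      X.presheaf.map (homOfLE le_top).op (f.appTop b) := by
    intro b
    have := f.naturality (homOfLE (S.basicOpen_le (h x))).op
    exact congr($this b)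
  have hkill : ∀ b : Γ(S, ⊤), P.D (f ⁻¹ᵁ (S.basicOpen (h x)))
      (f.app (S.basicOpen (h x)) (algebraMap Γ(S, ⊤) Γ(S, S.basicOpen (h x)) b)) = 0 := by
    intro b
    rw [hres, P.res_top, hzero, map_zero]
  refine P.eq_zero_of_mul_unit (u := f.app (S.basicOpen (h x))
    (algebraMap Γ(S, ⊤) Γ(S, S.basicOpen (h x)) s)) ?_ (hkill s) ?_
  · exact (IsLocalization.map_units Γ(S, S.basicOpen (h x)) s).map _
  · rw [← map_mul, hs]
    exact hkill c'

/-- the derivation attached to a `PreDer` -/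
noncomputable def PreDer.toDer : OmegaSh.Der f F where
  d {U} := P.D U.unop
  d_mul {U} a b := P.D_mul U.unop a b
  d_map {_ _} i a := P.D_map i.unop a
  d_app {V} c := P.app_eq_zero f hzero V.unop c

omit [IsAffine X] in
lemma PreDer.toDer_app_top (b : Γ(X, ⊤)) : (P.toDer f hzero).app ⊤ b = δ b := P.D_top b

end Kill


section Main

variable {X S : Scheme.{u}} [IsAffine X] (f : X ⟶ S) (F : X.Modules)

theorem app_top_injective : Function.Injective (fun D : OmegaSh.Der f F => D.app ⊤) := by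
  intro D D' h
  have h' : ∀ b : Γ(X, ⊤), D.app ⊤ b = D'.app ⊤ b := fun b => DFunLike.congr_fun h b
  ext U s
  induction U using Opposite.rec with | _ U => ?_
  show D.app U s = D'.app U s
  apply hcov_basic
  intro g i
  rw [← app_map, ← app_map]
  have : IsLocalization.Away g Γ(X, X.basicOpen g) :=
    (isAffineOpen_top X).isLocalization_basicOpen g
  have key := leibniz_ext (N := Γ(F, X.basicOpen g)) g (D.app (X.basicOpen g))
    (D'.app (X.basicOpen g)) (app_mul f D _) (app_mul f D' _) ?_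
  · exact DFunLike.congr_fun key _
  intro b
  show D.app (X.basicOpen g) (X.presheaf.map (homOfLE (X.basicOpen_le g)).op b) =
    D'.app (X.basicOpen g) (X.presheaf.map (homOfLE (X.basicOpen_le g)).op b)
  rw [app_map, app_map, h']

theorem der_affine [IsAffine S] :
    Function.Injective (fun D : OmegaSh.Der f F => D.app ⊤) ∧
      ∀ δ : Γ(X, ⊤) →+ Γ(F, ⊤),
        ((∀ a b : Γ(X, ⊤), δ (a * b) = a • δ b + b • δ a) ∧ ∀ c : Γ(S, ⊤), δ (f.appTop c) = 0) ↔
          ∃ D : OmegaSh.Der f F, D.app ⊤ = δ := by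
  refine ⟨app_top_injective f F, fun δ => ⟨?_, ?_⟩⟩
  · rintro ⟨hmul, hzero⟩
    obtain ⟨P⟩ := nonempty_preDer δ hmul
    exact ⟨P.toDer f hzero, AddMonoidHom.ext (P.toDer_app_top f hzero)⟩
  · rintro ⟨D, rfl⟩
    exact ⟨fun a b => app_mul f D ⊤ a b, fun c => D.d_app (X := op ⊤) c⟩

end Main

end Groth.Agent.Lib.Helper25.AffDer
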