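/-
Helper library for `Groth.Agent.S10879` (helper25): a flat, separated, surjective, birational
morphism of integral schemes which is affine or locally of finite presentation is an isomorphism.
-/
import Mathlib

open CategoryTheory AlgebraicGeometry

namespace Groth.Agent.Lib.Helper25.BiratFlat

/-- Faithfully flat + "birational" ⇒ surjective. -/
theorem surjective_of_faithfullyFlat_of_birational {A B : Type*} [CommRing A] [CommRing B]
    [IsDomain B] [Algebra A B] [Module.FaithfullyFlat A B]
    (hbir : ∀ b : B, ∃ a s : A, s ≠ 0 ∧ algebraMap A B s * b = algebraMap A B a) :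
    Function.Surjective (algebraMap A B) := by
  intro b
  obtain ⟨a, s, hs, e⟩ := hbir b
  have hinj : Function.Injective (algebraMap A B) := FaithfulSMul.algebraMap_injective A B
  have hmem : a ∈ ((Ideal.span {s}).map (algebraMap A B)).comap (algebraMap A B) := by
    rw [Ideal.mem_comap, Ideal.map_span, Set.image_singleton, ← e]
    exact Ideal.mul_mem_right _ _ (Ideal.subset_span rfl)
  rw [Ideal.comap_map_eq_self_of_faithfullyFlat, Ideal.mem_span_singleton'] at hmem
  obtain ⟨c, rfl⟩ := hmem
  refine ⟨c, ?_⟩
  have hs' : algebraMap A B s ≠ 0 := fun h => hs (hinj (by simpa using h))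
  apply mul_left_cancel₀ hs'
  rw [e, map_mul, mul_comm]

/-- Ring-hom square version. -/
theorem surjective_of_square {A B KA KB : Type*} [CommRing A] [CommRing B] [CommRing KA]
    [CommRing KB] [IsDomain B] (φ : A →+* B) (ιA : A →+* KA) (ιB : B →+* KB) (ψ : KA →+* KB)
    (hff : letI := φ.toAlgebra; Module.FaithfullyFlat A B)
    (hsq : ψ.comp ιA = ιB.comp φ) (hιB : Function.Injective ιB) (hψ : Function.Surjective ψ)
    (hloc : ∀ k : KA, ∃ a s : A, s ≠ 0 ∧ ιA s * k = ιA a) :
    Function.Surjective φ := by
  let := φ.toAlgebra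
  have : Module.FaithfullyFlat A B := hff
  apply surjective_of_faithfullyFlat_of_birational (A := A) (B := B)
  intro b
  obtain ⟨k, hk⟩ := hψ (ιB b)
  obtain ⟨a, s, hs, e⟩ := hloc k
  refine ⟨a, s, hs, hιB ?_⟩
  have h1 : ∀ x, ιB (φ x) = ψ (ιA x) := fun x => (DFunLike.congr_fun hsq x).symm
  rw [map_mul]
  show ιB (φ s) * ιB b = ιB (φ a)
  rw [h1, h1, ← hk, ← map_mul, e]


universe u

theorem map_genericPoint {X' X : Scheme.{u}} [IrreducibleSpace X'] [IrreducibleSpace X]
    (f : X' ⟶ X) [IsDominant f] : f (genericPoint X') = genericPoint X := by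
  have h := (genericPoint_spec X').image f.continuous
  rw [Set.image_univ, f.denseRange.closure_range] at h
  exact h.eq (genericPoint_spec X)

theorem exists_stalk_fraction {X : Scheme.{u}} [IsIntegral X] (x y : X) (hy : y = genericPoint X)
    (h : y ⤳ x) (k : X.presheaf.stalk y) :
    ∃ a s : X.presheaf.stalk x, s ≠ 0 ∧
      X.presheaf.stalkSpecializes h s * k = X.presheaf.stalkSpecializes h a := by
  subst hy
  obtain ⟨⟨a, s⟩, e⟩ := IsLocalization.surj (nonZeroDivisors (X.presheaf.stalk x))
    (S := X.functionField) k
  refine ⟨a, s.1, nonZeroDivisors.ne_zero s.2, ?_⟩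
  rw [mul_comm]
  exact e

theorem stalkSpecializes_injective {X : Scheme.{u}} [IsIntegral X] (x : X)
    (h : genericPoint X ⤳ x) :
    Function.Injective (X.presheaf.stalkSpecializes h) :=
  IsFractionRing.injective (X.presheaf.stalk x) X.functionField

theorem stalkMap_bijective {X' X : Scheme.{u}} [IsIntegral X'] [IsIntegral X] (f : X' ⟶ X)
    [Flat f] [IsDominant f]
    (hK : Function.Surjective (f.stalkMap (genericPoint X'))) (x' : X') :
    Function.Bijective (f.stalkMap x') := by
  have hfl : (f.stalkMap x').hom.Flat := Flat.stalkMap f x'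
  have hff : letI := (f.stalkMap x').hom.toAlgebra
      Module.FaithfullyFlat (X.presheaf.stalk (f x')) (X'.presheaf.stalk x') := by
    algebraize [(f.stalkMap x').hom]
    have : IsLocalHom (algebraMap (X.presheaf.stalk (f x')) (X'.presheaf.stalk x')) := by
      rw [RingHom.algebraMap_toAlgebra]; infer_instance
    exact Module.FaithfullyFlat.of_flat_of_isLocalHom
  have hsp : genericPoint X' ⤳ x' := (genericPoint_spec X').specializes trivial
  refine ⟨?_, ?_⟩
  · let := (f.stalkMap x').hom.toAlgebra
    exact FaithfulSMul.algebraMap_injective (X.presheaf.stalk (f x')) (X'.presheaf.stalk x')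
  · refine surjective_of_square (f.stalkMap x').hom
      (X.presheaf.stalkSpecializes (f.base.hom.map_specializes hsp)).hom
      (X'.presheaf.stalkSpecializes hsp).hom (f.stalkMap (genericPoint X')).hom hff ?_ ?_ hK ?_
    · have := Scheme.Hom.stalkSpecializes_stalkMap f _ _ hsp
      exact congr($(this).hom)
    · exact stalkSpecializes_injective x' hsp
    · exact exists_stalk_fraction (f x') _ (map_genericPoint f) _


theorem isDominant_SpecMap_of_injective {R S : CommRingCat.{u}} (φ : R ⟶ S)
    (h : Function.Injective φ.hom) : IsDominant (Spec.map φ) := by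
  refine ⟨?_⟩
  show DenseRange (PrimeSpectrum.comap φ.hom)
  rw [PrimeSpectrum.denseRange_comap_iff_ker_le_nilRadical, (RingHom.injective_iff_ker_eq_bot _).mp h]
  exact bot_le

theorem injective_of_isIso_stalkMap {X' X : Scheme.{u}} [IsIntegral X'] (f : X' ⟶ X)
    [IsSeparated f] (hst : ∀ x', IsIso (f.stalkMap x')) : Function.Injective f := by
  intro x1 x2 hx
  have h1 : genericPoint X' ⤳ x1 := (genericPoint_spec X').specializes trivial
  have h2 : genericPoint X' ⤳ x2 := (genericPoint_spec X').specializes trivial
  have hc : f x1 ⤳ f x2 := specializes_of_eq hx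
  let e : X'.presheaf.stalk x2 ⟶ X'.presheaf.stalk x1 :=
    inv (f.stalkMap x2) ≫ X.presheaf.stalkSpecializes hc ≫ f.stalkMap x1
  have hcomp : Spec.map e ≫ X'.fromSpecStalk x2 = X'.fromSpecStalk x1 := by
    have : IsDominant (Spec.map (X'.presheaf.stalkSpecializes h1)) :=
      isDominant_SpecMap_of_injective _ (stalkSpecializes_injective x1 h1)
    refine ext_of_isDominant_of_isSeparated f ?_ (Spec.map (X'.presheaf.stalkSpecializes h1)) ?_
    · rw [Category.assoc, ← Scheme.SpecMap_stalkMap_fromSpecStalk,
        ← Scheme.SpecMap_stalkMap_fromSpecStalk, ← Spec.map_comp_assoc]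
      simp only [e, IsIso.hom_inv_id_assoc, Spec.map_comp, Category.assoc]
      rw [Scheme.SpecMap_stalkSpecializes_fromSpecStalk]
    · rw [Scheme.SpecMap_stalkSpecializes_fromSpecStalk, ← Spec.map_comp_assoc]
      have : e ≫ X'.presheaf.stalkSpecializes h1 = X'.presheaf.stalkSpecializes h2 := by
        simp only [e, Category.assoc]
        rw [IsIso.inv_comp_eq, ← Scheme.Hom.stalkSpecializes_stalkMap f _ _ h2,
          ← Scheme.Hom.stalkSpecializes_stalkMap f _ _ h1, ← Category.assoc,
          TopCat.Presheaf.stalkSpecializes_comp]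
      rw [this, Scheme.SpecMap_stalkSpecializes_fromSpecStalk]
  have : IsIso (X.presheaf.stalkSpecializes hc) := by
    show IsIso (X.presheaf.stalkCongr (.of_eq hx.symm)).hom
    infer_instance
  have he : IsIso e := by dsimp only [e]; infer_instance
  have h3 : Spec.map e (IsLocalRing.closedPoint (X'.presheaf.stalk x1)) =
      IsLocalRing.closedPoint (X'.presheaf.stalk x2) :=
    IsLocalRing.comap_closedPoint e.hom
  have h4 : X'.fromSpecStalk x2 (Spec.map e (IsLocalRing.closedPoint (X'.presheaf.stalk x1)))
      = x1 := by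
    have h5 : (Spec.map e ≫ X'.fromSpecStalk x2) (IsLocalRing.closedPoint (X'.presheaf.stalk x1))
        = X'.fromSpecStalk x1 (IsLocalRing.closedPoint (X'.presheaf.stalk x1)) := by rw [hcomp]
    exact h5.trans Scheme.fromSpecStalk_closedPoint
  rw [h3] at h4
  rw [← h4]
  exact Scheme.fromSpecStalk_closedPoint


/-- A flat separated surjective birational morphism of integral schemes which is affine or locally
of finite presentation is an isomorphism. -/
theorem isIso_of_flat {X' X : Scheme.{u}} [IsIntegral X'] [IsIntegral X]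
    (f : X' ⟶ X) [Surjective f] [IsSeparated f] [Flat f]
    (hK : IsIso (f.stalkMap (genericPoint X')))
    (h : IsAffineHom f ∨ LocallyOfFinitePresentation f) : IsIso f := by
  have hKs : Function.Surjective (f.stalkMap (genericPoint X')) :=
    ((ConcreteCategory.isIso_iff_bijective _).mp hK).2
  have hst : ∀ x', IsIso (f.stalkMap x') := fun x' =>
    (ConcreteCategory.isIso_iff_bijective _).mpr (stalkMap_bijective f hKs x')
  have hinj : Function.Injective f := injective_of_isIso_stalkMap f hst
  have hopen : IsOpenMap f := by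
    rcases h with h | h
    · have hq : Topology.IsQuotientMap f := Flat.isQuotientMap_of_surjective f
      intro U hU
      rw [← hq.isOpen_preimage, Set.preimage_image_eq _ hinj]
      exact hU
    · exact f.isOpenMap
  have hoe : Topology.IsOpenEmbedding f :=
    .of_continuous_injective_isOpenMap f.continuous hinj hopen
  have : IsOpenImmersion f := IsOpenImmersion.of_isIso_stalkMap f hoe
  have : Epi f.base := (TopCat.epi_iff_surjective _).mpr f.surjective
  exact IsOpenImmersion.isIso f

end Groth.Agent.Lib.Helper25.BiratFlat
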