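import Mathlib

/-!
# Closed immersions detected after a bijective closed base change (Stacks 09ZW-type)

`isClosedImmersion_of_isPullback`: if `i : S' ⟶ S` is a surjective closed immersion, `f : X ⟶ S` is
of finite type and the base change of `f` along `i` is a closed immersion, then `f` is a closed
immersion.  (Topological closed embedding universally => proper + quasi-finite => finite by ZMT;
then Nakayama with `ker ≤ nilradical`.)
-/

universe u

open CategoryTheory AlgebraicGeometry Limits Topology

set_option backward.isDefEq.respectTransparency false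

namespace Groth.Agent.Lib.Helper25.ClosedBC

/-- Pure algebra: Nakayama step. -/
theorem surjective_of_isPushout_of_surjective {A B A' B' : CommRingCat.{u}}
    {φ : A ⟶ B} {π : A ⟶ A'} {inl : B ⟶ B'} {inr : A' ⟶ B'}
    (hpo : IsPushout φ π inl inr) (hφ : φ.hom.Finite)
    (hπ : Function.Surjective π.hom) (hI : RingHom.ker π.hom ≤ nilradical A)
    (hinr : Function.Surjective inr.hom) : Function.Surjective φ.hom := by
  set I := RingHom.ker π.hom with hIdef
  let q : B ⟶ CommRingCat.of (B ⧸ I.map φ.hom) := CommRingCat.ofHom (Ideal.Quotient.mk _)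
  have hker : RingHom.ker π.hom ≤ RingHom.ker ((Ideal.Quotient.mk (I.map φ.hom)).comp φ.hom) := by
    intro a ha
    rw [RingHom.mem_ker, RingHom.comp_apply, Ideal.Quotient.eq_zero_iff_mem]
    exact Ideal.mem_map_of_mem _ ha
  let ψ : A' ⟶ CommRingCat.of (B ⧸ I.map φ.hom) :=
    CommRingCat.ofHom (RingHom.liftOfSurjective π.hom hπ
      ⟨(Ideal.Quotient.mk (I.map φ.hom)).comp φ.hom, hker⟩)
  have hcomm : φ ≫ q = π ≫ ψ := by
    ext a
    simp only [CommRingCat.hom_comp, RingHom.comp_apply, q, ψ, CommRingCat.hom_ofHom]
    exact (RingHom.liftOfSurjective_comp_apply π.hom hπ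
      ⟨(Ideal.Quotient.mk (I.map φ.hom)).comp φ.hom, hker⟩ a).symm
  let d := hpo.desc q ψ hcomm
  have hd : inl ≫ d = q := hpo.inl_desc _ _ _
  algebraize [φ.hom]
  have hfin : Module.Finite A B := hφ
  let N : Submodule A B := LinearMap.range (Algebra.linearMap A B)
  have hle : (⊤ : Submodule A B) ≤ N ⊔ I • ⊤ := by
    intro b _
    obtain ⟨a', ha'⟩ := hinr (inl.hom b)
    obtain ⟨a, rfl⟩ := hπ a'
    have h0 : inl.hom (b - φ.hom a) = 0 := by
      have : inl.hom (φ.hom a) = inr.hom (π.hom a) := by
        have := congr($(hpo.w).hom a)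
        simpa using this
      rw [map_sub, this, ha', sub_self]
    have h1 : q.hom (b - φ.hom a) = 0 := by
      have := congr($(hd).hom (b - φ.hom a))
      simp only [CommRingCat.hom_comp, RingHom.comp_apply] at this
      rw [← this, h0, map_zero]
    have h2 : b - φ.hom a ∈ I.map φ.hom := by
      rwa [← Ideal.Quotient.eq_zero_iff_mem]
    have h3 : b - φ.hom a ∈ (I • ⊤ : Submodule A B) := by
      rw [Ideal.smul_top_eq_map]
      exact h2
    have : b = algebraMap A B a + (b - φ.hom a) := by
      rw [RingHom.algebraMap_toAlgebra]; ring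
    rw [this]
    exact Submodule.add_mem_sup ⟨a, rfl⟩ h3
  have hN : (⊤ : Submodule A B) ≤ N :=
    Submodule.le_of_le_smul_of_le_jacobson_bot Module.Finite.fg_top
      (hI.trans ((nilradical_le_jacobson A).trans Ideal.jacobson_bot.ge)) hle
  intro b
  obtain ⟨a, ha⟩ := hN (Submodule.mem_top (x := b))
  exact ⟨a, ha⟩


variable {X S S' X' : Scheme.{u}} {fst : X' ⟶ X} {snd : X' ⟶ S'} {f : X ⟶ S} {i : S' ⟶ S}

/-- Topological part: `f` is a closed embedding. -/
theorem isClosedEmbedding_of_isPullback (h : IsPullback fst snd f i)
    [IsClosedImmersion i] [Surjective i] [IsClosedImmersion snd] :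
    IsClosedEmbedding f.base := by
  have hfst : IsClosedImmersion fst := MorphismProperty.of_isPullback h.flip inferInstance
  have hfsts : Surjective fst := MorphismProperty.of_isPullback h.flip inferInstance
  have hcomp : IsClosedEmbedding (fst ≫ f).base := by
    rw [h.w]
    exact Scheme.Hom.isClosedEmbedding (snd ≫ i)
  have hinj : Function.Injective f.base := by
    intro x y hxy
    obtain ⟨x', rfl⟩ := hfsts.surj x
    obtain ⟨y', rfl⟩ := hfsts.surj y
    have : (fst ≫ f).base x' = (fst ≫ f).base y' := by simpa using hxy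
    rw [hcomp.injective this]
  refine IsClosedEmbedding.of_continuous_injective_isClosedMap f.continuous hinj ?_
  intro C hC
  have : f.base '' C = (fst ≫ f).base '' (fst.base ⁻¹' C) := by
    ext z
    constructor
    · rintro ⟨x, hx, rfl⟩
      obtain ⟨x', rfl⟩ := hfsts.surj x
      exact ⟨x', hx, by simp⟩
    · rintro ⟨x', hx', rfl⟩
      exact ⟨fst.base x', hx', by simp⟩
  rw [this]
  exact hcomp.isClosedMap _ (hC.preimage fst.continuous)

/-- The hypotheses are stable under base change. -/
theorem exists_isPullback_baseChange (h : IsPullback fst snd f i)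
    {T XT : Scheme.{u}} {gX : XT ⟶ X} {fT : XT ⟶ T} {g : T ⟶ S} (hT : IsPullback gX fT f g)
    [IsClosedImmersion i] [Surjective i] [IsClosedImmersion snd] :
    ∃ (S'T X'T : Scheme.{u}) (r : X'T ⟶ XT) (q : X'T ⟶ S'T) (p : S'T ⟶ T),
      IsPullback r q fT p ∧ IsClosedImmersion p ∧ Surjective p ∧ IsClosedImmersion q := by
  let r : pullback snd (pullback.fst i g) ⟶ XT :=
    hT.lift (pullback.fst _ _ ≫ fst) (pullback.snd _ _ ≫ pullback.snd i g) (by
      rw [Category.assoc, h.w, ← Category.assoc, pullback.condition, Category.assoc,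
        Category.assoc, pullback.condition])
  refine ⟨pullback i g, pullback snd (pullback.fst i g), r, pullback.snd _ _, pullback.snd i g,
    ?_, inferInstance, inferInstance, inferInstance⟩
  have houter : IsPullback (r ≫ gX) (pullback.snd snd (pullback.fst i g)) f
      (pullback.snd i g ≫ g) := by
    have h1 := (IsPullback.of_hasPullback snd (pullback.fst i g)).paste_horiz h
    have e1 : r ≫ gX = pullback.fst snd (pullback.fst i g) ≫ fst := hT.lift_fst _ _ _
    rw [e1, ← pullback.condition]
    exact h1
  exact IsPullback.of_right houter (hT.lift_snd _ _ _) hT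

theorem isFinite_of_isPullback (h : IsPullback fst snd f i)
    [IsClosedImmersion i] [Surjective i] [IsClosedImmersion snd]
    [LocallyOfFiniteType f] [QuasiCompact f] : IsFinite f := by
  have hinj : Function.Injective f.base := (isClosedEmbedding_of_isPullback h).injective
  have : IsSeparated f := isSeparated_of_injective f hinj
  have : LocallyQuasiFinite f := LocallyQuasiFinite.of_injective hinj
  have : UniversallyClosed f := by
    constructor
    intro XT T gX g fT hT
    obtain ⟨S'T, X'T, r, q, p, hpb, _, _, _⟩ := exists_isPullback_baseChange h hT.flip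
    exact (isClosedEmbedding_of_isPullback hpb).isClosedMap
  have : IsProper f := {}
  exact IsFinite.of_isProper_of_locallyQuasiFinite f

theorem ker_appTop_le_nilradical_of_surjective (i : S' ⟶ S) [Surjective i] [CompactSpace S] :
    RingHom.ker i.appTop.hom ≤ nilradical Γ(S, ⊤) := by
  intro a ha
  rw [mem_nilradical, Scheme.isNilpotent_iff_basicOpen_eq_bot]
  rw [RingHom.mem_ker] at ha
  have h1 : i ⁻¹ᵁ S.basicOpen a = ⊥ := by
    rw [Scheme.preimage_basicOpen_top, ha, Scheme.basicOpen_zero]
  ext x
  simp only [TopologicalSpace.Opens.coe_bot, Set.mem_empty_iff_false, iff_false]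
  intro hx
  obtain ⟨y, rfl⟩ := (inferInstance : Surjective i).surj x
  have : y ∈ i ⁻¹ᵁ S.basicOpen a := hx
  rw [h1] at this
  exact this

theorem isClosedImmersion_of_isPullback_of_isAffine (h : IsPullback fst snd f i) [IsAffine S]
    [IsClosedImmersion i] [Surjective i] [IsClosedImmersion snd]
    [LocallyOfFiniteType f] [QuasiCompact f] : IsClosedImmersion f := by
  have hfin : IsFinite f := isFinite_of_isPullback h
  have hXaff : IsAffine X := isAffine_of_isAffineHom f
  obtain ⟨hS'aff, hisurj⟩ := IsClosedImmersion.isAffine_surjective_of_isAffine i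
  obtain ⟨hX'aff, hsndsurj⟩ := IsClosedImmersion.isAffine_surjective_of_isAffine snd
  have hpo := isPushout_appTop_of_isPullback h
  have hff : f.appTop.hom.Finite :=
    ((HasAffineProperty.iff_of_isAffine (P := @IsFinite)).mp hfin).2
  have hker := ker_appTop_le_nilradical_of_surjective i
  have := surjective_of_isPushout_of_surjective hpo hff hisurj hker hsndsurj
  exact (HasAffineProperty.iff_of_isAffine (P := @IsClosedImmersion)).mpr ⟨hXaff, this⟩

theorem isClosedImmersion_of_isPullback (h : IsPullback fst snd f i)
    [IsClosedImmersion i] [Surjective i] [IsClosedImmersion snd]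
    [LocallyOfFiniteType f] [QuasiCompact f] : IsClosedImmersion f := by
  refine (IsZariskiLocalAtTarget.iff_of_openCover (P := @IsClosedImmersion) S.affineCover).mpr
    fun j => ?_
  have hT : IsPullback (pullback.fst f (S.affineCover.f j)) (S.affineCover.pullbackHom f j) f
      (S.affineCover.f j) := IsPullback.of_hasPullback _ _
  obtain ⟨S'T, X'T, r, q, p, hpb, _, _, _⟩ := exists_isPullback_baseChange h hT
  have : LocallyOfFiniteType (S.affineCover.pullbackHom f j) :=
    MorphismProperty.pullback_snd _ _ inferInstance
  have : QuasiCompact (S.affineCover.pullbackHom f j) :=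
    MorphismProperty.pullback_snd _ _ inferInstance
  exact isClosedImmersion_of_isPullback_of_isAffine hpb

end Groth.Agent.Lib.Helper25.ClosedBC
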