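import Mathlib
import Groth.Agent.Lib.Helper25.ValCenter

/-!
# Base change of the DVR lifting property at a point

`DVRLiftAt (𝟙 X) f (q η')` implies `DVRLiftAt (𝟙 XT) fT η'` in a pullback square, over a locally
Noetherian base: a discrete valuation subring of `κ(η')` restricts to a valuation subring of
`κ(q η')`, which has a centre by `exists_lift_valuationSubring`.
-/

set_option autoImplicit false
set_option linter.style.haveILetI false

universe u

open CategoryTheory CategoryTheory.Limits AlgebraicGeometry IsLocalRing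

namespace Groth.Agent.Lib.Helper25.ValCenter

set_option backward.isDefEq.respectTransparency.types false in
theorem flat_affineSpace_over (n : Type u) (S : Scheme.{u}) : Flat (𝔸(n; S) ↘ S) :=
  MorphismProperty.pullback_fst _ _ <| by
  have := isIso_of_isTerminal specULiftZIsTerminal.{u} terminalIsTerminal
    (terminal.from (Spec (CommRingCat.of (ULift.{u} ℤ))))
  rw [← terminal.comp_from (Spec.map (CommRingCat.ofHom MvPolynomial.C)),
    MorphismProperty.cancel_right_of_respectsIso (P := @Flat),
    HasRingHomProperty.Spec_iff (P := @Flat)]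
  show (MvPolynomial.C : ULift.{u} ℤ →+* MvPolynomial n (ULift.{u} ℤ)).Flat
  rw [← MvPolynomial.algebraMap_eq, RingHom.flat_algebraMap_iff]
  infer_instance

section Descent

variable {L L' : Type u} [Field L] [Field L']

/-- the inclusion of the restriction of a valuation subring to a subfield -/
def comapIncl (ι : L →+* L') (C' : ValuationSubring L') : (C'.comap ι) →+* C' :=
  (ι.comp (C'.comap ι).subtype).codRestrict C'.toSubring (fun c => c.2)

/-- A morphism `Spec C' ⟶ S` whose generic point factors through `Spec L ⟶ S` for a subfield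
`L` of the fraction field descends to the restricted valuation ring `C' ∩ L`. -/
theorem exists_descent {S : Scheme.{u}} (ι : L →+* L') (C' : ValuationSubring L')
    (y' : Spec (CommRingCat.of C') ⟶ S) (t : Spec (CommRingCat.of L) ⟶ S)
    (h : Spec.map (CommRingCat.ofHom C'.subtype) ≫ y' = Spec.map (CommRingCat.ofHom ι) ≫ t) :
    ∃ y : Spec (CommRingCat.of (C'.comap ι)) ⟶ S,
      Spec.map (CommRingCat.ofHom (comapIncl ι C')) ≫ y = y' ∧
      Spec.map (CommRingCat.ofHom (C'.comap ι).subtype) ≫ y = t := by
  let s : S := y' (closedPoint C')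
  let ψ' : S.presheaf.stalk s ⟶ CommRingCat.of C' := Scheme.stalkClosedPointTo y'
  have hψ' : Spec.map ψ' ≫ S.fromSpecStalk s = y' :=
    Scheme.Spec_stalkClosedPointTo_fromSpecStalk y'
  let s₀ : S := t (closedPoint L)
  let τ₀ : S.presheaf.stalk s₀ ⟶ CommRingCat.of L := Scheme.stalkClosedPointTo t
  have hτ₀ : Spec.map τ₀ ≫ S.fromSpecStalk s₀ = t := Scheme.Spec_stalkClosedPointTo_fromSpecStalk t
  have hsp : s₀ ⤳ s := by
    have h1 : Spec.map (CommRingCat.ofHom ι) (closedPoint L') = closedPoint L :=
      IsLocalRing.comap_closedPoint ι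
    have h2 := congr(($h).base (closedPoint L'))
    have h3 : s₀ = y' (Spec.map (CommRingCat.ofHom C'.subtype) (closedPoint L')) := by
      show t (closedPoint L) = _
      rw [← h1]
      exact h2.symm
    rw [h3]
    exact (specializes_closedPoint _).map y'.continuous
  let τ : S.presheaf.stalk s ⟶ CommRingCat.of L := S.presheaf.stalkSpecializes hsp ≫ τ₀
  have hτ : Spec.map τ ≫ S.fromSpecStalk s = t := by
    show Spec.map (S.presheaf.stalkSpecializes hsp ≫ τ₀) ≫ S.fromSpecStalk s = t
    rw [Spec.map_comp, Category.assoc, Scheme.SpecMap_stalkSpecializes_fromSpecStalk hsp, hτ₀]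
  have key : τ ≫ CommRingCat.ofHom ι = ψ' ≫ CommRingCat.ofHom C'.subtype := by
    apply Spec.map_injective
    rw [← cancel_mono (S.fromSpecStalk s), Spec.map_comp, Category.assoc, hτ, Spec.map_comp,
      Category.assoc, hψ', h]
  have hmem : ∀ a, τ.hom a ∈ (C'.comap ι).toSubring := by
    intro a
    show ι (τ.hom a) ∈ C'
    have := congr($(key).hom a)
    have h2 : ι (τ.hom a) = ((ψ'.hom a : C') : L') := this
    rw [h2]
    exact (ψ'.hom a).2
  let ψ : S.presheaf.stalk s ⟶ CommRingCat.of (C'.comap ι) :=
    CommRingCat.ofHom (τ.hom.codRestrict (C'.comap ι).toSubring hmem)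
  have h1 : ψ ≫ CommRingCat.ofHom (comapIncl ι C') = ψ' := by
    ext a
    exact congr($(key).hom a)
  have h2 : ψ ≫ CommRingCat.ofHom (C'.comap ι).subtype = τ := by
    ext a; rfl
  refine ⟨Spec.map ψ ≫ S.fromSpecStalk s, ?_, ?_⟩
  · rw [← Category.assoc, ← Spec.map_comp, h1, hψ']
  · rw [← Category.assoc, ← Spec.map_comp, h2, hτ]

end Descent

section BC

variable {X S XT T : Scheme.{u}}

theorem DVRLiftAt.baseChange_id [IsLocallyNoetherian S] {f : X ⟶ S} [LocallyOfFiniteType f]
    [QuasiCompact f] {q : XT ⟶ X} {fT : XT ⟶ T} {p : T ⟶ S} (sq : IsPullback q fT f p)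
    (η' : XT) (H : DVRLiftAt (𝟙 X) f (q η')) : DVRLiftAt (𝟙 XT) fT η' := by
  intro A' hA' y' hy'
  let ι : X.residueField (q η') →+* XT.residueField η' := (q.residueFieldMap η').hom
  have hι : Spec.map (CommRingCat.ofHom ι) ≫ X.fromSpecResidueField (q η') =
      XT.fromSpecResidueField η' ≫ q := Scheme.Hom.SpecMap_residueFieldMap_fromSpecResidueField q η'
  let C := A'.comap ι
  obtain ⟨y, hy1, hy2⟩ := exists_descent ι A' (y' ≫ p) (X.fromSpecResidueField (q η') ≫ f) (by
    rw [← Category.assoc, hy', Category.id_comp, Category.assoc, ← sq.w, ← Category.assoc, ← hι,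
      Category.assoc])
  obtain ⟨l₀, hl₀1, hl₀2⟩ := exists_lift_valuationSubring f (𝟙 X) (q η') H C y (by
    rw [hy2, Category.id_comp])
  have hcomm : CommRingCat.ofHom C.subtype ≫ CommRingCat.ofHom ι =
      CommRingCat.ofHom (comapIncl ι A') ≫ CommRingCat.ofHom A'.subtype := by
    ext a; rfl
  refine ⟨sq.lift (Spec.map (CommRingCat.ofHom (comapIncl ι A')) ≫ l₀) y' (by
    rw [Category.assoc, hl₀1, hy1]), sq.lift_snd _ _ _, ?_⟩
  apply sq.hom_ext
  · rw [Category.assoc, sq.lift_fst, ← Category.assoc, ← Spec.map_comp, ← hcomm, Spec.map_comp,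
      Category.assoc, hl₀2, Category.comp_id, hι, Category.comp_id]
  · rw [Category.assoc, sq.lift_snd, hy', Category.id_comp, Category.comp_id]

end BC

end Groth.Agent.Lib.Helper25.ValCenter
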