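import Mathlib
import Groth.Agent.Lib.Helper25.ValCenterBC
import Groth.Agent.S9205

/-!
# Universal closedness from centres of DVRs of the residue fields of the generic points
-/

set_option autoImplicit false
set_option linter.style.haveILetI false

universe u

open CategoryTheory CategoryTheory.Limits AlgebraicGeometry IsLocalRing

namespace Groth.Agent.Lib.Helper25.ValCenter

/-- every point is a specialization of the generic point of an irreducible component -/
theorem exists_generic_specializes {X : Scheme.{u}} (x : X) :
    ∃ η : X, closure {η} ∈ irreducibleComponents (X : Type u) ∧ η ⤳ x := by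
  have hirr : IsIrreducible (irreducibleComponent x) := isIrreducible_irreducibleComponent
  have hcl : IsClosed (irreducibleComponent x) := isClosed_irreducibleComponent
  have hgen := hirr.isGenericPoint_genericPoint hcl
  refine ⟨hirr.genericPoint, ?_, ?_⟩
  · rw [hgen.def]
    exact irreducibleComponent_mem_irreducibleComponents x
  · rw [specializes_iff_mem_closure, hgen.def]
    exact mem_irreducibleComponent

/-- A separated morphism of finite type over a locally Noetherian base is universally closed as
soon as the discrete valuation subrings of the residue fields of the generic points of the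
irreducible components of the source have centres. -/
theorem universallyClosed_of_dvrLiftAt_generic {X S : Scheme.{u}} [IsLocallyNoetherian S]
    (f : X ⟶ S) [LocallyOfFiniteType f] [QuasiCompact f] [IsSeparated f]
    (hex : ∀ η : X, closure {η} ∈ irreducibleComponents (X : Type u) → DVRLiftAt (𝟙 X) f η) :
    UniversallyClosed f := by
  rw [(Groth.Agent.S9205.result f).2]
  intro n
  let T : Scheme.{u} := 𝔸(ULift.{u} (Fin n); S)
  let p : T ⟶ S := 𝔸(ULift.{u} (Fin n); S) ↘ S
  have : IsLocallyNoetherian T := LocallyOfFiniteType.isLocallyNoetherian p
  have hpflat : Flat p := flat_affineSpace_over _ S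
  have hgen : GeneralizingMap (pullback.fst f p) := Flat.generalizingMap _
  show IsClosedMap (pullback.snd f p)
  rw [isClosedMap_iff_specializingMap]
  intro x₁' t' hsp
  obtain ⟨η, hη, hηx⟩ := exists_generic_specializes ((pullback.fst f p) x₁')
  obtain ⟨η', hη'x, rfl⟩ := hgen hηx
  have H' : DVRLiftAt (𝟙 (pullback f p)) (pullback.snd f p) η' :=
    DVRLiftAt.baseChange_id (IsPullback.of_hasPullback f p) η' (hex _ hη)
  exact exists_specializes_of_dvrLiftAt (pullback.snd f p) (𝟙 _) η' H' x₁' hη'x t' hsp

end Groth.Agent.Lib.Helper25.ValCenter
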