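import Mathlib
import Groth.Agent.Lib.Helper25.ValCenterUC
import Groth.Agent.Lib.Helper39.ClosureSpecializes

/-!
# Centres of valuation rings with prescribed centre on the base

Variants of `ValCenter` where only valuation rings whose closed point maps into a given subset `Z`
of the base are considered.
-/

set_option autoImplicit false
set_option linter.style.haveILetI false

universe u

open CategoryTheory CategoryTheory.Limits AlgebraicGeometry IsLocalRing

namespace Groth.Agent.Lib.Helper25.ValCenter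

variable {X S U : Scheme.{u}}

/-- Lifting property for the valuation subrings of `κ(u₀)` whose centre on `S` lies in `Z`. -/
def VLiftAtOn (Z : Set S) (g : U ⟶ X) (f : X ⟶ S) (u₀ : U) : Prop :=
  ∀ (C : ValuationSubring (U.residueField u₀)) (y : Spec (CommRingCat.of C) ⟶ S),
    y (closedPoint C) ∈ Z →
      Spec.map (CommRingCat.ofHom C.subtype) ≫ y = U.fromSpecResidueField u₀ ≫ g ≫ f →
      ∃ l : Spec (CommRingCat.of C) ⟶ X, l ≫ f = y ∧
        Spec.map (CommRingCat.ofHom C.subtype) ≫ l = U.fromSpecResidueField u₀ ≫ g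

/-- Lifting property for the discrete valuation subrings of `κ(u₀)` whose centre on `S` lies in
`Z`. -/
def DVRLiftAtOn (Z : Set S) (g : U ⟶ X) (f : X ⟶ S) (u₀ : U) : Prop :=
  ∀ (A : ValuationSubring (U.residueField u₀)), IsDiscreteValuationRing A →
    ∀ y : Spec (CommRingCat.of A) ⟶ S, y (closedPoint A) ∈ Z →
      Spec.map (CommRingCat.ofHom A.subtype) ≫ y = U.fromSpecResidueField u₀ ≫ g ≫ f →
      ∃ l : Spec (CommRingCat.of A) ⟶ X, l ≫ f = y ∧
        Spec.map (CommRingCat.ofHom A.subtype) ≫ l = U.fromSpecResidueField u₀ ≫ g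

open Groth.Agent.Lib.Helper39.KA in
/-- `exists_lift_valuationSubring` with control of the centre on the base. -/
theorem DVRLiftAtOn.vLiftAtOn [IsLocallyNoetherian S] (f : X ⟶ S) [LocallyOfFiniteType f]
    [QuasiCompact f] (g : U ⟶ X) [LocallyOfFiniteType g] (u₀ : U) (Z : Set S)
    (H : DVRLiftAtOn Z g f u₀) : VLiftAtOn Z g f u₀ := by
  classical
  intro C y hyZ hy
  by_contra hcon
  let L : Type u := U.residueField u₀
  let t : Spec (CommRingCat.of L) ⟶ X := U.fromSpecResidueField u₀ ≫ g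
  have ht : t (closedPoint L) = g u₀ :=
    congrArg g (Scheme.fromSpecResidueField_apply u₀ _)
  let s : S := y (closedPoint C)
  let ψ : S.presheaf.stalk s ⟶ CommRingCat.of C := Scheme.stalkClosedPointTo y
  have hψloc : IsLocalHom ψ.hom := inferInstance
  have hψ : Spec.map ψ ≫ S.fromSpecStalk s = y := Scheme.Spec_stalkClosedPointTo_fromSpecStalk y
  have hgen : y (Spec.map (CommRingCat.ofHom C.subtype) (closedPoint L)) = (g ≫ f) u₀ := by
    have h2 := congr(($hy).base (closedPoint L))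
    refine h2.trans ?_
    exact congrArg (g ≫ f) (Scheme.fromSpecResidueField_apply u₀ _)
  have hsp : (g ≫ f) u₀ ⤳ s := by
    rw [← hgen]
    exact (specializes_closedPoint _).map y.continuous
  let φ : S.presheaf.stalk s ⟶ CommRingCat.of L :=
    S.presheaf.stalkSpecializes hsp ≫ (g ≫ f).stalkMap u₀ ≫ U.residue u₀
  have w' : U.fromSpecResidueField u₀ ≫ (g ≫ f) = Spec.map φ ≫ S.fromSpecStalk s :=
    fromSpecResidueField_comp_eq (g ≫ f) u₀ s hsp
  have hφψ : φ = ψ ≫ CommRingCat.ofHom C.subtype := by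
    apply Spec.map_injective
    rw [← cancel_mono (S.fromSpecStalk s), ← w', Spec.map_comp, Category.assoc, hψ, hy]
  obtain ⟨sfin, hsfin⟩ := exists_finset_closure_residueField_eq_top (g ≫ f) u₀ s hsp
  have hnoeth : IsNoetherianRing (S.presheaf.stalk s) := inferInstance
  obtain ⟨G, hG⟩ := (isNoetherianRing_iff_ideal_fg _).mp hnoeth
    (IsLocalRing.maximalIdeal (S.presheaf.stalk s))
  have hGm : ∀ a ∈ G, a ∈ IsLocalRing.maximalIdeal (S.presheaf.stalk s) := by
    intro a ha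
    rw [← hG]
    exact Ideal.subset_span ha
  obtain ⟨_, ⟨S₀, hS₀', rfl⟩, hsS₀, -⟩ :=
    S.isBasis_affineOpens.exists_subset_of_mem_open (Set.mem_univ s) isOpen_univ
  have hS₀ : IsAffineOpen S₀ := hS₀'
  have hcomp : IsCompact ((f ⁻¹ᵁ S₀ : X.Opens) : Set X) := f.isCompact_preimage hS₀.isCompact
  obtain ⟨𝒲, h𝒲fin, h𝒲⟩ := isCompact_iff_finite_and_eq_biUnion_affineOpens.mp hcomp
  have hle : ∀ W ∈ 𝒲, (W : X.Opens) ≤ f ⁻¹ᵁ S₀ := by
    intro W hW
    rw [h𝒲]
    exact le_iSup₂ (f := fun (i : X.affineOpens) (_ : i ∈ 𝒲) => (i : X.Opens)) W hW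
  have hcover : ∀ x : X, f x ∈ S₀ → ∃ W ∈ 𝒲, x ∈ (W : X.Opens) := by
    intro x hx
    have : x ∈ f ⁻¹ᵁ S₀ := hx
    rw [h𝒲] at this
    simpa using this
  have hbad : ∀ W : X.affineOpens, W ∈ 𝒲 → g u₀ ∈ (W : X.Opens) →
      ∃ z : L, z ∉ C ∧ ∀ (V : ValuationSubring L) (l : Spec (CommRingCat.of V) ⟶ X),
        Spec.map (CommRingCat.ofHom V.subtype) ≫ l = t → l (closedPoint V) ∈ (W : X.Opens) →
          z ∈ V := by
    intro W hW hηW
    obtain ⟨ρ, hρ⟩ := exists_rho t W.2 (range_subset_of_closedPoint_mem t (by rw [ht]; exact hηW))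
    by_cases hall : ∀ x, ρ.hom x ∈ C
    · exact absurd (exists_lift_of_forall_mem f hS₀ W.2 (hle W hW) t ρ hρ C y
        (by rw [hy, Category.assoc]) hsS₀ hall) hcon
    · push Not at hall
      obtain ⟨x, hx⟩ := hall
      exact ⟨ρ.hom x, hx, fun V l hl hlW => forall_mem_of_lift W.2 t ρ hρ V l hl hlW x⟩
  choose! zf hzf using hbad
  have hηS₀ : f (g u₀) ∈ S₀ := hsp.mem_open S₀.isOpen hsS₀
  let J : Finset X.affineOpens := h𝒲fin.toFinset.filter (fun W => g u₀ ∈ (W : X.Opens))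
  have hJ : ∀ W, W ∈ J ↔ W ∈ 𝒲 ∧ g u₀ ∈ (W : X.Opens) := by
    intro W; simp [J]
  let Wset : Finset L := J.image (fun W => (zf W)⁻¹) ∪ G.image φ.hom
  have hW1 : ∀ w ∈ Wset, w ∈ C.nonunits := by
    intro w hw
    rcases Finset.mem_union.mp hw with hw | hw
    · obtain ⟨W, hWJ, rfl⟩ := Finset.mem_image.mp hw
      obtain ⟨h1, h2⟩ := (hJ W).mp hWJ
      exact C.inv_mem_nonunits_iff.mpr (Or.inr (hzf W h1 h2).1)
    · obtain ⟨a, ha, rfl⟩ := Finset.mem_image.mp hw
      rw [ValuationSubring.mem_nonunits_iff_exists_mem_maximalIdeal]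
      have h1 : φ.hom a = ((ψ.hom a : C) : L) := congr($(hφψ).hom a)
      refine ⟨by rw [h1]; exact (ψ.hom a).2, ?_⟩
      intro hu
      apply hGm a ha
      apply hψloc.map_nonunit a
      have h2 : (⟨φ.hom a, by rw [h1]; exact (ψ.hom a).2⟩ : C) = ψ.hom a := Subtype.ext h1
      rwa [h2] at hu
  have hW0 : ∃ w ∈ Wset, w ≠ 0 := by
    obtain ⟨W, hW, hηW⟩ := hcover (g u₀) hηS₀
    refine ⟨(zf W)⁻¹, Finset.mem_union_left _
      (Finset.mem_image_of_mem _ ((hJ W).mpr ⟨hW, hηW⟩)), ?_⟩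
    have : zf W ≠ 0 := by
      intro h0
      exact (hzf W hW hηW).1 (h0 ▸ C.zero_mem)
    exact inv_ne_zero this
  let _ : Algebra (S.presheaf.stalk s) L := φ.hom.toAlgebra
  have hAC : ∀ a, algebraMap (S.presheaf.stalk s) L a ∈ C := by
    intro a
    show φ.hom a ∈ C
    rw [hφψ]
    exact (ψ.hom a).2
  obtain ⟨V, hVdvr, hV1, hV2⟩ := exists_dvr_of_valuationSubring (S.presheaf.stalk s) L sfin hsfin C
    hAC Wset hW1 hW0
  have hV1' : ∀ a, φ.hom a ∈ V.toSubring := fun a => hV1 a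
  let ψV : S.presheaf.stalk s ⟶ CommRingCat.of V :=
    CommRingCat.ofHom (φ.hom.codRestrict V.toSubring hV1')
  have hψVlocal : IsLocalHom (φ.hom.codRestrict V.toSubring hV1') := by
    constructor
    intro a ha
    by_contra hna
    have ham : a ∈ IsLocalRing.maximalIdeal (S.presheaf.stalk s) := hna
    have hle' : IsLocalRing.maximalIdeal (S.presheaf.stalk s) ≤
        (IsLocalRing.maximalIdeal V).comap (φ.hom.codRestrict V.toSubring hV1') := by
      rw [← hG, Ideal.span_le]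
      intro b hb
      have h3 := hV2 _ (Finset.mem_union_right _ (Finset.mem_image_of_mem φ.hom hb))
      rw [ValuationSubring.mem_nonunits_iff_exists_mem_maximalIdeal] at h3
      obtain ⟨_, h4⟩ := h3
      exact h4
    exact hle' ham ha
  let yV : Spec (CommRingCat.of V) ⟶ S := Spec.map ψV ≫ S.fromSpecStalk s
  have hyV : Spec.map (CommRingCat.ofHom V.subtype) ≫ yV =
      U.fromSpecResidueField u₀ ≫ g ≫ f := by
    rw [w', ← Spec.map_comp_assoc]
    rfl
  have hyVcl : yV (closedPoint V) = s := by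
    have : Spec.map ψV (closedPoint V) = closedPoint (S.presheaf.stalk s) :=
      IsLocalRing.comap_closedPoint (S := V) (φ.hom.codRestrict V.toSubring hV1')
    change (S.fromSpecStalk s) ((Spec.map ψV) (closedPoint V)) = s
    rw [this, S.fromSpecStalk_closedPoint]
  obtain ⟨lV, hlV1, hlV2⟩ := H V hVdvr yV (by rw [hyVcl]; exact hyZ) hyV
  have hxV : f (lV (closedPoint V)) ∈ S₀ := by
    have h1 : f (lV (closedPoint V)) = yV (closedPoint V) := by
      rw [← hlV1]; rfl
    rw [h1, hyVcl]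
    exact hsS₀
  obtain ⟨W, hW, hxW⟩ := hcover _ hxV
  have hηW : g u₀ ∈ (W : X.Opens) := by
    have h1 := range_subset_of_closedPoint_mem lV hxW
    have h2 : lV (Spec.map (CommRingCat.ofHom V.subtype) (closedPoint L)) = g u₀ := by
      have h3 := congr(($hlV2).base (closedPoint L))
      exact h3.trans ht
    rw [← h2]
    exact h1 ⟨_, rfl⟩
  have hz1 : zf W ∈ V := (hzf W hW hηW).2 V lV hlV2 hxW
  have hz2 : (zf W)⁻¹ ∈ V.nonunits :=
    hV2 _ (Finset.mem_union_left _ (Finset.mem_image_of_mem _ ((hJ W).mpr ⟨hW, hηW⟩)))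
  rcases V.inv_mem_nonunits_iff.mp hz2 with h0 | h0
  · exact (hzf W hW hηW).1 (h0 ▸ C.zero_mem)
  · exact h0 hz1

/-- Centres for valuation rings centred at `y₀` give centres for valuation rings centred at
generizations of `y₀` (compose with a valuation ring of the residue field centred at `y₀`). -/
theorem VLiftAtOn.generizations (f : X ⟶ S) (g : U ⟶ X) (u₀ : U) (y₀ : S)
    (H : VLiftAtOn {y₀} g f u₀) : VLiftAtOn {s | s ⤳ y₀} g f u₀ := by
  intro C y hyZ hy
  let L : Type u := U.residueField u₀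
  let s : S := y (closedPoint C)
  have hs : s ⤳ y₀ := hyZ
  let ψ : S.presheaf.stalk s ⟶ CommRingCat.of C := Scheme.stalkClosedPointTo y
  have hψ : Spec.map ψ ≫ S.fromSpecStalk s = y := Scheme.Spec_stalkClosedPointTo_fromSpecStalk y
  let θS : S.presheaf.stalk y₀ ⟶ CommRingCat.of C := S.presheaf.stalkSpecializes hs ≫ ψ
  have hθS : Spec.map θS ≫ S.fromSpecStalk y₀ = y := by
    show Spec.map (S.presheaf.stalkSpecializes hs ≫ ψ) ≫ S.fromSpecStalk y₀ = y
    rw [Spec.map_comp, Category.assoc, Scheme.SpecMap_stalkSpecializes_fromSpecStalk hs, hψ]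
  let φR : S.presheaf.stalk y₀ →+* ResidueField C := (residue C).comp θS.hom
  obtain ⟨R', hR', hR'loc⟩ := IsLocalRing.exists_factor_valuationRing φR
  let C' : ValuationSubring L := composite C R'
  have hC' : ∀ a, (C.subtype.comp θS.hom) a ∈ C'.toSubring := fun a =>
    mem_composite.mpr ⟨(θS.hom a).2, hR' a⟩
  let ψC' : S.presheaf.stalk y₀ ⟶ CommRingCat.of C' :=
    CommRingCat.ofHom ((C.subtype.comp θS.hom).codRestrict C'.toSubring hC')
  have hψC'loc : IsLocalHom ψC'.hom :=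
    isLocalHom_codRestrict_composite C R' θS.hom hR' hR'loc hC'
  let y' : Spec (CommRingCat.of C') ⟶ S := Spec.map ψC' ≫ S.fromSpecStalk y₀
  let incl : CommRingCat.of C' ⟶ CommRingCat.of C :=
    CommRingCat.ofHom (Subring.inclusion (composite_le C R'))
  have h1 : ψC' ≫ incl = θS := by
    ext a; rfl
  have h2 : incl ≫ CommRingCat.ofHom C.subtype = CommRingCat.ofHom C'.subtype := by
    ext a; rfl
  have hinclY : Spec.map incl ≫ y' = y := by
    rw [← hθS, ← h1, Spec.map_comp, Category.assoc]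
  have hy' : Spec.map (CommRingCat.ofHom C'.subtype) ≫ y' =
      U.fromSpecResidueField u₀ ≫ g ≫ f := by
    rw [← h2, Spec.map_comp, Category.assoc, hinclY, hy]
  have hy'cl : y' (closedPoint C') = y₀ := by
    have : Spec.map ψC' (closedPoint C') = closedPoint (S.presheaf.stalk y₀) :=
      IsLocalRing.comap_closedPoint (S := C') ψC'.hom
    change (S.fromSpecStalk y₀) ((Spec.map ψC') (closedPoint C')) = y₀
    rw [this, S.fromSpecStalk_closedPoint]
  obtain ⟨l', hl'1, hl'2⟩ := H C' y' hy'cl hy'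
  refine ⟨Spec.map incl ≫ l', ?_, ?_⟩
  · rw [Category.assoc, hl'1, hinclY]
  · rw [← Category.assoc, ← Spec.map_comp, h2, hl'2]

section BC

variable {XT T : Scheme.{u}}

theorem isLocalHom_comapIncl {L L' : Type u} [Field L] [Field L'] (ι : L →+* L')
    (C' : ValuationSubring L') : IsLocalHom (comapIncl ι C') := by
  constructor
  intro c hc
  obtain ⟨d, hd⟩ := hc.exists_right_inv
  have h1 : ι (c : L) * (d : L') = 1 := congrArg Subtype.val hd
  have hc0 : (c : L) ≠ 0 := by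
    intro h0
    rw [h0, map_zero, zero_mul] at h1
    exact zero_ne_one h1
  have h2 : (d : L') = ι ((c : L)⁻¹) := by
    rw [map_inv₀]
    exact eq_inv_of_mul_eq_one_right h1
  have hmem : (c : L)⁻¹ ∈ C'.comap ι := by
    show ι ((c : L)⁻¹) ∈ C'
    rw [← h2]; exact d.2
  refine IsUnit.of_mul_eq_one ⟨(c : L)⁻¹, hmem⟩ ?_
  apply Subtype.ext
  show (c : L) * (c : L)⁻¹ = 1
  exact mul_inv_cancel₀ hc0

/-- Base change of the lifting property along a morphism `p : T ⟶ S` with image in `Z`. -/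
theorem VLiftAtOn.baseChange_id {f : X ⟶ S} {q : XT ⟶ X} {fT : XT ⟶ T} {p : T ⟶ S}
    (sq : IsPullback q fT f p) (Z : Set S) (hp : Set.range p ⊆ Z)
    (η' : XT) (H : VLiftAtOn Z (𝟙 X) f (q η')) : DVRLiftAt (𝟙 XT) fT η' := by
  intro A' hA' y' hy'
  let ι : X.residueField (q η') →+* XT.residueField η' := (q.residueFieldMap η').hom
  have hι : Spec.map (CommRingCat.ofHom ι) ≫ X.fromSpecResidueField (q η') =
      XT.fromSpecResidueField η' ≫ q := Scheme.Hom.SpecMap_residueFieldMap_fromSpecResidueField q η'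
  let C := A'.comap ι
  obtain ⟨y, hy1, hy2⟩ := exists_descent ι A' (y' ≫ p) (X.fromSpecResidueField (q η') ≫ f) (by
    rw [← Category.assoc, hy', Category.id_comp, Category.assoc, ← sq.w, ← Category.assoc, ← hι,
      Category.assoc])
  have hyZ : y (closedPoint C) ∈ Z := by
    have hloc := isLocalHom_comapIncl ι A'
    have h1 : Spec.map (CommRingCat.ofHom (comapIncl ι A')) (closedPoint A') = closedPoint C :=
      IsLocalRing.comap_closedPoint (comapIncl ι A')
    have h2 := congr(($hy1).base (closedPoint A'))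
    have h3 : y (closedPoint C) = p (y' (closedPoint A')) := by
      rw [← h1]
      exact h2
    rw [h3]
    exact hp ⟨_, rfl⟩
  obtain ⟨l₀, hl₀1, hl₀2⟩ := H C y hyZ (by rw [hy2, Category.id_comp])
  have hcomm : CommRingCat.ofHom C.subtype ≫ CommRingCat.ofHom ι =
      CommRingCat.ofHom (comapIncl ι A') ≫ CommRingCat.ofHom A'.subtype := by
    ext a; rfl
  refine ⟨sq.lift (Spec.map (CommRingCat.ofHom (comapIncl ι A')) ≫ l₀) y' (by
    rw [Category.assoc, hl₀1, hy1]), sq.lift_snd _ _ _, ?_⟩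
  apply sq.hom_ext
  · rw [Category.assoc, sq.lift_fst, ← Category.assoc, ← Spec.map_comp, ← hcomm, Spec.map_comp,
      Category.assoc, hl₀2, Category.comp_id, hι, Category.comp_id]
  · rw [Category.assoc, sq.lift_snd, hy', Category.id_comp, Category.comp_id]

end BC

section Bdry

variable {L : Type u} [Field L]

/-- the morphism `Spec C ⟶ S` given by a ring map `Γ(S, S₀) ⟶ L` with image in `C` -/
noncomputable def yOf {S₀ : S.Opens} (hS₀ : IsAffineOpen S₀) (ρS : Γ(S, S₀) ⟶ CommRingCat.of L)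
    (C : ValuationSubring L) (hC : ∀ r, ρS.hom r ∈ C) : Spec (CommRingCat.of C) ⟶ S :=
  Spec.map (CommRingCat.ofHom (ρS.hom.codRestrict C.toSubring hC)) ≫ hS₀.fromSpec

theorem exists_boundary_closed [QuasiSeparatedSpace S] {S₀ : S.Opens} (hS₀ : IsAffineOpen S₀)
    (ρS : Γ(S, S₀) ⟶ CommRingCat.of L) (Tset : Set L) :
    ∃ F : Set S, IsClosed F ∧
      (∀ (C : ValuationSubring L) (hC : ∀ r, ρS.hom r ∈ C), (∀ z ∈ Tset, z ∈ C.nonunits) →
        yOf hS₀ ρS C hC (closedPoint C) ∈ F) ∧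
      (∀ y₁ ∈ F, ∃ (C : ValuationSubring L) (hC : ∀ r, ρS.hom r ∈ C),
        (∀ z ∈ Tset, z ∈ C.nonunits) ∧ yOf hS₀ ρS C hC (closedPoint C) ⤳ y₁) := by
  let _ : Algebra Γ(S, S₀) L := ρS.hom.toAlgebra
  let E : Subalgebra Γ(S, S₀) L := Algebra.adjoin Γ(S, S₀) Tset
  let I : Ideal E := Ideal.span {e : E | (e : L) ∈ Tset}
  let Q := E ⧸ I
  let φ : Γ(S, S₀) ⟶ CommRingCat.of Q := CommRingCat.ofHom (algebraMap Γ(S, S₀) Q)
  let e : Spec (CommRingCat.of Q) ⟶ S := Spec.map φ ≫ hS₀.fromSpec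
  have hqc : QuasiCompact e := inferInstance
  refine ⟨closure (Set.range e), isClosed_closure, ?_, ?_⟩
  · intro C hC hT
    apply subset_closure
    let CA : Subalgebra Γ(S, S₀) L := { C.toSubring with algebraMap_mem' := hC }
    have hle : E ≤ CA := Algebra.adjoin_le (fun x hx => C.nonunits_subset (hT x hx))
    have hEC : ∀ x : E, (x : L) ∈ C := fun x => hle x.2
    let ι : E →+* C := (E.val : E →+* L).codRestrict C.toSubring hEC
    let 𝔮 : Ideal E := (maximalIdeal C).comap ι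
    have hI𝔮 : I ≤ 𝔮 := by
      rw [Ideal.span_le]
      intro x hx
      show ι x ∈ maximalIdeal C
      have := hT _ hx
      rw [ValuationSubring.mem_nonunits_iff_exists_mem_maximalIdeal] at this
      obtain ⟨h1, h2⟩ := this
      exact h2
    let ιQ : Q →+* ResidueField C := Ideal.Quotient.lift I ((residue C).comp ι) (by
      intro a ha
      exact (residue_eq_zero_iff _).mpr (hI𝔮 ha))
    let z : Spec (CommRingCat.of Q) := ⟨RingHom.ker ιQ, RingHom.ker_isPrime ιQ⟩
    refine ⟨z, ?_⟩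
    show hS₀.fromSpec (Spec.map φ z) = hS₀.fromSpec
      (Spec.map (CommRingCat.ofHom (ρS.hom.codRestrict C.toSubring hC)) (closedPoint C))
    congr 1
    apply PrimeSpectrum.ext
    ext r
    show algebraMap Γ(S, S₀) Q r ∈ RingHom.ker ιQ ↔
      (ρS.hom.codRestrict C.toSubring hC) r ∈ maximalIdeal C
    have h1 : ιQ (algebraMap Γ(S, S₀) Q r) =
        residue C ((ρS.hom.codRestrict C.toSubring hC) r) := rfl
    rw [RingHom.mem_ker, h1]
    exact residue_eq_zero_iff _
  · intro y₁ hy₁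
    obtain ⟨z, hz⟩ := Groth.Agent.Lib.Helper39.KA.exists_specializes_of_mem_closure_range e y₁ hy₁
    let 𝔮' : Ideal Q := z.asIdeal
    have h𝔮' : 𝔮'.IsPrime := z.isPrime
    let 𝔮 : Ideal E := 𝔮'.comap (Ideal.Quotient.mk I)
    have h𝔮 : 𝔮.IsPrime := Ideal.IsPrime.comap _
    let φ𝔮 : Localization.AtPrime 𝔮 →+* L :=
      IsLocalization.lift (M := 𝔮.primeCompl) (g := (E.val : E →+* L)) (by
        intro x
        apply IsUnit.mk0
        intro h0
        have : (x : E) = 0 := Subtype.ext h0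
        exact x.2 (this ▸ 𝔮.zero_mem))
    obtain ⟨C, hC', hCloc⟩ := IsLocalRing.exists_factor_valuationRing φ𝔮
    have hEC : ∀ x : E, (x : L) ∈ C := by
      intro x
      have := hC' (algebraMap E (Localization.AtPrime 𝔮) x)
      rwa [IsLocalization.lift_eq] at this
    have hmax : ∀ x : E, (⟨(x : L), hEC x⟩ : C) ∈ maximalIdeal C ↔ x ∈ 𝔮 := by
      intro x
      have h1 : (φ𝔮.codRestrict C.toSubring hC') (algebraMap E (Localization.AtPrime 𝔮) x) =
          ⟨(x : L), hEC x⟩ := Subtype.ext (IsLocalization.lift_eq _ _)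
      rw [← h1, mem_maximalIdeal, mem_nonunits_iff, isUnit_map_iff,
        ← mem_nonunits_iff, ← mem_maximalIdeal,
        IsLocalization.AtPrime.to_map_mem_maximal_iff (Localization.AtPrime 𝔮) 𝔮]
    have hC : ∀ r, ρS.hom r ∈ C := fun r => hEC (algebraMap Γ(S, S₀) E r)
    refine ⟨C, hC, ?_, ?_⟩
    · intro t ht
      rw [ValuationSubring.mem_nonunits_iff_exists_mem_maximalIdeal]
      have htE : t ∈ E := Algebra.subset_adjoin ht
      refine ⟨hEC ⟨t, htE⟩, ?_⟩
      rw [hmax ⟨t, htE⟩]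
      show Ideal.Quotient.mk I ⟨t, htE⟩ ∈ 𝔮'
      have : Ideal.Quotient.mk I ⟨t, htE⟩ = 0 :=
        Ideal.Quotient.eq_zero_iff_mem.mpr (Ideal.subset_span ht)
      rw [this]
      exact 𝔮'.zero_mem
    · have heq : yOf hS₀ ρS C hC (closedPoint C) = e z := by
        show hS₀.fromSpec
          (Spec.map (CommRingCat.ofHom (ρS.hom.codRestrict C.toSubring hC)) (closedPoint C)) =
            hS₀.fromSpec (Spec.map φ z)
        congr 1
        apply PrimeSpectrum.ext
        ext r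
        show (ρS.hom.codRestrict C.toSubring hC) r ∈ maximalIdeal C ↔
          algebraMap Γ(S, S₀) Q r ∈ 𝔮'
        exact hmax (algebraMap Γ(S, S₀) E r)
      rw [heq]
      exact hz

end Bdry

section ChartData

variable {L : Type u} [Field L]

theorem exists_finset_forall_mem {R A : Type*} [CommRing R] [CommRing A]
    (φ : R →+* A) (hφ : φ.FiniteType) : ∃ s : Finset A, ∀ (ρ : A →+* L) (C : Subring L),
      (∀ r, ρ (φ r) ∈ C) → (∀ d ∈ s, ρ d ∈ C) → ∀ x, ρ x ∈ C := by
  algebraize [φ]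
  obtain ⟨s, hs⟩ := (Algebra.FiniteType.out : (⊤ : Subalgebra R A).FG)
  refine ⟨s, fun ρ C h0 h1 x => ?_⟩
  have hx : x ∈ Algebra.adjoin R (s : Set A) := by rw [hs]; trivial
  induction hx using Algebra.adjoin_induction with
  | mem x hx => exact h1 x hx
  | algebraMap r => exact h0 r
  | add x y _ _ hx hy => rw [map_add]; exact C.add_mem hx hy
  | mul x y _ _ hx hy => rw [map_mul]; exact C.mul_mem hx hy

/-- Finitely many elements of `L` deciding whether a valuation subring has a centre in the chart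
`W`. -/
theorem chartData (f : X ⟶ S) [LocallyOfFiniteType f] {S₀ : S.Opens} (hS₀ : IsAffineOpen S₀)
    {W : X.Opens} (hW : IsAffineOpen W) (e : W ≤ f ⁻¹ᵁ S₀)
    (t : Spec (CommRingCat.of L) ⟶ X) (htW : Set.range t ⊆ (W : Set X)) :
    ∃ F : Finset L,
      (∀ (V : ValuationSubring L) (y : Spec (CommRingCat.of V) ⟶ S),
        Spec.map (CommRingCat.ofHom V.subtype) ≫ y = t ≫ f → y (closedPoint V) ∈ S₀ →
        (∀ z ∈ F, z ∈ V) → ∃ l : Spec (CommRingCat.of V) ⟶ X, l ≫ f = y ∧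
          Spec.map (CommRingCat.ofHom V.subtype) ≫ l = t) ∧
      (∀ (V : ValuationSubring L) (l : Spec (CommRingCat.of V) ⟶ X),
        Spec.map (CommRingCat.ofHom V.subtype) ≫ l = t → l (closedPoint V) ∈ W →
        ∀ z ∈ F, z ∈ V) := by
  classical
  obtain ⟨ρ, hρ⟩ := exists_rho t hW htW
  obtain ⟨G, hG⟩ := exists_finset_forall_mem (L := L) (f.appLE S₀ W e).hom
    (f.finiteType_appLE hS₀ hW e)
  refine ⟨G.image ρ.hom, ?_, ?_⟩
  · intro V y hy hyS₀ hF
    obtain ⟨ρS, hρS⟩ := exists_rho y hS₀ (range_subset_of_closedPoint_mem y hyS₀)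
    have key : f.appLE S₀ W e ≫ ρ = ρS ≫ CommRingCat.ofHom V.subtype := by
      apply rho_unique hS₀
      rw [Spec.map_comp, Category.assoc, IsAffineOpen.SpecMap_appLE_fromSpec f hS₀ hW e,
        ← Category.assoc, hρ, Spec.map_comp, Category.assoc, hρS, hy]
    have hmem : ∀ x, ρ.hom x ∈ V := by
      apply hG ρ.hom V.toSubring
      · intro r
        have := congr($(key).hom r)
        have h2 : ρ.hom ((f.appLE S₀ W e).hom r) = ((ρS.hom r : V) : L) := this
        rw [h2]
        exact (ρS.hom r).2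
      · intro d hd
        exact hF _ (Finset.mem_image_of_mem _ hd)
    exact exists_lift_of_forall_mem f hS₀ hW e t ρ hρ V y hy hyS₀ hmem
  · intro V l hl hlW z hz
    obtain ⟨d, -, rfl⟩ := Finset.mem_image.mp hz
    exact forall_mem_of_lift hW t ρ hρ V l hl hlW d

end ChartData


section OpenNhd

theorem VLiftAtOn.mono {Z Z' : Set S} (h : Z' ⊆ Z) {g : U ⟶ X} {f : X ⟶ S} {u₀ : U}
    (H : VLiftAtOn Z g f u₀) : VLiftAtOn Z' g f u₀ :=
  fun C y hyZ hy => H C y (h hyZ) hy

/-- If the valuation subrings of `κ(u₀)` centred at generizations of `y₀` have centres on `X`,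
the same holds for those centred in a suitable open neighbourhood of `y₀`. -/
theorem VLiftAtOn.exists_open [IsLocallyNoetherian S] (f : X ⟶ S) [LocallyOfFiniteType f]
    [QuasiCompact f] (g : U ⟶ X) (u₀ : U) (y₀ : S) {S₀ : S.Opens} (hS₀ : IsAffineOpen S₀)
    (hy₀ : y₀ ∈ S₀) (H : VLiftAtOn {s | s ⤳ y₀} g f u₀) :
    ∃ V : S.Opens, y₀ ∈ V ∧ V ≤ S₀ ∧ VLiftAtOn (V : Set S) g f u₀ := by
  classical
  let L : Type u := U.residueField u₀
  let t : Spec (CommRingCat.of L) ⟶ X := U.fromSpecResidueField u₀ ≫ g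
  have ht : t (closedPoint L) = g u₀ :=
    congrArg g (Scheme.fromSpecResidueField_apply u₀ _)
  have hgenpt : ∀ (C : ValuationSubring L) (y : Spec (CommRingCat.of C) ⟶ S),
      Spec.map (CommRingCat.ofHom C.subtype) ≫ y = U.fromSpecResidueField u₀ ≫ g ≫ f →
      f (g u₀) ⤳ y (closedPoint C) := by
    intro C y hy
    have hgen : y (Spec.map (CommRingCat.ofHom C.subtype) (closedPoint L)) = (g ≫ f) u₀ := by
      have h2 := congr(($hy).base (closedPoint L))
      refine h2.trans ?_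
      exact congrArg (g ≫ f) (Scheme.fromSpecResidueField_apply u₀ _)
    show (g ≫ f) u₀ ⤳ _
    rw [← hgen]
    exact (specializes_closedPoint _).map y.continuous
  by_cases hη : f (g u₀) ∈ S₀
  swap
  · refine ⟨S₀, hy₀, le_rfl, ?_⟩
    intro C y hyZ hy
    exact absurd ((hgenpt C y hy).mem_open S₀.isOpen hyZ) hη
  have hcomp : IsCompact ((f ⁻¹ᵁ S₀ : X.Opens) : Set X) := f.isCompact_preimage hS₀.isCompact
  obtain ⟨𝒲, h𝒲fin, h𝒲⟩ := isCompact_iff_finite_and_eq_biUnion_affineOpens.mp hcomp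
  have hle : ∀ W ∈ 𝒲, (W : X.Opens) ≤ f ⁻¹ᵁ S₀ := by
    intro W hW
    rw [h𝒲]
    exact le_iSup₂ (f := fun (i : X.affineOpens) (_ : i ∈ 𝒲) => (i : X.Opens)) W hW
  have hcover : ∀ x : X, f x ∈ S₀ → ∃ W ∈ 𝒲, x ∈ (W : X.Opens) := by
    intro x hx
    have : x ∈ f ⁻¹ᵁ S₀ := hx
    rw [h𝒲] at this
    simpa using this
  let J : Finset X.affineOpens := h𝒲fin.toFinset.filter (fun W => g u₀ ∈ (W : X.Opens))
  have hJ : ∀ W, W ∈ J ↔ W ∈ 𝒲 ∧ g u₀ ∈ (W : X.Opens) := by
    intro W; simp [J]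
  have hchart : ∀ W : X.affineOpens, W ∈ J → ∃ F : Finset L,
      (∀ (V : ValuationSubring L) (y : Spec (CommRingCat.of V) ⟶ S),
        Spec.map (CommRingCat.ofHom V.subtype) ≫ y = t ≫ f → y (closedPoint V) ∈ S₀ →
        (∀ z ∈ F, z ∈ V) → ∃ l : Spec (CommRingCat.of V) ⟶ X, l ≫ f = y ∧
          Spec.map (CommRingCat.ofHom V.subtype) ≫ l = t) ∧
      (∀ (V : ValuationSubring L) (l : Spec (CommRingCat.of V) ⟶ X),
        Spec.map (CommRingCat.ofHom V.subtype) ≫ l = t → l (closedPoint V) ∈ (W : X.Opens) →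
        ∀ z ∈ F, z ∈ V) := by
    intro W hW
    obtain ⟨h1, h2⟩ := (hJ W).mp hW
    exact chartData f hS₀ W.2 (hle W h1) t
      (range_subset_of_closedPoint_mem t (by rw [ht]; exact h2))
  choose! Fgen hF using hchart
  obtain ⟨ρS, hρS⟩ := exists_rho (t ≫ f) hS₀ (range_subset_of_closedPoint_mem (t ≫ f) (by
    show f (t (closedPoint L)) ∈ S₀
    rw [ht]; exact hη))
  let Ch : Finset (↥J → L) :=
    (Fintype.piFinset (fun W : ↥J => Fgen W.1)).filter (fun c => ∀ W, c W ≠ 0)
  let Tset : (↥J → L) → Set L := fun c => Set.range (fun W : ↥J => (c W)⁻¹)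
  have hBd := fun c : ↥J → L => exists_boundary_closed hS₀ ρS (Tset c)
  choose Fc hFc_closed hFc1 hFc2 using hBd
  have hclosed : IsClosed (⋃ c ∈ Ch, Fc c) := isClosed_biUnion_finset fun c _ => hFc_closed c
  have hyOf : ∀ (C : ValuationSubring L) (hC : ∀ r, ρS.hom r ∈ C),
      Spec.map (CommRingCat.ofHom C.subtype) ≫ yOf hS₀ ρS C hC =
        U.fromSpecResidueField u₀ ≫ g ≫ f := by
    intro C hC
    have h1 : CommRingCat.ofHom (ρS.hom.codRestrict C.toSubring hC) ≫
        CommRingCat.ofHom C.subtype = ρS := by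
      ext r; rfl
    rw [yOf, ← Category.assoc, ← Spec.map_comp, h1, hρS, Category.assoc]
  refine ⟨S₀ ⊓ ⟨(⋃ c ∈ Ch, Fc c)ᶜ, hclosed.isOpen_compl⟩, ⟨hy₀, ?_⟩, inf_le_left, ?_⟩
  · -- `y₀` is not in any boundary set
    intro hmem
    simp only [Set.mem_iUnion] at hmem
    obtain ⟨c, hc, hyc⟩ := hmem
    obtain ⟨C, hC, hT, hsp⟩ := hFc2 c y₀ hyc
    obtain ⟨l, hl1, hl2⟩ := H C (yOf hS₀ ρS C hC) hsp (hyOf C hC)
    have hxS₀ : f (l (closedPoint C)) ∈ S₀ := by
      have h1 : f (l (closedPoint C)) = yOf hS₀ ρS C hC (closedPoint C) := by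
        rw [← hl1]; rfl
      rw [h1]
      exact hsp.mem_open S₀.isOpen hy₀
    obtain ⟨W, hW, hxW⟩ := hcover _ hxS₀
    have hηW : g u₀ ∈ (W : X.Opens) := by
      have h1 := range_subset_of_closedPoint_mem l hxW
      have h2 : l (Spec.map (CommRingCat.ofHom C.subtype) (closedPoint L)) = g u₀ := by
        have h3 := congr(($hl2).base (closedPoint L))
        exact h3.trans ht
      rw [← h2]
      exact h1 ⟨_, rfl⟩
    have hWJ : W ∈ J := (hJ W).mpr ⟨hW, hηW⟩
    have hc' := Finset.mem_filter.mp hc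
    have hcW : c ⟨W, hWJ⟩ ∈ Fgen W := (Fintype.mem_piFinset.mp hc'.1) ⟨W, hWJ⟩
    have h3 : c ⟨W, hWJ⟩ ∈ C := (hF W hWJ).2 C l hl2 hxW _ hcW
    have h4 : (c ⟨W, hWJ⟩)⁻¹ ∈ C.nonunits := hT _ ⟨⟨W, hWJ⟩, rfl⟩
    rcases C.inv_mem_nonunits_iff.mp h4 with h0 | h0
    · exact hc'.2 ⟨W, hWJ⟩ h0
    · exact h0 h3
  · intro C y hyV hy
    by_contra hcon
    have hyS₀ : y (closedPoint C) ∈ S₀ := hyV.1
    have hy' : Spec.map (CommRingCat.ofHom C.subtype) ≫ y = t ≫ f := by
      rw [hy, Category.assoc]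
    have hex : ∀ W : ↥J, ∃ z ∈ Fgen W.1, z ∉ C := by
      intro W
      by_contra hall
      push Not at hall
      exact hcon ((hF W.1 W.2).1 C y hy' hyS₀ hall)
    choose c hc1 hc2 using hex
    have hcCh : c ∈ Ch := by
      refine Finset.mem_filter.mpr ⟨Fintype.mem_piFinset.mpr hc1, fun W h0 => ?_⟩
      exact hc2 W (h0 ▸ C.zero_mem)
    obtain ⟨ρS', hρS'⟩ := exists_rho y hS₀ (range_subset_of_closedPoint_mem y hyS₀)
    have key : ρS = ρS' ≫ CommRingCat.ofHom C.subtype := by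
      apply rho_unique hS₀
      rw [Spec.map_comp, Category.assoc, hρS', hy', hρS]
    have hC : ∀ r, ρS.hom r ∈ C := by
      intro r
      rw [key]
      exact (ρS'.hom r).2
    have hyeq : yOf hS₀ ρS C hC = y := by
      rw [yOf, ← hρS']
      congr 2
      ext r
      exact congr($(key).hom r)
    have hT : ∀ z ∈ Tset c, z ∈ C.nonunits := by
      rintro _ ⟨W, rfl⟩
      exact C.inv_mem_nonunits_iff.mpr (Or.inr (hc2 W))
    have h1 := hFc1 c C hC hT
    rw [hyeq] at h1
    exact hyV.2 (Set.mem_biUnion hcCh h1)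

end OpenNhd

section Generic

theorem closure_image_mem_irreducibleComponents {α β : Type*} [TopologicalSpace α]
    [TopologicalSpace β] {ι : α → β} (hι : Topology.IsOpenEmbedding ι) (x : α)
    (hx : closure {x} ∈ irreducibleComponents α) :
    closure {ι x} ∈ irreducibleComponents β := by
  refine ⟨isIrreducible_singleton.closure, ?_⟩
  intro T hT hle
  have hxT : ι x ∈ T := hle (subset_closure rfl)
  have hP : IsIrreducible (ι ⁻¹' T) := ⟨⟨x, hxT⟩, hT.2.preimage hι⟩
  have h1 : closure {x} ⊆ ι ⁻¹' T := by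
    intro a ha
    have : ι a ∈ closure {ι x} := by
      have := map_mem_closure hι.continuous ha (t := {ι x}) (fun b hb => by
        rw [Set.mem_singleton_iff.mp hb]; rfl)
      exact this
    exact hle this
  have h2 : ι ⁻¹' T ⊆ closure {x} := hx.2 hP h1
  have h3 : T ∩ Set.range ι ⊆ closure {ι x} := by
    rintro _ ⟨hb, a, rfl⟩
    have : a ∈ closure {x} := h2 hb
    have := image_closure_subset_closure_image hι.continuous ⟨a, this, rfl⟩
    rwa [Set.image_singleton] at this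
  have h4 : T ⊆ closure (T ∩ Set.range ι) :=
    subset_closure_inter_of_isPreirreducible_of_isOpen hT.2 hι.isOpen_range ⟨ι x, hxT, x, rfl⟩
  exact h4.trans (closure_minimal h3 isClosed_closure)

end Generic

section Main

/-- **Local properness from discrete valuation rings centred at one point.**  Let `f : X ⟶ S` be
separated of finite type over a locally Noetherian base and `y₀ : S`.  If for every generic point
`η` of an irreducible component of `X`, every discrete valuation subring of `κ(η)` centred at `y₀`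
on `S` has a centre on `X`, then `f` is proper over an open neighbourhood of `y₀`. -/
theorem exists_isProper_morphismRestrict [IsLocallyNoetherian S] (f : X ⟶ S)
    [LocallyOfFiniteType f] [QuasiCompact f] [IsSeparated f] (y₀ : S)
    (H : ∀ η : X, closure {η} ∈ irreducibleComponents (X : Type u) →
      DVRLiftAtOn {y₀} (𝟙 X) f η) :
    ∃ V : S.Opens, y₀ ∈ V ∧ IsProper (f ∣_ V) := by
  classical
  obtain ⟨_, ⟨S₀, hS₀', rfl⟩, hy₀, -⟩ :=
    S.isBasis_affineOpens.exists_subset_of_mem_open (Set.mem_univ y₀) isOpen_univ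
  have hS₀ : IsAffineOpen S₀ := hS₀'
  have hXnoeth : IsLocallyNoetherian X := LocallyOfFiniteType.isLocallyNoetherian f
  let X₀ : X.Opens := f ⁻¹ᵁ S₀
  have hcomp : IsCompact ((f ⁻¹ᵁ S₀ : X.Opens) : Set X) := f.isCompact_preimage hS₀.isCompact
  have hcs : CompactSpace ↥X₀ := isCompact_iff_compactSpace.mp hcomp
  have hN : AlgebraicGeometry.IsNoetherian (X₀ : Scheme.{u}) :=
    @AlgebraicGeometry.IsNoetherian.mk _ inferInstance hcs
  have hfin : (genericPoints ↥(X₀ : Scheme.{u})).Finite :=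
    genericPoints.finite TopologicalSpace.NoetherianSpace.finite_irreducibleComponents
  have hopen : ∀ η' : ↥(X₀ : Scheme.{u}), η' ∈ genericPoints ↥(X₀ : Scheme.{u}) →
      ∃ V : S.Opens, y₀ ∈ V ∧ V ≤ S₀ ∧ VLiftAtOn (V : Set S) (𝟙 X) f (X₀.ι η') := by
    intro η' hη'
    have hη : closure {X₀.ι η'} ∈ irreducibleComponents (X : Type u) :=
      closure_image_mem_irreducibleComponents X₀.ι.isOpenEmbedding η' hη'
    exact ((H _ hη).vLiftAtOn f (𝟙 X) _ {y₀}).generizations f (𝟙 X) _ y₀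
      |>.exists_open f (𝟙 X) _ y₀ hS₀ hy₀
  choose! Vf hVf1 hVf2 hVf3 using hopen
  let Vset : Set S := (S₀ : Set S) ∩ ⋂ η' ∈ genericPoints ↥(X₀ : Scheme.{u}), (Vf η' : Set S)
  have hVopen : IsOpen Vset :=
    S₀.isOpen.inter (hfin.isOpen_biInter fun η' _ => (Vf η').isOpen)
  let V : S.Opens := ⟨Vset, hVopen⟩
  have hyV : y₀ ∈ V := ⟨hy₀, Set.mem_iInter₂.mpr fun η' hη' => hVf1 η' hη'⟩
  refine ⟨V, hyV, ?_⟩
  have hVS₀ : V ≤ S₀ := fun _ h => h.1
  have hVnoeth : IsLocallyNoetherian (V : Scheme.{u}) := inferInstance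
  have huc : UniversallyClosed (f ∣_ V) := by
    apply universallyClosed_of_dvrLiftAt_generic
    intro η'' hη''
    have hle : f ⁻¹ᵁ V ≤ X₀ := fun _ h => hVS₀ h
    let j : (f ⁻¹ᵁ V : Scheme.{u}) ⟶ (X₀ : Scheme.{u}) := X.homOfLE hle
    have hj : j η'' ∈ genericPoints ↥(X₀ : Scheme.{u}) :=
      closure_image_mem_irreducibleComponents j.isOpenEmbedding η'' hη''
    have hpt : X₀.ι (j η'') = (f ⁻¹ᵁ V).ι η'' := by
      have := congr(($(X.homOfLE_ι hle)).base η'')
      exact this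
    have h1 : VLiftAtOn (V : Set S) (𝟙 X) f (X₀.ι (j η'')) :=
      (hVf3 _ hj).mono (fun s hs => (Set.mem_iInter₂.mp hs.2) _ hj)
    rw [hpt] at h1
    exact VLiftAtOn.baseChange_id (isPullback_morphismRestrict f V).flip (V : Set S)
      (by rw [Scheme.Opens.range_ι]) η'' h1
  exact { }

end Main

end Groth.Agent.Lib.Helper25.ValCenter
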