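import Mathlib
import Groth.Agent.Lib.Helper25.ValCenterLoc

/-!
# Properness of the closure of a subset at a point, via discrete valuation rings

Helper lemmas for `Groth.Agent.S4978`.
-/

set_option autoImplicit false
set_option linter.style.haveILetI false

universe u

open CategoryTheory CategoryTheory.Limits AlgebraicGeometry IsLocalRing

namespace Groth.Agent.Lib.Helper25.ClosureProper

/-- A morphism from a reduced scheme whose image lies in the image of a closed immersion factors
through it. -/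
theorem exists_factor_of_isReduced {X Y Z : Scheme.{u}} [IsReduced X] (f : X ⟶ Y) (j : Z ⟶ Y)
    [IsClosedImmersion j] (h : Set.range f ⊆ Set.range j) : ∃ g : X ⟶ Z, g ≫ j = f := by
  have h1 : f.ker = Scheme.IdealSheafData.vanishingIdeal
      (.closure (f '' (⊤ : TopologicalSpace.Closeds X))) := by
    rw [← Scheme.IdealSheafData.map_vanishingIdeal, Scheme.IdealSheafData.vanishingIdeal_top,
      Scheme.nilradical_eq_bot, Scheme.IdealSheafData.map_bot]
  have h2 : j.ker ≤ f.ker := by
    rw [h1]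
    refine (Scheme.IdealSheafData.le_radical (I := j.ker)).trans ?_
    rw [← Scheme.IdealSheafData.vanishingIdeal_support]
    apply Scheme.IdealSheafData.vanishingIdeal_antimono
    rw [← SetLike.coe_subset_coe, Scheme.Hom.support_ker]
    simp only [TopologicalSpace.Closeds.coe_closure, TopologicalSpace.Closeds.coe_top,
      Set.image_univ]
    exact closure_mono h
  exact ⟨IsClosedImmersion.lift j f h2, IsClosedImmersion.lift_fac j f h2⟩

/-- The reduced induced subscheme on a closed subset is reduced. -/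
theorem isReduced_vanishingIdeal_subscheme {X : Scheme.{u}} (W : TopologicalSpace.Closeds X) :
    IsReduced (Scheme.IdealSheafData.vanishingIdeal W).subscheme := by
  have : ∀ U, IsReduced ((Scheme.IdealSheafData.vanishingIdeal W).subschemeCover.openCover.X U) := by
    intro (U : X.affineOpens)
    change IsReduced (Spec (.of <| Γ(X, U.1) ⧸ (Scheme.IdealSheafData.vanishingIdeal W).ideal U))
    have : _root_.IsReduced (Γ(X, U.1) ⧸ (Scheme.IdealSheafData.vanishingIdeal W).ideal U) := by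
      rw [← Ideal.isRadical_iff_quotient_reduced, Scheme.IdealSheafData.vanishingIdeal_ideal]
      exact PrimeSpectrum.isRadical_vanishingIdeal _
    infer_instance
  exact IsReduced.of_openCover _ (Scheme.IdealSheafData.vanishingIdeal W).subschemeCover.openCover

theorem range_subschemeι_vanishingIdeal {X : Scheme.{u}} (W : TopologicalSpace.Closeds X) :
    Set.range (Scheme.IdealSheafData.vanishingIdeal W).subschemeι = (W : Set X) := by
  rw [Scheme.IdealSheafData.range_subschemeι, Scheme.IdealSheafData.coe_support_vanishingIdeal]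

/-- A point of a scheme with values in a field factors through the residue field of its image. -/
theorem exists_eq_SpecMap_comp {K : Type u} [Field K] {P : Scheme.{u}}
    (t : Spec (CommRingCat.of K) ⟶ P) (x : P) (h : t (closedPoint K) = x) :
    ∃ φ : P.residueField x ⟶ CommRingCat.of K, t = Spec.map φ ≫ P.fromSpecResidueField x := by
  subst h
  exact ⟨_, (Scheme.descResidueField_stalkClosedPointTo_fromSpecResidueField K P t).symm⟩

/-- Two field-valued points with the same image point `x`, which agree after composition with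
`p`, are equal as soon as `κ(p x) → κ(x)` is surjective. -/
theorem eq_of_comp_eq_of_surjective {K : Type u} [Field K] {P B : Scheme.{u}} (p : P ⟶ B)
    (t₁ t₂ : Spec (CommRingCat.of K) ⟶ P) (x : P) (h₁ : t₁ (closedPoint K) = x)
    (h₂ : t₂ (closedPoint K) = x) (hp : t₁ ≫ p = t₂ ≫ p)
    (hsurj : Function.Surjective (p.residueFieldMap x).hom) : t₁ = t₂ := by
  obtain ⟨φ₁, rfl⟩ := exists_eq_SpecMap_comp t₁ x h₁
  obtain ⟨φ₂, rfl⟩ := exists_eq_SpecMap_comp t₂ x h₂
  simp only [Category.assoc, ← Scheme.Hom.SpecMap_residueFieldMap_fromSpecResidueField] at hp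
  rw [← Category.assoc, ← Category.assoc, cancel_mono, ← Spec.map_comp, ← Spec.map_comp] at hp
  have h3 := Spec.map_injective hp
  have : φ₁ = φ₂ := by
    ext a
    obtain ⟨b, rfl⟩ := hsurj a
    exact congr($(h3).hom b)
  rw [this]

/-- If the inclusion of the generic point of a domain `A` with fraction field `K` factors through
the residue field of a point `p`, then `κ(p) → K` is surjective. -/
theorem surjective_of_eq_SpecMap_comp {A K : Type u} [CommRing A] [Field K] [Algebra A K]
    [IsFractionRing A K] (p : Spec (CommRingCat.of A))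
    (ψ : (Spec (CommRingCat.of A)).residueField p ⟶ CommRingCat.of K)
    (h : Spec.map (CommRingCat.ofHom (algebraMap A K)) =
      Spec.map ψ ≫ (Spec (CommRingCat.of A)).fromSpecResidueField p) :
    Function.Surjective ψ.hom := by
  rw [← Scheme.Spec.map_residueFieldIso_inv_eq_fromSpecResidueField, ← Spec.map_comp,
    ← Spec.map_comp] at h
  have h1 := Spec.map_injective h
  have h2 : ∀ a : A, ∃ c, ψ.hom c = algebraMap A K a := by
    intro a
    exact ⟨_, (congr($(h1).hom a)).symm⟩
  intro k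
  obtain ⟨a, b, hb, rfl⟩ := IsFractionRing.div_surjective (A := A) k
  obtain ⟨a', ha'⟩ := h2 a
  obtain ⟨b', hb'⟩ := h2 b
  exact ⟨a' / b', by rw [map_div₀, ha', hb']⟩

theorem SpecMap_algebraMap_closedPoint {A K : Type u} [CommRing A] [IsDomain A] [Field K]
    [Algebra A K] [IsFractionRing A K] :
    Spec.map (CommRingCat.ofHom (algebraMap A K)) (closedPoint K) =
      genericPoint (Spec (CommRingCat.of A)) := by
  rw [genericPoint_eq_bot_of_affine]
  apply PrimeSpectrum.ext
  change Ideal.comap (algebraMap A K) (closedPoint K).asIdeal = ⊥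
  have : (closedPoint K).asIdeal = ⊥ := by
    rw [IsLocalRing.closedPoint]
    exact IsLocalRing.maximalIdeal_eq_bot
  rw [this, ← RingHom.ker_eq_comap_bot, RingHom.ker_eq_bot_iff_eq_zero]
  intro a ha
  exact (IsFractionRing.injective A K) (by rw [ha, map_zero])

open Groth.Agent.Lib.Helper25.ValCenter

/-- The section property for discrete valuation rings. -/
def SectionProp {X Y : Scheme.{u}} (f : X ⟶ Y) (Z : Set X) (y : Y) : Prop :=
  ∀ (A' : Type u) [CommRing A'] [IsDomain A'] [IsDiscreteValuationRing A']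
    (g : Spec (CommRingCat.of A') ⟶ Y),
    g.base (IsLocalRing.closedPoint A') = y →
    ∀ x' : ↥(pullback f g), (pullback.fst f g).base x' ∈ Z →
      (pullback.snd f g).base x' = genericPoint (Spec (CommRingCat.of A')) →
      Function.Bijective ((pullback.snd f g).residueFieldMap x').hom →
      ∃ s : Spec (CommRingCat.of A') ⟶ pullback f g, s ≫ pullback.snd f g = 𝟙 _ ∧
        x' ∈ Set.range s.base

theorem dvrLiftAtOn_of_sectionProp {X Y : Scheme.{u}} (f : X ⟶ Y) (Z : Set X)
    (hZ : ∀ z ∈ closure Z, (∀ z' ∈ closure Z, z ∈ closure {z'} → z' = z) → z ∈ Z) (y : Y)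
    (H : SectionProp f Z y)
    (η' : (Scheme.IdealSheafData.vanishingIdeal
      (⟨closure Z, isClosed_closure⟩ : TopologicalSpace.Closeds X)).subscheme)
    (hη' : closure {η'} ∈ irreducibleComponents
      ↥(Scheme.IdealSheafData.vanishingIdeal
        (⟨closure Z, isClosed_closure⟩ : TopologicalSpace.Closeds X)).subscheme) :
    DVRLiftAtOn {y} (𝟙 _) ((Scheme.IdealSheafData.vanishingIdeal
      (⟨closure Z, isClosed_closure⟩ : TopologicalSpace.Closeds X)).subschemeι ≫ f) η' := by
  intro A hA yA hyAcl hyA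
  let T : TopologicalSpace.Closeds X := ⟨closure Z, isClosed_closure⟩
  let 𝒥 := Scheme.IdealSheafData.vanishingIdeal T
  let i : 𝒥.subscheme ⟶ X := 𝒥.subschemeι
  have hri : Set.range i = closure Z := range_subschemeι_vanishingIdeal T
  let K : Type u := 𝒥.subscheme.residueField η'
  let j : Spec (CommRingCat.of K) ⟶ Spec (CommRingCat.of A) :=
    Spec.map (CommRingCat.ofHom A.subtype)
  have hcomm : (𝒥.subscheme.fromSpecResidueField η' ≫ i) ≫ f = j ≫ yA := by
    rw [hyA, Category.id_comp, Category.assoc]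
  let τ : Spec (CommRingCat.of K) ⟶ pullback f yA :=
    pullback.lift (𝒥.subscheme.fromSpecResidueField η' ≫ i) j hcomm
  have hτ1 : τ ≫ pullback.fst f yA = 𝒥.subscheme.fromSpecResidueField η' ≫ i :=
    pullback.lift_fst _ _ _
  have hτ2 : τ ≫ pullback.snd f yA = j := pullback.lift_snd _ _ _
  let x' : ↥(pullback f yA) := τ (closedPoint K)
  have hfst : (pullback.fst f yA) x' = i η' := by
    have h1 := congr(($hτ1).base (closedPoint K))
    refine h1.trans ?_
    exact congrArg i (Scheme.fromSpecResidueField_apply η' _)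
  have hjpt : j (closedPoint K) = genericPoint (Spec (CommRingCat.of A)) :=
    SpecMap_algebraMap_closedPoint (A := A) (K := K)
  have hsnd : (pullback.snd f yA) x' = genericPoint (Spec (CommRingCat.of A)) := by
    have h1 := congr(($hτ2).base (closedPoint K))
    exact h1.trans hjpt
  -- `i η'` is a maximal point of the closure of `Z`
  have hiη'Z : i η' ∈ Z := by
    refine hZ _ (hri ▸ Set.mem_range_self η') ?_
    intro z' hz' hmem
    rw [← hri] at hz'
    obtain ⟨w, rfl⟩ := hz'
    have hemb : Topology.IsEmbedding i := i.isEmbedding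
    have h1 : w ⤳ η' := by
      rw [← hemb.isInducing.specializes_iff, specializes_iff_mem_closure]
      exact hmem
    have h2 : closure {η'} ⊆ closure {w} := h1.closure_subset -- `η' ∈ closure {w}`
    have h3 : closure {w} ⊆ closure {η'} :=
      hη'.2 isIrreducible_singleton.closure h2
    have h4 : η' ⤳ w := by
      rw [specializes_iff_mem_closure]
      exact h3 (subset_closure rfl)
    exact congrArg i (h1.antisymm h4).eq
  -- the residue field extension at `x'` is trivial
  obtain ⟨φ, hφ⟩ := exists_eq_SpecMap_comp τ x' rfl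
  have hsurjφ : Function.Surjective
      ((pullback.snd f yA).residueFieldMap x' ≫ φ).hom := by
    apply surjective_of_eq_SpecMap_comp (A := A) (K := K) ((pullback.snd f yA) x')
    rw [Spec.map_comp, Category.assoc, Scheme.Hom.SpecMap_residueFieldMap_fromSpecResidueField,
      ← Category.assoc, ← hφ, hτ2]
    rfl
  have hbij : Function.Bijective ((pullback.snd f yA).residueFieldMap x').hom := by
    refine ⟨RingHom.injective _, ?_⟩
    intro b
    obtain ⟨c, hc⟩ := hsurjφ (φ.hom b)
    exact ⟨c, RingHom.injective φ.hom hc⟩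
  obtain ⟨s, hs1, a₀, ha₀⟩ := H A yA hyAcl x' (hfst ▸ hiη'Z) hsnd hbij
  have ha₀' : a₀ = j (closedPoint K) := by
    have h1 := congr(($hs1).base a₀)
    have h2 : (pullback.snd f yA) (s a₀) = a₀ := h1
    rw [ha₀] at h2
    rw [← h2, hsnd, hjpt]
  have hjs : j ≫ s = τ := by
    refine eq_of_comp_eq_of_surjective (pullback.snd f yA) _ _ x' ?_ rfl ?_ hbij.2
    · show s (j (closedPoint K)) = x'
      rw [← ha₀', ha₀]
    · rw [Category.assoc, hs1, Category.comp_id, hτ2]
  let l₀ : Spec (CommRingCat.of A) ⟶ X := s ≫ pullback.fst f yA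
  have hl₀f : l₀ ≫ f = yA := by
    rw [Category.assoc, pullback.condition, ← Category.assoc, hs1, Category.id_comp]
  have hjl₀ : j ≫ l₀ = 𝒥.subscheme.fromSpecResidueField η' ≫ i := by
    rw [← Category.assoc, hjs, hτ1]
  have hrange : Set.range l₀ ⊆ Set.range i := by
    rw [hri]
    rintro _ ⟨a, rfl⟩
    have h1 : genericPoint (Spec (CommRingCat.of A)) ⤳ a := genericPoint_specializes a
    have h2 : l₀ (genericPoint (Spec (CommRingCat.of A))) ⤳ l₀ a := h1.map l₀.continuous
    refine h2.mem_closed isClosed_closure ?_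
    rw [← hjpt]
    have h3 := congr(($hjl₀).base (closedPoint K))
    have h4 : l₀ (j (closedPoint K)) = i η' := by
      refine h3.trans ?_
      exact congrArg i (Scheme.fromSpecResidueField_apply η' _)
    rw [h4, ← hri]
    exact Set.mem_range_self η'
  obtain ⟨l, hl⟩ := exists_factor_of_isReduced l₀ i hrange
  refine ⟨l, ?_, ?_⟩
  · rw [← Category.assoc, hl, hl₀f]
  · rw [Category.comp_id, ← cancel_mono i, Category.assoc, hl, hjl₀]

theorem exists_open_of_sectionProp {X Y : Scheme.{u}} [IsLocallyNoetherian Y] (f : X ⟶ Y)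
    [IsSeparated f] [LocallyOfFiniteType f] [QuasiCompact f] (Z : Set X)
    (hZ : ∀ z ∈ closure Z, (∀ z' ∈ closure Z, z ∈ closure {z'} → z' = z) → z ∈ Z) (y : Y)
    (H : SectionProp f Z y) :
    ∃ U : Y.Opens, y ∈ U ∧ ∃ hC : IsClosed ((f ⁻¹ᵁ U).ι.base ⁻¹' closure Z),
      IsProper ((Scheme.IdealSheafData.vanishingIdeal
        (⟨(f ⁻¹ᵁ U).ι.base ⁻¹' closure Z, hC⟩ :
          TopologicalSpace.Closeds ↥(f ⁻¹ᵁ U))).subschemeι ≫ (f ∣_ U)) := by
  let T : TopologicalSpace.Closeds X := ⟨closure Z, isClosed_closure⟩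
  let 𝒥 := Scheme.IdealSheafData.vanishingIdeal T
  let i : 𝒥.subscheme ⟶ X := 𝒥.subschemeι
  have hri : Set.range i = closure Z := range_subschemeι_vanishingIdeal T
  have hred : IsReduced 𝒥.subscheme := isReduced_vanishingIdeal_subscheme T
  obtain ⟨V, hyV, hprop⟩ := exists_isProper_morphismRestrict (i ≫ f) y
    (fun η' hη' => dvrLiftAtOn_of_sectionProp f Z hZ y H η' hη')
  have hC : IsClosed ((f ⁻¹ᵁ V).ι.base ⁻¹' closure Z) :=
    isClosed_closure.preimage (f ⁻¹ᵁ V).ι.continuous
  refine ⟨V, hyV, hC, ?_⟩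
  let C : TopologicalSpace.Closeds ↥(f ⁻¹ᵁ V : Scheme.{u}) :=
    ⟨(f ⁻¹ᵁ V).ι.base ⁻¹' closure Z, hC⟩
  let b : (Scheme.IdealSheafData.vanishingIdeal (X := (f ⁻¹ᵁ V : Scheme.{u})) C).subscheme ⟶
      (f ⁻¹ᵁ V : Scheme.{u}) :=
    (Scheme.IdealSheafData.vanishingIdeal (X := (f ⁻¹ᵁ V : Scheme.{u})) C).subschemeι
  have hrb : Set.range b = (f ⁻¹ᵁ V).ι.base ⁻¹' closure Z := range_subschemeι_vanishingIdeal C
  show IsProper (b ≫ f ∣_ V)
  rw [morphismRestrict_comp] at hprop
  let a : (i ⁻¹ᵁ (f ⁻¹ᵁ V) : Scheme.{u}) ⟶ (f ⁻¹ᵁ V : Scheme.{u}) := i ∣_ (f ⁻¹ᵁ V)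
  have haι : a ≫ (f ⁻¹ᵁ V).ι = (i ⁻¹ᵁ (f ⁻¹ᵁ V)).ι ≫ i := morphismRestrict_ι i (f ⁻¹ᵁ V)
  have hsub : Set.range a ⊆ Set.range b := by
    rw [hrb]
    rintro _ ⟨z, rfl⟩
    show (f ⁻¹ᵁ V).ι (a z) ∈ closure Z
    have h1 := congr(($haι).base z)
    have h2 : (f ⁻¹ᵁ V).ι (a z) = i ((i ⁻¹ᵁ (f ⁻¹ᵁ V)).ι z) := h1
    rw [h2, ← hri]
    exact Set.mem_range_self _
  obtain ⟨lam, hlam⟩ := exists_factor_of_isReduced a b hsub
  have hsurj : Surjective lam := by
    constructor
    intro t
    have h1 : b t ∈ (f ⁻¹ᵁ V).ι.base ⁻¹' closure Z := hrb ▸ Set.mem_range_self t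
    have h2 : (f ⁻¹ᵁ V).ι (b t) ∈ Set.range i := by
      rw [hri]
      exact h1
    obtain ⟨t', ht'⟩ := h2
    have h3 : t' ∈ i ⁻¹ᵁ (f ⁻¹ᵁ V) := by
      show i t' ∈ f ⁻¹ᵁ V
      rw [ht']
      exact (b t).2
    refine ⟨⟨t', h3⟩, ?_⟩
    apply b.isEmbedding.injective
    have h4 : b (lam ⟨t', h3⟩) = a ⟨t', h3⟩ := congr(($hlam).base ⟨t', h3⟩)
    rw [h4]
    apply (f ⁻¹ᵁ V).ι.isEmbedding.injective
    have h5 := congr(($haι).base ⟨t', h3⟩)
    have h6 : (f ⁻¹ᵁ V).ι (a ⟨t', h3⟩) = i t' := h5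
    rw [h6, ht']
  have hprop' : IsProper (lam ≫ (b ≫ f ∣_ V)) := by
    rw [← Category.assoc, hlam]
    exact hprop
  have huc : UniversallyClosed (b ≫ f ∣_ V) := UniversallyClosed.of_comp_surjective lam _
  have hsep : IsSeparated (f ∣_ V) := inferInstance
  have hft : LocallyOfFiniteType (f ∣_ V) := inferInstance
  exact { }

theorem sectionProp_of_isProper {X Y : Scheme.{u}} (f : X ⟶ Y) (Z : Set X) (y : Y)
    (U : Y.Opens) (hyU : y ∈ U) (hC : IsClosed ((f ⁻¹ᵁ U).ι.base ⁻¹' closure Z))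
    (hprop : IsProper ((Scheme.IdealSheafData.vanishingIdeal
        (⟨(f ⁻¹ᵁ U).ι.base ⁻¹' closure Z, hC⟩ :
          TopologicalSpace.Closeds ↥(f ⁻¹ᵁ U))).subschemeι ≫ (f ∣_ U))) :
    SectionProp f Z y := by
  intro A' _ _ _ g hgy x' hx'Z hx'η hbij
  let C : TopologicalSpace.Closeds ↥(f ⁻¹ᵁ U : Scheme.{u}) :=
    ⟨(f ⁻¹ᵁ U).ι.base ⁻¹' closure Z, hC⟩
  let b : (Scheme.IdealSheafData.vanishingIdeal (X := (f ⁻¹ᵁ U : Scheme.{u})) C).subscheme ⟶
      (f ⁻¹ᵁ U : Scheme.{u}) :=
    (Scheme.IdealSheafData.vanishingIdeal (X := (f ⁻¹ᵁ U : Scheme.{u})) C).subschemeι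
  have hrb : Set.range b = (f ⁻¹ᵁ U).ι.base ⁻¹' closure Z := range_subschemeι_vanishingIdeal C
  have hprop' : IsProper (b ≫ f ∣_ U) := hprop
  let K' : Type u := FractionRing A'
  let j' : Spec (CommRingCat.of K') ⟶ Spec (CommRingCat.of A') :=
    Spec.map (CommRingCat.ofHom (algebraMap A' K'))
  have hj'pt : j' (closedPoint K') = genericPoint (Spec (CommRingCat.of A')) :=
    SpecMap_algebraMap_closedPoint (A := A') (K := K')
  let t : Spec ((pullback f g).residueField x') ⟶ pullback f g :=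
    (pullback f g).fromSpecResidueField x'
  obtain ⟨ψ₀, hψ₀⟩ := exists_eq_SpecMap_comp j' ((pullback.snd f g) x') (hj'pt.trans hx'η.symm)
  let e : (Spec (CommRingCat.of A')).residueField ((pullback.snd f g) x') ≃+*
      (pullback f g).residueField x' := RingEquiv.ofBijective _ hbij
  let ψ : (pullback f g).residueField x' ⟶ CommRingCat.of K' :=
    CommRingCat.ofHom (ψ₀.hom.comp e.symm.toRingHom)
  have hψ : (pullback.snd f g).residueFieldMap x' ≫ ψ = ψ₀ := by
    ext r
    show ψ₀.hom (e.symm (e r)) = ψ₀.hom r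
    rw [e.symm_apply_apply]
  have hψt : Spec.map ψ ≫ t ≫ pullback.snd f g = j' := by
    rw [← Scheme.Hom.SpecMap_residueFieldMap_fromSpecResidueField, ← Category.assoc,
      ← Spec.map_comp, hψ, ← hψ₀]
  let a : Spec (CommRingCat.of K') ⟶ X := Spec.map ψ ≫ t ≫ pullback.fst f g
  have hapt : ∀ w, a w = (pullback.fst f g) x' := by
    intro w
    show (pullback.fst f g) (t (Spec.map ψ w)) = _
    exact congrArg _ (Scheme.fromSpecResidueField_apply x' _)
  have haf : a ≫ f = j' ≫ g := by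
    simp only [a, Category.assoc, pullback.condition]
    rw [← Category.assoc, ← Category.assoc, Category.assoc (Spec.map ψ), hψt]
  have hgU : Set.range g ⊆ (U : Set Y) :=
    range_subset_of_closedPoint_mem g (by rw [hgy]; exact hyU)
  let i₂ : Spec (CommRingCat.of A') ⟶ (U : Scheme.{u}) :=
    IsOpenImmersion.lift U.ι g (by rw [Scheme.Opens.range_ι]; exact hgU)
  have hi₂ : i₂ ≫ U.ι = g := IsOpenImmersion.lift_fac _ _ _
  have haU : Set.range a ⊆ Set.range (f ⁻¹ᵁ U).ι := by
    rw [Scheme.Opens.range_ι]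
    rintro _ ⟨w, rfl⟩
    show f (a w) ∈ U
    have h1 := congr(($haf).base w)
    have h2 : f (a w) = g (j' w) := h1
    rw [h2]
    exact hgU (Set.mem_range_self _)
  let a' : Spec (CommRingCat.of K') ⟶ (f ⁻¹ᵁ U : Scheme.{u}) :=
    IsOpenImmersion.lift (f ⁻¹ᵁ U).ι a haU
  have ha' : a' ≫ (f ⁻¹ᵁ U).ι = a := IsOpenImmersion.lift_fac _ _ _
  have hsub : Set.range a' ⊆ Set.range b := by
    rw [hrb]
    rintro _ ⟨w, rfl⟩
    show (f ⁻¹ᵁ U).ι (a' w) ∈ closure Z
    have h1 := congr(($ha').base w)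
    have h2 : (f ⁻¹ᵁ U).ι (a' w) = a w := h1
    rw [h2, hapt]
    exact subset_closure hx'Z
  obtain ⟨i₁, hi₁⟩ := exists_factor_of_isReduced a' b hsub
  have hsq : i₁ ≫ (b ≫ f ∣_ U) = j' ≫ i₂ := by
    rw [← cancel_mono U.ι, Category.assoc, Category.assoc, morphismRestrict_ι,
      ← Category.assoc, ← Category.assoc, hi₁, ha', haf, Category.assoc, hi₂]
  have hex : ValuativeCriterion.Existence (b ≫ f ∣_ U) := by
    have := UniversallyClosed.eq_valuativeCriterion
    have huc : UniversallyClosed (b ≫ f ∣_ U) := inferInstance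
    have h2 : (ValuativeCriterion.Existence ⊓ @QuasiCompact) (b ≫ f ∣_ U) := this ▸ huc
    exact h2.1
  let Sq : ValuativeCommSq (b ≫ f ∣_ U) := ⟨A', K', i₁, i₂, ⟨hsq⟩⟩
  obtain ⟨⟨l'⟩⟩ := hex Sq
  have hl1 : j' ≫ l'.l = i₁ := l'.fac_left
  have hl2 : l'.l ≫ (b ≫ f ∣_ U) = i₂ := l'.fac_right
  let l : Spec (CommRingCat.of A') ⟶ X := l'.l ≫ b ≫ (f ⁻¹ᵁ U).ι
  have hlf : l ≫ f = 𝟙 _ ≫ g := by
    show (l'.l ≫ b ≫ (f ⁻¹ᵁ U).ι) ≫ f = _
    rw [Category.id_comp, Category.assoc, Category.assoc, ← morphismRestrict_ι, ← Category.assoc,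
      ← Category.assoc, Category.assoc l'.l, hl2, hi₂]
  let s : Spec (CommRingCat.of A') ⟶ pullback f g := pullback.lift l (𝟙 _) hlf
  have hs1 : s ≫ pullback.fst f g = l := pullback.lift_fst _ _ _
  have hs2 : s ≫ pullback.snd f g = 𝟙 _ := pullback.lift_snd _ _ _
  have hjs : j' ≫ s = Spec.map ψ ≫ t := by
    apply pullback.hom_ext
    · rw [Category.assoc, hs1, Category.assoc]
      show j' ≫ l'.l ≫ b ≫ (f ⁻¹ᵁ U).ι = a
      rw [← Category.assoc, hl1, ← Category.assoc, hi₁, ha']
    · rw [Category.assoc, hs2, Category.comp_id, Category.assoc, hψt]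
  refine ⟨s, hs2, j' (closedPoint K'), ?_⟩
  have h1 := congr(($hjs).base (closedPoint K'))
  refine h1.trans ?_
  exact Scheme.fromSpecResidueField_apply x' _

end Groth.Agent.Lib.Helper25.ClosureProper
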