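import Mathlib
import Groth.Prelude.Def_Omega3

set_option autoImplicit false
universe u

open CategoryTheory CategoryTheory.Limits AlgebraicGeometry TopologicalSpace Opposite

namespace Groth.Agent.Lib.Helper25.DiffCompat

variable {X S X' S' : Scheme.{u}} {f : X ⟶ S} {f' : X' ⟶ S'} (h : X' ⟶ X) (b : S' ⟶ S)
  (hsq : f' ≫ b = h ≫ f) {Ω' : X'.Modules} (d' : OmegaSh.Der f' Ω')

include hsq in
lemma pushDer_aux (V : S.Opens) (c : Γ(S, V)) :
    d'.d (X := op (h ⁻¹ᵁ (f ⁻¹ᵁ V))) (h.app (f ⁻¹ᵁ V) (f.app V c)) = 0 := by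
  have p : h ⁻¹ᵁ (f ⁻¹ᵁ V) = f' ⁻¹ᵁ (b ⁻¹ᵁ V) := by
    show (h ≫ f) ⁻¹ᵁ V = (f' ≫ b) ⁻¹ᵁ V
    rw [hsq]
  have e := Scheme.Hom.congr_app hsq V
  rw [Scheme.Hom.comp_app, Scheme.Hom.comp_app] at e
  have h2 : f'.app (b ⁻¹ᵁ V) (b.app V c) =
      X'.presheaf.map (eqToHom p.symm).op (h.app (f ⁻¹ᵁ V) (f.app V c)) := congr($e c)
  have h3' : ∀ y : Γ(X', h ⁻¹ᵁ (f ⁻¹ᵁ V)), y = X'.presheaf.map (eqToHom p).op
      (X'.presheaf.map (eqToHom p.symm).op y) := by
    intro y
    rw [← CommRingCat.comp_apply, ← Functor.map_comp, ← op_comp, eqToHom_trans, eqToHom_refl,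
      op_id, CategoryTheory.Functor.map_id]
    rfl
  have h3 := h3' (h.app (f ⁻¹ᵁ V) (f.app V c))
  rw [h3, ← h2]
  have e4 := d'.d_map (eqToHom p).op (f'.app (b ⁻¹ᵁ V) (b.app V c))
  refine e4.trans ?_
  have e5 : d'.d (X := op (f' ⁻¹ᵁ (b ⁻¹ᵁ V))) (f'.app (b ⁻¹ᵁ V) (b.app V c)) = 0 :=
    d'.d_app (b.app V c)
  rw [e5, map_zero]
  rfl

/-- the derivation `O_X → h_* Ω'`, `s ↦ d'(h♯ s)` -/
noncomputable def pushDer : OmegaSh.Der f ((Scheme.Modules.pushforward h).obj Ω') where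
  d {U} :=
    { toFun := fun s => d'.d (X := op (h ⁻¹ᵁ U.unop)) (h.app U.unop s)
      map_zero' := by rw [map_zero, map_zero]; rfl
      map_add' := fun a b => by rw [map_add, map_add]; rfl }
  d_mul {U} a b := by
    show d'.d (X := op (h ⁻¹ᵁ U.unop)) (h.app U.unop (a * b)) = _
    rw [map_mul, d'.d_mul]
    rfl
  d_map {U V} i a := by
    show d'.d (X := op (h ⁻¹ᵁ V.unop)) (h.app V.unop (X.presheaf.map i a)) = _
    have h1 : h.app V.unop (X.presheaf.map i a) =
        X'.presheaf.map ((Opens.map h.base).map i.unop).op (h.app U.unop a) := by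
      have := h.naturality i
      exact congr($this a)
    rw [h1, d'.d_map]
    rfl
  d_app {V} c := pushDer_aux h b hsq d' V.unop c


variable {Ω : X.Modules} (d : OmegaSh.Der f Ω)

lemma homEquiv_app (c : (Scheme.Modules.pullback h).obj Ω ⟶ Ω') (U : X.Opens) (m : Γ(Ω, U)) :
    (((Scheme.Modules.pullbackPushforwardAdjunction h).homEquiv Ω Ω' c).val.app (op U)).hom m =
      c.app (h ⁻¹ᵁ U) (OmegaSh.pullSect h Ω U m) := by
  rw [Adjunction.homEquiv_unit]
  rfl

lemma isDiffCompat_iff (c : (Scheme.Modules.pullback h).obj Ω ⟶ Ω') :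
    OmegaSh.IsDiffCompat h d d' c ↔
      d.postcomp ((Scheme.Modules.pullbackPushforwardAdjunction h).homEquiv Ω Ω' c).val =
        pushDer h b hsq d' := by
  constructor
  · intro hc
    ext U s
    have h1 : (d.postcomp ((Scheme.Modules.pullbackPushforwardAdjunction h).homEquiv Ω Ω' c).val).d
        (X := U) s =
        (((Scheme.Modules.pullbackPushforwardAdjunction h).homEquiv Ω Ω' c).val.app U).hom
          (d.d s) := rfl
    rw [h1]
    exact (homEquiv_app h c U.unop (d.d s)).trans (hc U.unop s)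
  · intro hc U s
    have h2 := PresheafOfModules.Derivation.congr_d hc (X := op U) s
    have h1 : (d.postcomp ((Scheme.Modules.pullbackPushforwardAdjunction h).homEquiv Ω Ω' c).val).d
        (X := op U) s =
        (((Scheme.Modules.pullbackPushforwardAdjunction h).homEquiv Ω Ω' c).val.app (op U)).hom
          (d.d s) := rfl
    exact ((homEquiv_app h c U (d.d s)).symm.trans (h1.symm.trans h2))

include b hsq in
theorem existsUnique_diffCompat (hd : OmegaSh.IsUniversal d) :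
    ∃! c : (Scheme.Modules.pullback h).obj Ω ⟶ Ω', OmegaSh.IsDiffCompat h d d' c := by
  obtain ⟨α, hα, huniq⟩ := hd _ (pushDer h b hsq d')
  refine ⟨((Scheme.Modules.pullbackPushforwardAdjunction h).homEquiv Ω Ω').symm α, ?_, ?_⟩
  · show OmegaSh.IsDiffCompat h d d' _
    rw [isDiffCompat_iff h b hsq, Equiv.apply_symm_apply]
    exact hα
  · intro c hc
    rw [isDiffCompat_iff h b hsq] at hc
    rw [← huniq _ hc, Equiv.symm_apply_apply]

end Groth.Agent.Lib.Helper25.DiffCompat
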