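import Mathlib
import Groth.Prelude.Def_Omega3
import Groth.Agent.Lib.Helper25.SkyMod
import Groth.Agent.Lib.Helper25.DiffCompat

set_option autoImplicit false
universe u

open CategoryTheory CategoryTheory.Limits AlgebraicGeometry TopologicalSpace Opposite

namespace Groth.Agent.Lib.Helper25.CokerDiff

variable {X Y S : Scheme.{u}} (g : Y ⟶ S) (f : X ⟶ Y)

/-- an `f`-derivation is an `(f ≫ g)`-derivation -/
noncomputable def ofComp {F : X.Modules} (D : OmegaSh.Der f F) : OmegaSh.Der (f ≫ g) F where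
  d := D.d
  d_mul := D.d_mul
  d_map := D.d_map
  d_app {V} a := by
    exact D.d_app (X := op (g ⁻¹ᵁ V.unop)) (g.c.app V a)

lemma ofComp_d {F : X.Modules} (D : OmegaSh.Der f F) (U : (Opens X)ᵒᵖ) (s : X.presheaf.obj U) :
    (ofComp g f D).d s = D.d s := rfl

variable {ΩY : Y.Modules} (dY : OmegaSh.Der g ΩY)
  {ΩX : X.Modules} (dX : OmegaSh.Der (f ≫ g) ΩX)
  (c : (Scheme.Modules.pullback f).obj ΩY ⟶ ΩX) (hc : OmegaSh.IsDiffCompat f dY dX c)

include hc in
/-- the derivation into the cokernel of `c` is an `f`-derivation -/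
noncomputable def cokerDer : OmegaSh.Der f (cokernel c) where
  d := (dX.postcomp (cokernel.π c).val).d
  d_mul := (dX.postcomp (cokernel.π c).val).d_mul
  d_map := (dX.postcomp (cokernel.π c).val).d_map
  d_app {V} t := by
    have h1 := hc V.unop t
    have h2 : (dX.postcomp (cokernel.π c).val).d (X := op (f ⁻¹ᵁ V.unop)) (f.c.app V t) =
        (cokernel.π c).app (f ⁻¹ᵁ V.unop) (dX.app (f ⁻¹ᵁ V.unop) (f.app V.unop t)) := rfl
    refine h2.trans ?_
    rw [← h1]
    have h3 := congr(($(cokernel.condition c)).app (f ⁻¹ᵁ V.unop)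
      (OmegaSh.pullSect f ΩY V.unop (dY.app V.unop t)))
    exact h3


lemma cokerDer_d (U : (Opens X)ᵒᵖ) (s : X.presheaf.obj U) :
    (cokerDer g f dY dX c hc).d s = ((cokernel.π c).val.app U).hom (dX.d s) := rfl

open Groth.Agent.Lib.Helper25.DiffCompat in
theorem isUniversal_cokerDer (hY : OmegaSh.IsUniversal dY) (hX : OmegaSh.IsUniversal dX) :
    OmegaSh.IsUniversal (cokerDer g f dY dX c hc) := by
  intro F D
  obtain ⟨α, hα, huniq⟩ := hX F (ofComp g f D)
  have hα' : ∀ (U : (Opens X)ᵒᵖ) (s : X.presheaf.obj U), (α.val.app U).hom (dX.d s) = D.d s :=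
    fun U s => PresheafOfModules.Derivation.congr_d hα s
  have hαc : c ≫ α = 0 := by
    apply ((Scheme.Modules.pullbackPushforwardAdjunction f).homEquiv ΩY F).injective
    obtain ⟨β, -, hβ⟩ := hY _ (dY.postcomp
      ((Scheme.Modules.pullbackPushforwardAdjunction f).homEquiv ΩY F 0).val)
    rw [hβ ((Scheme.Modules.pullbackPushforwardAdjunction f).homEquiv ΩY F (c ≫ α)) ?_,
      hβ ((Scheme.Modules.pullbackPushforwardAdjunction f).homEquiv ΩY F 0) rfl]
    ext V t
    have e1 : (dY.postcomp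
        ((Scheme.Modules.pullbackPushforwardAdjunction f).homEquiv ΩY F (c ≫ α)).val).d (X := V) t =
        (((Scheme.Modules.pullbackPushforwardAdjunction f).homEquiv ΩY F (c ≫ α)).val.app V).hom
          (dY.d t) := rfl
    have e2 : (dY.postcomp
        ((Scheme.Modules.pullbackPushforwardAdjunction f).homEquiv ΩY F 0).val).d (X := V) t =
        (((Scheme.Modules.pullbackPushforwardAdjunction f).homEquiv ΩY F 0).val.app V).hom
          (dY.d t) := rfl
    rw [e1, e2]
    refine (homEquiv_app f (c ≫ α) V.unop (dY.d t)).trans ?_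
    refine Eq.trans ?_ (homEquiv_app f (0 : (Scheme.Modules.pullback f).obj ΩY ⟶ F) V.unop (dY.d t)).symm
    have e3 : (c ≫ α).app (f ⁻¹ᵁ V.unop) (OmegaSh.pullSect f ΩY V.unop (dY.d t)) =
        α.app (f ⁻¹ᵁ V.unop) (c.app (f ⁻¹ᵁ V.unop) (OmegaSh.pullSect f ΩY V.unop (dY.app V.unop t))) :=
      rfl
    rw [e3, hc V.unop t]
    have e4 : α.app (f ⁻¹ᵁ V.unop) (dX.app (f ⁻¹ᵁ V.unop) (f.app V.unop t)) =
        D.d (X := op (f ⁻¹ᵁ V.unop)) (f.c.app V t) := hα' _ _
    rw [e4, D.d_app]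
    rfl
  refine ⟨cokernel.desc c α hαc, ?_, ?_⟩
  · ext U s
    have e1 : ((cokerDer g f dY dX c hc).postcomp (cokernel.desc c α hαc).val).d (X := U) s =
        ((cokernel.desc c α hαc).val.app U).hom (((cokernel.π c).val.app U).hom (dX.d s)) := rfl
    rw [e1, ← hα' U s]
    have := congr((($(cokernel.π_desc c α hαc)).val.app U).hom (dX.d s))
    exact this
  · intro β hβ
    have h1 : cokernel.π c ≫ β = α := by
      apply huniq
      ext U s
      have e1 : (dX.postcomp (cokernel.π c ≫ β).val).d (X := U) s =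
          ((cokerDer g f dY dX c hc).postcomp β.val).d (X := U) s := rfl
      rw [e1]
      exact PresheafOfModules.Derivation.congr_d hβ s
    apply (cancel_epi (cokernel.π c)).mp
    rw [h1, cokernel.π_desc]


open Groth.Agent.Lib.Helper25.SkyMod in
theorem formallyUnramified_iff_epi {X Y S : Scheme.{u}} (g : Y ⟶ S) (h : X ⟶ S)
    (f : X ⟶ Y) (w : f ≫ g = h)
    (ΩY : Y.Modules) (dY : OmegaSh.Der g ΩY) (hY : OmegaSh.IsUniversal dY)
    (ΩX : X.Modules) (dX : OmegaSh.Der h ΩX) (hX : OmegaSh.IsUniversal dX)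
    (c : (Scheme.Modules.pullback f).obj ΩY ⟶ ΩX) (hc : OmegaSh.IsDiffCompat f dY dX c) :
    FormallyUnramified f ↔ Epi c := by
  subst w
  have hU := isUniversal_cokerDer g f dY dX c hc hY hX
  rw [Preadditive.epi_iff_isZero_cokernel]
  exact ⟨fun _ => isZero_of_formallyUnramified f _ hU,
    fun h0 => formallyUnramified_of_isZero f _ hU h0⟩

end Groth.Agent.Lib.Helper25.CokerDiff
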