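import Mathlib.Algebra.Algebra.Subalgebra.Directed
import Mathlib.Algebra.Algebra.Prod
import Mathlib.Order.Directed

/-!
Directed "colimit data" for algebras: compatible maps `g i : G i →ₐ[R] S` which are jointly
surjective and whose kernels die along the system. Universal property: a compatible family of
algebra maps `L i : G i →ₐ[R] B` descends uniquely to `S →ₐ[R] B`.
-/

set_option autoImplicit false

namespace Groth.Agent.Lib.Helper25

universe u v w

section

variable {ι : Type u} [Preorder ι] [IsDirected ι (· ≤ ·)] [Nonempty ι]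
  {R : Type v} [CommRing R] {G : ι → Type w} [∀ i, CommRing (G i)] [∀ i, Algebra R (G i)]
  (f : ∀ i j, i ≤ j → (G i →ₐ[R] G j)) {S : Type w} [CommRing S] [Algebra R S]
  (g : ∀ i, G i →ₐ[R] S)

include f in
/-- Descent of a compatible family of algebra maps along colimit data. -/
theorem exists_algHom_of_compatible
    (hg : ∀ i j (h : i ≤ j), (g j).comp (f i j h) = g i)
    (hsurj : ∀ s : S, ∃ i, ∃ x : G i, g i x = s)
    (hker : ∀ i (x : G i), g i x = 0 → ∃ j, ∃ h : i ≤ j, f i j h x = 0)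
    {B : Type*} [CommRing B] [Algebra R B] (L : ∀ i, G i →ₐ[R] B)
    (hL : ∀ i j (h : i ≤ j), (L j).comp (f i j h) = L i) :
    ∃ φ : S →ₐ[R] B, ∀ i, φ.comp (g i) = L i := by
  classical
  let K : ι → Subalgebra R (S × B) := fun i => ((g i).prod (L i)).range
  have hmono : Monotone K := by
    intro i j hij
    rintro _ ⟨x, rfl⟩
    refine ⟨f i j hij x, ?_⟩
    have h1 := congrArg (fun φ => φ x) (hg i j hij)
    have h2 := congrArg (fun φ => φ x) (hL i j hij)
    simp only [AlgHom.comp_apply] at h1 h2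
    simp [AlgHom.prod_apply, h1, h2]
  have hdir : Directed (· ≤ ·) K := hmono.directed_le
  let Γ : Subalgebra R (S × B) := iSup K
  have hmem : ∀ z : S × B, z ∈ Γ ↔ ∃ i, ∃ x : G i, (g i x, L i x) = z := by
    intro z
    rw [← SetLike.mem_coe, Subalgebra.coe_iSup_of_directed hdir, Set.mem_iUnion]
    constructor
    · rintro ⟨i, x, rfl⟩; exact ⟨i, x, rfl⟩
    · rintro ⟨i, x, rfl⟩; exact ⟨i, x, rfl⟩
  let p₁ : Γ →ₐ[R] S := (AlgHom.fst R S B).comp Γ.val
  have hp₁ : Function.Bijective p₁ := by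
    constructor
    · rw [injective_iff_map_eq_zero]
      rintro ⟨⟨s, b⟩, hz⟩ h0
      obtain ⟨i, x, hx⟩ := (hmem _).mp hz
      have hs : s = 0 := h0
      have hgx : g i x = 0 := by rw [← hs]; exact congrArg Prod.fst hx
      obtain ⟨j, hij, hj⟩ := hker i x hgx
      have hb : b = 0 := by
        have h2 := congrArg (fun φ => φ x) (hL i j hij)
        simp only [AlgHom.comp_apply] at h2
        have h3 : L i x = b := congrArg Prod.snd hx
        rw [← h3, ← h2, hj, map_zero]
      ext
      · exact hs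
      · exact hb
    · intro s
      obtain ⟨i, x, rfl⟩ := hsurj s
      exact ⟨⟨(g i x, L i x), (hmem _).mpr ⟨i, x, rfl⟩⟩, rfl⟩
  let e : Γ ≃ₐ[R] S := AlgEquiv.ofBijective p₁ hp₁
  refine ⟨((AlgHom.snd R S B).comp Γ.val).comp e.symm.toAlgHom, fun i => AlgHom.ext fun x => ?_⟩
  have : e.symm (g i x) = ⟨(g i x, L i x), (hmem _).mpr ⟨i, x, rfl⟩⟩ := by
    rw [AlgEquiv.symm_apply_eq]; rfl
  change (AlgHom.snd R S B) (Γ.val (e.symm ((g i) x))) = (L i) x
  rw [this]
  rfl

omit [Preorder ι] [IsDirected ι (· ≤ ·)] [Nonempty ι] in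
/-- Uniqueness part: two maps out of `S` agreeing on all stages are equal. -/
theorem algHom_ext_of_jointly_surjective
    (hsurj : ∀ s : S, ∃ i, ∃ x : G i, g i x = s)
    {B : Type*} [Semiring B] [Algebra R B] {φ ψ : S →ₐ[R] B}
    (h : ∀ i, φ.comp (g i) = ψ.comp (g i)) : φ = ψ := by
  ext s
  obtain ⟨i, x, rfl⟩ := hsurj s
  exact congrArg (fun χ => χ x) (h i)

end

end Groth.Agent.Lib.Helper25
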