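import Groth.Agent.Lib.Helper25.ColimSys

/-!
# Descending properties of a base change to a stage of a colimit system

Setting: a colimit system `ρ i : R' i →ₐ[k] R` of `k`-algebras and a `k`-algebra `C`.
If `R ⊗[k] C` is surjective / finite / bijective over `R`, then so is `R' i ⊗[k] C` over `R' i`
for some `i`.
-/

set_option autoImplicit false

universe u

open TensorProduct

namespace Groth.Agent.Lib.Helper25

namespace IsColimSys

variable {k : Type u} [CommRing k] {ι : Type u} {R' : ι → Type u}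
  [∀ i, CommRing (R' i)] [∀ i, Algebra k (R' i)] {R : Type u} [CommRing R] [Algebra k R]
  {ρ : ∀ i, R' i →ₐ[k] R} {Φ : ∀ i j, Set (R' i →ₐ[k] R' j)}

/-- If `1 ⊗ c = r c ⊗ 1` in `R ⊗ C` for finitely many `c`, the same holds at some stage. -/
theorem exists_stage_tmul_eq (h : IsColimSys k R' R ρ Φ) (C : Type u) [CommRing C] [Algebra k C]
    {κ : Type*} [Finite κ] (c : κ → C) (r : κ → R)
    (hr : ∀ l, (1 : R) ⊗ₜ[k] c l = r l ⊗ₜ[k] (1 : C)) :
    ∃ (i : ι) (r' : κ → R' i), (∀ l, ρ i (r' l) = r l) ∧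
      ∀ l, (1 : R' i) ⊗ₜ[k] c l = r' l ⊗ₜ[k] (1 : C) := by
  obtain ⟨i₀⟩ := h.nonempty
  obtain ⟨i, -, r', -, hr'⟩ := h.exists_lift_family i₀ r
  obtain ⟨j, φ, hφ, hφz⟩ := h.exists_kill_rTensor_family C
    (fun l => (1 : R' i) ⊗ₜ[k] c l - r' l ⊗ₜ[k] (1 : C)) (by
      intro l
      simp only [map_sub, LinearMap.rTensor_tmul, AlgHom.toLinearMap_apply, map_one, hr', hr,
        sub_self])
  refine ⟨j, fun l => φ (r' l), fun l => by rw [h.compat_apply hφ, hr'], fun l => ?_⟩
  have := hφz l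
  simp only [map_sub, LinearMap.rTensor_tmul, AlgHom.toLinearMap_apply, map_one] at this
  exact sub_eq_zero.mp this

/-- If `C` is generated by `s` and every `1 ⊗ c`, `c ∈ s`, comes from `T`, then `T → T ⊗ C` is
surjective. -/
theorem surjective_algebraMap_of_tmul_eq {k : Type*} [CommRing k] {T : Type*} [CommRing T]
    [Algebra k T] {C : Type*} [CommRing C] [Algebra k C] (s : Set C)
    (hs : Algebra.adjoin k s = ⊤) (H : ∀ c ∈ s, ∃ r : T, (1 : T) ⊗ₜ[k] c = r ⊗ₜ[k] (1 : C)) :
    Function.Surjective (algebraMap T (T ⊗[k] C)) := by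
  have h1 : Algebra.adjoin T (((1 : T) ⊗ₜ[k] ·) '' s) ≤ (Algebra.ofId T (T ⊗[k] C)).range := by
    rw [Algebra.adjoin_le_iff]
    rintro _ ⟨c, hc, rfl⟩
    obtain ⟨r, hr⟩ := H c hc
    refine ⟨r, ?_⟩
    change r ⊗ₜ[k] (1 : C) = (1 : T) ⊗ₜ[k] c
    exact hr.symm
  rw [Algebra.TensorProduct.adjoin_one_tmul_image_eq_top s hs, top_le_iff] at h1
  intro x
  have : x ∈ (Algebra.ofId T (T ⊗[k] C)).range := h1 ▸ Algebra.mem_top
  exact this

/-- **Surjectivity descends to a stage.** -/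
theorem exists_stage_surjective (h : IsColimSys k R' R ρ Φ) (C : Type u) [CommRing C]
    [Algebra k C] [Algebra.FiniteType k C]
    (hs : Function.Surjective (algebraMap R (R ⊗[k] C))) :
    ∃ i, Function.Surjective (algebraMap (R' i) (R' i ⊗[k] C)) := by
  obtain ⟨s, hs'⟩ := (Algebra.FiniteType.out : (⊤ : Subalgebra k C).FG)
  have h1 : ∀ c : s, ∃ r : R, (1 : R) ⊗ₜ[k] (c : C) = r ⊗ₜ[k] (1 : C) := by
    intro c
    obtain ⟨r, hr⟩ := hs ((1 : R) ⊗ₜ[k] (c : C))
    exact ⟨r, by rw [← hr]; rfl⟩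
  choose r hr using h1
  obtain ⟨i, r', -, hr'⟩ := h.exists_stage_tmul_eq C (fun c : s => (c : C)) r hr
  refine ⟨i, surjective_algebraMap_of_tmul_eq (s : Set C) hs' ?_⟩
  intro c hc
  exact ⟨r' ⟨c, hc⟩, hr' ⟨c, hc⟩⟩

/-- The transition map on stage algebras intertwines the structure maps. -/
theorem map_comp_algebraMap {k : Type*} [CommRing k] {T T' : Type*} [CommRing T] [Algebra k T]
    [CommRing T'] [Algebra k T'] (C : Type*) [CommRing C] [Algebra k C] (φ : T →ₐ[k] T') :
    (Algebra.TensorProduct.map φ (AlgHom.id k C)).toRingHom.comp (algebraMap T (T ⊗[k] C)) =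
      (algebraMap T' (T' ⊗[k] C)).comp φ.toRingHom := by
  ext r
  simp [Algebra.TensorProduct.algebraMap_apply]

/-- **Integrality of the generators descends to a stage.** -/
theorem exists_stage_isIntegral (h : IsColimSys k R' R ρ Φ) (C : Type u) [CommRing C]
    [Algebra k C] (s : Finset C) (hint : ∀ c ∈ s, IsIntegral R ((1 : R) ⊗ₜ[k] c)) :
    ∃ i, ∀ c ∈ s, IsIntegral (R' i) ((1 : R' i) ⊗ₜ[k] c) := by
  classical
  have h1 : ∀ c : s, ∃ p : Polynomial R, p.Monic ∧
      Polynomial.eval₂ (algebraMap R (R ⊗[k] C)) ((1 : R) ⊗ₜ[k] (c : C)) p = 0 :=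
    fun c => hint c c.2
  choose p hpm hp0 using h1
  obtain ⟨i₀⟩ := h.nonempty
  obtain ⟨i, -, -, hlift⟩ := h.exists_lift_finset i₀ (Finset.univ.biUnion fun c => (p c).coeffs)
  have h2 : ∀ c : s, ∃ q : Polynomial (R' i), q.map (ρ i).toRingHom = p c ∧ q.Monic := by
    intro c
    have hl : p c ∈ Polynomial.lifts (ρ i).toRingHom := by
      rw [Polynomial.lifts_iff_coeffs_subset_range]
      intro a ha
      obtain ⟨x, hx⟩ := hlift a (Finset.mem_biUnion.mpr ⟨c, Finset.mem_univ c, ha⟩)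
      exact ⟨x, hx⟩
    obtain ⟨q, hq, -, hqm⟩ := Polynomial.lifts_and_natDegree_eq_and_monic hl (hpm c)
    exact ⟨q, hq, hqm⟩
  choose q hq hqm using h2
  -- the values of `q c` at `1 ⊗ c` die in the colimit
  obtain ⟨j, φ, hφ, hφz⟩ := h.exists_kill_rTensor_family C
    (fun c : s => Polynomial.eval₂ (algebraMap (R' i) (R' i ⊗[k] C)) ((1 : R' i) ⊗ₜ[k] (c : C))
      (q c)) (by
      intro c
      rw [← map_id_apply_eq_rTensor]
      change (Algebra.TensorProduct.map (ρ i) (AlgHom.id k C)).toRingHom _ = 0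
      rw [Polynomial.hom_eval₂, map_comp_algebraMap, ← Polynomial.eval₂_map, hq]
      simpa using hp0 c)
  refine ⟨j, fun c hc => ⟨(q ⟨c, hc⟩).map φ.toRingHom, (hqm ⟨c, hc⟩).map _, ?_⟩⟩
  have := hφz ⟨c, hc⟩
  rw [← map_id_apply_eq_rTensor] at this
  change (Algebra.TensorProduct.map φ (AlgHom.id k C)).toRingHom _ = 0 at this
  rw [Polynomial.hom_eval₂, map_comp_algebraMap, ← Polynomial.eval₂_map] at this
  simpa using this

/-- If `C` is generated by a finite set `s` and every `1 ⊗ c`, `c ∈ s`, is integral over `T`, then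
`T ⊗ C` is a finite `T`-module. -/
theorem finite_of_isIntegral_tmul {k : Type*} [CommRing k] {T : Type*} [CommRing T]
    [Algebra k T] {C : Type*} [CommRing C] [Algebra k C] (s : Finset C)
    (hs : Algebra.adjoin k (s : Set C) = ⊤) (H : ∀ c ∈ s, IsIntegral T ((1 : T) ⊗ₜ[k] c)) :
    Module.Finite T (T ⊗[k] C) := by
  have h1 : (Algebra.adjoin T (((1 : T) ⊗ₜ[k] ·) '' (s : Set C))).toSubmodule.FG := by
    apply fg_adjoin_of_finite (s.finite_toSet.image _)
    rintro _ ⟨c, hc, rfl⟩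
    exact H c hc
  rw [Algebra.TensorProduct.adjoin_one_tmul_image_eq_top (s : Set C) hs] at h1
  exact ⟨by simpa using h1⟩

/-- **Finiteness descends to a stage.** -/
theorem exists_stage_finite (h : IsColimSys k R' R ρ Φ) (C : Type u) [CommRing C]
    [Algebra k C] [Algebra.FiniteType k C] (hf : Module.Finite R (R ⊗[k] C)) :
    ∃ i, Module.Finite (R' i) (R' i ⊗[k] C) := by
  obtain ⟨s, hs'⟩ := (Algebra.FiniteType.out : (⊤ : Subalgebra k C).FG)
  have : Algebra.IsIntegral R (R ⊗[k] C) := Algebra.IsIntegral.of_finite R (R ⊗[k] C)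
  obtain ⟨i, hi⟩ := h.exists_stage_isIntegral C s (fun c _ => Algebra.IsIntegral.isIntegral _)
  exact ⟨i, finite_of_isIntegral_tmul s hs' hi⟩

/-- **Bijectivity descends to a stage.** -/
theorem exists_stage_bijective (h : IsColimSys k R' R ρ Φ) (C : Type u) [CommRing C]
    [Algebra k C] [Algebra.FinitePresentation k C]
    (hb : Function.Bijective (algebraMap R (R ⊗[k] C))) :
    ∃ i, Function.Bijective (algebraMap (R' i) (R' i ⊗[k] C)) := by
  classical
  obtain ⟨n, f, hf, rels, hrels⟩ := Algebra.FinitePresentation.out (R := k) (A := C)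
  let c : Fin n → C := fun t => f (MvPolynomial.X t)
  have hfc : f = MvPolynomial.aeval c := by
    apply MvPolynomial.algHom_ext
    intro t
    simp [c]
  have hadj : Algebra.adjoin k (Set.range c) = ⊤ := by
    rw [Algebra.adjoin_range_eq_range_aeval, ← hfc]
    exact (AlgHom.range_eq_top f).mpr hf
  -- surjectivity data
  have h1 : ∀ t, ∃ r : R, (1 : R) ⊗ₜ[k] c t = r ⊗ₜ[k] (1 : C) := by
    intro t
    obtain ⟨r, hr⟩ := hb.2 ((1 : R) ⊗ₜ[k] c t)
    exact ⟨r, by rw [← hr]; rfl⟩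
  choose r hr using h1
  obtain ⟨i, r', hρr', hr'⟩ := h.exists_stage_tmul_eq C c r hr
  -- the relations die in the colimit
  have hrel0 : ∀ p : rels, ρ i (MvPolynomial.aeval r' (p : MvPolynomial (Fin n) k)) = 0 := by
    intro p
    apply hb.1
    rw [map_zero]
    have e1 : algebraMap R (R ⊗[k] C) (ρ i (MvPolynomial.aeval r' (p : MvPolynomial (Fin n) k))) =
        ((IsScalarTower.toAlgHom k R (R ⊗[k] C)).comp (ρ i))
          (MvPolynomial.aeval r' (p : MvPolynomial (Fin n) k)) := rfl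
    rw [e1, MvPolynomial.comp_aeval_apply]
    have e2 : (fun t => ((IsScalarTower.toAlgHom k R (R ⊗[k] C)).comp (ρ i)) (r' t)) =
        fun t => (Algebra.TensorProduct.includeRight : C →ₐ[k] R ⊗[k] C) (c t) := by
      funext t
      simp only [AlgHom.comp_apply, IsScalarTower.coe_toAlgHom', hρr',
        Algebra.TensorProduct.algebraMap_apply, Algebra.algebraMap_self, RingHom.id_apply,
        Algebra.TensorProduct.includeRight_apply]
      exact (hr t).symm
    rw [e2, ← MvPolynomial.comp_aeval_apply, ← hfc]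
    have hp : (p : MvPolynomial (Fin n) k) ∈ RingHom.ker f.toRingHom :=
      hrels ▸ Ideal.subset_span p.2
    have hp' : f (p : MvPolynomial (Fin n) k) = 0 := hp
    rw [hp', map_zero]
  obtain ⟨j, φ, hφ, hφ0⟩ := h.exists_kill_family
    (fun p : rels => MvPolynomial.aeval r' (p : MvPolynomial (Fin n) k)) hrel0
  let r'' : Fin n → R' j := fun t => φ (r' t)
  have hker : RingHom.ker f.toRingHom ≤
      RingHom.ker (MvPolynomial.aeval r'' : MvPolynomial (Fin n) k →ₐ[k] R' j).toRingHom := by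
    rw [← hrels, Ideal.span_le]
    intro p hp
    have := hφ0 ⟨p, hp⟩
    rw [MvPolynomial.comp_aeval_apply] at this
    exact this
  let σ : C →ₐ[k] R' j := AlgHom.liftOfSurjective f hf (MvPolynomial.aeval r'') hker
  -- identity at stage `j`
  have hr'' : ∀ t, (1 : R' j) ⊗ₜ[k] c t = r'' t ⊗ₜ[k] (1 : C) := by
    intro t
    have := congrArg (Algebra.TensorProduct.map φ (AlgHom.id k C)) (hr' t)
    simpa using this
  refine ⟨j, ?_, surjective_algebraMap_of_tmul_eq (Set.range c) hadj (by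
    rintro _ ⟨t, rfl⟩
    exact ⟨r'' t, hr'' t⟩)⟩
  -- injectivity through a retraction
  let τ : R' j ⊗[k] C →ₐ[k] R' j :=
    Algebra.TensorProduct.lift (AlgHom.id k (R' j)) σ (fun _ _ => Commute.all _ _)
  intro x y hxy
  have := congrArg τ hxy
  simpa [τ, Algebra.TensorProduct.algebraMap_apply] using this

end IsColimSys

end Groth.Agent.Lib.Helper25
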