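import Groth.Agent.Lib.Helper25.ColimSys2

/-!
# Descending unramifiedness to a stage of a colimit system
-/

set_option autoImplicit false

universe u

open TensorProduct KaehlerDifferential

namespace Groth.Agent.Lib.Helper25

/-- If `S` is generated over `T` by a set on which the universal derivation vanishes, then
`Ω[S⁄T] = 0`. -/
theorem subsingleton_kaehler_of_adjoin {T S : Type*} [CommRing T] [CommRing S] [Algebra T S]
    (s : Set S) (hs : Algebra.adjoin T s = ⊤) (h0 : ∀ x ∈ s, KaehlerDifferential.D T S x = 0) :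
    Subsingleton Ω[S⁄T] := by
  have hD : KaehlerDifferential.D T S = 0 :=
    Derivation.ext_of_adjoin_eq_top s hs (fun x hx => by simpa using h0 x hx)
  have h1 := KaehlerDifferential.span_range_derivation T S
  rw [hD] at h1
  have h2 : Submodule.span S (Set.range ((0 : Derivation T S Ω[S⁄T]) : S → Ω[S⁄T])) = ⊥ := by
    rw [Submodule.span_eq_bot]
    rintro _ ⟨x, rfl⟩
    rfl
  rw [h2] at h1
  exact (Submodule.subsingleton_iff S).mp (subsingleton_of_bot_eq_top h1)

namespace IsColimSys

variable {k : Type u} [CommRing k] {ι : Type u} {R' : ι → Type u}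
  [∀ i, CommRing (R' i)] [∀ i, Algebra k (R' i)] {R : Type u} [CommRing R] [Algebra k R]
  {ρ : ∀ i, R' i →ₐ[k] R} {Φ : ∀ i j, Set (R' i →ₐ[k] R' j)}

attribute [local instance] Algebra.TensorProduct.rightAlgebra

/-- **Formal unramifiedness descends to a stage.** -/
theorem exists_stage_formallyUnramified (h : IsColimSys k R' R ρ Φ) (C : Type u) [CommRing C]
    [Algebra k C] [Algebra.FiniteType k C]
    (hu : Algebra.FormallyUnramified R (R ⊗[k] C)) :
    ∃ i, Algebra.FormallyUnramified (R' i) (R' i ⊗[k] C) := by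
  classical
  obtain ⟨s, hs'⟩ := (Algebra.FiniteType.out : (⊤ : Subalgebra k C).FG)
  have hsub : Subsingleton (R ⊗[k] Ω[C⁄k]) :=
    (KaehlerDifferential.tensorKaehlerEquivBase k R C (R ⊗[k] C)).toEquiv.subsingleton
  obtain ⟨i₀⟩ := h.nonempty
  obtain ⟨j, φ, hφ, hφz⟩ := h.exists_kill_rTensor_family Ω[C⁄k]
    (fun c : s => (1 : R' i₀) ⊗ₜ[k] KaehlerDifferential.D k C (c : C))
    (fun c => Subsingleton.elim _ _)
  refine ⟨j, ⟨?_⟩⟩
  apply subsingleton_kaehler_of_adjoin (((1 : R' j) ⊗ₜ[k] ·) '' (s : Set C))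
    (Algebra.TensorProduct.adjoin_one_tmul_image_eq_top (s : Set C) hs')
  rintro _ ⟨c, hc, rfl⟩
  have h1 := hφz ⟨c, hc⟩
  simp only [LinearMap.rTensor_tmul, AlgHom.toLinearMap_apply, map_one] at h1
  have h2 := congrArg (KaehlerDifferential.tensorKaehlerEquivBase k (R' j) C (R' j ⊗[k] C)) h1
  rw [KaehlerDifferential.tensorKaehlerEquivBase_tmul, one_smul, KaehlerDifferential.map_D,
    map_zero] at h2
  exact h2

end IsColimSys

end Groth.Agent.Lib.Helper25
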