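import Groth.Agent.Lib.Helper25.ColimSys3

/-!
# Descending smoothness to a stage of a colimit system

Adapted from `Mathlib.RingTheory.Smooth.NoetherianDescent`: the section of `P/I² → S` exhibiting
formal smoothness is encoded by finitely many polynomial identities, which descend to a stage.
-/

set_option autoImplicit false

universe u

open TensorProduct MvPolynomial

namespace Groth.Agent.Lib.Helper25

theorem map_homogeneousComponent {σ R S : Type*} [CommSemiring R] [CommSemiring S] (f : R →+* S)
    (n : ℕ) (φ : MvPolynomial σ R) :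
    MvPolynomial.map f (homogeneousComponent n φ) =
      homogeneousComponent n (MvPolynomial.map f φ) := by
  ext d
  rw [coeff_map, coeff_homogeneousComponent, coeff_homogeneousComponent, coeff_map]
  split_ifs <;> simp

/-- Formal smoothness from explicit data: `h i` are lifts of the generators to `P` with
`h i ≡ X i` modulo the relations (`q`) and such that the relations evaluated at `h` lie in the
square of the ideal of relations (`p`). -/
theorem formallySmooth_of_data {T S : Type*} [CommRing T] [CommRing S] [Algebra T S]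
    {ι σ' : Type*} (P : Algebra.Presentation T S ι σ')
    (h : ι → MvPolynomial ι T) (p : σ' → MvPolynomial σ' (MvPolynomial ι T))
    (hphom : ∀ j, (p j).IsHomogeneous 2)
    (hp : ∀ j, eval P.relation (p j) = aeval h (P.relation j))
    (q : ι → MvPolynomial σ' (MvPolynomial ι T)) (hqhom : ∀ i, (q i).IsHomogeneous 1)
    (hq : ∀ i, eval P.relation (q i) = h i - X i) : Algebra.FormallySmooth T S := by
  let f : P.Ring →ₐ[T] S := IsScalarTower.toAlgHom T P.Ring S
  have hf : Function.Surjective f := P.algebraMap_surjective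
  have hker : RingHom.ker f.toRingHom = Ideal.span (Set.range P.relation) :=
    P.span_range_relation_eq_ker.symm
  let g : P.Ring →ₐ[T] P.Ring ⧸ (RingHom.ker f.toRingHom) ^ 2 :=
    (Ideal.Quotient.mkₐ T _).comp (aeval h)
  have hfg : RingHom.ker f.toRingHom ≤ RingHom.ker g.toRingHom := by
    refine hker.le.trans ?_
    rw [Ideal.span_le]
    rintro _ ⟨j, rfl⟩
    change g (P.relation j) = 0
    simp only [g, AlgHom.comp_apply, Ideal.Quotient.mkₐ_eq_mk]
    rw [Ideal.Quotient.eq_zero_iff_mem, hker, Ideal.mem_span_pow_iff_exists_isHomogeneous]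
    exact ⟨p j, hphom j, hp j⟩
  let σ : S →ₐ[T] P.Ring ⧸ (RingHom.ker f.toRingHom) ^ 2 := AlgHom.liftOfSurjective f hf g hfg
  refine Algebra.FormallySmooth.of_split f σ ?_
  rw [← AlgHom.cancel_right hf]
  apply MvPolynomial.algHom_ext
  intro i
  have h1 : h i - X i ∈ RingHom.ker f.toRingHom := by
    rw [hker, Ideal.mem_span_iff_exists_isHomogeneous]
    exact ⟨q i, hqhom i, hq i⟩
  have h2 : f (h i) = f (X i) := by
    have : f (h i - X i) = 0 := h1
    rwa [map_sub, sub_eq_zero] at this
  simp only [AlgHom.comp_apply, σ, AlgHom.liftOfSurjective_apply, AlgHom.id_apply, g, aeval_X,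
    Ideal.Quotient.mkₐ_eq_mk]
  rw [AlgHom.kerSquareLift_mk]
  exact h2

/-- Extraction of the data from formal smoothness. -/
theorem exists_data_of_formallySmooth {T S : Type*} [CommRing T] [CommRing S] [Algebra T S]
    {ι σ' : Type*} (P : Algebra.Presentation T S ι σ') [Algebra.FormallySmooth T S] :
    ∃ (h : ι → MvPolynomial ι T) (p : σ' → MvPolynomial σ' (MvPolynomial ι T))
      (q : ι → MvPolynomial σ' (MvPolynomial ι T)),
      (∀ j, (p j).IsHomogeneous 2) ∧ (∀ j, eval P.relation (p j) = aeval h (P.relation j)) ∧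
        (∀ i, (q i).IsHomogeneous 1) ∧ ∀ i, eval P.relation (q i) = h i - X i := by
  let f : P.Ring →ₐ[T] S := IsScalarTower.toAlgHom T P.Ring S
  have hf : Function.Surjective f := P.algebraMap_surjective
  have hker : RingHom.ker f.toRingHom = Ideal.span (Set.range P.relation) :=
    P.span_range_relation_eq_ker.symm
  obtain ⟨σ, hσ⟩ := (Algebra.FormallySmooth.iff_split_surjection f hf).mp inferInstance
  have h0 : ∀ i, ∃ y : P.Ring, Ideal.Quotient.mk (RingHom.ker f.toRingHom ^ 2) y = σ (P.val i) :=
    fun i => Ideal.Quotient.mk_surjective (σ (P.val i))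
  choose h hh using h0
  have hdiag : ((Ideal.Quotient.mkₐ T (RingHom.ker f.toRingHom ^ 2)).comp (aeval h) :
      P.Ring →ₐ[T] _) = σ.comp f := by
    apply MvPolynomial.algHom_ext
    intro i
    simp only [AlgHom.comp_apply, aeval_X, Ideal.Quotient.mkₐ_eq_mk, hh]
    congr 1
    simp [f]
  have h1 : ∀ j, aeval h (P.relation j) ∈ Ideal.span (Set.range P.relation) ^ 2 := by
    intro j
    rw [← hker, ← Ideal.Quotient.eq_zero_iff_mem]
    have := congrArg (fun ψ => ψ (P.relation j)) hdiag
    simp only [AlgHom.comp_apply, Ideal.Quotient.mkₐ_eq_mk] at this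
    rw [this]
    have hfr : f (P.relation j) = 0 := by
      have : P.relation j ∈ RingHom.ker f.toRingHom := hker ▸ Ideal.subset_span ⟨j, rfl⟩
      exact this
    rw [hfr, map_zero]
  have h2 : ∀ i, h i - X i ∈ Ideal.span (Set.range P.relation) := by
    intro i
    rw [← hker]
    change f (h i - X i) = 0
    rw [map_sub, sub_eq_zero, ← AlgHom.kerSquareLift_mk, hh]
    have := congrArg (fun ψ => ψ (P.val i)) hσ
    simp only [AlgHom.comp_apply, AlgHom.id_apply] at this
    rw [this]
    simp [f]
  simp_rw [Ideal.mem_span_pow_iff_exists_isHomogeneous] at h1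
  simp_rw [Ideal.mem_span_iff_exists_isHomogeneous] at h2
  choose p hphom hp using h1
  choose q hqhom hq using h2
  exact ⟨h, p, q, hphom, hp, hqhom, hq⟩

section Transport

variable {k : Type*} [CommRing k] {C : Type*} [CommRing C] [Algebra k C] {ι σ' : Type*}
  (P₀ : Algebra.Presentation k C ι σ') {T T' : Type*} [CommRing T] [Algebra k T] [CommRing T']
  [Algebra k T'] (θ : T →ₐ[k] T')

theorem map_baseChange_relation (j : σ') :
    MvPolynomial.map (θ : T →+* T') ((P₀.baseChange T).relation j) =
      (P₀.baseChange T').relation j := by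
  simp only [Algebra.Presentation.baseChange_relation, MvPolynomial.map_map]
  rw [AlgHom.comp_algebraMap]

theorem map_eval_baseChange_relation (Q : MvPolynomial σ' (MvPolynomial ι T)) :
    MvPolynomial.map (θ : T →+* T') (eval (P₀.baseChange T).relation Q) =
      eval (P₀.baseChange T').relation
        (MvPolynomial.map (MvPolynomial.map (θ : T →+* T')) Q) := by
  rw [MvPolynomial.map_eval]
  have : (MvPolynomial.map (θ : T →+* T')) ∘ (P₀.baseChange T).relation =
      (P₀.baseChange T').relation := funext (map_baseChange_relation P₀ θ)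
  rw [this]

theorem map_aeval_baseChange_relation (h : ι → MvPolynomial ι T) (j : σ') :
    MvPolynomial.map (θ : T →+* T') (aeval h ((P₀.baseChange T).relation j)) =
      aeval (fun i => MvPolynomial.map (θ : T →+* T') (h i)) ((P₀.baseChange T').relation j) := by
  rw [aeval_def, aeval_def, MvPolynomial.algebraMap_eq, MvPolynomial.algebraMap_eq,
    MvPolynomial.map_eval₂, map_baseChange_relation]
  rfl

end Transport

namespace IsColimSys

variable {k : Type u} [CommRing k] {ι : Type u} {R' : ι → Type u}
  [∀ i, CommRing (R' i)] [∀ i, Algebra k (R' i)] {R : Type u} [CommRing R] [Algebra k R]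
  {ρ : ∀ i, R' i →ₐ[k] R} {Φ : ∀ i j, Set (R' i →ₐ[k] R' j)}

/-- **Formal smoothness descends to a stage.** -/
theorem exists_stage_formallySmooth (h : IsColimSys k R' R ρ Φ) (C : Type u) [CommRing C]
    [Algebra k C] [Algebra.FinitePresentation k C]
    (hs : Algebra.FormallySmooth R (R ⊗[k] C)) :
    ∃ i, Algebra.FormallySmooth (R' i) (R' i ⊗[k] C) := by
  classical
  let P₀ := Algebra.Presentation.ofFinitePresentation k C
  obtain ⟨hh, p, q, hphom, hp, hqhom, hq⟩ := exists_data_of_formallySmooth (P₀.baseChange R)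
  have h1 := h.mvPolynomial (Fin (Algebra.Presentation.ofFinitePresentationVars k C))
  have h2 := h1.mvPolynomial (Fin (Algebra.Presentation.ofFinitePresentationRels k C))
  obtain ⟨i₀⟩ := h.nonempty
  obtain ⟨i₁, -, hh', -, hhh'⟩ := h1.exists_lift_family i₀ hh
  obtain ⟨i₂, _, pq', ⟨_, ⟨φ, hφ, rfl⟩, rfl⟩, hpq'⟩ := h2.exists_lift_family i₁ (Sum.elim p q)
  -- data at stage `i₂`
  let h₂ : Fin (Algebra.Presentation.ofFinitePresentationVars k C) →
      MvPolynomial (Fin (Algebra.Presentation.ofFinitePresentationVars k C)) (R' i₂) :=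
    fun t => MvPolynomial.map (φ : R' i₁ →+* R' i₂) (hh' t)
  let p₂ := fun j => homogeneousComponent 2 (pq' (Sum.inl j))
  let q₂ := fun t => homogeneousComponent 1 (pq' (Sum.inr t))
  have hh₂ : ∀ t, MvPolynomial.map (ρ i₂ : R' i₂ →+* R) (h₂ t) = hh t := by
    intro t
    simp only [h₂, MvPolynomial.map_map]
    rw [← hhh' t]
    have : ((ρ i₂ : R' i₂ →+* R).comp (φ : R' i₁ →+* R' i₂)) = (ρ i₁ : R' i₁ →+* R) := by
      rw [← h.compat hφ]
      rfl
    rw [this]
    rfl
  have hp₂ : ∀ j, MvPolynomial.map (MvPolynomial.map (ρ i₂ : R' i₂ →+* R)) (p₂ j) = p j := by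
    intro j
    simp only [p₂]
    rw [map_homogeneousComponent]
    have := hpq' (Sum.inl j)
    simp only [Sum.elim_inl] at this
    rw [← homogeneousComponent_eq_self (hphom j), ← this]
    rfl
  have hq₂ : ∀ t, MvPolynomial.map (MvPolynomial.map (ρ i₂ : R' i₂ →+* R)) (q₂ t) = q t := by
    intro t
    simp only [q₂]
    rw [map_homogeneousComponent]
    have := hpq' (Sum.inr t)
    simp only [Sum.elim_inr] at this
    rw [← homogeneousComponent_eq_self (hqhom t), ← this]
    rfl
  -- the error terms
  let E : Fin (Algebra.Presentation.ofFinitePresentationRels k C) ⊕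
      Fin (Algebra.Presentation.ofFinitePresentationVars k C) →
      MvPolynomial (Fin (Algebra.Presentation.ofFinitePresentationVars k C)) (R' i₂) := Sum.elim
    (fun j => eval (P₀.baseChange (R' i₂)).relation (p₂ j) -
      aeval h₂ ((P₀.baseChange (R' i₂)).relation j))
    (fun t => eval (P₀.baseChange (R' i₂)).relation (q₂ t) - (h₂ t - X t))
  have hE : ∀ s, MvPolynomial.mapAlgHom (ρ i₂) (E s) = 0 := by
    rintro (j | t)
    · change MvPolynomial.map (ρ i₂ : R' i₂ →+* R) (E (Sum.inl j)) = 0
      simp only [E, Sum.elim_inl, map_sub]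
      rw [map_eval_baseChange_relation, map_aeval_baseChange_relation, hp₂]
      simp only [hh₂]
      rw [hp j, sub_self]
    · change MvPolynomial.map (ρ i₂ : R' i₂ →+* R) (E (Sum.inr t)) = 0
      simp only [E, Sum.elim_inr, map_sub]
      rw [map_eval_baseChange_relation, hq₂, hh₂, hq t]
      simp
  obtain ⟨i₃, _, ⟨φ', hφ', rfl⟩, hE'⟩ := h1.exists_kill_family E hE
  refine ⟨i₃, formallySmooth_of_data (P₀.baseChange (R' i₃))
    (fun t => MvPolynomial.map (φ' : R' i₂ →+* R' i₃) (h₂ t))
    (fun j => MvPolynomial.map (MvPolynomial.map (φ' : R' i₂ →+* R' i₃)) (p₂ j)) ?_ ?_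
    (fun t => MvPolynomial.map (MvPolynomial.map (φ' : R' i₂ →+* R' i₃)) (q₂ t)) ?_ ?_⟩
  · intro j
    exact (homogeneousComponent_isHomogeneous 2 _).map _
  · intro j
    have := hE' (Sum.inl j)
    change MvPolynomial.map (φ' : R' i₂ →+* R' i₃) (E (Sum.inl j)) = 0 at this
    simp only [E, Sum.elim_inl, map_sub] at this
    rw [map_eval_baseChange_relation, map_aeval_baseChange_relation] at this
    exact sub_eq_zero.mp this
  · intro t
    exact (homogeneousComponent_isHomogeneous 1 _).map _
  · intro t
    have := hE' (Sum.inr t)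
    change MvPolynomial.map (φ' : R' i₂ →+* R' i₃) (E (Sum.inr t)) = 0 at this
    simp only [E, Sum.elim_inr, map_sub] at this
    rw [map_eval_baseChange_relation] at this
    simp only [MvPolynomial.map_X] at this
    exact sub_eq_zero.mp this

end IsColimSys

end Groth.Agent.Lib.Helper25
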