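import Mathlib

/-!
# Common field extensions and surjectivity of products of surjective morphisms

* `exists_common_extension`: any family of field extensions of `K` embeds in a common one.
* `surjective_of_isLimit_fan`: a product (in `Over S`) of surjective `S`-schemes is surjective
  over `S`.
-/

universe u v w

namespace Groth.Agent.Lib.Helper25.CommonField

open MvPolynomial


/-- Embedding a field extension into an algebraically closed field with enough algebraically
independent elements. -/
theorem nonempty_algHom_of_algebraicIndependent {K : Type*} {L : Type*} {Ω : Type*}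
    [Field K] [Field L] [Field Ω] [Algebra K L] [Algebra K Ω] [IsAlgClosed Ω]
    {J : Type*} (x : J → Ω) (hx : AlgebraicIndependent K x)
    {ι : Type*} (b : ι → L) (hb : IsTranscendenceBasis K b) (e : ι ↪ J) :
    Nonempty (L →ₐ[K] Ω) := by
  let R := Algebra.adjoin K (Set.range b)
  have halg : Algebra.IsAlgebraic R L := hb.isAlgebraic
  have hxe : AlgebraicIndependent K (x ∘ e) := hx.comp e e.injective
  let ψ : R →ₐ[K] Ω := (aeval (x ∘ e)).comp hb.1.aevalEquiv.symm.toAlgHom
  have hψ : Function.Injective ψ := by
    have : Function.Injective (aeval (R := K) (x ∘ e)) := hxe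
    exact this.comp hb.1.aevalEquiv.symm.injective
  letI : Algebra R Ω := ψ.toRingHom.toAlgebra
  haveI : IsScalarTower K R Ω := IsScalarTower.of_algebraMap_eq fun r => by
    show algebraMap K Ω r = ψ (algebraMap K R r)
    rw [AlgHom.commutes]
  haveI : FaithfulSMul R Ω := (faithfulSMul_iff_algebraMap_injective R Ω).mpr hψ
  let φ : L →ₐ[R] Ω := IsAlgClosed.lift
  exact ⟨φ.restrictScalars K⟩


/-- A common extension of an arbitrary family of field extensions. -/
theorem exists_common_extension {K : Type u} [Field K] {I : Type u} (L : I → Type u)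
    [∀ i, Field (L i)] [∀ i, Algebra K (L i)] :
    ∃ (Ω : Type u) (_ : Field Ω) (_ : Algebra K Ω), ∀ i, Nonempty (L i →ₐ[K] Ω) := by
  let J := Σ i, L i
  let F := FractionRing (MvPolynomial J K)
  let Ω := AlgebraicClosure F
  refine ⟨Ω, inferInstance, inferInstance, fun i => ?_⟩
  let x : J → Ω := fun j => algebraMap F Ω (algebraMap (MvPolynomial J K) F (X j))
  have hx : AlgebraicIndependent K x := by
    have h1 : AlgebraicIndependent K (X : J → MvPolynomial J K) := algebraicIndependent_X J K
    have h2 := h1.map' (f := (IsScalarTower.toAlgHom K (MvPolynomial J K) Ω))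
      ((algebraMap F Ω).injective.comp (IsFractionRing.injective (MvPolynomial J K) F))
    exact h2
  obtain ⟨s, hs⟩ := exists_isTranscendenceBasis K (L i)
  let e : s ↪ J := ⟨fun a => ⟨i, a.1⟩, fun a a' h => by
    have := eq_of_heq (Sigma.mk.inj h).2
    exact Subtype.ext this⟩
  exact nonempty_algHom_of_algebraicIndependent x hx _ hs e

end Groth.Agent.Lib.Helper25.CommonField

namespace Groth.Agent.Lib.Helper25.CommonField

open CategoryTheory AlgebraicGeometry Limits

set_option backward.isDefEq.respectTransparency false in
theorem surjective_of_isLimit_fan {S : Scheme.{u}} {I : Type u} (T : I → Over S)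
    (hT : ∀ i, Surjective (T i).hom) (c : Limits.Fan T) (hc : Limits.IsLimit c) :
    Surjective c.pt.hom := by
  constructor
  intro s
  choose t ht using fun i => (hT i).surj s
  let ρ : ∀ i, S.residueField s ⟶ (T i).left.residueField (t i) := fun i =>
    (S.residueFieldCongr (ht i).symm).hom ≫ (T i).hom.residueFieldMap (t i)
  letI : ∀ i, Algebra (S.residueField s) ((T i).left.residueField (t i)) :=
    fun i => (ρ i).hom.toAlgebra
  obtain ⟨Ω, _, _, hΩ⟩ := exists_common_extension (K := S.residueField s)
    (fun i => (T i).left.residueField (t i))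
  let α := fun i => (hΩ i).some
  let Z : Over S := Over.mk (Spec.map (CommRingCat.ofHom (algebraMap (S.residueField s) Ω)) ≫
    S.fromSpecResidueField s)
  have hm : ∀ i, (Spec.map (CommRingCat.ofHom (α i).toRingHom) ≫
      (T i).left.fromSpecResidueField (t i)) ≫ (T i).hom = Z.hom := by
    intro i
    have h1 : (CommRingCat.ofHom (algebraMap (S.residueField s) Ω)) =
        ρ i ≫ CommRingCat.ofHom (α i).toRingHom := by
      ext r
      exact ((α i).commutes r).symm
    simp only [Z, Over.mk_hom, h1, ρ, Spec.map_comp, Category.assoc,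
      Scheme.residueFieldCongr_fromSpecResidueField,
      Scheme.Hom.SpecMap_residueFieldMap_fromSpecResidueField]
  let m : ∀ i, Z ⟶ T i := fun i => Over.homMk _ (hm i)
  let l : Z ⟶ c.pt := hc.lift (Fan.mk Z m)
  refine ⟨l.left (IsLocalRing.closedPoint Ω), ?_⟩
  have hw : l.left ≫ c.pt.hom = Z.hom := Over.w l
  rw [← Scheme.Hom.comp_apply, hw]
  simp only [Z, Over.mk_hom, Scheme.Hom.comp_apply]
  exact Scheme.fromSpecResidueField_apply _ _

end Groth.Agent.Lib.Helper25.CommonField
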