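import Mathlib
import Groth.Prelude.Def_Omega3
import Groth.Agent.Lib.Helper25.CokerDiff

set_option autoImplicit false
universe u

open CategoryTheory CategoryTheory.Limits AlgebraicGeometry TopologicalSpace Opposite

namespace Groth.Agent.Lib.Helper25.DiffSeq

variable {X : Scheme.{u}}

lemma pullbackId_hom_pullSect (M : X.Modules) (U : X.Opens) (m : Γ(M, U)) :
    ((Scheme.Modules.pullbackId X).hom.app M).app U (OmegaSh.pullSect (𝟙 X) M U m) = m := by
  have h := congr(($(Scheme.Modules.conjugateEquiv_pullbackId_hom X)).app M)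
  rw [conjugateEquiv_apply_app] at h
  have h2 := congr(($h).app U m)
  simp only [Adjunction.id_counit, Functor.id_obj, NatTrans.id_app] at h2
  exact h2

lemma pullSect_id (M : X.Modules) (U : X.Opens) (m : Γ(M, U)) :
    OmegaSh.pullSect (𝟙 X) M U m = ((Scheme.Modules.pullbackId X).inv.app M).app U m := by
  have h1 := pullbackId_hom_pullSect M U m
  have h2 := congr(((Scheme.Modules.pullbackId X).inv.app M).app U $h1)
  rw [← h2]
  have h3 := congr(($((Scheme.Modules.pullbackId X).hom_inv_id_app M)).app U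
    (OmegaSh.pullSect (𝟙 X) M U m))
  exact h3.symm

section Univ

variable {Y : Scheme.{u}} {f : X ⟶ Y} {Ω₁ Ω₂ : X.Modules} (d₁ : OmegaSh.Der f Ω₁)
  (d₂ : OmegaSh.Der f Ω₂)

lemma isIso_of_isUniversal (h₁ : OmegaSh.IsUniversal d₁) (h₂ : OmegaSh.IsUniversal d₂)
    (θ : Ω₁ ⟶ Ω₂) (hθ : d₁.postcomp θ.val = d₂) : IsIso θ := by
  obtain ⟨θ', hθ', -⟩ := h₂ _ d₁
  obtain ⟨α, -, hα⟩ := h₁ _ d₁
  obtain ⟨β, -, hβ⟩ := h₂ _ d₂
  refine ⟨θ', ?_, ?_⟩
  · rw [hα (θ ≫ θ') ?_, hα (𝟙 _) ?_]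
    · ext U s
      rfl
    · ext U s
      have e1 : (d₁.postcomp (θ ≫ θ').val).d (X := U) s =
          (θ'.val.app U).hom ((d₁.postcomp θ.val).d s) := rfl
      rw [e1, hθ]
      exact PresheafOfModules.Derivation.congr_d hθ' s
  · rw [hβ (θ' ≫ θ) ?_, hβ (𝟙 _) ?_]
    · ext U s
      rfl
    · ext U s
      have e1 : (d₂.postcomp (θ' ≫ θ).val).d (X := U) s =
          (θ.val.app U).hom ((d₂.postcomp θ'.val).d s) := rfl
      rw [e1, hθ']
      exact PresheafOfModules.Derivation.congr_d hθ s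

end Univ


section Seq

open Groth.Agent.Lib.Helper25.CokerDiff

variable {Y Z : Scheme.{u}} (f : X ⟶ Y) (g : Y ⟶ Z)
    (ΩY : Y.Modules) (dY : OmegaSh.Der g ΩY) (hY : OmegaSh.IsUniversal dY)
    (ΩX : X.Modules) (dX : OmegaSh.Der (f ≫ g) ΩX) (hX : OmegaSh.IsUniversal dX)
    (ΩXY : X.Modules) (dXY : OmegaSh.Der f ΩXY) (hXY : OmegaSh.IsUniversal dXY)
    (c₁ : (Scheme.Modules.pullback f).obj ΩY ⟶ ΩX) (hc₁ : OmegaSh.IsDiffCompat f dY dX c₁)
    (c₂ : (Scheme.Modules.pullback (𝟙 X)).obj ΩX ⟶ ΩXY) (hc₂ : OmegaSh.IsDiffCompat (𝟙 X) dX dXY c₂)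

include hc₂ in
lemma postcomp_c₂ :
    dX.postcomp ((Scheme.Modules.pullbackId X).inv.app ΩX ≫ c₂).val = ofComp g f dXY := by
  ext U s
  have e1 : (dX.postcomp ((Scheme.Modules.pullbackId X).inv.app ΩX ≫ c₂).val).d (X := U) s =
      c₂.app U.unop (((Scheme.Modules.pullbackId X).inv.app ΩX).app U.unop (dX.d s)) := rfl
  rw [e1]
  have e2 := pullSect_id ΩX U.unop (dX.d s)
  have e3 := hc₂ U.unop s
  refine Eq.trans ?_ e3
  exact congrArg (c₂.app U.unop) e2.symm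

include hY hX hXY hc₁ hc₂ in
theorem exact_differentials_of_comp :
    Epi c₂ ∧
      imageSubobject c₁ = kernelSubobject ((Scheme.Modules.pullbackId X).inv.app ΩX ≫ c₂) := by
  have hU := isUniversal_cokerDer g f dY dX c₁ hc₁ hY hX
  obtain ⟨θ, hθ, -⟩ := hU _ dXY
  have : IsIso θ := isIso_of_isUniversal _ _ hU hXY θ hθ
  obtain ⟨α, -, hα⟩ := hX _ (ofComp g f dXY)
  have key : (Scheme.Modules.pullbackId X).inv.app ΩX ≫ c₂ = cokernel.π c₁ ≫ θ := by
    rw [hα _ (postcomp_c₂ f g ΩX dX ΩXY dXY c₂ hc₂), hα (cokernel.π c₁ ≫ θ) ?_]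
    ext U s
    have e1 : (dX.postcomp (cokernel.π c₁ ≫ θ).val).d (X := U) s =
        ((cokerDer g f dY dX c₁ hc₁).postcomp θ.val).d (X := U) s := rfl
    rw [e1, hθ]
    rfl
  constructor
  · have : c₂ = (Scheme.Modules.pullbackId X).hom.app ΩX ≫ cokernel.π c₁ ≫ θ := by
      rw [← key, Iso.hom_inv_id_app_assoc]
    rw [this]
    infer_instance
  · have hk : ∀ {A B : X.Modules} (u v : A ⟶ B), u = v → kernelSubobject u = kernelSubobject v := by
      intro A B u v h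
      subst h
      rfl
    rw [hk _ _ key, kernelSubobject_comp_mono]
    exact (ShortComplex.exact_iff_image_eq_kernel _).mp (ShortComplex.exact_cokernel c₁)

end Seq

end Groth.Agent.Lib.Helper25.DiffSeq
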