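import Mathlib
import Groth.Prelude.Def_Omega3
import Groth.Agent.Lib.Helper25.SkyMod
import Groth.Agent.Lib.Helper25.DiffCompat

set_option autoImplicit false
universe u

namespace Groth.Agent.Lib.Helper25.EtaleDer

section Ring

variable {A B N : Type*} [CommRing A] [CommRing B] [Algebra A B] [AddCommGroup N] [Module B N]

/-- Extension of a Leibniz additive map along a formally étale algebra. -/
theorem exists_extend [Algebra.FormallyEtale A B] (δ : A →+ N)
    (hmul : ∀ a b, δ (a * b) = algebraMap A B a • δ b + algebraMap A B b • δ a) :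
    ∃ δ' : B →+ N, (∀ x y, δ' (x * y) = x • δ' y + y • δ' x) ∧
      ∀ a, δ' (algebraMap A B a) = δ a := by
  let _ : Module A N := Module.compHom N (algebraMap A B)
  have : IsScalarTower A B N := IsScalarTower.of_algebraMap_smul fun _ _ => rfl
  have h1 : δ 1 = 0 := by
    have := hmul 1 1
    rw [mul_one, (algebraMap A B).map_one, one_smul] at this
    exact add_eq_left.mp this.symm
  let D₀ : Derivation ℤ A N :=
    { toFun := δ
      map_add' := δ.map_add
      map_smul' := fun n b => by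
        show δ (n • b) = n • δ b
        exact map_zsmul δ n b
      map_one_eq_zero' := h1
      leibniz' := fun a b => hmul a b }
  let L₀ : Ω[A⁄ℤ] →ₗ[A] N := D₀.liftKaehlerDifferential
  have hbc : IsBaseChange B (KaehlerDifferential.map ℤ ℤ A B) :=
    KaehlerDifferential.isBaseChange_of_formallyEtale ℤ A B
  let L : Ω[B⁄ℤ] →ₗ[B] N := hbc.lift L₀
  refine ⟨(L.toAddMonoidHom).comp (KaehlerDifferential.D ℤ B).toLinearMap.toAddMonoidHom, ?_, ?_⟩
  · intro x y
    show L (KaehlerDifferential.D ℤ B (x * y)) = x • L (KaehlerDifferential.D ℤ B y) +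
      y • L (KaehlerDifferential.D ℤ B x)
    rw [Derivation.leibniz, map_add, map_smul, map_smul]
  · intro b
    show L (KaehlerDifferential.D ℤ B (algebraMap A B b)) = δ b
    rw [← KaehlerDifferential.map_D ℤ ℤ A B b]
    show hbc.lift L₀ (KaehlerDifferential.map ℤ ℤ A B (KaehlerDifferential.D ℤ A b)) = δ b
    rw [IsBaseChange.lift_eq]
    exact D₀.liftKaehlerDifferential_comp_D b

end Ring

section Ring2

variable {A B R' N : Type*} [CommRing A] [CommRing B] [CommRing R'] [AddCommGroup N] [Module R' N]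

/-- Leibniz additive maps (w.r.t. `ρ`) out of a formally unramified algebra agreeing on the base
are equal. -/
lemma leibniz_ext (φ : A →+* B) (hφ : φ.FormallyUnramified) (ρ : B →+* R') (φ₁ φ₂ : B →+ N)
    (h₁ : ∀ x y, φ₁ (x * y) = ρ x • φ₁ y + ρ y • φ₁ x)
    (h₂ : ∀ x y, φ₂ (x * y) = ρ x • φ₂ y + ρ y • φ₂ x)
    (h : ∀ a : A, φ₁ (φ a) = φ₂ (φ a)) : φ₁ = φ₂ := by
  algebraize [φ]
  let _ : Module B N := Module.compHom N ρ
  let _ : Module A N := Module.compHom N φ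
  have : IsScalarTower A B N := IsScalarTower.of_algebraMap_smul fun _ _ => rfl
  let δ : B →+ N := φ₁ - φ₂
  have hmul : ∀ a b, δ (a * b) = a • δ b + b • δ a := by
    intro a b
    show φ₁ (a * b) - φ₂ (a * b) = a • (φ₁ b - φ₂ b) + b • (φ₁ a - φ₂ a)
    rw [h₁, h₂, smul_sub, smul_sub]
    show ρ a • φ₁ b + ρ b • φ₁ a - (ρ a • φ₂ b + ρ b • φ₂ a) =
      ρ a • φ₁ b - ρ a • φ₂ b + (ρ b • φ₁ a - ρ b • φ₂ a)
    abel
  have hzero : ∀ a, δ (φ a) = 0 := by
    intro a
    show φ₁ (φ a) - φ₂ (φ a) = 0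
    rw [h, sub_self]
  let D : Derivation A B N :=
    { toFun := δ
      map_add' := δ.map_add
      map_smul' := fun a b => by
        show δ (a • b) = φ a • δ b
        rw [Algebra.smul_def, hmul]
        show φ a • δ b + b • δ (φ a) = _
        rw [hzero, smul_zero, add_zero]
      map_one_eq_zero' := by
        show δ 1 = 0
        have := hmul 1 1
        rw [mul_one, one_smul] at this
        exact (add_eq_left.mp this.symm)
      leibniz' := fun a b => by
        show δ (a * b) = a • δ b + b • δ a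
        exact hmul a b }
  ext b
  have h1 : D b = D.liftKaehlerDifferential (KaehlerDifferential.D A B b) :=
    (Derivation.liftKaehlerDifferential_comp_D D b).symm
  have h2 : KaehlerDifferential.D A B b = 0 := Subsingleton.elim _ _
  have h3 : D b = 0 := by rw [h1, h2, map_zero]
  exact sub_eq_zero.mp h3

end Ring2

section Ring3

variable {A B N : Type*} [CommRing A] [CommRing B] [AddCommGroup N] [Module B N]

theorem exists_extend' (φ : A →+* B) (hφ : φ.Etale) (δ : A →+ N)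
    (hmul : ∀ a b, δ (a * b) = φ a • δ b + φ b • δ a) :
    ∃ δ' : B →+ N, (∀ x y, δ' (x * y) = x • δ' y + y • δ' x) ∧ ∀ a, δ' (φ a) = δ a := by
  algebraize [φ]
  exact exists_extend δ hmul

end Ring3

open CategoryTheory CategoryTheory.Limits AlgebraicGeometry TopologicalSpace Opposite
open Groth.Agent.Lib.Helper25.SkyMod

section Glue

variable {X : Scheme.{u}} {F : X.Modules} {ι : Type*} (B : ι → X.Opens)
  (Dg : ∀ i, Γ(X, B i) →+ Γ(F, B i))

/-- a compatible system of Leibniz maps on all opens restricting to `Dg` on the basis -/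
structure Glued where
  D : ∀ U : X.Opens, Γ(X, U) →+ Γ(F, U)
  D_mul : ∀ (U : X.Opens) (a b : Γ(X, U)), D U (a * b) = a • D U b + b • D U a
  D_map : ∀ {U V : X.Opens} (i : V ⟶ U) (a : Γ(X, U)),
    D V (X.presheaf.map i.op a) = F.presheaf.map i.op (D U a)
  D_basis : ∀ i x, D (B i) x = Dg i x

variable (hB : Opens.IsBasis (Set.range B))

include hB in
lemma hcov (W : X.Opens) (a b : Γ(F, W))
    (h : ∀ (i : ι) (k : B i ⟶ W), F.presheaf.map k.op a = F.presheaf.map k.op b) : a = b := by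
  refine sections_ext_of_cover F (fun g : {i : ι // B i ≤ W} => B g.1)
    W (fun g => g.2) ?_ a b (fun g => h g.1 (homOfLE g.2))
  intro x hx
  obtain ⟨_, ⟨i, rfl⟩, hxU, hUW⟩ := Opens.isBasis_iff_nbhd.mp hB hx
  exact Opens.mem_iSup.mpr ⟨⟨i, hUW⟩, hxU⟩

include hB in
theorem nonempty_glued (hDmul : ∀ i x y, Dg i (x * y) = x • Dg i y + y • Dg i x)
    (hnat : ∀ (i j : ι) (k : B j ⟶ B i) (x : Γ(X, B i)),
      F.presheaf.map k.op (Dg i x) = Dg j (X.presheaf.map k.op x)) : Nonempty (Glued B Dg) := by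
  let 𝒪 : X.Modules := Coh.structureModule X
  let τ : (inducedFunctor B).op ⋙ 𝒪.presheaf ⟶ (inducedFunctor B).op ⋙ F.presheaf :=
    { app := fun g => AddCommGrpCat.ofHom ((Dg g.unop).comp (OmegaSh.fnSect X (B g.unop)))
      naturality := fun g g' i => by
        ext m
        exact (hnat g.unop g'.unop i.unop.hom (OmegaSh.fnSect X _ m)).symm }
  let φ : 𝒪.presheaf ⟶ F.presheaf :=
    TopCat.Sheaf.restrictHomEquivHom 𝒪.presheaf ⟨F.presheaf, F.isSheaf⟩ hB τ
  have hφ : ∀ (g : ι) (m : Γ(X, B g)),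
      φ.app (op (B g)) (OmegaSh.strSect X _ m) = Dg g m := by
    intro g m
    have := TopCat.Sheaf.extend_hom_app 𝒪.presheaf ⟨F.presheaf, F.isSheaf⟩ hB τ g
    exact congr($this (OmegaSh.strSect X _ m))
  let DD : ∀ U : X.Opens, Γ(X, U) →+ Γ(F, U) := fun U =>
    (φ.app (op U)).hom.comp (OmegaSh.strSect X U)
  have hDDmap : ∀ {U V : X.Opens} (i : V ⟶ U) (a : Γ(X, U)),
      DD V (X.presheaf.map i.op a) = F.presheaf.map i.op (DD U a) := by
    intro U V i a
    exact congr($(φ.naturality i.op) (OmegaSh.strSect X U a))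
  have hDDg : ∀ (g : ι) (m : Γ(X, B g)), DD (B g) m = Dg g m := hφ
  have hDDmul : ∀ (U : X.Opens) (a b : Γ(X, U)), DD U (a * b) = a • DD U b + b • DD U a := by
    intro U a b
    apply hcov B hB
    intro g i
    rw [← hDDmap, map_mul, hDDg, hDmul, map_add, Scheme.Modules.map_smul,
      Scheme.Modules.map_smul, ← hDDmap, ← hDDmap, hDDg, hDDg]
  exact ⟨⟨DD, hDDmul, hDDmap, hDDg⟩⟩

end Glue

section Etale

variable {X₁ X₂ : Scheme.{u}} (f : X₂ ⟶ X₁)

/-- pairs of affine opens `V ⊆ f⁻¹ U` -/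
structure Idx where
  V : X₂.Opens
  U : X₁.Opens
  hV : IsAffineOpen V
  hU : IsAffineOpen U
  le : V ≤ f ⁻¹ᵁ U

lemma exists_idx (x : X₂) (W' : X₂.Opens) (hx : x ∈ W') (W : X₁.Opens) (hfx : f x ∈ W) :
    ∃ i : Idx f, x ∈ i.V ∧ i.V ≤ W' ∧ i.U ≤ W := by
  obtain ⟨_, ⟨U, hU : IsAffineOpen U, rfl⟩, hxU, hUW⟩ :=
    (X₁.isBasis_affineOpens).exists_subset_of_mem_open hfx W.2
  obtain ⟨_, ⟨V, hV : IsAffineOpen V, rfl⟩, hxV, hVW⟩ :=
    (X₂.isBasis_affineOpens).exists_subset_of_mem_open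
      (show x ∈ ((W' ⊓ f ⁻¹ᵁ U : X₂.Opens) : Set X₂) from ⟨hx, hxU⟩) (W' ⊓ f ⁻¹ᵁ U).2
  exact ⟨⟨V, U, hV, hU, fun y hy => (hVW hy).2⟩, hxV, fun y hy => (hVW hy).1, hUW⟩

lemma isBasis_idx : Opens.IsBasis (Set.range (fun i : Idx f => i.V)) := by
  rw [Opens.isBasis_iff_nbhd]
  intro W x hx
  obtain ⟨i, hxi, hiW, -⟩ := exists_idx f x W hx ⊤ trivial
  exact ⟨i.V, ⟨i, rfl⟩, hxi, hiW⟩

variable [Etale f] {M : X₂.Modules}

lemma etale_appLE (i : Idx f) : (f.appLE i.U i.V i.le).hom.Etale :=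
  HasRingHomProperty.appLE (P := @Etale) f inferInstance ⟨i.U, i.hU⟩ ⟨i.V, i.hV⟩ i.le

variable (E : ∀ U : X₁.Opens, Γ(X₁, U) →+ Γ(M, f ⁻¹ᵁ U))
  (hEmul : ∀ (U : X₁.Opens) (a b : Γ(X₁, U)),
    E U (a * b) = f.app U a • E U b + f.app U b • E U a)
  (hEmap : ∀ {U U' : X₁.Opens} (k : U' ⟶ U) (a : Γ(X₁, U)),
     E U' (X₁.presheaf.map k.op a) = M.presheaf.map (homOfLE (f.preimage_mono k.le)).op (E U a))

include hEmul in
lemma exists_loc (i : Idx f) : ∃ D : Γ(X₂, i.V) →+ Γ(M, i.V),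
    (∀ x y, D (x * y) = x • D y + y • D x) ∧
      ∀ a : Γ(X₁, i.U), D (f.appLE i.U i.V i.le a) =
        M.presheaf.map (homOfLE i.le).op (E i.U a) := by
  refine exists_extend' (N := Γ(M, i.V)) (f.appLE i.U i.V i.le).hom (etale_appLE f i)
    ((M.presheaf.map (homOfLE i.le).op).hom.comp (E i.U)) ?_
  intro a b
  show M.presheaf.map (homOfLE i.le).op (E i.U (a * b)) = _
  rw [hEmul, map_add, Scheme.Modules.map_smul, Scheme.Modules.map_smul]
  rfl

section Nat

variable (Dg : ∀ i : Idx f, Γ(X₂, i.V) →+ Γ(M, i.V))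
  (hDmul : ∀ i x y, Dg i (x * y) = x • Dg i y + y • Dg i x)
  (hDext : ∀ (i : Idx f) (a : Γ(X₁, i.U)), Dg i (f.appLE i.U i.V i.le a) =
        M.presheaf.map (homOfLE i.le).op (E i.U a))

include hEmap hDmul hDext in
lemma nat_aux (i j : Idx f) (hV : j.V ≤ i.V) (hU : j.U ≤ i.U) (x : Γ(X₂, i.V)) :
    M.presheaf.map (homOfLE hV).op (Dg i x) = Dg j (X₂.presheaf.map (homOfLE hV).op x) := by
  have := leibniz_ext (N := Γ(M, j.V)) (f.appLE i.U i.V i.le).hom
    (etale_appLE f i).formallyUnramified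
    (X₂.presheaf.map (homOfLE hV).op).hom
    ((M.presheaf.map (homOfLE hV).op).hom.comp (Dg i))
    ((Dg j).comp (X₂.presheaf.map (homOfLE hV).op).hom.toAddMonoidHom) ?_ ?_ ?_
  · exact DFunLike.congr_fun this x
  · intro x y
    show M.presheaf.map (homOfLE hV).op (Dg i (x * y)) = _
    rw [hDmul, map_add, Scheme.Modules.map_smul, Scheme.Modules.map_smul]
    rfl
  · intro x y
    show Dg j (X₂.presheaf.map (homOfLE hV).op (x * y)) = _
    rw [map_mul, hDmul]
    rfl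
  · intro a
    show M.presheaf.map (homOfLE hV).op (Dg i (f.appLE i.U i.V i.le a)) =
      Dg j (X₂.presheaf.map (homOfLE hV).op (f.appLE i.U i.V i.le a))
    rw [hDext]
    have e1 : X₂.presheaf.map (homOfLE hV).op (f.appLE i.U i.V i.le a) =
        f.appLE j.U j.V j.le (X₁.presheaf.map (homOfLE hU).op a) := by
      have e1a := congr($(f.appLE_map i.le (homOfLE hV).op) a)
      have e1b := congr($(f.map_appLE j.le (homOfLE hU).op) a)
      exact e1a.trans e1b.symm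
    rw [e1, hDext, hEmap, ← ConcreteCategory.comp_apply, ← ConcreteCategory.comp_apply,
      ← Functor.map_comp, ← Functor.map_comp]
    rfl

include hEmap hDmul hDext in
lemma nat_gen (i j : Idx f) (k : j.V ⟶ i.V) (x : Γ(X₂, i.V)) :
    M.presheaf.map k.op (Dg i x) = Dg j (X₂.presheaf.map k.op x) := by
  have H : ∀ y : j.V, ∃ l : Idx f, y.1 ∈ l.V ∧ l.V ≤ j.V ∧ l.U ≤ i.U ⊓ j.U := by
    intro y
    exact exists_idx f y.1 j.V y.2 (i.U ⊓ j.U) ⟨i.le (k.le y.2), j.le y.2⟩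
  choose l hyl hlV hlU using H
  refine sections_ext_of_cover M (fun y => (l y).V) j.V hlV ?_ _ _ ?_
  · intro y hy
    exact Opens.mem_iSup.mpr ⟨⟨y, hy⟩, hyl _⟩
  intro y
  rw [nat_aux f E hEmap Dg hDmul hDext j (l y) (hlV y) ((hlU y).trans inf_le_right)]
  have e2 : M.presheaf.map (homOfLE (hlV y)).op (M.presheaf.map k.op (Dg i x)) =
      M.presheaf.map (homOfLE ((hlV y).trans k.le)).op (Dg i x) := by
    rw [← ConcreteCategory.comp_apply, ← Functor.map_comp]
    rfl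
  rw [e2, nat_aux f E hEmap Dg hDmul hDext i (l y) ((hlV y).trans k.le)
    ((hlU y).trans inf_le_left)]
  congr 1
  rw [← CommRingCat.comp_apply, ← Functor.map_comp]
  rfl

end Nat

/-- a compatible system of Leibniz maps on `X₂` extending `E` -/
structure Ext where
  D : ∀ U : X₂.Opens, Γ(X₂, U) →+ Γ(M, U)
  D_mul : ∀ (U : X₂.Opens) (a b : Γ(X₂, U)), D U (a * b) = a • D U b + b • D U a
  D_map : ∀ {U V : X₂.Opens} (i : V ⟶ U) (a : Γ(X₂, U)),
    D V (X₂.presheaf.map i.op a) = M.presheaf.map i.op (D U a)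
  D_push : ∀ (U : X₁.Opens) (s : Γ(X₁, U)), D (f ⁻¹ᵁ U) (f.app U s) = E U s

include hEmul hEmap in
theorem nonempty_ext : Nonempty (Ext f E) := by
  choose Dg hDmul hDext using exists_loc f E hEmul
  obtain ⟨G⟩ := nonempty_glued (fun i : Idx f => i.V) Dg (isBasis_idx f) hDmul
    (nat_gen f E hEmap Dg hDmul hDext)
  refine ⟨⟨G.D, G.D_mul, G.D_map, ?_⟩⟩
  intro U s
  have H : ∀ y : (f ⁻¹ᵁ U : X₂.Opens), ∃ l : Idx f, y.1 ∈ l.V ∧ l.V ≤ f ⁻¹ᵁ U ∧ l.U ≤ U := by
    intro y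
    exact exists_idx f y.1 (f ⁻¹ᵁ U) y.2 U y.2
  choose l hyl hlV hlU using H
  refine sections_ext_of_cover M (fun y => (l y).V) (f ⁻¹ᵁ U) hlV ?_ _ _ ?_
  · intro y hy
    exact Opens.mem_iSup.mpr ⟨⟨y, hy⟩, hyl _⟩
  intro y
  rw [← G.D_map]
  have e1 : X₂.presheaf.map (homOfLE (hlV y)).op (f.app U s) =
      f.appLE (l y).U (l y).V (l y).le (X₁.presheaf.map (homOfLE (hlU y)).op s) := by
    have e1b := congr($(f.map_appLE (l y).le (homOfLE (hlU y)).op) s)
    exact e1b.symm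
  rw [e1]
  have e2 := G.D_basis (l y) (f.appLE (l y).U (l y).V (l y).le
    (X₁.presheaf.map (homOfLE (hlU y)).op s))
  refine e2.trans ?_
  rw [hDext, hEmap, ← ConcreteCategory.comp_apply, ← Functor.map_comp]
  rfl

end Etale

section DerLevel

variable {X₁ X₂ S₁ : Scheme.{u}} (f : X₂ ⟶ X₁) [Etale f] (p₁ : X₁ ⟶ S₁) {M : X₂.Modules}

theorem exists_der (D₁ : OmegaSh.Der p₁ ((Scheme.Modules.pushforward f).obj M)) :
    ∃ D : OmegaSh.Der (f ≫ p₁) M, ∀ (U : X₁.Opens) (s : Γ(X₁, U)),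
      D.app (f ⁻¹ᵁ U) (f.app U s) = D₁.app U s := by
  let E : ∀ U : X₁.Opens, Γ(X₁, U) →+ Γ(M, f ⁻¹ᵁ U) := fun U => D₁.app U
  have hmul : ∀ (U : X₁.Opens) (a b : Γ(X₁, U)),
      E U (a * b) = f.app U a • E U b + f.app U b • E U a := by
    intro U a b
    exact D₁.d_mul a b
  have hmap : ∀ {U U' : X₁.Opens} (k : U' ⟶ U) (a : Γ(X₁, U)),
      E U' (X₁.presheaf.map k.op a) =
        M.presheaf.map (homOfLE (f.preimage_mono k.le)).op (E U a) := by
    intro U U' k a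
    exact D₁.d_map k.op a
  obtain ⟨G⟩ := nonempty_ext f (M := M) E hmul hmap
  refine ⟨{ d := fun {U} => G.D U.unop
            d_mul := fun {U} a b => G.D_mul U.unop a b
            d_map := fun {_ _} i a => G.D_map i.unop a
            d_app := ?_ }, G.D_push⟩
  intro T t
  have h1 := G.D_push (p₁ ⁻¹ᵁ T.unop) (p₁.app T.unop t)
  have h2 : D₁.app (p₁ ⁻¹ᵁ T.unop) (p₁.app T.unop t) = 0 := D₁.d_app t
  exact h1.trans h2

end DerLevel

section Main

open Groth.Agent.Lib.Helper25.DiffCompat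

variable {X₁ S₁ X₂ S₂ : Scheme.{u}} (p₁ : X₁ ⟶ S₁) (p₂ : X₂ ⟶ S₂) (f : X₂ ⟶ X₁) (g : S₂ ⟶ S₁)
  (hsq : f ≫ p₁ = p₂ ≫ g) {M : X₂.Modules}

/-- a derivation over `S₁` is a derivation over `S₂` when `S₂ ⟶ S₁` is formally unramified -/
noncomputable def derOfUnram [FormallyUnramified g] (D' : OmegaSh.Der (f ≫ p₁) M) :
    OmegaSh.Der p₂ M where
  d := D'.d
  d_mul := D'.d_mul
  d_map := D'.d_map
  d_app {W} c :=
    app_eq_zero g (pushDer (f := g) (f' := f ≫ p₁) p₂ (𝟙 S₁)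
      (by rw [Category.comp_id, hsq]) D') W.unop c

variable [Etale f] [Etale g]

theorem pushDer_surjective (D₁ : OmegaSh.Der p₁ ((Scheme.Modules.pushforward f).obj M)) :
    ∃ D : OmegaSh.Der p₂ M, pushDer f g hsq.symm D = D₁ := by
  obtain ⟨D', hD'⟩ := exists_der f p₁ D₁
  refine ⟨derOfUnram p₁ p₂ f g hsq D', ?_⟩
  ext U s
  exact hD' U.unop s

omit [Etale g] in
theorem pushDer_injective (D D' : OmegaSh.Der p₂ M)
    (h : pushDer f g hsq.symm D = pushDer f g hsq.symm D') : D = D' := by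
  have h' : ∀ (U : X₁.Opens) (s : Γ(X₁, U)),
      D.app (f ⁻¹ᵁ U) (f.app U s) = D'.app (f ⁻¹ᵁ U) (f.app U s) := by
    intro U s
    exact PresheafOfModules.Derivation.congr_d h (X := op U) s
  ext W s
  induction W using Opposite.rec with | _ W => ?_
  show D.app W s = D'.app W s
  apply hcov (fun i : Idx f => i.V) (isBasis_idx f)
  intro i k
  rw [← app_map, ← app_map]
  have key := leibniz_ext (N := Γ(M, i.V)) (f.appLE i.U i.V i.le).hom
    (etale_appLE f i).formallyUnramified (RingHom.id _) (D.app i.V) (D'.app i.V)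
    (app_mul p₂ D _) (app_mul p₂ D' _) ?_
  · exact DFunLike.congr_fun key _
  intro a
  show D.app i.V (X₂.presheaf.map (homOfLE i.le).op (f.app i.U a)) =
    D'.app i.V (X₂.presheaf.map (homOfLE i.le).op (f.app i.U a))
  rw [app_map, app_map, h']

end Main

section Final

open Groth.Agent.Lib.Helper25.DiffCompat

variable {X₁ S₁ X₂ S₂ : Scheme.{u}} (p₁ : X₁ ⟶ S₁) (p₂ : X₂ ⟶ S₂) (f : X₂ ⟶ X₁) (g : S₂ ⟶ S₁)
  (hsq : f ≫ p₁ = p₂ ≫ g)
  {Ω₁ : X₁.Modules} (d₁ : OmegaSh.Der p₁ Ω₁)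
  {Ω₂ : X₂.Modules} (d₂ : OmegaSh.Der p₂ Ω₂)
  (c : (Scheme.Modules.pullback f).obj Ω₁ ⟶ Ω₂)

include hsq in
lemma postcomp_homEquiv_comp (hc : OmegaSh.IsDiffCompat f d₁ d₂ c) {M : X₂.Modules} (β : Ω₂ ⟶ M) :
    d₁.postcomp ((Scheme.Modules.pullbackPushforwardAdjunction f).homEquiv Ω₁ M (c ≫ β)).val =
      pushDer f g hsq.symm (d₂.postcomp β.val) := by
  rw [isDiffCompat_iff f g hsq.symm] at hc
  rw [Adjunction.homEquiv_naturality_right]
  ext U s
  have h2 := PresheafOfModules.Derivation.congr_d hc (X := U) s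
  have h3 : (d₁.postcomp ((Scheme.Modules.pullbackPushforwardAdjunction f).homEquiv Ω₁ Ω₂ c ≫
      (Scheme.Modules.pushforward f).map β).val).d (X := U) s =
      (((Scheme.Modules.pushforward f).map β).val.app U).hom
        ((d₁.postcomp ((Scheme.Modules.pullbackPushforwardAdjunction f).homEquiv Ω₁ Ω₂ c).val).d
          (X := U) s) := rfl
  rw [h3, h2]
  rfl

variable [Etale f] [Etale g]

include hsq in
theorem isIso_of_etale_etale (hd₁ : OmegaSh.IsUniversal d₁) (hd₂ : OmegaSh.IsUniversal d₂)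
    (hc : OmegaSh.IsDiffCompat f d₁ d₂ c) : IsIso c := by
  rw [isIso_iff_coyoneda_map_bijective]
  intro M
  constructor
  · intro β β' hβ
    have hβ' : c ≫ β = c ≫ β' := hβ
    have e1 := postcomp_homEquiv_comp p₁ p₂ f g hsq d₁ d₂ c hc β
    have e2 := postcomp_homEquiv_comp p₁ p₂ f g hsq d₁ d₂ c hc β'
    rw [hβ'] at e1
    have e3 := pushDer_injective p₁ p₂ f g hsq _ _ (e1.symm.trans e2)
    obtain ⟨α, -, huniq⟩ := hd₂ M (d₂.postcomp β'.val)
    exact (huniq β e3).trans (huniq β' rfl).symm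
  · intro γ
    obtain ⟨D, hD⟩ := pushDer_surjective p₁ p₂ f g hsq
      (d₁.postcomp ((Scheme.Modules.pullbackPushforwardAdjunction f).homEquiv Ω₁ M γ).val)
    obtain ⟨β, hβ, -⟩ := hd₂ M D
    refine ⟨β, ?_⟩
    show c ≫ β = γ
    have e1 := postcomp_homEquiv_comp p₁ p₂ f g hsq d₁ d₂ c hc β
    rw [hβ, hD] at e1
    obtain ⟨α, -, huniq⟩ := hd₁ _
      (d₁.postcomp ((Scheme.Modules.pullbackPushforwardAdjunction f).homEquiv Ω₁ M γ).val)
    have e2 := (huniq _ e1).trans (huniq _ rfl).symm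
    exact ((Scheme.Modules.pullbackPushforwardAdjunction f).homEquiv Ω₁ M).injective e2

end Final

end Groth.Agent.Lib.Helper25.EtaleDer
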