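import Mathlib
import Groth.Prelude.Def_Omega3
import Groth.Agent.Lib.Helper25.SkyMod
import Groth.Agent.Lib.Helper25.DiffCompat
import Groth.Agent.Lib.Helper25.EtaleDer
import Groth.Agent.Lib.QCoh.OmegaS2

set_option autoImplicit false
universe u

namespace Groth.Agent.Lib.Helper25.ImmDer

open CategoryTheory CategoryTheory.Limits AlgebraicGeometry TopologicalSpace Opposite
open Groth.Agent.Lib.Helper25.SkyMod Groth.Agent.Lib.Helper25.EtaleDer

section Ring

variable {A B N : Type*} [CommRing A] [CommRing B] [AddCommGroup N] [Module B N]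

/-- Descent of a Leibniz additive map along a surjective ring map killing the kernel. -/
theorem exists_descend (ρ : A →+* B) (hρ : Function.Surjective ρ) (δ : A →+ N)
    (hmul : ∀ a b, δ (a * b) = ρ a • δ b + ρ b • δ a) (hker : ∀ a, ρ a = 0 → δ a = 0) :
    ∃ δ' : B →+ N, (∀ x y, δ' (x * y) = x • δ' y + y • δ' x) ∧ ∀ a, δ' (ρ a) = δ a := by
  let δ' : B →+ N := ρ.toAddMonoidHom.liftOfRightInverse (Function.surjInv hρ)
    (Function.rightInverse_surjInv hρ) ⟨δ, fun a ha => hker a ha⟩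
  have h2 : ∀ a, δ' (ρ a) = δ a := fun a =>
    ρ.toAddMonoidHom.liftOfRightInverse_comp_apply (Function.surjInv hρ)
      (Function.rightInverse_surjInv hρ) ⟨δ, fun a ha => hker a ha⟩ a
  refine ⟨δ', ?_, h2⟩
  intro x y
  obtain ⟨a, rfl⟩ := hρ x
  obtain ⟨b, rfl⟩ := hρ y
  rw [← map_mul, h2, h2, h2, hmul]

end Ring

section Geom

variable {X Y : Scheme.{u}} (j : X ⟶ Y) [IsImmersion j]

lemma app_surjective_of_le_coborder {U : Y.Opens} (hU : IsAffineOpen U)
    (hle : U ≤ j.coborderRange) : Function.Surjective (j.app U) := by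
  obtain ⟨U₀, rfl⟩ : ∃ U₀ : j.coborderRange.toScheme.Opens, j.coborderRange.ι ''ᵁ U₀ = U := by
    refine ⟨j.coborderRange.ι ⁻¹ᵁ U, ?_⟩
    rw [Scheme.Hom.image_preimage_eq_opensRange_inf, Scheme.Opens.opensRange_ι]
    exact inf_eq_right.mpr hle
  have hU₀ : IsAffineOpen U₀ := (j.coborderRange.ι.isAffineOpen_iff_of_isOpenImmersion).mp hU
  have h1 := j.liftCoborder.app_surjective U₀ hU₀
  rw [liftCoborder_app] at h1
  have h2 : Function.Surjective
      ((X.presheaf.map (eqToHom (j.liftCoborder_preimage U₀)).op).hom ∘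
        (j.app (j.coborderRange.ι ''ᵁ U₀)).hom) := h1
  exact Function.Surjective.of_comp_left h2
    (ConcreteCategory.bijective_of_isIso (X.presheaf.map (eqToHom _).op)).1

/-- affine opens of `Y` inside the coborder of the range of `j` -/
structure IIdx where
  U : Y.Opens
  hU : IsAffineOpen U
  le : U ≤ j.coborderRange

lemma exists_iidx (x : X) (W : Y.Opens) (hx : j x ∈ W) :
    ∃ i : IIdx j, j x ∈ i.U ∧ i.U ≤ W := by
  have hx' : j x ∈ j.coborderRange := subset_coborder ⟨x, rfl⟩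
  obtain ⟨_, ⟨U, hU : IsAffineOpen U, rfl⟩, hxU, hUW⟩ :=
    (Y.isBasis_affineOpens).exists_subset_of_mem_open
      (show j x ∈ ((W ⊓ j.coborderRange : Y.Opens) : Set Y) from ⟨hx, hx'⟩)
      (W ⊓ j.coborderRange).2
  exact ⟨⟨U, hU, fun y hy => (hUW hy).2⟩, hxU, fun y hy => (hUW hy).1⟩

lemma exists_opens_eq (V : X.Opens) : ∃ W₀ : Y.Opens, j ⁻¹ᵁ W₀ = V := by
  obtain ⟨t, ht, htV⟩ := (j.isEmbedding.isInducing.isOpen_iff).mp V.2
  exact ⟨⟨t, ht⟩, Opens.ext htV⟩

lemma isBasis_iidx : Opens.IsBasis (Set.range (fun i : IIdx j => j ⁻¹ᵁ i.U)) := by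
  rw [Opens.isBasis_iff_nbhd]
  intro W x hx
  obtain ⟨W₀, rfl⟩ := exists_opens_eq j W
  obtain ⟨i, hxi, hiW⟩ := exists_iidx j x W₀ hx
  exact ⟨j ⁻¹ᵁ i.U, ⟨i, rfl⟩, hxi, j.preimage_mono hiW⟩

end Geom

section Descent

variable {X Y : Scheme.{u}} (j : X ⟶ Y) [IsImmersion j] {M : X.Modules}
  (E : ∀ U : Y.Opens, Γ(Y, U) →+ Γ(M, j ⁻¹ᵁ U))
  (hEmul : ∀ (U : Y.Opens) (a b : Γ(Y, U)),
    E U (a * b) = j.app U a • E U b + j.app U b • E U a)
  (hEmap : ∀ {U U' : Y.Opens} (k : U' ⟶ U) (a : Γ(Y, U)),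
     E U' (Y.presheaf.map k.op a) = M.presheaf.map (homOfLE (j.preimage_mono k.le)).op (E U a))
  (hEker : ∀ (U : Y.Opens), IsAffineOpen U → ∀ a : Γ(Y, U), j.app U a = 0 → E U a = 0)

include hEmap hEker in
lemma loc_eq (U U' : Y.Opens) (s : Γ(Y, U)) (s' : Γ(Y, U')) (V : X.Opens) (hV : V ≤ j ⁻¹ᵁ U)
    (hV' : V ≤ j ⁻¹ᵁ U') (h : j.appLE U V hV s = j.appLE U' V hV' s') :
    M.presheaf.map (homOfLE hV).op (E U s) = M.presheaf.map (homOfLE hV').op (E U' s') := by
  obtain ⟨W₀, rfl⟩ := exists_opens_eq j V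
  have H : ∀ y : (j ⁻¹ᵁ W₀ : X.Opens), ∃ i : IIdx j, j y.1 ∈ i.U ∧ i.U ≤ W₀ ⊓ U ⊓ U' := by
    intro y
    exact exists_iidx j y.1 (W₀ ⊓ U ⊓ U') ⟨⟨y.2, hV y.2⟩, hV' y.2⟩
  choose l hyl hl using H
  have hlW : ∀ y, (l y).U ≤ W₀ := fun y => (hl y).trans (inf_le_left.trans inf_le_left)
  have hlU : ∀ y, (l y).U ≤ U := fun y => (hl y).trans (inf_le_left.trans inf_le_right)
  have hlU' : ∀ y, (l y).U ≤ U' := fun y => (hl y).trans inf_le_right
  refine sections_ext_of_cover M (fun y => j ⁻¹ᵁ (l y).U) (j ⁻¹ᵁ W₀)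
    (fun y => j.preimage_mono (hlW y)) ?_ _ _ ?_
  · intro y hy
    exact Opens.mem_iSup.mpr ⟨⟨y, hy⟩, hyl _⟩
  intro y
  have e1 : M.presheaf.map (homOfLE (j.preimage_mono (hlW y))).op
      (M.presheaf.map (homOfLE hV).op (E U s)) =
      E (l y).U (Y.presheaf.map (homOfLE (hlU y)).op s) := by
    rw [hEmap, ← ConcreteCategory.comp_apply, ← Functor.map_comp]
    rfl
  have e2 : M.presheaf.map (homOfLE (j.preimage_mono (hlW y))).op
      (M.presheaf.map (homOfLE hV').op (E U' s')) =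
      E (l y).U (Y.presheaf.map (homOfLE (hlU' y)).op s') := by
    rw [hEmap, ← ConcreteCategory.comp_apply, ← Functor.map_comp]
    rfl
  rw [e1, e2]
  have e3 : E (l y).U (Y.presheaf.map (homOfLE (hlU y)).op s -
      Y.presheaf.map (homOfLE (hlU' y)).op s') = 0 := by
    apply hEker _ (l y).hU
    rw [map_sub, sub_eq_zero]
    have a1 : j.app (l y).U (Y.presheaf.map (homOfLE (hlU y)).op s) =
        X.presheaf.map (homOfLE (j.preimage_mono (hlW y))).op (j.appLE U (j ⁻¹ᵁ W₀) hV s) := by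
      have n1 := congr($(j.map_appLE (V := j ⁻¹ᵁ (l y).U) (U := (l y).U) le_rfl
        (homOfLE (hlU y)).op) s)
      have n2 := congr($(j.appLE_map hV (homOfLE (j.preimage_mono (hlW y))).op) s)
      rw [Scheme.Hom.app_eq_appLE]
      exact n1.trans n2.symm
    have a2 : j.app (l y).U (Y.presheaf.map (homOfLE (hlU' y)).op s') =
        X.presheaf.map (homOfLE (j.preimage_mono (hlW y))).op (j.appLE U' (j ⁻¹ᵁ W₀) hV' s') := by
      have n1 := congr($(j.map_appLE (V := j ⁻¹ᵁ (l y).U) (U := (l y).U) le_rfl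
        (homOfLE (hlU' y)).op) s')
      have n2 := congr($(j.appLE_map hV' (homOfLE (j.preimage_mono (hlW y))).op) s')
      rw [Scheme.Hom.app_eq_appLE]
      exact n1.trans n2.symm
    rw [a1, a2, h]
  rw [map_sub, sub_eq_zero] at e3
  exact e3

include hEmul hEker in
lemma exists_loc (i : IIdx j) : ∃ D : Γ(X, j ⁻¹ᵁ i.U) →+ Γ(M, j ⁻¹ᵁ i.U),
    (∀ x y, D (x * y) = x • D y + y • D x) ∧ ∀ a : Γ(Y, i.U), D (j.app i.U a) = E i.U a :=
  exists_descend (N := Γ(M, j ⁻¹ᵁ i.U)) (j.app i.U).hom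
    (app_surjective_of_le_coborder j i.hU i.le) (E i.U) (hEmul i.U) (hEker i.U i.hU)

/-- a compatible system of Leibniz maps on `X` descending `E` -/
structure Desc where
  D : ∀ U : X.Opens, Γ(X, U) →+ Γ(M, U)
  D_mul : ∀ (U : X.Opens) (a b : Γ(X, U)), D U (a * b) = a • D U b + b • D U a
  D_map : ∀ {U V : X.Opens} (i : V ⟶ U) (a : Γ(X, U)),
    D V (X.presheaf.map i.op a) = M.presheaf.map i.op (D U a)
  D_push : ∀ (U : Y.Opens) (s : Γ(Y, U)), D (j ⁻¹ᵁ U) (j.app U s) = E U s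

include hEmul hEmap hEker in
theorem nonempty_desc : Nonempty (Desc j E) := by
  choose Dg hDmul hDext using exists_loc j E hEmul hEker
  have hnat : ∀ (i i' : IIdx j) (k : j ⁻¹ᵁ i'.U ⟶ j ⁻¹ᵁ i.U) (x : Γ(X, j ⁻¹ᵁ i.U)),
      M.presheaf.map k.op (Dg i x) = Dg i' (X.presheaf.map k.op x) := by
    intro i i' k x
    obtain ⟨s, rfl⟩ := app_surjective_of_le_coborder j i.hU i.le x
    obtain ⟨s', hs'⟩ := app_surjective_of_le_coborder j i'.hU i'.le
      (X.presheaf.map k.op (j.app i.U s))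
    rw [← hs', hDext, hDext]
    have key := loc_eq j E hEmap hEker i.U i'.U s s' (j ⁻¹ᵁ i'.U) k.le le_rfl ?_
    · refine key.trans ?_
      have : M.presheaf.map (homOfLE (le_refl (j ⁻¹ᵁ i'.U))).op = 𝟙 _ :=
        M.presheaf.map_id _
      rw [this]
      rfl
    · have b1 : j.appLE i'.U (j ⁻¹ᵁ i'.U) le_rfl s' = j.app i'.U s' := by
        rw [Scheme.Hom.appLE_eq_app]
      rw [b1, hs']
      rfl
  obtain ⟨G⟩ := nonempty_glued (fun i : IIdx j => j ⁻¹ᵁ i.U) Dg (isBasis_iidx j) hDmul hnat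
  refine ⟨⟨G.D, G.D_mul, G.D_map, ?_⟩⟩
  intro U s
  have H : ∀ y : (j ⁻¹ᵁ U : X.Opens), ∃ i : IIdx j, j y.1 ∈ i.U ∧ i.U ≤ U := by
    intro y
    exact exists_iidx j y.1 U y.2
  choose l hyl hlU using H
  refine sections_ext_of_cover M (fun y => j ⁻¹ᵁ (l y).U) (j ⁻¹ᵁ U)
    (fun y => j.preimage_mono (hlU y)) ?_ _ _ ?_
  · intro y hy
    exact Opens.mem_iSup.mpr ⟨⟨y, hy⟩, hyl _⟩
  intro y
  rw [← G.D_map]
  have e1 : X.presheaf.map (homOfLE (j.preimage_mono (hlU y))).op (j.app U s) =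
      j.app (l y).U (Y.presheaf.map (homOfLE (hlU y)).op s) :=
    (congr($(j.naturality (homOfLE (hlU y)).op) s)).symm
  rw [e1]
  have e2 := G.D_basis (l y) (j.app (l y).U (Y.presheaf.map (homOfLE (hlU y)).op s))
  refine e2.trans ?_
  rw [hDext, hEmap]

end Descent

section DerLevel

open Groth.Agent.Lib.Helper25.DiffCompat

variable {X Y Z : Scheme.{u}} (f : Y ⟶ Z) (j : X ⟶ Y) [IsImmersion j] {M : X.Modules}

theorem exists_der (D₁ : OmegaSh.Der f ((Scheme.Modules.pushforward j).obj M))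
    (hker : ∀ (U : Y.Opens), IsAffineOpen U → ∀ a : Γ(Y, U), j.app U a = 0 → D₁.app U a = 0) :
    ∃ D : OmegaSh.Der (j ≫ f) M, pushDer j (𝟙 Z) (Category.comp_id _) D = D₁ := by
  let E : ∀ U : Y.Opens, Γ(Y, U) →+ Γ(M, j ⁻¹ᵁ U) := fun U => D₁.app U
  have hmul : ∀ (U : Y.Opens) (a b : Γ(Y, U)),
      E U (a * b) = j.app U a • E U b + j.app U b • E U a := by
    intro U a b
    exact D₁.d_mul a b
  have hmap : ∀ {U U' : Y.Opens} (k : U' ⟶ U) (a : Γ(Y, U)),
      E U' (Y.presheaf.map k.op a) =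
        M.presheaf.map (homOfLE (j.preimage_mono k.le)).op (E U a) := by
    intro U U' k a
    exact D₁.d_map k.op a
  obtain ⟨G⟩ := nonempty_desc j (M := M) E hmul hmap hker
  refine ⟨{ d := fun {U} => G.D U.unop
            d_mul := fun {U} a b => G.D_mul U.unop a b
            d_map := fun {_ _} i a => G.D_map i.unop a
            d_app := ?_ }, ?_⟩
  · intro T t
    have h1 := G.D_push (f ⁻¹ᵁ T.unop) (f.app T.unop t)
    have h2 : D₁.app (f ⁻¹ᵁ T.unop) (f.app T.unop t) = 0 := D₁.d_app t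
    exact h1.trans h2
  · ext U s
    exact G.D_push U.unop s

theorem pushDer_injective (D D' : OmegaSh.Der (j ≫ f) M)
    (h : pushDer j (𝟙 Z) (Category.comp_id _) D = pushDer j (𝟙 Z) (Category.comp_id _) D') :
    D = D' := by
  have h' : ∀ (U : Y.Opens) (s : Γ(Y, U)),
      D.app (j ⁻¹ᵁ U) (j.app U s) = D'.app (j ⁻¹ᵁ U) (j.app U s) := by
    intro U s
    exact PresheafOfModules.Derivation.congr_d h (X := op U) s
  ext W s
  induction W using Opposite.rec with | _ W => ?_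
  show D.app W s = D'.app W s
  apply hcov (fun i : IIdx j => j ⁻¹ᵁ i.U) (isBasis_iidx j)
  intro i k
  rw [← app_map, ← app_map]
  obtain ⟨a, ha⟩ := app_surjective_of_le_coborder j i.hU i.le (X.presheaf.map k.op s)
  rw [← ha]
  exact h' i.U a

end DerLevel

section Final

open Groth.Agent.Lib.Helper25.DiffCompat Groth.Agent.Lib.QCoh

variable {X Y Z : Scheme.{u}} (f : Y ⟶ Z) (j : X ⟶ Y)

lemma eq_zero_of_sections {A : Y.Modules} {B : X.Modules}
    (α : (Scheme.Modules.pullback j).obj A ⟶ B)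
    (h : ∀ (U : Y.Opens) (s : Γ(A, U)), α.app (j ⁻¹ᵁ U) (OmegaSh.pullSect j A U s) = 0) :
    α = 0 := by
  apply ((Scheme.Modules.pullbackPushforwardAdjunction j).homEquiv A B).injective
  have h0 : (Scheme.Modules.pullbackPushforwardAdjunction j).homEquiv A B 0 = 0 := by
    have := (Scheme.Modules.pullbackPushforwardAdjunction j).homEquiv_naturality_left
      (0 : A ⟶ A) (0 : (Scheme.Modules.pullback j).obj A ⟶ B)
    rw [Functor.map_zero, zero_comp, zero_comp] at this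
    exact this
  rw [h0]
  apply Scheme.Modules.hom_ext
  intro U
  ext s
  exact (homEquiv_app j α U s).trans (h U s)

lemma idealSect_mem (W : Y.Opens) (s : Γ(ClSub.idealMod j.ker, W)) :
    j.app W (OmegaSh.idealSect j.ker W s) = 0 := by
  have h1 : (j.ker.subschemeι.app W).hom (OmegaSh.idealSect j.ker W s) = 0 :=
    (idealModΓEquiv j.ker W s).2
  have h2 := Scheme.Hom.congr_app j.toImage_imageι.symm W
  rw [Scheme.Hom.comp_app] at h2
  rw [h2]
  show X.presheaf.map _ (j.toImage.app _ ((j.ker.subschemeι.app W).hom _)) = 0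
  rw [h1, map_zero, map_zero]

variable [IsImmersion j] [QuasiCompact j]

omit [IsImmersion j] in
lemma exists_idealSect {U : Y.Opens} (hU : IsAffineOpen U) (a : Γ(Y, U)) (ha : j.app U a = 0) :
    ∃ s : Γ(ClSub.idealMod j.ker, U), OmegaSh.idealSect j.ker U s = a := by
  have h1 : a ∈ j.ker.ideal ⟨U, hU⟩ := by
    rw [Scheme.Hom.ker_apply]
    exact ha
  rw [← Scheme.IdealSheafData.ker_subschemeι_app] at h1
  refine ⟨(idealModΓEquiv j.ker U).symm ⟨a, h1⟩, ?_⟩
  exact congrArg Subtype.val ((idealModΓEquiv j.ker U).apply_symm_apply ⟨a, h1⟩)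

variable {ΩY : Y.Modules} (dY : OmegaSh.Der f ΩY)
    {ΩX : X.Modules} (dX : OmegaSh.Der (j ≫ f) ΩX)
    (φ : Omega.conormal j ⟶ (Scheme.Modules.pullback j).obj ΩY)
    (c : (Scheme.Modules.pullback j).obj ΩY ⟶ ΩX)

omit [IsImmersion j] [QuasiCompact j] in
lemma comp_eq_zero (hφ : OmegaSh.IsConormalDiff j dY φ) (hc : OmegaSh.IsDiffCompat j dY dX c) :
    φ ≫ c = 0 := by
  apply eq_zero_of_sections j (A := ClSub.idealMod j.ker)
  intro U s
  have e1 : (φ ≫ c).app (j ⁻¹ᵁ U) (OmegaSh.pullSect j (ClSub.idealMod j.ker) U s) =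
      c.app (j ⁻¹ᵁ U) (φ.app (j ⁻¹ᵁ U) (OmegaSh.conormalSect j U s)) := rfl
  refine e1.trans ((congrArg (c.app (j ⁻¹ᵁ U)) (hφ U s)).trans ((hc U _).trans ?_))
  rw [idealSect_mem, map_zero]

theorem exact_conormal (hY : OmegaSh.IsUniversal dY) (hX : OmegaSh.IsUniversal dX)
    (hφ : OmegaSh.IsConormalDiff j dY φ) (hc : OmegaSh.IsDiffCompat j dY dX c) :
    Epi c ∧ imageSubobject φ = kernelSubobject c := by
  have w : φ ≫ c = 0 := comp_eq_zero f j dY dX φ c hφ hc
  have hsq : j ≫ f = (j ≫ f) ≫ 𝟙 Z := (Category.comp_id _).symm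
  have hepi : Epi c := by
    constructor
    intro M β β' hβ
    have e1 := postcomp_homEquiv_comp f (j ≫ f) j (𝟙 Z) hsq dY dX c hc β
    have e2 := postcomp_homEquiv_comp f (j ≫ f) j (𝟙 Z) hsq dY dX c hc β'
    rw [hβ] at e1
    have e3 := pushDer_injective f j _ _ (e1.symm.trans e2)
    obtain ⟨α, -, huniq⟩ := hX M (dX.postcomp β'.val)
    exact (huniq β e3).trans (huniq β' rfl).symm
  have hlift : ∀ {M : X.Modules} (ψ : (Scheme.Modules.pullback j).obj ΩY ⟶ M), φ ≫ ψ = 0 →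
      ∃ β : ΩX ⟶ M, c ≫ β = ψ := by
    intro M ψ hψ
    obtain ⟨D, hD⟩ := exists_der f j
      (dY.postcomp ((Scheme.Modules.pullbackPushforwardAdjunction j).homEquiv ΩY M ψ).val) (by
        intro U hU a ha
        obtain ⟨s, rfl⟩ := exists_idealSect j hU a ha
        have e1 : OmegaSh.Der.app (dY.postcomp
            ((Scheme.Modules.pullbackPushforwardAdjunction j).homEquiv ΩY M ψ).val) U
              (OmegaSh.idealSect j.ker U s) =
            (((Scheme.Modules.pullbackPushforwardAdjunction j).homEquiv ΩY M ψ).val.app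
              (op U)).hom (dY.app U (OmegaSh.idealSect j.ker U s)) := rfl
        refine e1.trans ((homEquiv_app j ψ U _).trans ?_)
        refine (congrArg (ψ.app (j ⁻¹ᵁ U)) (hφ U s).symm).trans ?_
        exact congr(($hψ).app (j ⁻¹ᵁ U) (OmegaSh.conormalSect j U s)))
    obtain ⟨β, hβ, -⟩ := hX M D
    refine ⟨β, ?_⟩
    have e1 := postcomp_homEquiv_comp f (j ≫ f) j (𝟙 Z) hsq dY dX c hc β
    rw [hβ, hD] at e1
    obtain ⟨α, -, huniq⟩ := hY _
      (dY.postcomp ((Scheme.Modules.pullbackPushforwardAdjunction j).homEquiv ΩY M ψ).val)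
    have e2 := (huniq _ e1).trans (huniq _ rfl).symm
    exact ((Scheme.Modules.pullbackPushforwardAdjunction j).homEquiv ΩY M).injective e2
  refine ⟨hepi, ?_⟩
  have hcolim : IsColimit (CokernelCofork.ofπ c w) :=
    CokernelCofork.IsColimit.ofπ c w (fun ψ hψ => (hlift ψ hψ).choose)
      (fun ψ hψ => (hlift ψ hψ).choose_spec)
      (fun ψ hψ m hm => by
        rw [← cancel_epi c, hm, (hlift ψ hψ).choose_spec])
  have hex : (ShortComplex.mk φ c w).Exact := ShortComplex.exact_of_g_is_cokernel _ hcolim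
  exact (ShortComplex.exact_iff_image_eq_kernel _).mp hex

end Final

end Groth.Agent.Lib.Helper25.ImmDer
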