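import Mathlib
import Groth.Prelude.Def_Omega3
import Groth.Agent.Lib.Helper25.SkyMod
import Groth.Agent.Lib.Helper25.DiffCompat
import Groth.Agent.Lib.Helper25.EtaleDer
import Groth.Agent.Lib.Helper25.ImmDer
import Groth.Agent.Lib.QCoh.OmegaS2

set_option autoImplicit false
set_option linter.unusedSectionVars false
universe u

namespace Groth.Agent.Lib.Helper25.SplitConormal

open CategoryTheory CategoryTheory.Limits AlgebraicGeometry TopologicalSpace Opposite
open Groth.Agent.Lib.Helper25.SkyMod Groth.Agent.Lib.Helper25.EtaleDer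
open Groth.Agent.Lib.Helper25.ImmDer Groth.Agent.Lib.Helper25.DiffCompat Groth.Agent.Lib.QCoh

section IdealSections

variable {Z X : Scheme.{u}} (i : Z ⟶ X) [QuasiCompact i]

lemma subschemeι_app_eq_zero (W : X.Opens) (b : Γ(X, W)) (hb : i.app W b = 0) :
    i.ker.subschemeι.app W b = 0 := by
  have H : ∀ y : (i.ker.subschemeι ⁻¹ᵁ W : i.ker.subscheme.Opens),
      ∃ V : X.Opens, IsAffineOpen V ∧ i.ker.subschemeι y.1 ∈ V ∧ V ≤ W := by
    intro y
    obtain ⟨_, ⟨V, hV : IsAffineOpen V, rfl⟩, hyV, hVW⟩ :=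
      (X.isBasis_affineOpens).exists_subset_of_mem_open y.2 W.2
    exact ⟨V, hV, hyV, hVW⟩
  choose V hV hyV hVW using H
  refine TopCat.Sheaf.eq_of_locally_eq' i.ker.subscheme.sheaf
    (fun y => i.ker.subschemeι ⁻¹ᵁ V y) (i.ker.subschemeι ⁻¹ᵁ W)
    (fun y => homOfLE (i.ker.subschemeι.preimage_mono (hVW y))) ?_ _ _ ?_
  · intro y hy
    exact Opens.mem_iSup.mpr ⟨⟨y, hy⟩, hyV _⟩
  intro y
  have n1 := congr($(i.ker.subschemeι.naturality (homOfLE (hVW y)).op) b)
  have n2 := congr($(i.naturality (homOfLE (hVW y)).op) b)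
  have h1 : i.app (V y) (X.presheaf.map (homOfLE (hVW y)).op b) = 0 := by
    refine n2.trans ?_
    show Z.presheaf.map _ (i.app W b) = 0
    rw [hb, map_zero]
  have h2 : X.presheaf.map (homOfLE (hVW y)).op b ∈ i.ker.ideal ⟨V y, hV y⟩ := by
    rw [Scheme.Hom.ker_apply]
    exact h1
  rw [← Scheme.IdealSheafData.ker_subschemeι_app] at h2
  have h3 : i.ker.subschemeι.app (V y) (X.presheaf.map (homOfLE (hVW y)).op b) = 0 := h2
  refine (n1.symm.trans h3).trans ?_
  exact (map_zero _).symm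

lemma exists_idealSect' (W : X.Opens) (b : Γ(X, W)) (hb : i.app W b = 0) :
    ∃ s : Γ(ClSub.idealMod i.ker, W), OmegaSh.idealSect i.ker W s = b := by
  have h1 : b ∈ RingHom.ker (i.ker.subschemeι.app W).hom := subschemeι_app_eq_zero i W b hb
  refine ⟨(idealModΓEquiv i.ker W).symm ⟨b, h1⟩, ?_⟩
  exact congrArg Subtype.val ((idealModΓEquiv i.ker W).apply_symm_apply ⟨b, h1⟩)

omit [QuasiCompact i] in
lemma idealSect_injective (W : X.Opens) : Function.Injective (OmegaSh.idealSect i.ker W) := by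
  intro s t h
  apply (idealModΓEquiv i.ker W).injective
  exact Subtype.ext h

omit [QuasiCompact i] in
lemma idealSect_smul (W : X.Opens) (x : Γ(X, W)) (s : Γ(ClSub.idealMod i.ker, W)) :
    OmegaSh.idealSect i.ker W (x • s) = x * OmegaSh.idealSect i.ker W s :=
  congrArg Subtype.val (map_smul (idealModΓEquiv i.ker W) x s)

omit [QuasiCompact i] in
lemma idealSect_map {W W' : X.Opens} (k : W' ⟶ W) (s : Γ(ClSub.idealMod i.ker, W)) :
    OmegaSh.idealSect i.ker W' ((ClSub.idealMod i.ker).presheaf.map k.op s) =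
      X.presheaf.map k.op (OmegaSh.idealSect i.ker W s) :=
  congr($((ClSub.idealModι i.ker).mapPresheaf.naturality k.op) s)

end IdealSections

section Constr

variable {Z X : Scheme.{u}} (i : Z ⟶ X) [QuasiCompact i] (e : X ⟶ X) (he : i ≫ e = i)

lemma appLE_of_eq {a b : Z ⟶ X} (hab : a = b) (U : X.Opens) (V : Z.Opens) (h : V ≤ a ⁻¹ᵁ U) :
    a.appLE U V h = b.appLE U V (hab ▸ h) := by
  subst hab
  rfl

/-- the open `U ⊓ e⁻¹U` -/
def Wop (U : X.Opens) : X.Opens := U ⊓ e ⁻¹ᵁ U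

lemma Wop_le (U : X.Opens) : Wop e U ≤ U := inf_le_left

lemma Wop_le' (U : X.Opens) : Wop e U ≤ e ⁻¹ᵁ U := inf_le_right

lemma Wop_mono {U U' : X.Opens} (h : U' ≤ U) : Wop e U' ≤ Wop e U :=
  inf_le_inf h (e.preimage_mono h)

include he in
lemma le_Wop (U : X.Opens) : i ⁻¹ᵁ U ≤ i ⁻¹ᵁ (Wop e U) := by
  intro z hz
  refine ⟨hz, ?_⟩
  show e (i z) ∈ U
  have h1 : e (i z) = i z := congr($(he) z)
  rw [h1]
  exact hz

/-- `a ↦ a|_W - e^♯ a|_W` -/
noncomputable def bmap (U : X.Opens) : Γ(X, U) →+ Γ(X, Wop e U) :=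
  (X.presheaf.map (homOfLE (Wop_le e U)).op).hom.toAddMonoidHom -
    (e.appLE U (Wop e U) (Wop_le' e U)).hom.toAddMonoidHom

lemma bmap_apply (U : X.Opens) (a : Γ(X, U)) :
    bmap e U a = X.presheaf.map (homOfLE (Wop_le e U)).op a - e.appLE U (Wop e U) (Wop_le' e U) a :=
  rfl

include he in
lemma bmap_ker (U : X.Opens) (a : Γ(X, U)) : i.app (Wop e U) (bmap e U a) = 0 := by
  rw [bmap_apply, map_sub, sub_eq_zero]
  have h1 := congr($(i.map_appLE (V := i ⁻¹ᵁ (Wop e U)) (U := Wop e U) le_rfl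
    (homOfLE (Wop_le e U)).op) a)
  have h2 := congr($(Scheme.Hom.appLE_comp_appLE i e U (Wop e U) (i ⁻¹ᵁ (Wop e U))
    (Wop_le' e U) le_rfl) a)
  have h3 := appLE_of_eq he U (i ⁻¹ᵁ (Wop e U))
    (le_rfl.trans ((Opens.map i.base).map (homOfLE (Wop_le' e U))).le)
  rw [Scheme.Hom.app_eq_appLE]
  refine h1.trans ?_
  refine Eq.trans ?_ h2.symm
  rw [h3]

lemma bmap_mul (U : X.Opens) (a a' : Γ(X, U)) :
    bmap e U (a * a') = X.presheaf.map (homOfLE (Wop_le e U)).op a * bmap e U a' +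
      e.appLE U (Wop e U) (Wop_le' e U) a' * bmap e U a := by
  simp only [bmap_apply, map_mul]
  ring

lemma bmap_map {U U' : X.Opens} (k : U' ⟶ U) (a : Γ(X, U)) :
    bmap e U' (X.presheaf.map k.op a) =
      X.presheaf.map (homOfLE (Wop_mono e k.le)).op (bmap e U a) := by
  rw [bmap_apply, bmap_apply, map_sub]
  congr 1
  · rw [← CommRingCat.comp_apply, ← CommRingCat.comp_apply, ← Functor.map_comp,
      ← Functor.map_comp]
    rfl
  · have h1 := congr($(e.map_appLE (Wop_le' e U') k.op) a)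
    have h2 := congr($(e.appLE_map (Wop_le' e U) (homOfLE (Wop_mono e k.le)).op) a)
    exact h1.trans h2.symm

/-- the section of the ideal over `W` with value `a|_W - e^♯ a|_W` -/
noncomputable def sec (U : X.Opens) (a : Γ(X, U)) : Γ(ClSub.idealMod i.ker, Wop e U) :=
  (exists_idealSect' i _ _ (bmap_ker i e he U a)).choose

lemma sec_spec (U : X.Opens) (a : Γ(X, U)) :
    OmegaSh.idealSect i.ker (Wop e U) (sec i e he U a) = bmap e U a :=
  (exists_idealSect' i _ _ (bmap_ker i e he U a)).choose_spec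

lemma sec_add (U : X.Opens) (a a' : Γ(X, U)) :
    sec i e he U (a + a') = sec i e he U a + sec i e he U a' := by
  apply idealSect_injective
  rw [map_add, sec_spec, sec_spec, sec_spec, map_add]

lemma sec_mul (U : X.Opens) (a a' : Γ(X, U)) :
    sec i e he U (a * a') = X.presheaf.map (homOfLE (Wop_le e U)).op a • sec i e he U a' +
      e.appLE U (Wop e U) (Wop_le' e U) a' • sec i e he U a := by
  apply idealSect_injective
  rw [map_add, idealSect_smul, idealSect_smul, sec_spec, sec_spec, sec_spec, bmap_mul]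

lemma sec_map {U U' : X.Opens} (k : U' ⟶ U) (a : Γ(X, U)) :
    sec i e he U' (X.presheaf.map k.op a) =
      (ClSub.idealMod i.ker).presheaf.map (homOfLE (Wop_mono e k.le)).op (sec i e he U a) := by
  apply idealSect_injective
  rw [idealSect_map, sec_spec, sec_spec, bmap_map]

lemma sec_eq_zero (U : X.Opens) (a : Γ(X, U)) (h : bmap e U a = 0) : sec i e he U a = 0 := by
  apply idealSect_injective
  rw [sec_spec, h, map_zero]

/-- the conormal module, reducibly -/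
noncomputable abbrev Nmod : Z.Modules := (Scheme.Modules.pullback i).obj (ClSub.idealMod i.ker)

/-- the derivation `a ↦ class of (a - e^♯ a)` on sections -/
noncomputable def Dfun (U : X.Opens) (a : Γ(X, U)) : Γ(Nmod i, i ⁻¹ᵁ U) :=
  (Nmod i).presheaf.map (homOfLE (le_Wop i e he U)).op
    (OmegaSh.pullSect i (ClSub.idealMod i.ker) (Wop e U) (sec i e he U a))

lemma Dfun_add (U : X.Opens) (a a' : Γ(X, U)) :
    Dfun i e he U (a + a') = Dfun i e he U a + Dfun i e he U a' := by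
  unfold Dfun
  rw [sec_add, map_add, map_add]

lemma Dfun_eq_zero (U : X.Opens) (a : Γ(X, U)) (h : bmap e U a = 0) : Dfun i e he U a = 0 := by
  unfold Dfun
  rw [sec_eq_zero i e he U a h, map_zero, map_zero]

omit [QuasiCompact i] in
lemma res_res (N : Z.Modules) {A B C : Z.Opens} (h₁ : B ≤ A) (h₂ : C ≤ B) (m : Γ(N, A)) :
    N.presheaf.map (homOfLE h₂).op (N.presheaf.map (homOfLE h₁).op m) =
      N.presheaf.map (homOfLE (h₂.trans h₁)).op m := by
  rw [← ConcreteCategory.comp_apply, ← Functor.map_comp]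
  rfl

lemma res_app_ρ₁ (U : X.Opens) (a : Γ(X, U)) :
    Z.presheaf.map (homOfLE (le_Wop i e he U)).op
      (i.app (Wop e U) (X.presheaf.map (homOfLE (Wop_le e U)).op a)) = i.app U a := by
  have h0 : i.app (Wop e U) = i.appLE (Wop e U) (i ⁻¹ᵁ (Wop e U)) le_rfl :=
    Scheme.Hom.app_eq_appLE i
  have h0' : i.app U = i.appLE U (i ⁻¹ᵁ U) le_rfl := Scheme.Hom.app_eq_appLE i
  have h1 := congr($(i.map_appLE (V := i ⁻¹ᵁ (Wop e U)) (U := Wop e U) le_rfl
    (homOfLE (Wop_le e U)).op) a)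
  have h2 := congr($(i.appLE_map (V := i ⁻¹ᵁ (Wop e U)) (U := U)
    (i.preimage_mono (Wop_le e U)) (homOfLE (le_Wop i e he U)).op) a)
  rw [h0, h0']
  exact (congrArg (Z.presheaf.map (homOfLE (le_Wop i e he U)).op) h1).trans h2

lemma res_app_ρ₂ (U : X.Opens) (a : Γ(X, U)) :
    Z.presheaf.map (homOfLE (le_Wop i e he U)).op
      (i.app (Wop e U) (e.appLE U (Wop e U) (Wop_le' e U) a)) = i.app U a := by
  have h0 : i.app (Wop e U) = i.appLE (Wop e U) (i ⁻¹ᵁ (Wop e U)) le_rfl :=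
    Scheme.Hom.app_eq_appLE i
  have h0' : i.app U = i.appLE U (i ⁻¹ᵁ U) le_rfl := Scheme.Hom.app_eq_appLE i
  have h1 := congr($(Scheme.Hom.appLE_comp_appLE i e U (Wop e U) (i ⁻¹ᵁ (Wop e U))
    (Wop_le' e U) le_rfl) a)
  have h3 := appLE_of_eq he U (i ⁻¹ᵁ (Wop e U))
    (le_rfl.trans ((Opens.map i.base).map (homOfLE (Wop_le' e U))).le)
  rw [h3] at h1
  have h2 := congr($(i.appLE_map (V := i ⁻¹ᵁ (Wop e U)) (U := U)
    (i.preimage_mono (Wop_le e U)) (homOfLE (le_Wop i e he U)).op) a)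
  rw [h0, h0']
  exact (congrArg (Z.presheaf.map (homOfLE (le_Wop i e he U)).op) h1).trans h2

lemma pullSect_smul (W : X.Opens) (x : Γ(X, W)) (s : Γ(ClSub.idealMod i.ker, W)) :
    OmegaSh.pullSect i (ClSub.idealMod i.ker) W (x • s) =
      i.app W x • OmegaSh.pullSect i (ClSub.idealMod i.ker) W s :=
  Scheme.Modules.Hom.app_smul
    ((Scheme.Modules.pullbackPushforwardAdjunction i).unit.app (ClSub.idealMod i.ker)) x s

lemma pullSect_map {W W' : X.Opens} (k : W' ⟶ W) (s : Γ(ClSub.idealMod i.ker, W)) :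
    OmegaSh.pullSect i (ClSub.idealMod i.ker) W' ((ClSub.idealMod i.ker).presheaf.map k.op s) =
      (Nmod i).presheaf.map (homOfLE (i.preimage_mono k.le)).op
        (OmegaSh.pullSect i (ClSub.idealMod i.ker) W s) :=
  congr($(((Scheme.Modules.pullbackPushforwardAdjunction i).unit.app
    (ClSub.idealMod i.ker)).mapPresheaf.naturality k.op) s)

lemma Dfun_mul (U : X.Opens) (a a' : Γ(X, U)) :
    Dfun i e he U (a * a') = i.app U a • Dfun i e he U a' + i.app U a' • Dfun i e he U a := by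
  unfold Dfun
  rw [sec_mul, map_add, pullSect_smul, pullSect_smul, map_add, Scheme.Modules.map_smul,
    Scheme.Modules.map_smul, res_app_ρ₁ i e he, res_app_ρ₂ i e he]

lemma Dfun_map {U U' : X.Opens} (k : U' ⟶ U) (a : Γ(X, U)) :
    Dfun i e he U' (X.presheaf.map k.op a) =
      (Nmod i).presheaf.map (homOfLE (i.preimage_mono k.le)).op (Dfun i e he U a) := by
  unfold Dfun
  rw [sec_map, pullSect_map, res_res, res_res]

lemma Dfun_ideal (he2 : ∀ (U : X.Opens) (b : Γ(X, U)), i.app U b = 0 → e.app U b = 0)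
    (U : X.Opens) (s : Γ(ClSub.idealMod i.ker, U)) :
    Dfun i e he U (OmegaSh.idealSect i.ker U s) =
      OmegaSh.pullSect i (ClSub.idealMod i.ker) U s := by
  have h1 : sec i e he U (OmegaSh.idealSect i.ker U s) =
      (ClSub.idealMod i.ker).presheaf.map (homOfLE (Wop_le e U)).op s := by
    apply idealSect_injective
    rw [sec_spec, idealSect_map, bmap_apply]
    have h2 : e.appLE U (Wop e U) (Wop_le' e U) (OmegaSh.idealSect i.ker U s) = 0 := by
      show X.presheaf.map _ (e.app U (OmegaSh.idealSect i.ker U s)) = 0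
      rw [he2 U _ (idealSect_mem i U s), map_zero]
    rw [h2, sub_zero]
  unfold Dfun
  rw [h1, pullSect_map, ← ConcreteCategory.comp_apply, ← Functor.map_comp]
  have h3 : (Nmod i).presheaf.map (𝟙 (op (i ⁻¹ᵁ U))) = 𝟙 _ := (Nmod i).presheaf.map_id _
  exact congr($h3 (OmegaSh.pullSect i (ClSub.idealMod i.ker) U s))

end Constr

section Final

variable {Z X S : Scheme.{u}} (f : X ⟶ S) (i : Z ⟶ X) [QuasiCompact i]
    (g : X ⟶ Z) (hgi : i ≫ g = 𝟙 Z) (hgS : g ≫ i ≫ f = f)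

include hgi in
lemma he_of : i ≫ (g ≫ i) = i := by rw [← Category.assoc, hgi, Category.id_comp]

include hgS in
lemma bmap_app_eq_zero (T : S.Opens) (t : Γ(S, T)) :
    bmap (g ≫ i) (f ⁻¹ᵁ T) (f.app T t) = 0 := by
  rw [bmap_apply, sub_eq_zero]
  have hef : (g ≫ i) ≫ f = f := by rw [Category.assoc]; exact hgS
  have h1 := congr($(Scheme.Hom.appLE_comp_appLE (g ≫ i) f T (f ⁻¹ᵁ T) (Wop (g ≫ i) (f ⁻¹ᵁ T))
    le_rfl (Wop_le' (g ≫ i) (f ⁻¹ᵁ T))) t)
  have h3 := appLE_of_eq hef T (Wop (g ≫ i) (f ⁻¹ᵁ T))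
    ((Wop_le' (g ≫ i) (f ⁻¹ᵁ T)).trans ((Opens.map (g ≫ i).base).map (homOfLE le_rfl)).le)
  rw [h3] at h1
  have h0 : f.app T = f.appLE T (f ⁻¹ᵁ T) le_rfl := Scheme.Hom.app_eq_appLE f
  rw [h0]
  have h4 := congr($(f.appLE_map (V := f ⁻¹ᵁ T) (U := T) le_rfl
    (homOfLE (Wop_le (g ≫ i) (f ⁻¹ᵁ T))).op) t)
  exact h4.trans h1.symm

/-- the derivation `O_X → i_*(i^*𝓘)`, `a ↦ class of a - (ig)^♯ a` -/
noncomputable def splitDer : OmegaSh.Der f ((Scheme.Modules.pushforward i).obj (Nmod i)) where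
  d {U} :=
    { toFun := Dfun i (g ≫ i) (he_of i g hgi) U.unop
      map_zero' := Dfun_eq_zero i (g ≫ i) (he_of i g hgi) U.unop 0 (map_zero _)
      map_add' := Dfun_add i (g ≫ i) (he_of i g hgi) U.unop }
  d_mul {U} a b := Dfun_mul i (g ≫ i) (he_of i g hgi) U.unop a b
  d_map {_ _} k a := Dfun_map i (g ≫ i) (he_of i g hgi) k.unop a
  d_app {T} t := Dfun_eq_zero i (g ≫ i) (he_of i g hgi) _ _ (bmap_app_eq_zero f i g hgS T.unop t)

lemma splitDer_ideal (U : X.Opens) (s : Γ(ClSub.idealMod i.ker, U)) :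
    (splitDer f i g hgi hgS).app U (OmegaSh.idealSect i.ker U s) =
      OmegaSh.pullSect i (ClSub.idealMod i.ker) U s := by
  refine Dfun_ideal i (g ≫ i) (he_of i g hgi) ?_ U s
  intro U b hb
  show g.app _ (i.app U b) = 0
  rw [hb, map_zero]

omit [QuasiCompact i] in
lemma eq_of_sections {A : X.Modules} {B : Z.Modules}
    (α β : (Scheme.Modules.pullback i).obj A ⟶ B)
    (h : ∀ (U : X.Opens) (s : Γ(A, U)), α.app (i ⁻¹ᵁ U) (OmegaSh.pullSect i A U s) =
      β.app (i ⁻¹ᵁ U) (OmegaSh.pullSect i A U s)) : α = β := by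
  rw [← sub_eq_zero]
  apply eq_zero_of_sections i
  intro U s
  have : (α - β).app (i ⁻¹ᵁ U) (OmegaSh.pullSect i A U s) =
      α.app (i ⁻¹ᵁ U) (OmegaSh.pullSect i A U s) - β.app (i ⁻¹ᵁ U) (OmegaSh.pullSect i A U s) := rfl
  rw [this, h, sub_self]

variable [IsImmersion i]

include hgi hgS in
theorem split_conormal {ΩX : X.Modules} (dX : OmegaSh.Der f ΩX) (hX : OmegaSh.IsUniversal dX)
    {ΩZ : Z.Modules} (dZ : OmegaSh.Der (i ≫ f) ΩZ) (hZ : OmegaSh.IsUniversal dZ)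
    (φ : Nmod i ⟶ (Scheme.Modules.pullback i).obj ΩX)
    (hφ : OmegaSh.IsConormalDiff i dX φ)
    (c : (Scheme.Modules.pullback i).obj ΩX ⟶ ΩZ) (hc : OmegaSh.IsDiffCompat i dX dZ c) :
    ∃ w : φ ≫ c = 0, (ShortComplex.mk φ c w).Exact ∧
      (∃ r : (Scheme.Modules.pullback i).obj ΩX ⟶ Nmod i, φ ≫ r = 𝟙 _) ∧
      ∃ σ : ΩZ ⟶ (Scheme.Modules.pullback i).obj ΩX, σ ≫ c = 𝟙 _ := by
  obtain ⟨hepi, himg⟩ := exact_conormal f i dX dZ φ c hX hZ hφ hc
  have w : φ ≫ c = 0 := comp_eq_zero f i dX dZ φ c hφ hc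
  have hex : (ShortComplex.mk φ c w).Exact := (ShortComplex.exact_iff_image_eq_kernel _).mpr himg
  obtain ⟨α, hα, -⟩ := hX _ (splitDer f i g hgi hgS)
  let r : (Scheme.Modules.pullback i).obj ΩX ⟶ Nmod i :=
    ((Scheme.Modules.pullbackPushforwardAdjunction i).homEquiv ΩX (Nmod i)).symm α
  have hr : φ ≫ r = 𝟙 (Nmod i) := by
    apply eq_of_sections i
    intro U s
    have e1 : (φ ≫ r).app (i ⁻¹ᵁ U) (OmegaSh.pullSect i (ClSub.idealMod i.ker) U s) =
        r.app (i ⁻¹ᵁ U) (φ.app (i ⁻¹ᵁ U) (OmegaSh.conormalSect i U s)) := rfl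
    refine e1.trans ((congrArg (r.app (i ⁻¹ᵁ U)) (hφ U s)).trans ?_)
    refine (homEquiv_app i r U _).symm.trans ?_
    have e2 : (Scheme.Modules.pullbackPushforwardAdjunction i).homEquiv ΩX (Nmod i) r = α :=
      Equiv.apply_symm_apply _ _
    rw [e2]
    have e3 := PresheafOfModules.Derivation.congr_d hα (X := op U) (OmegaSh.idealSect i.ker U s)
    refine Eq.trans ?_ (e3.trans (splitDer_ideal f i g hgi hgS U s))
    rfl
  refine ⟨w, hex, ⟨r, hr⟩, ?_⟩
  have hcok : IsColimit (CokernelCofork.ofπ c w) := hex.gIsCokernel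
  have hp : φ ≫ (𝟙 _ - r ≫ φ) = 0 := by
    rw [Preadditive.comp_sub, Category.comp_id, ← Category.assoc]
    have : φ ≫ r = 𝟙 _ := hr
    rw [this, Category.id_comp, sub_self]
  refine ⟨hcok.desc (CokernelCofork.ofπ (𝟙 _ - r ≫ φ) hp), ?_⟩
  have hσ : c ≫ hcok.desc (CokernelCofork.ofπ (𝟙 _ - r ≫ φ) hp) = 𝟙 _ - r ≫ φ :=
    hcok.fac _ WalkingParallelPair.one
  rw [← cancel_epi c, ← Category.assoc, hσ, Preadditive.sub_comp, Category.id_comp,
    Category.assoc, w, comp_zero, sub_zero, Category.comp_id]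

end Final

end Groth.Agent.Lib.Helper25.SplitConormal
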