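import Mathlib
import Groth.Prelude.Def_Omega3
import Groth.Agent.Lib.Helper25.SkyMod
import Groth.Agent.Lib.Helper25.DiffCompat
import Groth.Agent.Lib.Helper25.DiffSeq
import Groth.Agent.Lib.Helper25.EtaleDer
import Groth.Agent.Lib.Helper25.ImmDer
import Groth.Agent.Lib.Helper25.SplitConormal
import Groth.Agent.Lib.QCoh.OmegaS2

set_option autoImplicit false
set_option linter.unusedSectionVars false
universe u

namespace Groth.Agent.Lib.Helper25.ConormalSeq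

open CategoryTheory CategoryTheory.Limits AlgebraicGeometry TopologicalSpace Opposite
open Groth.Agent.Lib.Helper25.SkyMod Groth.Agent.Lib.Helper25.EtaleDer
open Groth.Agent.Lib.Helper25.ImmDer Groth.Agent.Lib.Helper25.DiffCompat Groth.Agent.Lib.QCoh
open Groth.Agent.Lib.Helper25.SplitConormal Groth.Agent.Lib.Helper25.DiffSeq

section GlueLin

variable {Y : Scheme.{u}} {A F : Y.Modules} {ι : Type*} (B : ι → Y.Opens)
  (hB : Opens.IsBasis (Set.range B))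
  (Lg : ∀ i, Γ(A, B i) →+ Γ(F, B i))

include hB in
theorem exists_glue_lin
    (hlin : ∀ i (x : Γ(Y, B i)) (m : Γ(A, B i)), Lg i (x • m) = x • Lg i m)
    (hnat : ∀ (i j : ι) (k : B j ⟶ B i) (m : Γ(A, B i)),
      F.presheaf.map k.op (Lg i m) = Lg j (A.presheaf.map k.op m)) :
    ∃ L : A ⟶ F, ∀ i m, L.app (B i) m = Lg i m := by
  let τ : (inducedFunctor B).op ⋙ A.presheaf ⟶ (inducedFunctor B).op ⋙ F.presheaf :=
    { app := fun g => AddCommGrpCat.ofHom (Lg g.unop)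
      naturality := fun g g' i => by
        ext m
        exact (hnat g.unop g'.unop i.unop.hom m).symm }
  let φ : A.presheaf ⟶ F.presheaf :=
    TopCat.Sheaf.restrictHomEquivHom A.presheaf ⟨F.presheaf, F.isSheaf⟩ hB τ
  have hφ : ∀ (g : ι) (m : Γ(A, B g)), φ.app (op (B g)) m = Lg g m := by
    intro g m
    have := TopCat.Sheaf.extend_hom_app A.presheaf ⟨F.presheaf, F.isSheaf⟩ hB τ g
    exact congr($this m)
  have hmap : ∀ {U V : Y.Opens} (i : V ⟶ U) (m : Γ(A, U)),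
      φ.app (op V) (A.presheaf.map i.op m) = F.presheaf.map i.op (φ.app (op U) m) := by
    intro U V i m
    exact congr($(φ.naturality i.op) m)
  have hsm : ∀ (U : Y.Opens) (x : Γ(Y, U)) (m : Γ(A, U)),
      φ.app (op U) (x • m) = x • φ.app (op U) m := by
    intro U x m
    apply hcov B hB
    intro g i
    rw [← hmap, Scheme.Modules.map_smul, hφ, hlin, Scheme.Modules.map_smul, ← hmap, hφ]
  refine ⟨⟨PresheafOfModules.homMk
    { app := fun U => φ.app U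
      naturality := fun U V i => φ.naturality i }
    (fun U r s => hsm U.unop r s)⟩, ?_⟩
  intro i m
  exact hφ i m

end GlueLin

section Desc

variable {Y' Y X : Scheme.{u}} (f : Y ⟶ X) [IsImmersion f] [QuasiCompact f]
  (j : Y' ⟶ Y) [IsImmersion j] [QuasiCompact j] {M : Y'.Modules}
  (θ : ClSub.idealMod (j ≫ f).ker ⟶ (Scheme.Modules.pushforward (j ≫ f)).obj M)
  (hkill : ∀ (U : X.Opens), IsAffineOpen U → ∀ s : Γ(ClSub.idealMod (j ≫ f).ker, U),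
    f.app U (OmegaSh.idealSect (j ≫ f).ker U s) = 0 → θ.app U s = 0)

/-- value of `θ` as a section of `M` -/
noncomputable def θv (U : X.Opens) : Γ(ClSub.idealMod (j ≫ f).ker, U) →+ Γ(M, j ⁻¹ᵁ (f ⁻¹ᵁ U)) :=
  (θ.app U).hom

lemma θv_map {U U' : X.Opens} (k : U' ⟶ U) (s : Γ(ClSub.idealMod (j ≫ f).ker, U)) :
    θv f j θ U' ((ClSub.idealMod (j ≫ f).ker).presheaf.map k.op s) =
      M.presheaf.map (homOfLE (j.preimage_mono (f.preimage_mono k.le))).op (θv f j θ U s) :=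
  congr($(θ.mapPresheaf.naturality k.op) s)

lemma θv_smul (U : X.Opens) (x : Γ(X, U)) (s : Γ(ClSub.idealMod (j ≫ f).ker, U)) :
    θv f j θ U (x • s) = j.app (f ⁻¹ᵁ U) (f.app U x) • θv f j θ U s :=
  Scheme.Modules.Hom.app_smul θ x s

include hkill in
lemma loc_eq (U U' : X.Opens) (s : Γ(ClSub.idealMod (j ≫ f).ker, U))
    (s' : Γ(ClSub.idealMod (j ≫ f).ker, U')) (V : Y.Opens) (hV : V ≤ f ⁻¹ᵁ U)
    (hV' : V ≤ f ⁻¹ᵁ U')
    (h : f.appLE U V hV (OmegaSh.idealSect (j ≫ f).ker U s) =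
      f.appLE U' V hV' (OmegaSh.idealSect (j ≫ f).ker U' s')) :
    M.presheaf.map (homOfLE (j.preimage_mono hV)).op (θv f j θ U s) =
      M.presheaf.map (homOfLE (j.preimage_mono hV')).op (θv f j θ U' s') := by
  obtain ⟨W₀, rfl⟩ := exists_opens_eq f V
  have H : ∀ y : (j ⁻¹ᵁ (f ⁻¹ᵁ W₀) : Y'.Opens),
      ∃ i : IIdx f, f (j y.1) ∈ i.U ∧ i.U ≤ W₀ ⊓ U ⊓ U' := by
    intro y
    exact exists_iidx f (j y.1) (W₀ ⊓ U ⊓ U') ⟨⟨y.2, hV y.2⟩, hV' y.2⟩
  choose l hyl hl using H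
  have hlW : ∀ y, (l y).U ≤ W₀ := fun y => (hl y).trans (inf_le_left.trans inf_le_left)
  have hlU : ∀ y, (l y).U ≤ U := fun y => (hl y).trans (inf_le_left.trans inf_le_right)
  have hlU' : ∀ y, (l y).U ≤ U' := fun y => (hl y).trans inf_le_right
  refine sections_ext_of_cover M (fun y => j ⁻¹ᵁ (f ⁻¹ᵁ (l y).U)) (j ⁻¹ᵁ (f ⁻¹ᵁ W₀))
    (fun y => j.preimage_mono (f.preimage_mono (hlW y))) ?_ _ _ ?_
  · intro y hy
    exact Opens.mem_iSup.mpr ⟨⟨y, hy⟩, hyl _⟩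
  intro y
  have e1 : M.presheaf.map (homOfLE (j.preimage_mono (f.preimage_mono (hlW y)))).op
      (M.presheaf.map (homOfLE (j.preimage_mono hV)).op (θv f j θ U s)) =
      θv f j θ (l y).U ((ClSub.idealMod (j ≫ f).ker).presheaf.map (homOfLE (hlU y)).op s) := by
    rw [θv_map, res_res]
  have e2 : M.presheaf.map (homOfLE (j.preimage_mono (f.preimage_mono (hlW y)))).op
      (M.presheaf.map (homOfLE (j.preimage_mono hV')).op (θv f j θ U' s')) =
      θv f j θ (l y).U ((ClSub.idealMod (j ≫ f).ker).presheaf.map (homOfLE (hlU' y)).op s') := by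
    rw [θv_map, res_res]
  rw [e1, e2]
  have e3 : θv f j θ (l y).U ((ClSub.idealMod (j ≫ f).ker).presheaf.map (homOfLE (hlU y)).op s -
      (ClSub.idealMod (j ≫ f).ker).presheaf.map (homOfLE (hlU' y)).op s') = 0 := by
    apply hkill _ (l y).hU
    rw [map_sub, map_sub, sub_eq_zero, idealSect_map, idealSect_map]
    have a1 : f.app (l y).U (X.presheaf.map (homOfLE (hlU y)).op
        (OmegaSh.idealSect (j ≫ f).ker U s)) =
        Y.presheaf.map (homOfLE (f.preimage_mono (hlW y))).op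
          (f.appLE U (f ⁻¹ᵁ W₀) hV (OmegaSh.idealSect (j ≫ f).ker U s)) := by
      have n1 := congr($(f.map_appLE (V := f ⁻¹ᵁ (l y).U) (U := (l y).U) le_rfl
        (homOfLE (hlU y)).op) (OmegaSh.idealSect (j ≫ f).ker U s))
      have n2 := congr($(f.appLE_map hV (homOfLE (f.preimage_mono (hlW y))).op)
        (OmegaSh.idealSect (j ≫ f).ker U s))
      rw [Scheme.Hom.app_eq_appLE]
      exact n1.trans n2.symm
    have a2 : f.app (l y).U (X.presheaf.map (homOfLE (hlU' y)).op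
        (OmegaSh.idealSect (j ≫ f).ker U' s')) =
        Y.presheaf.map (homOfLE (f.preimage_mono (hlW y))).op
          (f.appLE U' (f ⁻¹ᵁ W₀) hV' (OmegaSh.idealSect (j ≫ f).ker U' s')) := by
      have n1 := congr($(f.map_appLE (V := f ⁻¹ᵁ (l y).U) (U := (l y).U) le_rfl
        (homOfLE (hlU' y)).op) (OmegaSh.idealSect (j ≫ f).ker U' s'))
      have n2 := congr($(f.appLE_map hV' (homOfLE (f.preimage_mono (hlW y))).op)
        (OmegaSh.idealSect (j ≫ f).ker U' s'))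
      rw [Scheme.Hom.app_eq_appLE]
      exact n1.trans n2.symm
    rw [a1, a2, h]
  rw [map_sub, sub_eq_zero] at e3
  exact e3

lemma exists_lift (i : IIdx f) (m : Γ(ClSub.idealMod j.ker, f ⁻¹ᵁ i.U)) :
    ∃ s : Γ(ClSub.idealMod (j ≫ f).ker, i.U),
      f.app i.U (OmegaSh.idealSect (j ≫ f).ker i.U s) =
        OmegaSh.idealSect j.ker (f ⁻¹ᵁ i.U) m := by
  obtain ⟨b, hb⟩ := app_surjective_of_le_coborder f i.hU i.le
    (OmegaSh.idealSect j.ker (f ⁻¹ᵁ i.U) m)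
  have h0 : (j ≫ f).app i.U b = 0 := by
    show j.app _ (f.app i.U b) = 0
    rw [hb]
    exact idealSect_mem j _ m
  obtain ⟨s, hs⟩ := exists_idealSect' (j ≫ f) i.U b h0
  exact ⟨s, by rw [hs, hb]⟩

include hkill in
lemma θv_congr (i : IIdx f) (s s₁ : Γ(ClSub.idealMod (j ≫ f).ker, i.U))
    (h : f.app i.U (OmegaSh.idealSect (j ≫ f).ker i.U s) =
      f.app i.U (OmegaSh.idealSect (j ≫ f).ker i.U s₁)) :
    θv f j θ i.U s = θv f j θ i.U s₁ := by
  have := hkill i.U i.hU (s - s₁) (by rw [map_sub, map_sub, h, sub_self])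
  have h2 : θv f j θ i.U (s - s₁) = 0 := this
  rw [map_sub, sub_eq_zero] at h2
  exact h2

include hkill in
lemma exists_Lg (i : IIdx f) :
    ∃ L : Γ(ClSub.idealMod j.ker, f ⁻¹ᵁ i.U) →+ Γ(M, j ⁻¹ᵁ (f ⁻¹ᵁ i.U)),
      ∀ (s : Γ(ClSub.idealMod (j ≫ f).ker, i.U)) (m : Γ(ClSub.idealMod j.ker, f ⁻¹ᵁ i.U)),
        f.app i.U (OmegaSh.idealSect (j ≫ f).ker i.U s) =
          OmegaSh.idealSect j.ker (f ⁻¹ᵁ i.U) m → L m = θv f j θ i.U s := by
  choose lift hlift using exists_lift f j i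
  refine ⟨AddMonoidHom.mk' (fun m => θv f j θ i.U (lift m)) ?_, ?_⟩
  · intro m m'
    rw [← map_add]
    apply θv_congr f j θ hkill
    rw [hlift, map_add, map_add, map_add, hlift, hlift]
  · intro s m h
    show θv f j θ i.U (lift m) = θv f j θ i.U s
    apply θv_congr f j θ hkill
    rw [hlift, h]

include hkill in
theorem exists_desc : ∃ L : ClSub.idealMod j.ker ⟶ (Scheme.Modules.pushforward j).obj M,
    ∀ (U : X.Opens) (s : Γ(ClSub.idealMod (j ≫ f).ker, U))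
      (m : Γ(ClSub.idealMod j.ker, f ⁻¹ᵁ U)),
      f.app U (OmegaSh.idealSect (j ≫ f).ker U s) = OmegaSh.idealSect j.ker (f ⁻¹ᵁ U) m →
        (L.app (f ⁻¹ᵁ U) m : Γ(M, j ⁻¹ᵁ (f ⁻¹ᵁ U))) = θv f j θ U s := by
  choose Lg hLg using exists_Lg f j θ hkill
  let Lg' : ∀ i : IIdx f, Γ(ClSub.idealMod j.ker, f ⁻¹ᵁ i.U) →+
      Γ((Scheme.Modules.pushforward j).obj M, f ⁻¹ᵁ i.U) := fun i => Lg i
  have hlin : ∀ (i : IIdx f) (x : Γ(Y, f ⁻¹ᵁ i.U)) (m : Γ(ClSub.idealMod j.ker, f ⁻¹ᵁ i.U)),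
      Lg' i (x • m) = x • Lg' i m := by
    intro i x m
    obtain ⟨a, rfl⟩ := app_surjective_of_le_coborder f i.hU i.le x
    obtain ⟨s, hs⟩ := exists_lift f j i m
    have h1 : Lg i m = θv f j θ i.U s := hLg i s m hs
    have h2 : Lg i (f.app i.U a • m) = θv f j θ i.U (a • s) :=
      hLg i (a • s) _ (by rw [idealSect_smul, map_mul, hs, idealSect_smul])
    show Lg i (f.app i.U a • m) = (j.app _ (f.app i.U a)) • Lg i m
    rw [h2, h1, θv_smul]
  have hnat : ∀ (i i' : IIdx f) (k : f ⁻¹ᵁ i'.U ⟶ f ⁻¹ᵁ i.U)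
      (m : Γ(ClSub.idealMod j.ker, f ⁻¹ᵁ i.U)),
      ((Scheme.Modules.pushforward j).obj M).presheaf.map k.op (Lg' i m) =
        Lg' i' ((ClSub.idealMod j.ker).presheaf.map k.op m) := by
    intro i i' k m
    obtain ⟨s, hs⟩ := exists_lift f j i m
    obtain ⟨s', hs'⟩ := exists_lift f j i' ((ClSub.idealMod j.ker).presheaf.map k.op m)
    have h1 : Lg i m = θv f j θ i.U s := hLg i s m hs
    have h2 : Lg i' ((ClSub.idealMod j.ker).presheaf.map k.op m) = θv f j θ i'.U s' :=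
      hLg i' s' _ hs'
    show M.presheaf.map (homOfLE (j.preimage_mono k.le)).op (Lg i m) =
      Lg i' ((ClSub.idealMod j.ker).presheaf.map k.op m)
    rw [h1, h2]
    have key := loc_eq f j θ hkill i.U i'.U s s' (f ⁻¹ᵁ i'.U) k.le le_rfl ?_
    · refine key.trans ?_
      have : M.presheaf.map (homOfLE (j.preimage_mono (le_refl (f ⁻¹ᵁ i'.U)))).op = 𝟙 _ :=
        M.presheaf.map_id _
      rw [this]
      rfl
    · rw [Scheme.Hom.appLE_eq_app, hs', idealSect_map, ← hs]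
      rfl
  obtain ⟨L, hL⟩ := exists_glue_lin (A := ClSub.idealMod j.ker)
    (F := (Scheme.Modules.pushforward j).obj M) (fun i : IIdx f => f ⁻¹ᵁ i.U)
    (isBasis_iidx f) Lg' hlin hnat
  refine ⟨L, ?_⟩
  intro U s m hsm
  have H : ∀ y : (j ⁻¹ᵁ (f ⁻¹ᵁ U) : Y'.Opens), ∃ i : IIdx f, f (j y.1) ∈ i.U ∧ i.U ≤ U := by
    intro y
    exact exists_iidx f (j y.1) U y.2
  choose l hyl hlU using H
  refine sections_ext_of_cover M (fun y => j ⁻¹ᵁ (f ⁻¹ᵁ (l y).U)) (j ⁻¹ᵁ (f ⁻¹ᵁ U))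
    (fun y => j.preimage_mono (f.preimage_mono (hlU y))) ?_ _ _ ?_
  · intro y hy
    exact Opens.mem_iSup.mpr ⟨⟨y, hy⟩, hyl _⟩
  intro y
  rw [← θv_map f j θ (homOfLE (hlU y)) s]
  have n1 := congr($(L.mapPresheaf.naturality (homOfLE (f.preimage_mono (hlU y))).op) m)
  refine n1.symm.trans ?_
  refine (hL (l y) _).trans ?_
  apply hLg
  rw [idealSect_map]
  refine Eq.trans ?_ (idealSect_map j (homOfLE (f.preimage_mono (hlU y))) m).symm
  have n2 := congr($(f.naturality (homOfLE (hlU y)).op) (OmegaSh.idealSect (j ≫ f).ker U s))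
  refine n2.trans ?_
  show Y.presheaf.map _ (f.app U (OmegaSh.idealSect (j ≫ f).ker U s)) = _
  rw [hsm]
  rfl

end Desc

section Tools

variable {Z X : Scheme.{u}} (i : Z ⟶ X)

lemma homEquiv_zero (A : X.Modules) (B : Z.Modules) :
    (Scheme.Modules.pullbackPushforwardAdjunction i).homEquiv A B 0 = 0 := by
  have := (Scheme.Modules.pullbackPushforwardAdjunction i).homEquiv_naturality_left
    (0 : A ⟶ A) (0 : (Scheme.Modules.pullback i).obj A ⟶ B)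
  rw [Functor.map_zero, zero_comp, zero_comp] at this
  exact this

lemma res_self (N : Z.Modules) (V : Z.Opens) (h : V ≤ V) (x : Γ(N, V)) :
    N.presheaf.map (homOfLE h).op x = x := by
  have h3 : N.presheaf.map (𝟙 (op V)) = 𝟙 _ := N.presheaf.map_id _
  exact congr($h3 x)

/-- maps out of a pullback are determined by their values on pulled back sections over a basis -/
lemma eq_of_sections_basis {A : X.Modules} {B : Z.Modules} {ι : Type*} (Bs : ι → X.Opens)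
    (hB : Opens.IsBasis (Set.range Bs))
    (α β : (Scheme.Modules.pullback i).obj A ⟶ B)
    (h : ∀ (k : ι) (s : Γ(A, Bs k)), α.app (i ⁻¹ᵁ Bs k) (OmegaSh.pullSect i A (Bs k) s) =
      β.app (i ⁻¹ᵁ Bs k) (OmegaSh.pullSect i A (Bs k) s)) : α = β := by
  apply ((Scheme.Modules.pullbackPushforwardAdjunction i).homEquiv A B).injective
  apply Scheme.Modules.hom_ext
  intro U
  ext s
  apply hcov (F := (Scheme.Modules.pushforward i).obj B) Bs hB
  intro k l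
  have n1 := congr($(((Scheme.Modules.pullbackPushforwardAdjunction i).homEquiv A B
    α).mapPresheaf.naturality l.op) s)
  have n2 := congr($(((Scheme.Modules.pullbackPushforwardAdjunction i).homEquiv A B
    β).mapPresheaf.naturality l.op) s)
  refine n1.symm.trans (Eq.trans ?_ n2)
  exact (homEquiv_app i α (Bs k) _).trans ((h k _).trans (homEquiv_app i β (Bs k) _).symm)

end Tools

section Final

variable {Y' Y X : Scheme.{u}} (f : Y ⟶ X) [IsImmersion f] [QuasiCompact f]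
    (j : Y' ⟶ Y) [IsImmersion j] [QuasiCompact j]
    (φ₁ : (Scheme.Modules.pullback j).obj (Nmod f) ⟶ Nmod (j ≫ f))
    (hφ₁ : OmegaSh.IsConormalMap (j ≫ f) f (𝟙 X) j φ₁)
    (φ₂ : (Scheme.Modules.pullback (𝟙 Y')).obj (Nmod (j ≫ f)) ⟶ Nmod j)
    (hφ₂ : OmegaSh.IsConormalMap j (j ≫ f) f (𝟙 Y') φ₂)

/-- `φ₂` precomposed with the identification `𝟙^* ≅ id` -/
noncomputable def qmap : Nmod (j ≫ f) ⟶ Nmod j :=
  (Scheme.Modules.pullbackId Y').inv.app (Nmod (j ≫ f)) ≫ φ₂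

include hφ₂ in
lemma F1 (U : X.Opens) (s : Γ(ClSub.idealMod (j ≫ f).ker, U))
    (m : Γ(ClSub.idealMod j.ker, f ⁻¹ᵁ U))
    (hm : OmegaSh.idealSect j.ker (f ⁻¹ᵁ U) m = f.app U (OmegaSh.idealSect (j ≫ f).ker U s)) :
    ((qmap f j φ₂).app (j ⁻¹ᵁ (f ⁻¹ᵁ U))
      (OmegaSh.pullSect (j ≫ f) (ClSub.idealMod (j ≫ f).ker) U s) : Γ(Nmod j, j ⁻¹ᵁ (f ⁻¹ᵁ U))) =
      OmegaSh.pullSect j (ClSub.idealMod j.ker) (f ⁻¹ᵁ U) m := by
  have key := hφ₂.2 U s m hm (j ⁻¹ᵁ (f ⁻¹ᵁ U)) le_rfl le_rfl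
  have k1 := res_self (Nmod j) (j ⁻¹ᵁ (f ⁻¹ᵁ U)) le_rfl
    (φ₂.app _ (OmegaSh.pullSect (𝟙 Y') (Nmod (j ≫ f)) ((j ≫ f) ⁻¹ᵁ U)
      (OmegaSh.pullSect (j ≫ f) (ClSub.idealMod (j ≫ f).ker) U s)))
  have k2 := res_self (Nmod j) (j ⁻¹ᵁ (f ⁻¹ᵁ U)) le_rfl
    (OmegaSh.pullSect j (ClSub.idealMod j.ker) (f ⁻¹ᵁ U) m)
  have k3 := pullSect_id (Nmod (j ≫ f)) ((j ≫ f) ⁻¹ᵁ U)
    (OmegaSh.pullSect (j ≫ f) (ClSub.idealMod (j ≫ f).ker) U s)
  refine Eq.trans ?_ (k1.symm.trans (key.trans k2))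
  exact congrArg (φ₂.app _) k3.symm

include hφ₁ in
lemma F2 (U : X.Opens) (s' : Γ(ClSub.idealMod f.ker, U))
    (s : Γ(ClSub.idealMod (j ≫ f).ker, U))
    (hs : OmegaSh.idealSect (j ≫ f).ker U s = OmegaSh.idealSect f.ker U s') :
    (φ₁.app (j ⁻¹ᵁ (f ⁻¹ᵁ U)) (OmegaSh.pullSect j (Nmod f) (f ⁻¹ᵁ U)
      (OmegaSh.pullSect f (ClSub.idealMod f.ker) U s')) : Γ(Nmod (j ≫ f), j ⁻¹ᵁ (f ⁻¹ᵁ U))) =
      OmegaSh.pullSect (j ≫ f) (ClSub.idealMod (j ≫ f).ker) U s := by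
  have key := hφ₁.2 U s' s hs (j ⁻¹ᵁ (f ⁻¹ᵁ U)) le_rfl le_rfl
  have k1 := res_self (Nmod (j ≫ f)) (j ⁻¹ᵁ (f ⁻¹ᵁ U)) le_rfl
    (φ₁.app _ (OmegaSh.pullSect j (Nmod f) (f ⁻¹ᵁ U)
      (OmegaSh.pullSect f (ClSub.idealMod f.ker) U s')))
  have k2 := res_self (Nmod (j ≫ f)) (j ⁻¹ᵁ (f ⁻¹ᵁ U)) le_rfl
    (OmegaSh.pullSect (j ≫ f) (ClSub.idealMod (j ≫ f).ker) U s)
  exact k1.symm.trans (key.trans k2)

include hφ₁ hφ₂ in
lemma comp_qmap_eq_zero : φ₁ ≫ qmap f j φ₂ = 0 := by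
  apply ((Scheme.Modules.pullbackPushforwardAdjunction j).homEquiv (Nmod f) (Nmod j)).injective
  rw [homEquiv_zero]
  apply eq_zero_of_sections f (A := ClSub.idealMod f.ker)
  intro U s'
  refine (homEquiv_app j (φ₁ ≫ qmap f j φ₂) (f ⁻¹ᵁ U) _).trans ?_
  have h0 : (j ≫ f).app U (OmegaSh.idealSect f.ker U s') = 0 := by
    show j.app _ (f.app U (OmegaSh.idealSect f.ker U s')) = 0
    rw [idealSect_mem f U s', map_zero]
  obtain ⟨s, hs⟩ := exists_idealSect' (j ≫ f) U _ h0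
  have e1 := F2 f j φ₁ hφ₁ U s' s hs
  have e2 := F1 f j φ₂ hφ₂ U s 0 (by
    rw [map_zero, hs, idealSect_mem f U s'])
  have e3 : ((φ₁ ≫ qmap f j φ₂).app (j ⁻¹ᵁ (f ⁻¹ᵁ U))
      (OmegaSh.pullSect j (Nmod f) (f ⁻¹ᵁ U)
        (OmegaSh.pullSect f (ClSub.idealMod f.ker) U s')) : Γ(Nmod j, j ⁻¹ᵁ (f ⁻¹ᵁ U))) =
      (qmap f j φ₂).app (j ⁻¹ᵁ (f ⁻¹ᵁ U)) (φ₁.app (j ⁻¹ᵁ (f ⁻¹ᵁ U))
        (OmegaSh.pullSect j (Nmod f) (f ⁻¹ᵁ U) (OmegaSh.pullSect f (ClSub.idealMod f.ker) U s'))) := rfl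
  refine e3.trans ((congrArg ((qmap f j φ₂).app (j ⁻¹ᵁ (f ⁻¹ᵁ U))) e1).trans (e2.trans ?_))
  exact map_zero _

include hφ₁ hφ₂ in
theorem exact_conormal_of_immersions :
    Epi φ₂ ∧ imageSubobject φ₁ =
      kernelSubobject ((Scheme.Modules.pullbackId Y').inv.app (Nmod (j ≫ f)) ≫ φ₂) := by
  have w : φ₁ ≫ qmap f j φ₂ = 0 := comp_qmap_eq_zero f j φ₁ hφ₁ φ₂ hφ₂
  -- a section of the ideal of `Y'` in `Y` over `f⁻¹U` attached to a section of the ideal in `X`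
  have hm : ∀ (U : X.Opens) (s : Γ(ClSub.idealMod (j ≫ f).ker, U)),
      ∃ m : Γ(ClSub.idealMod j.ker, f ⁻¹ᵁ U), OmegaSh.idealSect j.ker (f ⁻¹ᵁ U) m =
        f.app U (OmegaSh.idealSect (j ≫ f).ker U s) := by
    intro U s
    apply exists_idealSect' j
    exact idealSect_mem (j ≫ f) U s
  have hepi : Epi (qmap f j φ₂) := by
    constructor
    intro M β β' hβ
    apply eq_of_sections_basis j (fun i : IIdx f => f ⁻¹ᵁ i.U) (isBasis_iidx f)
    intro i m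
    obtain ⟨s, hs⟩ := exists_lift f j i m
    have e1 := F1 f j φ₂ hφ₂ i.U s m hs.symm
    have e2 := congr(($hβ).app (j ⁻¹ᵁ (f ⁻¹ᵁ i.U))
      (OmegaSh.pullSect (j ≫ f) (ClSub.idealMod (j ≫ f).ker) i.U s))
    refine (congrArg (β.app (j ⁻¹ᵁ (f ⁻¹ᵁ i.U))) e1.symm).trans (Eq.trans ?_
      (congrArg (β'.app (j ⁻¹ᵁ (f ⁻¹ᵁ i.U))) e1))
    exact e2
  have hlift : ∀ {M : Y'.Modules} (θ : Nmod (j ≫ f) ⟶ M), φ₁ ≫ θ = 0 →
      ∃ β : Nmod j ⟶ M, qmap f j φ₂ ≫ β = θ := by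
    intro M θ hθ
    obtain ⟨L, hL⟩ := exists_desc f j
      ((Scheme.Modules.pullbackPushforwardAdjunction (j ≫ f)).homEquiv _ M θ) (by
        intro U hU s hs
        refine (homEquiv_app (j ≫ f) θ U s).trans ?_
        obtain ⟨s', hs'⟩ := exists_idealSect f hU _ hs
        have e1 := F2 f j φ₁ hφ₁ U s' s hs'.symm
        refine (congrArg (θ.app (j ⁻¹ᵁ (f ⁻¹ᵁ U))) e1.symm).trans ?_
        exact congr(($hθ).app (j ⁻¹ᵁ (f ⁻¹ᵁ U)) (OmegaSh.pullSect j (Nmod f) (f ⁻¹ᵁ U)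
          (OmegaSh.pullSect f (ClSub.idealMod f.ker) U s'))))
    refine ⟨((Scheme.Modules.pullbackPushforwardAdjunction j).homEquiv _ M).symm L, ?_⟩
    apply eq_of_sections (j ≫ f)
    intro U s
    obtain ⟨m, hm'⟩ := hm U s
    have e1 := F1 f j φ₂ hφ₂ U s m hm'
    have e2 := hL U s m hm'.symm
    have e3 := homEquiv_app j
      (((Scheme.Modules.pullbackPushforwardAdjunction j).homEquiv _ M).symm L) (f ⁻¹ᵁ U) m
    rw [Equiv.apply_symm_apply] at e3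
    have e4 := homEquiv_app (j ≫ f) θ U s
    refine Eq.trans ?_ e4
    refine Eq.trans ?_ e2
    refine Eq.trans ?_ e3.symm
    exact congrArg ((((Scheme.Modules.pullbackPushforwardAdjunction j).homEquiv _ M).symm L).app
      (j ⁻¹ᵁ (f ⁻¹ᵁ U))) e1
  have hcolim : IsColimit (CokernelCofork.ofπ (qmap f j φ₂) w) :=
    CokernelCofork.IsColimit.ofπ (qmap f j φ₂) w (fun θ hθ => (hlift θ hθ).choose)
      (fun θ hθ => (hlift θ hθ).choose_spec)
      (fun θ hθ m hm => by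
        rw [← cancel_epi (qmap f j φ₂), hm, (hlift θ hθ).choose_spec])
  have hex : (ShortComplex.mk φ₁ (qmap f j φ₂) w).Exact :=
    ShortComplex.exact_of_g_is_cokernel _ hcolim
  constructor
  · have : φ₂ = (Scheme.Modules.pullbackId Y').hom.app (Nmod (j ≫ f)) ≫
        qmap f j φ₂ := by
      unfold qmap
      rw [Iso.hom_inv_id_app_assoc]
    rw [this]
    infer_instance
  · exact (ShortComplex.exact_iff_image_eq_kernel _).mp hex

end Final

end Groth.Agent.Lib.Helper25.ConormalSeq
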