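import Mathlib
import Groth.Prelude.Def_Omega3
import Groth.Agent.Lib.Helper25.SkyMod
import Groth.Agent.Lib.Helper25.DiffCompat
import Groth.Agent.Lib.Helper25.DiffSeq
import Groth.Agent.Lib.Helper25.EtaleDer
import Groth.Agent.Lib.Helper25.ImmDer
import Groth.Agent.Lib.Helper25.SplitConormal
import Groth.Agent.Lib.Helper25.ConormalSeq
import Groth.Agent.Lib.QCoh.OmegaS2

set_option autoImplicit false
set_option linter.unusedSectionVars false
universe u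

namespace Groth.Agent.Lib.Helper25.ConormalOmega

open CategoryTheory CategoryTheory.Limits AlgebraicGeometry TopologicalSpace Opposite
open Groth.Agent.Lib.Helper25.SkyMod Groth.Agent.Lib.Helper25.EtaleDer
open Groth.Agent.Lib.Helper25.ImmDer Groth.Agent.Lib.Helper25.DiffCompat Groth.Agent.Lib.QCoh
open Groth.Agent.Lib.Helper25.SplitConormal Groth.Agent.Lib.Helper25.DiffSeq
open Groth.Agent.Lib.Helper25.ConormalSeq

section Ring

variable {A B C N K : Type*} [CommRing A] [CommRing B] [CommRing C] [AddCommGroup N] [Module C N]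
  [AddCommGroup K] [Module B K]
  (ρ : A →+* B) (π : B →+* C) (hπρ : Function.Surjective (π.comp ρ))
  (ε : K →ₗ[B] B) (hε : ∀ b, π b = 0 → ∃ k, ε k = b) (hε' : ∀ k, π (ε k) = 0)
  (lam : K →+ N) (hlam : ∀ b k, lam (b • k) = π b • lam k)
  (hkill : ∀ k a, ε k = ρ a → lam k = 0)

include hπρ hε in
lemma exists_decomp (b : B) : ∃ (a : A) (k : K), b = ρ a + ε k := by
  obtain ⟨a, ha⟩ := hπρ (π b)
  have h1 : π (b - ρ a) = 0 := by
    rw [map_sub, sub_eq_zero]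
    exact ha.symm
  obtain ⟨k, hk⟩ := hε _ h1
  exact ⟨a, k, by rw [hk]; ring⟩

include hkill in
lemma lam_congr (a a' : A) (k k' : K) (h : ρ a + ε k = ρ a' + ε k') : lam k = lam k' := by
  have h1 : ε (k - k') = ρ (a' - a) := by
    rw [map_sub, map_sub]
    linear_combination h
  have := hkill _ _ h1
  rw [map_sub, sub_eq_zero] at this
  exact this

include hπρ hε hε' hlam hkill in
theorem exists_delta : ∃ δ : B →+ N, (∀ x y, δ (x * y) = π x • δ y + π y • δ x) ∧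
    (∀ a, δ (ρ a) = 0) ∧ ∀ k, δ (ε k) = lam k := by
  choose fa fk hdec using exists_decomp ρ π hπρ ε hε
  have key : ∀ (b : B) (a : A) (k : K), b = ρ a + ε k → lam (fk b) = lam k := by
    intro b a k h
    exact lam_congr ρ ε lam hkill _ _ _ _ ((hdec b).symm.trans h)
  refine ⟨AddMonoidHom.mk' (fun b => lam (fk b)) ?_, ?_, ?_, ?_⟩
  · intro b b'
    rw [← map_add]
    apply key (b + b') (fa b + fa b') (fk b + fk b')
    rw [map_add, map_add]
    nth_rw 1 [hdec b, hdec b']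
    ring
  · intro x y
    show lam (fk (x * y)) = π x • lam (fk y) + π y • lam (fk x)
    have hx := hdec x
    have hy := hdec y
    have h1 : x * y = ρ (fa x * fa y) + ε (ρ (fa x) • fk y + ρ (fa y) • fk x + ε (fk x) • fk y) := by
      rw [map_mul, map_add, map_add, map_smul, map_smul, map_smul, smul_eq_mul, smul_eq_mul,
        smul_eq_mul]
      nth_rw 1 [hx, hy]
      ring
    rw [key _ _ _ h1, map_add, map_add, hlam, hlam, hlam, hε', zero_smul, add_zero]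
    have e1 : π x = π (ρ (fa x)) := by
      nth_rw 1 [hx]
      rw [map_add, hε', add_zero]
    have e2 : π y = π (ρ (fa y)) := by
      nth_rw 1 [hy]
      rw [map_add, hε', add_zero]
    rw [e1, e2]
  · intro a
    show lam (fk (ρ a)) = 0
    rw [key (ρ a) a 0 (by rw [map_zero, add_zero]), map_zero]
  · intro k
    show lam (fk (ε k)) = lam k
    exact key (ε k) 0 k (by rw [map_zero, zero_add])

omit [Module C N] in
include hπρ hε in
lemma delta_unique (δ₁ δ₂ : B →+ N) (h₁ : ∀ a, δ₁ (ρ a) = δ₂ (ρ a))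
    (h₂ : ∀ k, δ₁ (ε k) = δ₂ (ε k)) : δ₁ = δ₂ := by
  ext b
  obtain ⟨a, k, rfl⟩ := exists_decomp ρ π hπρ ε hε b
  rw [map_add, map_add, h₁, h₂]

end Ring

section Local

variable {Z X Y : Scheme.{u}} (i : Z ⟶ X) (p : X ⟶ Y) [IsImmersion i] [QuasiCompact i]
  [IsImmersion (i ≫ p)] [QuasiCompact (i ≫ p)] {M : Z.Modules}
  (θ : ClSub.idealMod i.ker ⟶ (Scheme.Modules.pushforward i).obj M)

omit [IsImmersion i] [QuasiCompact i] [IsImmersion (i ≫ p)] [QuasiCompact (i ≫ p)] in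
lemma ring_res_res {A B C : Z.Opens} (h₁ : B ≤ A) (h₂ : C ≤ B) (x : Γ(Z, A)) :
    Z.presheaf.map (homOfLE h₂).op (Z.presheaf.map (homOfLE h₁).op x) =
      Z.presheaf.map (homOfLE (h₂.trans h₁)).op x := by
  rw [← CommRingCat.comp_apply, ← Functor.map_comp]
  rfl

omit [IsImmersion i] [QuasiCompact i] [IsImmersion (i ≫ p)] [QuasiCompact (i ≫ p)] in
lemma ring_res_self (V : Z.Opens) (h : V ≤ V) (x : Γ(Z, V)) :
    Z.presheaf.map (homOfLE h).op x = x := by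
  have h3 : Z.presheaf.map (𝟙 (op V)) = 𝟙 _ := Z.presheaf.map_id _
  exact congr($h3 x)

lemma smul_restr (Ω₀ : X.Opens) (U₀ : (Ω₀ : Scheme.{u}).Opens) (x : Γ(Ω₀.toScheme, U₀))
    (m : Γ(((Scheme.Modules.pushforward i).obj M).restrict Ω₀.ι, U₀)) :
    x • m = (show Γ(M, i ⁻¹ᵁ (Ω₀.ι ''ᵁ U₀)) from
      (i.app (Ω₀.ι ''ᵁ U₀) (show Γ(X, Ω₀.ι ''ᵁ U₀) from x)) •
        (show Γ(M, i ⁻¹ᵁ (Ω₀.ι ''ᵁ U₀)) from m)) := by
  have h1 : x • m = (show Γ(M, i ⁻¹ᵁ (Ω₀.ι ''ᵁ U₀)) from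
      (i.app (Ω₀.ι ''ᵁ U₀) ((Ω₀.ι.appIso U₀).inv x)) •
        (show Γ(M, i ⁻¹ᵁ (Ω₀.ι ''ᵁ U₀)) from m)) := rfl
  rw [h1]
  have h2 : (Ω₀.ι.appIso U₀).inv x = x := by
    rw [Scheme.Opens.ι_appIso]
    rfl
  rw [h2]

/-- value of `θ` as a section of `M` -/
noncomputable def tv (U : X.Opens) : Γ(ClSub.idealMod i.ker, U) →+ Γ(M, i ⁻¹ᵁ U) :=
  (θ.app U).hom

lemma tv_map {U U' : X.Opens} (k : U' ⟶ U) (s : Γ(ClSub.idealMod i.ker, U)) :
    tv i θ U' ((ClSub.idealMod i.ker).presheaf.map k.op s) =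
      M.presheaf.map (homOfLE (i.preimage_mono k.le)).op (tv i θ U s) :=
  congr($(θ.mapPresheaf.naturality k.op) s)

lemma tv_smul (U : X.Opens) (x : Γ(X, U)) (s : Γ(ClSub.idealMod i.ker, U)) :
    tv i θ U (x • s) = i.app U x • tv i θ U s :=
  Scheme.Modules.Hom.app_smul θ x s

/-- `idealSect` as a linear map -/
noncomputable def epsLin (U : X.Opens) : Γ(ClSub.idealMod i.ker, U) →ₗ[Γ(X, U)] Γ(X, U) where
  toFun := OmegaSh.idealSect i.ker U
  map_add' := map_add _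
  map_smul' := fun b k => idealSect_smul i U b k

/-- good pairs -/
structure GIdx where
  U₀ : (i.coborderRange : Scheme.{u}).Opens
  T : Y.Opens
  hU : IsAffineOpen (i.coborderRange.ι ''ᵁ U₀)
  le : i.coborderRange.ι ''ᵁ U₀ ≤ p ⁻¹ᵁ T
  surj : Function.Surjective
    ((i ≫ p).appLE T (i ⁻¹ᵁ (i.coborderRange.ι ''ᵁ U₀)) (i.preimage_mono le))
  kill : ∀ (k : Γ(ClSub.idealMod i.ker, i.coborderRange.ι ''ᵁ U₀)) (a : Γ(Y, T)),
    OmegaSh.idealSect i.ker _ k = p.appLE T (i.coborderRange.ι ''ᵁ U₀) le a →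
      tv i θ (i.coborderRange.ι ''ᵁ U₀) k = 0

variable {i p θ}

/-- the `X`-open of a good pair -/
abbrev GIdx.U (g : GIdx i p θ) : X.Opens := i.coborderRange.ι ''ᵁ g.U₀

lemma GIdx.U_le (g : GIdx i p θ) : g.U ≤ i.coborderRange := by
  have := i.coborderRange.ι.image_le_opensRange g.U₀
  rwa [Scheme.Opens.opensRange_ι] at this

lemma GIdx.comp_eq (g : GIdx i p θ) :
    (i.app g.U).hom.comp (p.appLE g.T g.U g.le).hom =
      ((i ≫ p).appLE g.T (i ⁻¹ᵁ g.U) (i.preimage_mono g.le)).hom := by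
  have h := Scheme.Hom.appLE_comp_appLE i p g.T g.U (i ⁻¹ᵁ g.U) g.le le_rfl
  rw [Scheme.Hom.appLE_eq_app] at h
  exact congrArg CommRingCat.Hom.hom h

lemma exists_Dg (g : GIdx i p θ) : ∃ δ : Γ(X, g.U) →+ Γ(M, i ⁻¹ᵁ g.U),
    (∀ x y, δ (x * y) = i.app g.U x • δ y + i.app g.U y • δ x) ∧
    (∀ a, δ (p.appLE g.T g.U g.le a) = 0) ∧
    ∀ k, δ (OmegaSh.idealSect i.ker g.U k) = tv i θ g.U k := by
  refine exists_delta (N := Γ(M, i ⁻¹ᵁ g.U)) (p.appLE g.T g.U g.le).hom (i.app g.U).hom ?_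
    (epsLin i g.U) ?_ ?_ (tv i θ g.U) ?_ ?_
  · rw [g.comp_eq]
    exact g.surj
  · intro b hb
    exact exists_idealSect' i g.U b hb
  · intro k
    exact idealSect_mem i g.U k
  · intro b k
    exact tv_smul i θ g.U b k
  · intro k a h
    exact g.kill k a h

lemma Dg_unique (g : GIdx i p θ) {N' : Type*} [AddCommGroup N'] (δ₁ δ₂ : Γ(X, g.U) →+ N')
    (h₁ : ∀ a, δ₁ (p.appLE g.T g.U g.le a) = δ₂ (p.appLE g.T g.U g.le a))
    (h₂ : ∀ k, δ₁ (OmegaSh.idealSect i.ker g.U k) = δ₂ (OmegaSh.idealSect i.ker g.U k)) :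
    δ₁ = δ₂ := by
  refine delta_unique (p.appLE g.T g.U g.le).hom (i.app g.U).hom ?_ (epsLin i g.U) ?_ δ₁ δ₂ h₁ h₂
  · rw [g.comp_eq]
    exact g.surj
  · intro b hb
    exact exists_idealSect' i g.U b hb

omit [IsImmersion (i ≫ p)] [QuasiCompact (i ≫ p)] [QuasiCompact i] in
lemma exists_gidx_of (U : X.Opens) (hUΩ : U ≤ i.coborderRange) (T : Y.Opens)
    (hU : IsAffineOpen U) (le : U ≤ p ⁻¹ᵁ T)
    (surj : Function.Surjective ((i ≫ p).appLE T (i ⁻¹ᵁ U) (i.preimage_mono le)))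
    (kill : ∀ (k : Γ(ClSub.idealMod i.ker, U)) (a : Γ(Y, T)),
      OmegaSh.idealSect i.ker U k = p.appLE T U le a → tv i θ U k = 0) :
    ∃ g : GIdx i p θ, g.U = U ∧ g.T = T := by
  obtain ⟨U₀, rfl⟩ : ∃ U₀ : (i.coborderRange : Scheme.{u}).Opens,
      i.coborderRange.ι ''ᵁ U₀ = U := by
    refine ⟨i.coborderRange.ι ⁻¹ᵁ U, ?_⟩
    rw [Scheme.Hom.image_preimage_eq_opensRange_inf, Scheme.Opens.opensRange_ι]
    exact inf_eq_right.mpr hUΩ
  exact ⟨⟨U₀, T, hU, le, surj, kill⟩, rfl, rfl⟩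

omit [IsImmersion i] [QuasiCompact i] [IsImmersion (i ≫ p)] [QuasiCompact (i ≫ p)] in
lemma sections_bot_eq (V : Z.Opens) (hV : V = ⊥) (a b : Γ(M, V)) : a = b := by
  refine sections_ext_of_cover M (fun e : PEmpty.{1} => (e.elim : Z.Opens)) V
    (fun e => e.elim) ?_ a b (fun e => e.elim)
  rw [hV]
  exact bot_le

lemma isAffineOpen_preimage_of_le_coborder {Z' Y' : Scheme.{u}} (j : Z' ⟶ Y') [IsImmersion j]
    {T : Y'.Opens} (hT : IsAffineOpen T) (hle : T ≤ j.coborderRange) :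
    IsAffineOpen (j ⁻¹ᵁ T) := by
  obtain ⟨T₀, rfl⟩ : ∃ T₀ : j.coborderRange.toScheme.Opens, j.coborderRange.ι ''ᵁ T₀ = T := by
    refine ⟨j.coborderRange.ι ⁻¹ᵁ T, ?_⟩
    rw [Scheme.Hom.image_preimage_eq_opensRange_inf, Scheme.Opens.opensRange_ι]
    exact inf_eq_right.mpr hle
  have hT₀ : IsAffineOpen T₀ := (j.coborderRange.ι.isAffineOpen_iff_of_isOpenImmersion).mp hT
  have := hT₀.preimage j.liftCoborder
  rwa [Scheme.Hom.liftCoborder_preimage] at this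

variable (i p θ)
variable (hθ : ∀ (T : Y.Opens) (s' : Γ(ClSub.idealMod (i ≫ p).ker, T))
    (s : Γ(ClSub.idealMod i.ker, p ⁻¹ᵁ T)),
    OmegaSh.idealSect i.ker (p ⁻¹ᵁ T) s = p.app T (OmegaSh.idealSect (i ≫ p).ker T s') →
      tv i θ (p ⁻¹ᵁ T) s = 0)

include hθ in
lemma exists_gidx (x₀ : (i.coborderRange : Scheme.{u}))
    (W₀ : (i.coborderRange : Scheme.{u}).Opens) (hx : x₀ ∈ W₀) (WY : Y.Opens)
    (hpx : p (i.coborderRange.ι x₀) ∈ WY) :
    ∃ g : GIdx i p θ, x₀ ∈ g.U₀ ∧ g.U₀ ≤ W₀ ∧ g.T ≤ WY := by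
  have hxW : i.coborderRange.ι x₀ ∈ i.coborderRange.ι ''ᵁ W₀ := ⟨x₀, hx, rfl⟩
  have hWΩ : i.coborderRange.ι ''ᵁ W₀ ≤ i.coborderRange := by
    have := i.coborderRange.ι.image_le_opensRange W₀
    rwa [Scheme.Opens.opensRange_ι] at this
  -- reduce to producing a good pair `(U, T)` with `x ∈ U ≤ ι '' W₀`
  suffices H : ∃ (U : X.Opens) (T : Y.Opens), i.coborderRange.ι x₀ ∈ U ∧
      U ≤ i.coborderRange.ι ''ᵁ W₀ ∧ T ≤ WY ∧ IsAffineOpen U ∧ ∃ le : U ≤ p ⁻¹ᵁ T,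
      Function.Surjective ((i ≫ p).appLE T (i ⁻¹ᵁ U) (i.preimage_mono le)) ∧
      ∀ (k : Γ(ClSub.idealMod i.ker, U)) (a : Γ(Y, T)),
        OmegaSh.idealSect i.ker U k = p.appLE T U le a → tv i θ U k = 0 by
    obtain ⟨U, T, hxU, hUW, hTW, hU, le, surj, kill⟩ := H
    obtain ⟨g, hgU, hgT⟩ := exists_gidx_of (θ := θ) U (hUW.trans hWΩ) T hU le surj kill
    refine ⟨g, ?_, ?_, hgT.le.trans hTW⟩
    · have h1 : i.coborderRange.ι x₀ ∈ g.U := hgU ▸ hxU
      obtain ⟨y, hy, hyx⟩ := h1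
      have : y = x₀ := i.coborderRange.ι.isOpenEmbedding.injective hyx
      exact this ▸ hy
    · intro y hy
      have h1 : i.coborderRange.ι y ∈ g.U := ⟨y, hy, rfl⟩
      rw [hgU] at h1
      obtain ⟨y', hy', hyy⟩ := hUW h1
      have : y' = y := i.coborderRange.ι.isOpenEmbedding.injective hyy
      exact this ▸ hy'
  by_cases hxi : i.coborderRange.ι x₀ ∈ Set.range i
  · -- the point lies on `Z`
    obtain ⟨z, hz⟩ := hxi
    have hjz : (i ≫ p) z ∈ WY := by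
      show p (i z) ∈ WY
      rw [hz]
      exact hpx
    obtain ⟨t, hzt, htW⟩ := exists_iidx (i ≫ p) z WY hjz
    have hVT : IsAffineOpen ((i ≫ p) ⁻¹ᵁ t.U) :=
      isAffineOpen_preimage_of_le_coborder (i ≫ p) t.hU t.le
    obtain ⟨_, ⟨U₁, hU₁ : IsAffineOpen U₁, rfl⟩, hxU₁, hU₁W⟩ :=
      (X.isBasis_affineOpens).exists_subset_of_mem_open
        (show i.coborderRange.ι x₀ ∈ ((i.coborderRange.ι ''ᵁ W₀ ⊓ p ⁻¹ᵁ t.U : X.Opens) : Set X)
          from ⟨hxW, by rw [← hz]; exact hzt⟩)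
        (i.coborderRange.ι ''ᵁ W₀ ⊓ p ⁻¹ᵁ t.U).2
    have hU₁W' : U₁ ≤ i.coborderRange.ι ''ᵁ W₀ := fun y hy => (hU₁W hy).1
    have hU₁t : U₁ ≤ p ⁻¹ᵁ t.U := fun y hy => (hU₁W hy).2
    have hzU₁ : z ∈ i ⁻¹ᵁ U₁ := by
      show i z ∈ U₁
      rw [hz]
      exact hxU₁
    obtain ⟨hbar, hb1, hb2⟩ := hVT.exists_basicOpen_le (V := i ⁻¹ᵁ U₁) ⟨z, hzU₁⟩ hzt
    obtain ⟨h, hh⟩ := app_surjective_of_le_coborder (i ≫ p) t.hU t.le hbar
    have hpre : (i ≫ p) ⁻¹ᵁ (Y.basicOpen h) = Z.basicOpen hbar := by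
      rw [Scheme.preimage_basicOpen, hh]
    have hTaff : IsAffineOpen (Y.basicOpen h) := t.hU.basicOpen h
    have hTle : Y.basicOpen h ≤ t.U := Y.basicOpen_le h
    have hUeq : U₁ ⊓ p ⁻¹ᵁ (Y.basicOpen h) =
        X.basicOpen (X.presheaf.map (homOfLE hU₁t).op (p.app t.U h)) := by
      rw [Scheme.basicOpen_res, Scheme.preimage_basicOpen]
    have hUaff : IsAffineOpen (U₁ ⊓ p ⁻¹ᵁ (Y.basicOpen h)) := by
      rw [hUeq]
      exact hU₁.basicOpen _
    have hge : (i ≫ p) ⁻¹ᵁ (Y.basicOpen h) ≤ i ⁻¹ᵁ (U₁ ⊓ p ⁻¹ᵁ (Y.basicOpen h)) := by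
      intro y hy
      refine ⟨?_, hy⟩
      rw [hpre] at hy
      exact hb1 hy
    refine ⟨U₁ ⊓ p ⁻¹ᵁ (Y.basicOpen h), Y.basicOpen h, ⟨hxU₁, ?_⟩, inf_le_left.trans hU₁W',
      hTle.trans htW, hUaff, inf_le_right, ?_, ?_⟩
    · show p (i.coborderRange.ι x₀) ∈ Y.basicOpen h
      rw [← hz]
      show z ∈ (i ≫ p) ⁻¹ᵁ (Y.basicOpen h)
      rw [hpre]
      exact hb2
    · -- surjectivity
      intro c
      obtain ⟨a, ha⟩ := app_surjective_of_le_coborder (i ≫ p) hTaff (hTle.trans t.le)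
        (Z.presheaf.map (homOfLE hge).op c)
      refine ⟨a, ?_⟩
      show Z.presheaf.map _ ((i ≫ p).app (Y.basicOpen h) a) = c
      rw [ha, ← CommRingCat.comp_apply, ← Functor.map_comp]
      have h3 : Z.presheaf.map (𝟙 (op (i ⁻¹ᵁ (U₁ ⊓ p ⁻¹ᵁ (Y.basicOpen h))))) = 𝟙 _ :=
        Z.presheaf.map_id _
      exact congr($h3 c)
    · -- the kill condition
      intro k a hka
      have h0 : (i ≫ p).app (Y.basicOpen h) a = 0 := by
        have e1 : Z.presheaf.map (homOfLE (i.preimage_mono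
            (inf_le_right : U₁ ⊓ p ⁻¹ᵁ (Y.basicOpen h) ≤ p ⁻¹ᵁ (Y.basicOpen h)))).op
            ((i ≫ p).app (Y.basicOpen h) a) = 0 := by
          have e2 := congr($(Scheme.Hom.appLE_comp_appLE i p (Y.basicOpen h)
            (U₁ ⊓ p ⁻¹ᵁ (Y.basicOpen h)) (i ⁻¹ᵁ (U₁ ⊓ p ⁻¹ᵁ (Y.basicOpen h)))
            inf_le_right le_rfl) a)
          refine e2.symm.trans ?_
          show i.appLE _ _ le_rfl (p.appLE _ _ inf_le_right a) = 0
          rw [← hka, Scheme.Hom.appLE_eq_app]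
          exact idealSect_mem i _ k
        have e3 : Z.presheaf.map (homOfLE hge).op (Z.presheaf.map (homOfLE (i.preimage_mono
            (inf_le_right : U₁ ⊓ p ⁻¹ᵁ (Y.basicOpen h) ≤ p ⁻¹ᵁ (Y.basicOpen h)))).op
            ((i ≫ p).app (Y.basicOpen h) a)) = 0 :=
          (congrArg (Z.presheaf.map (homOfLE hge).op) e1).trans (map_zero _)
        have e6 := ring_res_res (i.preimage_mono
            (inf_le_right : U₁ ⊓ p ⁻¹ᵁ (Y.basicOpen h) ≤ p ⁻¹ᵁ (Y.basicOpen h))) hge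
            ((i ≫ p).app (Y.basicOpen h) a)
        have e7 := ring_res_self ((i ≫ p) ⁻¹ᵁ (Y.basicOpen h)) (hge.trans (i.preimage_mono
            (inf_le_right : U₁ ⊓ p ⁻¹ᵁ (Y.basicOpen h) ≤ p ⁻¹ᵁ (Y.basicOpen h))))
            ((i ≫ p).app (Y.basicOpen h) a)
        exact e7.symm.trans (e6.symm.trans e3)
      obtain ⟨s', hs'⟩ := exists_idealSect' (i ≫ p) (Y.basicOpen h) a h0
      obtain ⟨s, hs⟩ := exists_idealSect' i (p ⁻¹ᵁ (Y.basicOpen h)) (p.app (Y.basicOpen h) a) h0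
      have e4 := hθ (Y.basicOpen h) s' s (by rw [hs, hs'])
      have e5 : k = (ClSub.idealMod i.ker).presheaf.map (homOfLE
          (inf_le_right : U₁ ⊓ p ⁻¹ᵁ (Y.basicOpen h) ≤ p ⁻¹ᵁ (Y.basicOpen h))).op s := by
        apply idealSect_injective
        rw [idealSect_map, hs, hka]
        rfl
      rw [e5, tv_map, e4, map_zero]
  · -- the point is off `Z`: use an open missing `Z`
    have hxc : i.coborderRange.ι x₀ ∉ closure (Set.range i) := by
      intro hc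
      apply hxi
      have h1 : i.coborderRange.ι x₀ ∈ coborder (Set.range i) ∩ closure (Set.range i) :=
        ⟨x₀.2, hc⟩
      rwa [coborder_inter_closure] at h1
    let Uc : X.Opens := ⟨(closure (Set.range i))ᶜ, isClosed_closure.isOpen_compl⟩
    obtain ⟨_, ⟨U, hU : IsAffineOpen U, rfl⟩, hxU, hUW⟩ :=
      (X.isBasis_affineOpens).exists_subset_of_mem_open
        (show i.coborderRange.ι x₀ ∈
          ((i.coborderRange.ι ''ᵁ W₀ ⊓ Uc ⊓ p ⁻¹ᵁ WY : X.Opens) : Set X)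
          from ⟨⟨hxW, hxc⟩, hpx⟩)
        (i.coborderRange.ι ''ᵁ W₀ ⊓ Uc ⊓ p ⁻¹ᵁ WY).2
    have hbot : i ⁻¹ᵁ U = ⊥ := by
      rw [eq_bot_iff]
      intro z hz
      exact ((hUW hz).1.2 (subset_closure ⟨z, rfl⟩)).elim
    refine ⟨U, WY, hxU, fun y hy => (hUW hy).1.1, le_rfl, hU, fun y hy => (hUW hy).2, ?_, ?_⟩
    · have : Subsingleton Γ(Z, i ⁻¹ᵁ U) := by
        rw [hbot]
        infer_instance
      exact Function.surjective_to_subsingleton _
    · intro k a _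
      exact sections_bot_eq _ hbot _ _

section Nat

variable {i p θ}
variable (Dg : ∀ g : GIdx i p θ, Γ(X, g.U) →+ Γ(M, i ⁻¹ᵁ g.U))
    (hDa : ∀ (g : GIdx i p θ) (a : Γ(Y, g.T)), Dg g (p.appLE g.T g.U g.le a) = 0)
    (hDk : ∀ (g : GIdx i p θ) (k : Γ(ClSub.idealMod i.ker, g.U)),
      Dg g (OmegaSh.idealSect i.ker g.U k) = tv i θ g.U k)

include hDa hDk in
lemma Dg_nat (g g' : GIdx i p θ) (hU : g'.U₀ ≤ g.U₀) (hT : g'.T ≤ g.T) (b : Γ(X, g.U)) :
    M.presheaf.map (homOfLE (i.preimage_mono (Scheme.Hom.image_mono _ hU))).op (Dg g b) =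
      Dg g' (X.presheaf.map (homOfLE (Scheme.Hom.image_mono i.coborderRange.ι hU)).op b) := by
  have key := Dg_unique g (N' := Γ(M, i ⁻¹ᵁ g'.U))
    ((M.presheaf.map (homOfLE (i.preimage_mono (Scheme.Hom.image_mono _ hU))).op).hom.comp (Dg g))
    ((Dg g').comp (X.presheaf.map
      (homOfLE (Scheme.Hom.image_mono i.coborderRange.ι hU)).op).hom.toAddMonoidHom) ?_ ?_
  · exact DFunLike.congr_fun key b
  · intro a
    show M.presheaf.map _ (Dg g (p.appLE g.T g.U g.le a)) =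
      Dg g' (X.presheaf.map _ (p.appLE g.T g.U g.le a))
    rw [hDa, map_zero]
    have e1 : X.presheaf.map (homOfLE (Scheme.Hom.image_mono i.coborderRange.ι hU)).op
        (p.appLE g.T g.U g.le a) =
        p.appLE g'.T g'.U g'.le (Y.presheaf.map (homOfLE hT).op a) := by
      have n1 := congr($(p.appLE_map g.le
        (homOfLE (Scheme.Hom.image_mono i.coborderRange.ι hU)).op) a)
      have n2 := congr($(p.map_appLE g'.le (homOfLE hT).op) a)
      exact n1.trans n2.symm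
    rw [e1, hDa]
  · intro k
    show M.presheaf.map _ (Dg g (OmegaSh.idealSect i.ker g.U k)) =
      Dg g' (X.presheaf.map _ (OmegaSh.idealSect i.ker g.U k))
    rw [hDk, ← idealSect_map, hDk, tv_map]

include hθ hDa hDk in
lemma Dg_nat_gen (g g' : GIdx i p θ) (hU : g'.U₀ ≤ g.U₀) (b : Γ(X, g.U)) :
    M.presheaf.map (homOfLE (i.preimage_mono (Scheme.Hom.image_mono _ hU))).op (Dg g b) =
      Dg g' (X.presheaf.map (homOfLE (Scheme.Hom.image_mono i.coborderRange.ι hU)).op b) := by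
  have H : ∀ z : (i ⁻¹ᵁ g'.U : Z.Opens), ∃ g'' : GIdx i p θ, i z.1 ∈ g''.U ∧
      g''.U₀ ≤ g'.U₀ ∧ g''.T ≤ g.T ⊓ g'.T := by
    intro z
    obtain ⟨x₀, hx₀, hxz⟩ := z.2
    have hp : p (i.coborderRange.ι x₀) ∈ g.T ⊓ g'.T := by
      constructor
      · exact g.le ⟨x₀, hU hx₀, rfl⟩
      · exact g'.le ⟨x₀, hx₀, rfl⟩
    obtain ⟨g'', h1, h2, h3⟩ := exists_gidx i p θ hθ x₀ g'.U₀ hx₀ (g.T ⊓ g'.T) hp
    exact ⟨g'', ⟨x₀, h1, hxz⟩, h2, h3⟩
  choose l hzl hlU hlT using H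
  refine sections_ext_of_cover M (fun z => i ⁻¹ᵁ (l z).U) (i ⁻¹ᵁ g'.U)
    (fun z => i.preimage_mono (Scheme.Hom.image_mono _ (hlU z))) ?_ _ _ ?_
  · intro z hz
    exact Opens.mem_iSup.mpr ⟨⟨z, hz⟩, hzl _⟩
  intro z
  rw [res_res, Dg_nat Dg hDa hDk g' (l z) (hlU z) ((hlT z).trans inf_le_right)]
  have e1 := Dg_nat Dg hDa hDk g (l z) ((hlU z).trans hU) ((hlT z).trans inf_le_left) b
  refine e1.trans ?_
  congr 1
  rw [← CommRingCat.comp_apply, ← Functor.map_comp]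
  rfl

end Nat

include hθ in
lemma exists_cover (U₀ : (i.coborderRange : Scheme.{u}).Opens) (T : Y.Opens)
    (le : i.coborderRange.ι ''ᵁ U₀ ≤ p ⁻¹ᵁ T)
    (z : (i ⁻¹ᵁ (i.coborderRange.ι ''ᵁ U₀) : Z.Opens)) :
    ∃ g'' : GIdx i p θ, i z.1 ∈ g''.U ∧ g''.U₀ ≤ U₀ ∧ g''.T ≤ T := by
  obtain ⟨x₀, hx₀, hxz⟩ := z.2
  obtain ⟨g'', h1, h2, h3⟩ := exists_gidx i p θ hθ x₀ U₀ hx₀ T (le ⟨x₀, hx₀, rfl⟩)
  exact ⟨g'', ⟨x₀, h1, hxz⟩, h2, h3⟩

include hθ in
lemma isBasis_gidx : Opens.IsBasis (Set.range (fun g : GIdx i p θ => g.U₀)) := by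
  rw [Opens.isBasis_iff_nbhd]
  intro W x hx
  obtain ⟨g, h1, h2, -⟩ := exists_gidx i p θ hθ x W hx ⊤ trivial
  exact ⟨g.U₀, ⟨g, rfl⟩, h1, h2⟩

/-- the glued derivation on the open subscheme `coborder` -/
structure Glob where
  D : ∀ U₀ : (i.coborderRange : Scheme.{u}).Opens,
    Γ(X, i.coborderRange.ι ''ᵁ U₀) →+ Γ(M, i ⁻¹ᵁ (i.coborderRange.ι ''ᵁ U₀))
  D_mul : ∀ (U₀ : (i.coborderRange : Scheme.{u}).Opens) (a b : Γ(X, i.coborderRange.ι ''ᵁ U₀)),
    D U₀ (a * b) = i.app _ a • D U₀ b + i.app _ b • D U₀ a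
  D_map : ∀ {U₀ V₀ : (i.coborderRange : Scheme.{u}).Opens} (h : V₀ ≤ U₀)
    (a : Γ(X, i.coborderRange.ι ''ᵁ U₀)),
    D V₀ (X.presheaf.map (homOfLE (Scheme.Hom.image_mono i.coborderRange.ι h)).op a) =
      M.presheaf.map (homOfLE (i.preimage_mono (Scheme.Hom.image_mono _ h))).op (D U₀ a)
  D_a : ∀ (U₀ : (i.coborderRange : Scheme.{u}).Opens) (T : Y.Opens)
    (le : i.coborderRange.ι ''ᵁ U₀ ≤ p ⁻¹ᵁ T) (a : Γ(Y, T)),
    D U₀ (p.appLE T (i.coborderRange.ι ''ᵁ U₀) le a) = 0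
  D_k : ∀ (U₀ : (i.coborderRange : Scheme.{u}).Opens)
    (k : Γ(ClSub.idealMod i.ker, i.coborderRange.ι ''ᵁ U₀)),
    D U₀ (OmegaSh.idealSect i.ker _ k) = tv i θ _ k

include hθ in
theorem nonempty_glob : Nonempty (Glob i p θ) := by
  choose Dg hDmul hDa hDk using exists_Dg (i := i) (p := p) (θ := θ)
  let F₀ : (i.coborderRange : Scheme.{u}).Modules :=
    ((Scheme.Modules.pushforward i).obj M).restrict i.coborderRange.ι
  let Dg' : ∀ g : GIdx i p θ, Γ((i.coborderRange : Scheme.{u}), g.U₀) →+ Γ(F₀, g.U₀) :=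
    fun g => Dg g
  have hDmul' : ∀ (g : GIdx i p θ) (x y : Γ((i.coborderRange : Scheme.{u}), g.U₀)),
      Dg' g (x * y) = x • Dg' g y + y • Dg' g x := by
    intro g x y
    rw [smul_restr, smul_restr]
    exact hDmul g x y
  have hnat' : ∀ (g g' : GIdx i p θ) (k : g'.U₀ ⟶ g.U₀)
      (x : Γ((i.coborderRange : Scheme.{u}), g.U₀)),
      F₀.presheaf.map k.op (Dg' g x) =
        Dg' g' ((i.coborderRange : Scheme.{u}).presheaf.map k.op x) := by
    intro g g' k x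
    exact Dg_nat_gen hθ Dg hDa hDk g g' k.le x
  obtain ⟨G⟩ := nonempty_glued (X := (i.coborderRange : Scheme.{u})) (F := F₀)
    (fun g : GIdx i p θ => g.U₀) Dg' (isBasis_gidx i p θ hθ) hDmul' hnat'
  have hmap : ∀ {U₀ V₀ : (i.coborderRange : Scheme.{u}).Opens} (h : V₀ ≤ U₀)
      (a : Γ(X, i.coborderRange.ι ''ᵁ U₀)),
      (G.D V₀ (X.presheaf.map (homOfLE (Scheme.Hom.image_mono i.coborderRange.ι h)).op a) :
        Γ(M, i ⁻¹ᵁ (i.coborderRange.ι ''ᵁ V₀))) =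
      M.presheaf.map (homOfLE (i.preimage_mono (Scheme.Hom.image_mono _ h))).op (G.D U₀ a) := by
    intro U₀ V₀ h a
    exact G.D_map (homOfLE h) a
  refine ⟨⟨fun U₀ => G.D U₀, ?_, hmap, ?_, ?_⟩⟩
  · intro U₀ a b
    have h := G.D_mul U₀ a b
    have e1 := smul_restr (M := M) i i.coborderRange U₀ a (G.D U₀ b)
    have e2 := smul_restr (M := M) i i.coborderRange U₀ b (G.D U₀ a)
    exact h.trans (congrArg₂ (· + ·) e1 e2)
  · intro U₀ T le a
    choose l hzl hlU hlT using exists_cover i p θ hθ U₀ T le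
    refine sections_ext_of_cover M (fun z => i ⁻¹ᵁ (l z).U) (i ⁻¹ᵁ (i.coborderRange.ι ''ᵁ U₀))
      (fun z => i.preimage_mono (Scheme.Hom.image_mono _ (hlU z))) ?_ _ _ ?_
    · intro z hz
      exact Opens.mem_iSup.mpr ⟨⟨z, hz⟩, hzl _⟩
    intro z
    refine (hmap (hlU z) _).symm.trans (Eq.trans ?_ (map_zero _).symm)
    refine (G.D_basis (l z) _).trans ?_
    have e1 : X.presheaf.map (homOfLE (Scheme.Hom.image_mono i.coborderRange.ι (hlU z))).op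
        (p.appLE T (i.coborderRange.ι ''ᵁ U₀) le a) =
        p.appLE (l z).T (l z).U (l z).le (Y.presheaf.map (homOfLE (hlT z)).op a) := by
      have n1 := congr($(p.appLE_map le
        (homOfLE (Scheme.Hom.image_mono i.coborderRange.ι (hlU z))).op) a)
      have n2 := congr($(p.map_appLE (l z).le (homOfLE (hlT z)).op) a)
      exact n1.trans n2.symm
    show Dg (l z) _ = 0
    rw [e1, hDa]
  · intro U₀ k
    choose l hzl hlU hlT using exists_cover i p θ hθ U₀ ⊤ (fun _ _ => trivial)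
    refine sections_ext_of_cover M (fun z => i ⁻¹ᵁ (l z).U) (i ⁻¹ᵁ (i.coborderRange.ι ''ᵁ U₀))
      (fun z => i.preimage_mono (Scheme.Hom.image_mono _ (hlU z))) ?_ _ _ ?_
    · intro z hz
      exact Opens.mem_iSup.mpr ⟨⟨z, hz⟩, hzl _⟩
    intro z
    refine (hmap (hlU z) _).symm.trans
      (Eq.trans ?_ (tv_map i θ (homOfLE (Scheme.Hom.image_mono _ (hlU z))) k))
    refine (G.D_basis (l z) _).trans ?_
    show Dg (l z) _ = _
    rw [← idealSect_map, hDk]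

section Stage2

variable {i p θ}

omit [QuasiCompact i] [IsImmersion (i ≫ p)] [QuasiCompact (i ≫ p)] in
lemma pre_le (U : X.Opens) : i.coborderRange.ι ''ᵁ (i.coborderRange.ι ⁻¹ᵁ U) ≤ U := by
  rw [Scheme.Hom.image_preimage_eq_opensRange_inf]
  exact inf_le_right

omit [QuasiCompact i] [IsImmersion (i ≫ p)] [QuasiCompact (i ≫ p)] in
lemma pre_ge (U : X.Opens) :
    i ⁻¹ᵁ U ≤ i ⁻¹ᵁ (i.coborderRange.ι ''ᵁ (i.coborderRange.ι ⁻¹ᵁ U)) := by
  intro z hz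
  show i z ∈ i.coborderRange.ι ''ᵁ (i.coborderRange.ι ⁻¹ᵁ U)
  rw [Scheme.Hom.image_preimage_eq_opensRange_inf, Scheme.Opens.opensRange_ι]
  exact ⟨subset_coborder ⟨z, rfl⟩, hz⟩

omit [QuasiCompact i] [IsImmersion (i ≫ p)] [QuasiCompact (i ≫ p)] in
lemma pre_mono {U U' : X.Opens} (h : U' ≤ U) :
    i.coborderRange.ι ⁻¹ᵁ U' ≤ i.coborderRange.ι ⁻¹ᵁ U :=
  i.coborderRange.ι.preimage_mono h

omit [QuasiCompact i] [IsImmersion (i ≫ p)] [QuasiCompact (i ≫ p)] in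
lemma app_res {U U' : X.Opens} (h : U' ≤ U) (h' : i ⁻¹ᵁ U ≤ i ⁻¹ᵁ U') (a : Γ(X, U)) :
    Z.presheaf.map (homOfLE h').op (i.app U' (X.presheaf.map (homOfLE h).op a)) = i.app U a := by
  have h0 : i.app U' = i.appLE U' (i ⁻¹ᵁ U') le_rfl := Scheme.Hom.app_eq_appLE i
  have h0' : i.app U = i.appLE U (i ⁻¹ᵁ U) le_rfl := Scheme.Hom.app_eq_appLE i
  have h1 := congr($(i.map_appLE (V := i ⁻¹ᵁ U') (U := U') le_rfl (homOfLE h).op) a)
  have h2 := congr($(i.appLE_map (V := i ⁻¹ᵁ U') (U := U) (i.preimage_mono h) (homOfLE h').op) a)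
  rw [h0, h0']
  exact (congrArg (Z.presheaf.map (homOfLE h').op) h1).trans h2

omit [IsImmersion i] [QuasiCompact i] [IsImmersion (i ≫ p)] [QuasiCompact (i ≫ p)] in
lemma X_res_res {A B C : X.Opens} (h₁ : B ≤ A) (h₂ : C ≤ B) (x : Γ(X, A)) :
    X.presheaf.map (homOfLE h₂).op (X.presheaf.map (homOfLE h₁).op x) =
      X.presheaf.map (homOfLE (h₂.trans h₁)).op x := by
  rw [← CommRingCat.comp_apply, ← Functor.map_comp]
  rfl

variable (G : Glob i p θ)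

/-- the total derivation on sections -/
noncomputable def Dtot (U : X.Opens) : Γ(X, U) →+ Γ(M, i ⁻¹ᵁ U) :=
  ((M.presheaf.map (homOfLE (pre_ge (i := i) U)).op).hom).comp
    ((G.D (i.coborderRange.ι ⁻¹ᵁ U)).comp
      (X.presheaf.map (homOfLE (pre_le (i := i) U)).op).hom.toAddMonoidHom)

lemma Dtot_apply (U : X.Opens) (a : Γ(X, U)) :
    Dtot G U a = M.presheaf.map (homOfLE (pre_ge (i := i) U)).op
      (G.D (i.coborderRange.ι ⁻¹ᵁ U) (X.presheaf.map (homOfLE (pre_le (i := i) U)).op a)) := rfl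

lemma Dtot_mul (U : X.Opens) (a b : Γ(X, U)) :
    Dtot G U (a * b) = i.app U a • Dtot G U b + i.app U b • Dtot G U a := by
  rw [Dtot_apply, Dtot_apply, Dtot_apply, map_mul, G.D_mul, map_add, Scheme.Modules.map_smul,
    Scheme.Modules.map_smul, app_res, app_res]

lemma Dtot_map {U U' : X.Opens} (k : U' ⟶ U) (a : Γ(X, U)) :
    Dtot G U' (X.presheaf.map k.op a) =
      M.presheaf.map (homOfLE (i.preimage_mono k.le)).op (Dtot G U a) := by
  rw [Dtot_apply, Dtot_apply, res_res]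
  have e1 : X.presheaf.map (homOfLE (pre_le (i := i) U')).op (X.presheaf.map k.op a) =
      X.presheaf.map (homOfLE (Scheme.Hom.image_mono i.coborderRange.ι (pre_mono k.le))).op
        (X.presheaf.map (homOfLE (pre_le (i := i) U)).op a) := by
    rw [X_res_res]
    exact X_res_res k.le (pre_le U') a
  rw [e1, G.D_map (pre_mono k.le), res_res]

lemma Dtot_app (T : Y.Opens) (t : Γ(Y, T)) : Dtot G (p ⁻¹ᵁ T) (p.app T t) = 0 := by
  rw [Dtot_apply]
  have e1 : X.presheaf.map (homOfLE (pre_le (i := i) (p ⁻¹ᵁ T))).op (p.app T t) =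
      p.appLE T _ (pre_le (i := i) (p ⁻¹ᵁ T)) t := rfl
  rw [e1, G.D_a, map_zero]

lemma Dtot_ideal (U : X.Opens) (s : Γ(ClSub.idealMod i.ker, U)) :
    Dtot G U (OmegaSh.idealSect i.ker U s) = tv i θ U s := by
  rw [Dtot_apply]
  have e1 := idealSect_map i (homOfLE (pre_le (i := i) U)) s
  rw [← e1, G.D_k, tv_map, res_res]
  exact res_self M _ _ _

/-- the total derivation -/
noncomputable def totDer : OmegaSh.Der p ((Scheme.Modules.pushforward i).obj M) where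
  d {U} := Dtot G U.unop
  d_mul {U} a b := Dtot_mul G U.unop a b
  d_map {_ _} k a := Dtot_map G k.unop a
  d_app {T} t := Dtot_app G T.unop t

lemma totDer_ideal (U : X.Opens) (s : Γ(ClSub.idealMod i.ker, U)) :
    (totDer G).app U (OmegaSh.idealSect i.ker U s) = θ.app U s :=
  Dtot_ideal G U s

end Stage2


end Local

end Groth.Agent.Lib.Helper25.ConormalOmega
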