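import Mathlib
import Groth.Prelude.Def_Omega3
import Groth.Agent.Lib.Helper25.ConormalOmega

set_option autoImplicit false
set_option linter.unusedSectionVars false
universe u

namespace Groth.Agent.Lib.Helper25.ConormalOmega

open CategoryTheory CategoryTheory.Limits AlgebraicGeometry TopologicalSpace Opposite
open Groth.Agent.Lib.Helper25.SkyMod Groth.Agent.Lib.Helper25.EtaleDer
open Groth.Agent.Lib.Helper25.ImmDer Groth.Agent.Lib.Helper25.DiffCompat Groth.Agent.Lib.QCoh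
open Groth.Agent.Lib.Helper25.SplitConormal Groth.Agent.Lib.Helper25.DiffSeq
open Groth.Agent.Lib.Helper25.ConormalSeq

section Final

variable {Z X Y : Scheme.{u}} (i : Z ⟶ X) (p : X ⟶ Y) [IsImmersion i] [QuasiCompact i]
  [IsImmersion (i ≫ p)] [QuasiCompact (i ≫ p)]
  (ψ : (Scheme.Modules.pullback (𝟙 Z)).obj (Nmod (i ≫ p)) ⟶ Nmod i)
  (hψ : OmegaSh.IsConormalMap i (i ≫ p) p (𝟙 Z) ψ)

/-- `ψ` precomposed with `𝟙^* ≅ id` -/
noncomputable def qm : Nmod (i ≫ p) ⟶ Nmod i :=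
  (Scheme.Modules.pullbackId Z).inv.app (Nmod (i ≫ p)) ≫ ψ

include hψ in
lemma G1 (U : Y.Opens) (s : Γ(ClSub.idealMod (i ≫ p).ker, U))
    (m : Γ(ClSub.idealMod i.ker, p ⁻¹ᵁ U))
    (hm : OmegaSh.idealSect i.ker (p ⁻¹ᵁ U) m = p.app U (OmegaSh.idealSect (i ≫ p).ker U s)) :
    ((qm i p ψ).app (i ⁻¹ᵁ (p ⁻¹ᵁ U))
      (OmegaSh.pullSect (i ≫ p) (ClSub.idealMod (i ≫ p).ker) U s) : Γ(Nmod i, i ⁻¹ᵁ (p ⁻¹ᵁ U))) =
      OmegaSh.pullSect i (ClSub.idealMod i.ker) (p ⁻¹ᵁ U) m := by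
  have key := hψ.2 U s m hm (i ⁻¹ᵁ (p ⁻¹ᵁ U)) le_rfl le_rfl
  have k1 := res_self (Nmod i) (i ⁻¹ᵁ (p ⁻¹ᵁ U)) le_rfl
    (ψ.app _ (OmegaSh.pullSect (𝟙 Z) (Nmod (i ≫ p)) ((i ≫ p) ⁻¹ᵁ U)
      (OmegaSh.pullSect (i ≫ p) (ClSub.idealMod (i ≫ p).ker) U s)))
  have k2 := res_self (Nmod i) (i ⁻¹ᵁ (p ⁻¹ᵁ U)) le_rfl
    (OmegaSh.pullSect i (ClSub.idealMod i.ker) (p ⁻¹ᵁ U) m)
  have k3 := pullSect_id (Nmod (i ≫ p)) ((i ≫ p) ⁻¹ᵁ U)
    (OmegaSh.pullSect (i ≫ p) (ClSub.idealMod (i ≫ p).ker) U s)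
  refine Eq.trans ?_ (k1.symm.trans (key.trans k2))
  exact congrArg (ψ.app _) k3.symm

lemma exists_m (U : Y.Opens) (s : Γ(ClSub.idealMod (i ≫ p).ker, U)) :
    ∃ m : Γ(ClSub.idealMod i.ker, p ⁻¹ᵁ U), OmegaSh.idealSect i.ker (p ⁻¹ᵁ U) m =
      p.app U (OmegaSh.idealSect (i ≫ p).ker U s) := by
  apply exists_idealSect' i
  exact idealSect_mem (i ≫ p) U s

variable {Ω : X.Modules} (d : OmegaSh.Der p Ω) (hd : OmegaSh.IsUniversal d)
  (φ : Nmod i ⟶ (Scheme.Modules.pullback i).obj Ω) (hφ : OmegaSh.IsConormalDiff i d φ)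

include hψ hφ in
lemma qm_comp_eq_zero : qm i p ψ ≫ φ = 0 := by
  apply eq_zero_of_sections (i ≫ p)
  intro U s
  obtain ⟨m, hm⟩ := exists_m i p U s
  have e1 := G1 i p ψ hψ U s m hm
  have e2 := hφ (p ⁻¹ᵁ U) m
  have e3 : ((qm i p ψ ≫ φ).app ((i ≫ p) ⁻¹ᵁ U)
      (OmegaSh.pullSect (i ≫ p) (ClSub.idealMod (i ≫ p).ker) U s) :
        Γ((Scheme.Modules.pullback i).obj Ω, i ⁻¹ᵁ (p ⁻¹ᵁ U))) =
      φ.app (i ⁻¹ᵁ (p ⁻¹ᵁ U)) ((qm i p ψ).app (i ⁻¹ᵁ (p ⁻¹ᵁ U))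
        (OmegaSh.pullSect (i ≫ p) (ClSub.idealMod (i ≫ p).ker) U s)) := rfl
  refine e3.trans ((congrArg (φ.app (i ⁻¹ᵁ (p ⁻¹ᵁ U))) e1).trans (e2.trans ?_))
  have e4 : d.app (p ⁻¹ᵁ U) (OmegaSh.idealSect i.ker (p ⁻¹ᵁ U) m) = 0 := by
    rw [hm]
    exact d.d_app (X := op U) _
  rw [e4]
  exact map_zero _

include hψ hφ hd in
lemma exists_lift {M : Z.Modules} (θ : Nmod i ⟶ M) (hθ : qm i p ψ ≫ θ = 0) :
    ∃ β : (Scheme.Modules.pullback i).obj Ω ⟶ M, φ ≫ β = θ := by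
  have hθ' : ∀ (T : Y.Opens) (s' : Γ(ClSub.idealMod (i ≫ p).ker, T))
      (s : Γ(ClSub.idealMod i.ker, p ⁻¹ᵁ T)),
      OmegaSh.idealSect i.ker (p ⁻¹ᵁ T) s = p.app T (OmegaSh.idealSect (i ≫ p).ker T s') →
        tv i ((Scheme.Modules.pullbackPushforwardAdjunction i).homEquiv _ M θ) (p ⁻¹ᵁ T) s = 0 := by
    intro T s' s hs
    refine (homEquiv_app i θ (p ⁻¹ᵁ T) s).trans ?_
    have e1 := G1 i p ψ hψ T s' s hs
    refine (congrArg (θ.app (i ⁻¹ᵁ (p ⁻¹ᵁ T))) e1.symm).trans ?_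
    exact congr(($hθ).app (i ⁻¹ᵁ (p ⁻¹ᵁ T))
      (OmegaSh.pullSect (i ≫ p) (ClSub.idealMod (i ≫ p).ker) T s'))
  obtain ⟨G⟩ := nonempty_glob i p _ hθ'
  obtain ⟨α, hα, -⟩ := hd _ (totDer G)
  refine ⟨((Scheme.Modules.pullbackPushforwardAdjunction i).homEquiv Ω M).symm α, ?_⟩
  apply eq_of_sections i
  intro U s
  have e1 : (φ ≫ ((Scheme.Modules.pullbackPushforwardAdjunction i).homEquiv Ω M).symm α).app
      (i ⁻¹ᵁ U) (OmegaSh.pullSect i (ClSub.idealMod i.ker) U s) =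
      (((Scheme.Modules.pullbackPushforwardAdjunction i).homEquiv Ω M).symm α).app (i ⁻¹ᵁ U)
        (φ.app (i ⁻¹ᵁ U) (OmegaSh.conormalSect i U s)) := rfl
  refine e1.trans ((congrArg ((((Scheme.Modules.pullbackPushforwardAdjunction i).homEquiv Ω M).symm
    α).app (i ⁻¹ᵁ U)) (hφ U s)).trans ?_)
  refine (homEquiv_app i _ U _).symm.trans ?_
  have e2 : (Scheme.Modules.pullbackPushforwardAdjunction i).homEquiv Ω M
      (((Scheme.Modules.pullbackPushforwardAdjunction i).homEquiv Ω M).symm α) = α :=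
    Equiv.apply_symm_apply _ _
  rw [e2]
  have e3 := PresheafOfModules.Derivation.congr_d hα (X := op U) (OmegaSh.idealSect i.ker U s)
  have e4 := homEquiv_app i θ U s
  refine Eq.trans ?_ (e3.trans ((totDer_ideal G U s).trans e4))
  rfl

omit [QuasiCompact i] [IsImmersion i] [IsImmersion (i ≫ p)] [QuasiCompact (i ≫ p)] in
lemma der_appLE {F : X.Modules} (D : OmegaSh.Der p F) (T : Y.Opens) (U : X.Opens)
    (le : U ≤ p ⁻¹ᵁ T) (a : Γ(Y, T)) : D.app U (p.appLE T U le a) = 0 := by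
  have n1 := D.d_map (homOfLE le).op (p.app T a)
  have n2 : D.d (X := op (p ⁻¹ᵁ T)) (p.app T a) = 0 := D.d_app (X := op T) a
  rw [n2, map_zero] at n1
  exact n1

lemma der_ext {M : Z.Modules} (D₁ D₂ : OmegaSh.Der p ((Scheme.Modules.pushforward i).obj M))
    (h : ∀ (U : X.Opens) (s : Γ(ClSub.idealMod i.ker, U)),
      D₁.app U (OmegaSh.idealSect i.ker U s) = D₂.app U (OmegaSh.idealSect i.ker U s)) :
    D₁ = D₂ := by
  have hθ0 : ∀ (T : Y.Opens) (s' : Γ(ClSub.idealMod (i ≫ p).ker, T))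
      (s : Γ(ClSub.idealMod i.ker, p ⁻¹ᵁ T)),
      OmegaSh.idealSect i.ker (p ⁻¹ᵁ T) s = p.app T (OmegaSh.idealSect (i ≫ p).ker T s') →
        tv i (0 : ClSub.idealMod i.ker ⟶ (Scheme.Modules.pushforward i).obj M) (p ⁻¹ᵁ T) s = 0 :=
    fun _ _ _ _ => rfl
  ext U a
  have H : ∀ z : (i ⁻¹ᵁ U.unop : Z.Opens), ∃ g : GIdx i p
      (0 : ClSub.idealMod i.ker ⟶ (Scheme.Modules.pushforward i).obj M),
      i z.1 ∈ g.U ∧ g.U ≤ U.unop := by
    intro z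
    obtain ⟨g, h1, h2, -⟩ := exists_gidx i p 0 hθ0
      (⟨i z.1, subset_coborder ⟨z.1, rfl⟩⟩ : i.coborderRange)
      (i.coborderRange.ι ⁻¹ᵁ U.unop) z.2 ⊤ trivial
    refine ⟨g, ⟨_, h1, rfl⟩, ?_⟩
    exact (Scheme.Hom.image_mono _ h2).trans (pre_le U.unop)
  choose l hzl hlU using H
  refine sections_ext_of_cover M (fun z => i ⁻¹ᵁ (l z).U) (i ⁻¹ᵁ U.unop)
    (fun z => i.preimage_mono (hlU z)) ?_ _ _ ?_
  · intro z hz
    exact Opens.mem_iSup.mpr ⟨⟨z, hz⟩, hzl _⟩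
  intro z
  have n1 := D₁.d_map (homOfLE (hlU z)).op a
  have n2 := D₂.d_map (homOfLE (hlU z)).op a
  refine n1.symm.trans (Eq.trans ?_ n2)
  have key := Dg_unique (l z) (D₁.app (l z).U) (D₂.app (l z).U) ?_ ?_
  · exact DFunLike.congr_fun key _
  · intro a'
    rw [der_appLE, der_appLE]
  · intro k
    exact h _ k

include hd hφ in
theorem epi_phi : Epi φ := by
  constructor
  intro M β β' hβ
  apply ((Scheme.Modules.pullbackPushforwardAdjunction i).homEquiv Ω M).injective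
  have hD : d.postcomp ((Scheme.Modules.pullbackPushforwardAdjunction i).homEquiv Ω M β).val =
      d.postcomp ((Scheme.Modules.pullbackPushforwardAdjunction i).homEquiv Ω M β').val := by
    apply der_ext i p
    intro U s
    show (((Scheme.Modules.pullbackPushforwardAdjunction i).homEquiv Ω M β).val.app (op U)).hom
        (d.app U (OmegaSh.idealSect i.ker U s)) =
      (((Scheme.Modules.pullbackPushforwardAdjunction i).homEquiv Ω M β').val.app (op U)).hom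
        (d.app U (OmegaSh.idealSect i.ker U s))
    rw [homEquiv_app, homEquiv_app, ← hφ U s]
    exact congr(($hβ).app (i ⁻¹ᵁ U) (OmegaSh.conormalSect i U s))
  obtain ⟨α₀, -, huniq⟩ := hd _ (d.postcomp
    ((Scheme.Modules.pullbackPushforwardAdjunction i).homEquiv Ω M β).val)
  exact (huniq _ rfl).trans (huniq _ hD.symm).symm

include hψ hd hφ in
theorem conormal_omega_exact :
    ∃ w : ψ ≫ φ = 0, (ShortComplex.mk ψ φ w).Exact ∧ Epi φ := by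
  have w' : qm i p ψ ≫ φ = 0 := qm_comp_eq_zero i p ψ hψ d φ hφ
  have hepi : Epi φ := epi_phi i p d hd φ hφ
  have hψeq : ψ = (Scheme.Modules.pullbackId Z).hom.app (Nmod (i ≫ p)) ≫ qm i p ψ := by
    unfold qm
    rw [Iso.hom_inv_id_app_assoc]
  have w : ψ ≫ φ = 0 := by
    rw [hψeq, Category.assoc, w', comp_zero]
  have hcolim : IsColimit (CokernelCofork.ofπ φ w') :=
    CokernelCofork.IsColimit.ofπ φ w'
      (fun θ hθ => (exists_lift i p ψ hψ d hd φ hφ θ hθ).choose)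
      (fun θ hθ => (exists_lift i p ψ hψ d hd φ hφ θ hθ).choose_spec)
      (fun θ hθ m hm => by
        rw [← cancel_epi φ, hm, (exists_lift i p ψ hψ d hd φ hφ θ hθ).choose_spec])
  have hex : (ShortComplex.mk (qm i p ψ) φ w').Exact :=
    ShortComplex.exact_of_g_is_cokernel _ hcolim
  refine ⟨w, ?_, hepi⟩
  have e : ShortComplex.mk (qm i p ψ) φ w' ≅ ShortComplex.mk ψ φ w :=
    ShortComplex.isoMk ((Scheme.Modules.pullbackId Z).app (Nmod (i ≫ p))).symm (Iso.refl _)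
      (Iso.refl _)
      (by
        show qm i p ψ ≫ 𝟙 _ = (Scheme.Modules.pullbackId Z).inv.app (Nmod (i ≫ p)) ≫ ψ
        rw [Category.comp_id]
        rfl)
      (by
        show φ ≫ 𝟙 _ = 𝟙 _ ≫ φ
        rw [Category.comp_id, Category.id_comp])
  exact ShortComplex.exact_of_iso e hex

end Final

end Groth.Agent.Lib.Helper25.ConormalOmega
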