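import Mathlib
import Groth.Prelude.Def_Omega3
import Groth.Agent.Lib.Helper25.ConormalOmega2

set_option autoImplicit false
set_option linter.unusedSectionVars false
universe u

namespace Groth.Agent.Lib.Helper25.ConormalMapEx

open CategoryTheory CategoryTheory.Limits AlgebraicGeometry TopologicalSpace Opposite
open Groth.Agent.Lib.Helper25.SkyMod Groth.Agent.Lib.Helper25.EtaleDer
open Groth.Agent.Lib.Helper25.ImmDer Groth.Agent.Lib.Helper25.DiffCompat Groth.Agent.Lib.QCoh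
open Groth.Agent.Lib.Helper25.SplitConormal Groth.Agent.Lib.Helper25.DiffSeq
open Groth.Agent.Lib.Helper25.ConormalSeq Groth.Agent.Lib.Helper25.ConormalOmega

section

variable {Z X Z' X' : Scheme.{u}} (i : Z ⟶ X) (i' : Z' ⟶ X') [IsImmersion i] [IsImmersion i']
    [QuasiCompact i] [QuasiCompact i'] (g : X ⟶ X') (gZ : Z ⟶ Z') (hsq : gZ ≫ i' = i ≫ g)

lemma app_of_eq {a b : Z ⟶ X'} (hab : a = b) (U' : X'.Opens) (x : Γ(X', U'))
    (h : a ⁻¹ᵁ U' ≤ b ⁻¹ᵁ U') :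
    a.app U' x = Z.presheaf.map (homOfLE h).op (b.app U' x) := by
  subst hab
  exact (ring_res_self _ _ _).symm

include hsq in
lemma hV (U' : X'.Opens) : gZ ⁻¹ᵁ (i' ⁻¹ᵁ U') ≤ i ⁻¹ᵁ (g ⁻¹ᵁ U') := by
  have : (gZ ≫ i') ⁻¹ᵁ U' = (i ≫ g) ⁻¹ᵁ U' := by rw [hsq]
  exact this.le

include hsq in
lemma hV' (U' : X'.Opens) : i ⁻¹ᵁ (g ⁻¹ᵁ U') ≤ gZ ⁻¹ᵁ (i' ⁻¹ᵁ U') := by
  have : (gZ ≫ i') ⁻¹ᵁ U' = (i ≫ g) ⁻¹ᵁ U' := by rw [hsq]
  exact this.ge

include hsq in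
lemma sq_app (U' : X'.Opens) (x : Γ(X', U')) :
    gZ.app (i' ⁻¹ᵁ U') (i'.app U' x) =
      Z.presheaf.map (homOfLE (hV i i' g gZ hsq U')).op (i.app (g ⁻¹ᵁ U') (g.app U' x)) :=
  app_of_eq hsq U' x (hV i i' g gZ hsq U')

include hsq in
lemma sq_app' (U' : X'.Opens) (x : Γ(X', U')) :
    i.app (g ⁻¹ᵁ U') (g.app U' x) =
      Z.presheaf.map (homOfLE (hV' i i' g gZ hsq U')).op (gZ.app (i' ⁻¹ᵁ U') (i'.app U' x)) :=
  app_of_eq hsq.symm U' x (hV' i i' g gZ hsq U')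

include hsq in
lemma app_kill (U' : X'.Opens) (s' : Γ(ClSub.idealMod i'.ker, U')) :
    i.app (g ⁻¹ᵁ U') (g.app U' (OmegaSh.idealSect i'.ker U' s')) = 0 := by
  rw [sq_app' i i' g gZ hsq, idealSect_mem i' U' s', map_zero, map_zero]

/-- the lift of `g♯ s'` to the ideal of `Z` -/
noncomputable def lift (U' : X'.Opens) (s' : Γ(ClSub.idealMod i'.ker, U')) :
    Γ(ClSub.idealMod i.ker, g ⁻¹ᵁ U') :=
  (exists_idealSect' i (g ⁻¹ᵁ U') _ (app_kill i i' g gZ hsq U' s')).choose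

lemma lift_spec (U' : X'.Opens) (s' : Γ(ClSub.idealMod i'.ker, U')) :
    OmegaSh.idealSect i.ker (g ⁻¹ᵁ U') (lift i i' g gZ hsq U' s') =
      g.app U' (OmegaSh.idealSect i'.ker U' s') :=
  (exists_idealSect' i (g ⁻¹ᵁ U') _ (app_kill i i' g gZ hsq U' s')).choose_spec

lemma lift_add (U' : X'.Opens) (a b : Γ(ClSub.idealMod i'.ker, U')) :
    lift i i' g gZ hsq U' (a + b) = lift i i' g gZ hsq U' a + lift i i' g gZ hsq U' b := by
  apply idealSect_injective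
  rw [map_add, lift_spec, lift_spec, lift_spec, map_add, map_add]

lemma lift_smul (U' : X'.Opens) (x : Γ(X', U')) (m : Γ(ClSub.idealMod i'.ker, U')) :
    lift i i' g gZ hsq U' (x • m) = g.app U' x • lift i i' g gZ hsq U' m := by
  apply idealSect_injective
  rw [idealSect_smul, lift_spec, lift_spec, idealSect_smul, map_mul]

lemma lift_map {U' V' : X'.Opens} (k : V' ⟶ U') (m : Γ(ClSub.idealMod i'.ker, U')) :
    lift i i' g gZ hsq V' ((ClSub.idealMod i'.ker).presheaf.map k.op m) =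
      (ClSub.idealMod i.ker).presheaf.map (homOfLE (g.preimage_mono k.le)).op
        (lift i i' g gZ hsq U' m) := by
  apply idealSect_injective
  rw [idealSect_map, lift_spec, lift_spec, idealSect_map]
  exact congr($(g.naturality k.op) (OmegaSh.idealSect i'.ker U' m))

lemma lift_eq (U' : X'.Opens) (s' : Γ(ClSub.idealMod i'.ker, U'))
    (s : Γ(ClSub.idealMod i.ker, g ⁻¹ᵁ U'))
    (hs : OmegaSh.idealSect i.ker (g ⁻¹ᵁ U') s = g.app U' (OmegaSh.idealSect i'.ker U' s')) :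
    lift i i' g gZ hsq U' s' = s := by
  apply idealSect_injective
  rw [lift_spec, hs]

/-- the target module -/
noncomputable abbrev Fmod : X'.Modules :=
  (Scheme.Modules.pushforward i').obj ((Scheme.Modules.pushforward gZ).obj (Nmod i))

/-- the sectionwise map -/
noncomputable def Lg (U' : X'.Opens) :
    Γ(ClSub.idealMod i'.ker, U') →+ Γ(Fmod i i' gZ, U') :=
  AddMonoidHom.mk' (fun s' => ((Nmod i).presheaf.map (homOfLE (hV i i' g gZ hsq U')).op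
    (OmegaSh.pullSect i (ClSub.idealMod i.ker) (g ⁻¹ᵁ U') (lift i i' g gZ hsq U' s')) :
      Γ(Nmod i, gZ ⁻¹ᵁ (i' ⁻¹ᵁ U')))) (by
    intro a b
    rw [lift_add, map_add, map_add]
    rfl)

lemma Lg_apply (U' : X'.Opens) (s' : Γ(ClSub.idealMod i'.ker, U')) :
    (Lg i i' g gZ hsq U' s' : Γ(Nmod i, gZ ⁻¹ᵁ (i' ⁻¹ᵁ U'))) =
      (Nmod i).presheaf.map (homOfLE (hV i i' g gZ hsq U')).op
        (OmegaSh.pullSect i (ClSub.idealMod i.ker) (g ⁻¹ᵁ U') (lift i i' g gZ hsq U' s')) := rfl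

lemma Lg_smul (U' : X'.Opens) (x : Γ(X', U')) (m : Γ(ClSub.idealMod i'.ker, U')) :
    Lg i i' g gZ hsq U' (x • m) = x • Lg i i' g gZ hsq U' m := by
  have h1 : x • Lg i i' g gZ hsq U' m = (show Γ(Nmod i, gZ ⁻¹ᵁ (i' ⁻¹ᵁ U')) from
      gZ.app (i' ⁻¹ᵁ U') (i'.app U' x) •
        (show Γ(Nmod i, gZ ⁻¹ᵁ (i' ⁻¹ᵁ U')) from Lg i i' g gZ hsq U' m)) := rfl
  rw [h1, sq_app i i' g gZ hsq]
  show (Nmod i).presheaf.map (homOfLE (hV i i' g gZ hsq U')).op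
        (OmegaSh.pullSect i (ClSub.idealMod i.ker) (g ⁻¹ᵁ U') (lift i i' g gZ hsq U' (x • m))) = _
  rw [lift_smul, pullSect_smul, Scheme.Modules.map_smul]
  rfl

lemma Lg_map {U' V' : X'.Opens} (k : V' ⟶ U') (m : Γ(ClSub.idealMod i'.ker, U')) :
    (Fmod i i' gZ).presheaf.map k.op (Lg i i' g gZ hsq U' m) =
      Lg i i' g gZ hsq V' ((ClSub.idealMod i'.ker).presheaf.map k.op m) := by
  have h1 : (Fmod i i' gZ).presheaf.map k.op (Lg i i' g gZ hsq U' m) =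
      (Nmod i).presheaf.map (homOfLE (gZ.preimage_mono (i'.preimage_mono k.le))).op
        (show Γ(Nmod i, gZ ⁻¹ᵁ (i' ⁻¹ᵁ U')) from Lg i i' g gZ hsq U' m) := rfl
  rw [h1, Lg_apply, Lg_apply, lift_map, pullSect_map, res_res, res_res]

include hsq in
theorem exists_L : ∃ L : ClSub.idealMod i'.ker ⟶ Fmod i i' gZ,
    ∀ (U' : X'.Opens) (m : Γ(ClSub.idealMod i'.ker, U')),
      L.app U' m = Lg i i' g gZ hsq U' m := by
  refine exists_glue_lin (fun U' : X'.Opens => U') ?_ (Lg i i' g gZ hsq)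
    (fun U' x m => Lg_smul i i' g gZ hsq U' x m)
    (fun U' V' k m => Lg_map i i' g gZ hsq k m)
  exact Opens.isBasis_iff_nbhd.mpr (fun {U x} hx => ⟨U, ⟨U, rfl⟩, hx, le_rfl⟩)

include hsq in
theorem exists_conormalMap :
    ∃ φ : (Scheme.Modules.pullback gZ).obj (Nmod i') ⟶ Nmod i,
      OmegaSh.IsConormalMap i i' g gZ φ := by
  obtain ⟨L, hL⟩ := exists_L i i' g gZ hsq
  let α : Nmod i' ⟶ (Scheme.Modules.pushforward gZ).obj (Nmod i) :=
    ((Scheme.Modules.pullbackPushforwardAdjunction i').homEquiv _ _).symm L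
  let φ : (Scheme.Modules.pullback gZ).obj (Nmod i') ⟶ Nmod i :=
    ((Scheme.Modules.pullbackPushforwardAdjunction gZ).homEquiv _ _).symm α
  refine ⟨φ, hsq, ?_⟩
  intro U' s' s hs V h₁ h₂
  have e1 : (φ.app (gZ ⁻¹ᵁ (i' ⁻¹ᵁ U')) (OmegaSh.pullSect gZ (Nmod i') (i' ⁻¹ᵁ U')
      (OmegaSh.conormalSect i' U' s')) : Γ(Nmod i, gZ ⁻¹ᵁ (i' ⁻¹ᵁ U'))) =
      Lg i i' g gZ hsq U' s' := by
    refine (homEquiv_app gZ φ (i' ⁻¹ᵁ U') _).symm.trans ?_
    have e2 : (Scheme.Modules.pullbackPushforwardAdjunction gZ).homEquiv _ _ φ = α :=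
      Equiv.apply_symm_apply _ _
    rw [e2]
    refine (homEquiv_app i' α U' s').symm.trans ?_
    have e3 : (Scheme.Modules.pullbackPushforwardAdjunction i').homEquiv _ _ α = L :=
      Equiv.apply_symm_apply _ _
    rw [e3]
    exact hL U' s'
  refine (congrArg ((Nmod i).presheaf.map (homOfLE h₁).op) e1).trans ?_
  rw [Lg_apply, lift_eq i i' g gZ hsq U' s' s hs]
  exact res_res (Nmod i) _ _ _

theorem conormalMap_unique (φ₁ φ₂ : (Scheme.Modules.pullback gZ).obj (Nmod i') ⟶ Nmod i)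
    (h₁ : OmegaSh.IsConormalMap i i' g gZ φ₁) (h₂ : OmegaSh.IsConormalMap i i' g gZ φ₂) :
    φ₁ = φ₂ := by
  have hsq := h₁.1
  apply ((Scheme.Modules.pullbackPushforwardAdjunction gZ).homEquiv _ _).injective
  apply eq_of_sections i'
  intro U' s'
  refine (homEquiv_app gZ φ₁ (i' ⁻¹ᵁ U') _).trans
    (Eq.trans ?_ (homEquiv_app gZ φ₂ (i' ⁻¹ᵁ U') _).symm)
  have k1 := h₁.2 U' s' (lift i i' g gZ hsq U' s') (lift_spec i i' g gZ hsq U' s')
    (gZ ⁻¹ᵁ (i' ⁻¹ᵁ U')) le_rfl (hV i i' g gZ hsq U')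
  have k2 := h₂.2 U' s' (lift i i' g gZ hsq U' s') (lift_spec i i' g gZ hsq U' s')
    (gZ ⁻¹ᵁ (i' ⁻¹ᵁ U')) le_rfl (hV i i' g gZ hsq U')
  have k3 := k1.trans k2.symm
  have r1 := res_self (Nmod i) (gZ ⁻¹ᵁ (i' ⁻¹ᵁ U')) le_rfl
    (φ₁.app (gZ ⁻¹ᵁ (i' ⁻¹ᵁ U')) (OmegaSh.pullSect gZ (Nmod i') (i' ⁻¹ᵁ U')
      (OmegaSh.conormalSect i' U' s')))
  have r2 := res_self (Nmod i) (gZ ⁻¹ᵁ (i' ⁻¹ᵁ U')) le_rfl
    (φ₂.app (gZ ⁻¹ᵁ (i' ⁻¹ᵁ U')) (OmegaSh.pullSect gZ (Nmod i') (i' ⁻¹ᵁ U')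
      (OmegaSh.conormalSect i' U' s')))
  exact r1.symm.trans (k3.trans r2)

include hsq in
theorem existsUnique_conormalMap :
    ∃! φ : (Scheme.Modules.pullback gZ).obj (Nmod i') ⟶ Nmod i,
      OmegaSh.IsConormalMap i i' g gZ φ := by
  obtain ⟨φ, hφ⟩ := exists_conormalMap i i' g gZ hsq
  exact ⟨φ, hφ, fun φ' hφ' => conormalMap_unique i i' g gZ φ' φ hφ' hφ⟩

end

end Groth.Agent.Lib.Helper25.ConormalMapEx
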