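import Mathlib

set_option autoImplicit false
universe u

namespace Groth.Agent.Lib.Helper25.SmoothConormalAlg

open TensorProduct

section L1

variable {B C : Type*} [CommRing B] [CommRing C] [Algebra B C]
  (hπ : Function.Surjective (algebraMap B C))
  {M : Type*} [AddCommGroup M] [Module B M]

include hπ in
/-- if `ker (B → C)` kills `M`, then `m ↦ 1 ⊗ m` is injective -/
lemma eq_zero_of_one_tmul (hJM : ∀ b : B, algebraMap B C b = 0 → ∀ m : M, b • m = 0) (m : M)
    (h : (1 : C) ⊗ₜ[B] m = 0) : m = 0 := by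
  let π : B →ₗ[B] C := Algebra.linearMap B C
  have hπ' : Function.Surjective π := hπ
  let e := LinearMap.quotKerEquivOfSurjective π hπ'
  have hker : LinearMap.ker π ≤ LinearMap.ker (LinearMap.lsmul B M) := by
    intro b hb
    rw [LinearMap.mem_ker] at hb ⊢
    ext m
    exact hJM b hb m
  let f : C →ₗ[B] M →ₗ[B] M := (Submodule.liftQ _ (LinearMap.lsmul B M) hker) ∘ₗ e.symm.toLinearMap
  have hf : ∀ b : B, f (algebraMap B C b) = LinearMap.lsmul B M b := by
    intro b
    have : e.symm (algebraMap B C b) = Submodule.Quotient.mk b := by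
      rw [LinearEquiv.symm_apply_eq]
      rfl
    show Submodule.liftQ _ (LinearMap.lsmul B M) hker (e.symm (algebraMap B C b)) = _
    rw [this]
    rfl
  have h2 := congrArg (TensorProduct.lift f) h
  rw [TensorProduct.lift.tmul, map_zero] at h2
  have h3 := hf 1
  rw [map_one] at h3
  rw [h3] at h2
  simpa using h2

include hπ in
/-- `1 ⊗ y = 0` in `C ⊗_B N` forces `y ∈ J • N` -/
lemma mem_smul_top_of_one_tmul {N : Type*} [AddCommGroup N] [Module B N] (y : N)
    (h : (1 : C) ⊗ₜ[B] y = 0) :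
    y ∈ (RingHom.ker (algebraMap B C)) • (⊤ : Submodule B N) := by
  set P : Submodule B N := (RingHom.ker (algebraMap B C)) • (⊤ : Submodule B N) with hP
  have h1 : (1 : C) ⊗ₜ[B] (P.mkQ y) = 0 := by
    have := congrArg (LinearMap.lTensor C P.mkQ) h
    rwa [LinearMap.lTensor_tmul, map_zero] at this
  have h2 := eq_zero_of_one_tmul hπ (M := N ⧸ P) ?_ _ h1
  · exact (Submodule.Quotient.mk_eq_zero P).mp h2
  · intro b hb m
    obtain ⟨n, rfl⟩ := P.mkQ_surjective m
    rw [← map_smul, Submodule.mkQ_apply, Submodule.Quotient.mk_eq_zero]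
    exact Submodule.smul_mem_smul hb Submodule.mem_top

end L1

section Main

variable {A B C : Type u} [CommRing A] [CommRing B] [CommRing C] [Algebra A B] [Algebra A C]
  [Algebra B C] [IsScalarTower A B C] [Algebra.FormallySmooth A B]
  (hAC : Function.Surjective (algebraMap A C))

include hAC in
/-- the key injectivity `I/I² → J/J²` -/
lemma mem_sq_of_map_mem_sq (a : A) (_ha : algebraMap A C a = 0)
    (h : algebraMap A B a ∈ RingHom.ker (algebraMap B C) * RingHom.ker (algebraMap B C)) :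
    a ∈ RingHom.ker (algebraMap A C) * RingHom.ker (algebraMap A C) := by
  set I : Ideal A := RingHom.ker (algebraMap A C) with hI
  let E := A ⧸ (I * I)
  let g : E →ₐ[A] C := Ideal.Quotient.liftₐ (I * I) (Algebra.ofId A C) (by
    intro x hx
    have : x ∈ I := Ideal.mul_le_left hx
    exact this)
  have hg : Function.Surjective g := by
    intro c
    obtain ⟨a, rfl⟩ := hAC c
    exact ⟨Ideal.Quotient.mk _ a, rfl⟩
  have hmul : ∀ u v : E, g u = 0 → g v = 0 → u * v = 0 := by
    intro u v hu hv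
    obtain ⟨a₁, rfl⟩ := Ideal.Quotient.mk_surjective u
    obtain ⟨a₂, rfl⟩ := Ideal.Quotient.mk_surjective v
    have h1 : a₁ ∈ I := hu
    have h2 : a₂ ∈ I := hv
    rw [← map_mul, Ideal.Quotient.eq_zero_iff_mem]
    exact Ideal.mul_mem_mul h1 h2
  have hnil : IsNilpotent (RingHom.ker (g : E →+* C)) := by
    refine ⟨2, ?_⟩
    rw [pow_two, Ideal.zero_eq_bot, ← le_bot_iff, Ideal.mul_le]
    intro u hu v hv
    rw [Ideal.mem_bot]
    exact hmul u v hu hv
  let σ : B →ₐ[A] E := Algebra.FormallySmooth.liftOfSurjective (IsScalarTower.toAlgHom A B C) g hg hnil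
  have hσ : ∀ b : B, g (σ b) = algebraMap B C b := fun b =>
    Algebra.FormallySmooth.liftOfSurjective_apply (IsScalarTower.toAlgHom A B C) g hg hnil b
  have hσ0 : σ (algebraMap A B a) = 0 := by
    refine Submodule.mul_induction_on h ?_ ?_
    · intro b₁ hb₁ b₂ hb₂
      rw [map_mul]
      apply hmul
      · rw [hσ]; exact hb₁
      · rw [hσ]; exact hb₂
    · intro x y hx hy
      rw [map_add, hx, hy, add_zero]
  rw [AlgHom.commutes] at hσ0
  exact Ideal.Quotient.eq_zero_iff_mem.mp hσ0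

variable {IA : Type*} [AddCommGroup IA] [Module A IA] (εA : IA →ₗ[A] A)
  (hεA : Function.Injective εA)
  (hεA' : ∀ a : A, algebraMap A C a = 0 → ∃ x, εA x = a)

include hεA hεA' in
lemma one_tmul_eq_zero_of_mem_sq (x : IA)
    (hx : εA x ∈ RingHom.ker (algebraMap A C) * RingHom.ker (algebraMap A C)) :
    (1 : C) ⊗ₜ[A] x = 0 := by
  suffices H : ∀ (r : A) (hr : r ∈ RingHom.ker (algebraMap A C) * RingHom.ker (algebraMap A C)),
      ∀ x : IA, εA x = r → (1 : C) ⊗ₜ[A] x = 0 from H _ hx x rfl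
  intro r hr
  refine Submodule.mul_induction_on' (C := fun r _ => ∀ x : IA, εA x = r → (1 : C) ⊗ₜ[A] x = 0)
    ?_ ?_ hr
  · intro a₁ ha₁ a₂ ha₂ x hx
    obtain ⟨x₂, hx₂⟩ := hεA' a₂ ha₂
    have : x = a₁ • x₂ := by
      apply hεA
      rw [hx, map_smul, hx₂, smul_eq_mul]
    rw [this, ← TensorProduct.smul_tmul, Algebra.smul_def, mul_one]
    have : algebraMap A C a₁ = 0 := ha₁
    rw [this, TensorProduct.zero_tmul]
  · intro r₁ hr₁ r₂ hr₂ h₁ h₂ x hx
    obtain ⟨x₁, hx₁⟩ := hεA' r₁ (Ideal.mul_le_left hr₁)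
    obtain ⟨x₂, hx₂⟩ := hεA' r₂ (Ideal.mul_le_left hr₂)
    have : x = x₁ + x₂ := by
      apply hεA
      rw [hx, map_add, hx₁, hx₂]
    rw [this, TensorProduct.tmul_add, h₁ x₁ hx₁, h₂ x₂ hx₂, add_zero]

end Main

section Final

variable {A B C : Type u} [CommRing A] [CommRing B] [CommRing C] [Algebra A B] [Algebra A C]
  [Algebra B C] [IsScalarTower A B C] [Algebra.FormallySmooth A B]
  (hAC : Function.Surjective (algebraMap A C))
  {IA : Type*} [AddCommGroup IA] [Module A IA] (εA : IA →ₗ[A] A)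
  (hεA : Function.Injective εA)
  (hεA' : ∀ a : A, algebraMap A C a = 0 → ∃ x, εA x = a)
  (hεA'' : ∀ x, algebraMap A C (εA x) = 0)
  {JB : Type*} [AddCommGroup JB] [Module B JB] (εB : JB →ₗ[B] B)
  (hεB'' : ∀ y, algebraMap B C (εB y) = 0)

include hAC hεA hεA' hεA'' hεB'' in
theorem one_tmul_eq_zero (x : IA) (y : JB) (hxy : εB y = algebraMap A B (εA x))
    (h : (1 : C) ⊗ₜ[B] y = 0) : (1 : C) ⊗ₜ[A] x = 0 := by
  have hBC : Function.Surjective (algebraMap B C) := by
    intro c
    obtain ⟨a, rfl⟩ := hAC c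
    exact ⟨algebraMap A B a, (IsScalarTower.algebraMap_apply A B C a).symm⟩
  have h1 := mem_smul_top_of_one_tmul hBC y h
  have h2 : εB y ∈ RingHom.ker (algebraMap B C) * RingHom.ker (algebraMap B C) := by
    refine Submodule.smul_induction_on h1 ?_ ?_
    · intro b hb n _
      rw [map_smul, smul_eq_mul]
      exact Ideal.mul_mem_mul hb (hεB'' n)
    · intro u v hu hv
      rw [map_add]
      exact add_mem hu hv
  rw [hxy] at h2
  have h3 := mem_sq_of_map_mem_sq hAC (εA x) (hεA'' x) h2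
  exact one_tmul_eq_zero_of_mem_sq εA hεA hεA' x h3

include hAC in
lemma exists_one_tmul (t : C ⊗[A] IA) : ∃ x : IA, t = (1 : C) ⊗ₜ[A] x := by
  induction t using TensorProduct.induction_on with
  | zero => exact ⟨0, (TensorProduct.tmul_zero _ _).symm⟩
  | tmul c x =>
    obtain ⟨a, rfl⟩ := hAC c
    refine ⟨a • x, ?_⟩
    rw [← TensorProduct.smul_tmul, Algebra.smul_def, mul_one]
  | add t₁ t₂ h₁ h₂ =>
    obtain ⟨x₁, rfl⟩ := h₁
    obtain ⟨x₂, rfl⟩ := h₂
    exact ⟨x₁ + x₂, (TensorProduct.tmul_add _ _ _).symm⟩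

end Final

end Groth.Agent.Lib.Helper25.SmoothConormalAlg
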