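import Mathlib
import Groth.Prelude.Def_Omega3
import Groth.Agent.Lib.Helper25.ConormalOmega2
import Groth.Agent.Lib.Helper25.SmoothConormalAlg
import Groth.Agent.Lib.QCoh.Helper50_AffineDict
import Groth.Agent.Lib.QCoh.OmegaS1

set_option autoImplicit false
set_option linter.unusedSectionVars false
set_option linter.style.haveILetI false
universe u

namespace Groth.Agent.Lib.Helper25.ConormalStalk

open CategoryTheory CategoryTheory.Limits AlgebraicGeometry TopologicalSpace Opposite TensorProduct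
open Groth.Agent.Lib.Helper25.SkyMod Groth.Agent.Lib.Helper25.EtaleDer
open Groth.Agent.Lib.Helper25.ImmDer Groth.Agent.Lib.Helper25.DiffCompat Groth.Agent.Lib.QCoh
open Groth.Agent.Lib.Helper25.SplitConormal Groth.Agent.Lib.Helper25.DiffSeq
open Groth.Agent.Lib.Helper25.ConormalSeq Groth.Agent.Lib.Helper25.ConormalOmega
open Groth.Agent.Lib.Helper25.SmoothConormalAlg

section

variable {Y X : Scheme.{u}} (j : Y ⟶ X) [IsImmersion j] [QuasiCompact j]

/-- a section of the ideal whose conormal class vanishes lies in the square of the ideal -/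
lemma idealSect_mem_sq {W : X.Opens} (hW : IsAffineOpen W) (hWc : W ≤ j.coborderRange)
    (s : Γ(ClSub.idealMod j.ker, W))
    (hs : OmegaSh.pullSect j (ClSub.idealMod j.ker) W s = 0) :
    OmegaSh.idealSect j.ker W s ∈ RingHom.ker (j.app W).hom * RingHom.ker (j.app W).hom := by
  have hV : IsAffineOpen (j ⁻¹ᵁ W) := isAffineOpen_preimage_of_le_coborder j hW hWc
  letI alg : Algebra Γ(X, W) Γ(Y, j ⁻¹ᵁ W) := (j.appLE W (j ⁻¹ᵁ W) le_rfl).hom.toAlgebra
  have hπ : Function.Surjective (algebraMap Γ(X, W) Γ(Y, j ⁻¹ᵁ W)) := by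
    show Function.Surjective (j.appLE W (j ⁻¹ᵁ W) le_rfl)
    rw [Scheme.Hom.appLE_eq_app]
    exact app_surjective_of_le_coborder j hW hWc
  have hk : RingHom.ker (algebraMap Γ(X, W) Γ(Y, j ⁻¹ᵁ W)) = RingHom.ker (j.app W).hom := by
    show RingHom.ker (j.appLE W (j ⁻¹ᵁ W) le_rfl).hom = _
    rw [Scheme.Hom.appLE_eq_app]
  obtain ⟨κ, -, hκ, -, -⟩ := exists_linearEquiv_pullback_map j (le_refl (j ⁻¹ᵁ W)) hW hV
    (𝟙 (ClSub.idealMod j.ker))
  have c1 : κ ((1 : Γ(Y, j ⁻¹ᵁ W)) ⊗ₜ[Γ(X, W)] s) = 0 := by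
    rw [hκ s]
    exact (res_self (Nmod j) _ _ _).trans hs
  have c2 : (1 : Γ(Y, j ⁻¹ᵁ W)) ⊗ₜ[Γ(X, W)] s = 0 := by
    apply κ.injective
    rw [c1, map_zero]
  have h1 := mem_smul_top_of_one_tmul hπ s c2
  rw [hk] at h1
  refine Submodule.smul_induction_on h1 ?_ ?_
  · intro b hb n _
    rw [idealSect_smul]
    exact Ideal.mul_mem_mul hb (idealSect_mem j W n)
  · intro u v hu hv
    rw [map_add]
    exact add_mem hu hv

/-- sections of the conormal sheaf over a small affine vanish if the ideal has no sections -/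
lemma conormal_sections_eq_zero {W : X.Opens} (hW : IsAffineOpen W) (hWc : W ≤ j.coborderRange)
    (h0 : ∀ s : Γ(ClSub.idealMod j.ker, W), s = 0) (t : Γ(Nmod j, j ⁻¹ᵁ W)) : t = 0 := by
  have hV : IsAffineOpen (j ⁻¹ᵁ W) := isAffineOpen_preimage_of_le_coborder j hW hWc
  letI alg : Algebra Γ(X, W) Γ(Y, j ⁻¹ᵁ W) := (j.appLE W (j ⁻¹ᵁ W) le_rfl).hom.toAlgebra
  obtain ⟨κ, -, hκ, -, -⟩ := exists_linearEquiv_pullback_map j (le_refl (j ⁻¹ᵁ W)) hW hV
    (𝟙 (ClSub.idealMod j.ker))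
  have : κ.symm t = 0 := by
    induction κ.symm t using TensorProduct.induction_on with
    | zero => rfl
    | tmul c s => rw [h0 s, TensorProduct.tmul_zero]
    | add a b ha hb => rw [ha, hb, add_zero]
  exact κ.symm.map_eq_zero_iff.mp this

end

section Fwd

variable {Y X : Scheme.{u}} (j : Y ⟶ X) [IsImmersion j] [QuasiCompact j]

theorem stalk_subsingleton_of_openImm (y : Y) (U : Y.Opens) (hy : y ∈ U)
    [IsOpenImmersion (U.ι ≫ j)] :
    Subsingleton ((Nmod j).presheaf.stalk y) := by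
  refine subsingleton_of_forall_eq 0 (fun t => ?_)
  obtain ⟨V', hyV', s, rfl⟩ := (Nmod j).presheaf.exists_germ_eq t
  have hjyO : j y ∈ (U.ι ≫ j).opensRange := ⟨⟨y, hy⟩, rfl⟩
  obtain ⟨W's, hW'o, hW'V⟩ := j.isEmbedding.isOpen_iff.mp V'.2
  let W' : X.Opens := ⟨W's, hW'o⟩
  have e1 : j ⁻¹ᵁ W' = V' := Opens.ext hW'V
  have hjyW' : j y ∈ W' := by
    have : y ∈ j ⁻¹ᵁ W' := e1 ▸ hyV'
    exact this
  obtain ⟨_, ⟨W, hW : IsAffineOpen W, rfl⟩, hyW, hWsub⟩ :=
    (X.isBasis_affineOpens).exists_subset_of_mem_open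
      (show j y ∈ (((U.ι ≫ j).opensRange ⊓ W' ⊓ j.coborderRange : X.Opens) : Set X) from
        ⟨⟨hjyO, hjyW'⟩, subset_coborder ⟨y, rfl⟩⟩)
      ((U.ι ≫ j).opensRange ⊓ W' ⊓ j.coborderRange).2
  have hWO : W ≤ (U.ι ≫ j).opensRange := fun x hx => (hWsub hx).1.1
  have hWW' : W ≤ W' := fun x hx => (hWsub hx).1.2
  have hWc : W ≤ j.coborderRange := fun x hx => (hWsub hx).2
  have hVV' : j ⁻¹ᵁ W ≤ V' := by
    rw [← e1]
    exact j.preimage_mono hWW'
  have hinj : Function.Injective (j.app W) := by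
    haveI : IsIso ((U.ι ≫ j).app W) := (U.ι ≫ j).isIso_app W hWO
    have hb := (ConcreteCategory.bijective_of_isIso ((U.ι ≫ j).app W)).1
    intro a b hab
    apply hb
    show U.ι.app _ (j.app W a) = U.ι.app _ (j.app W b)
    rw [hab]
  have h0 : ∀ s' : Γ(ClSub.idealMod j.ker, W), s' = 0 := by
    intro s'
    apply idealSect_injective j W
    rw [map_zero]
    apply hinj
    rw [idealSect_mem, map_zero]
  have hz := conormal_sections_eq_zero j hW hWc h0 ((Nmod j).presheaf.map (homOfLE hVV').op s)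
  have hg := TopCat.Presheaf.germ_res_apply (Nmod j).presheaf (homOfLE hVV') y hyW s
  rw [← hg, hz, map_zero]

end Fwd

section Bwd

variable {Y X : Scheme.{u}} (j : Y ⟶ X) [IsImmersion j] [QuasiCompact j]

omit [IsImmersion j] [QuasiCompact j] in
lemma exists_open_le_all {α : Type*} [DecidableEq α] (y : Y) (gens : Finset α) (Va : α → Y.Opens)
    (h : ∀ a ∈ gens, y ∈ Va a) : ∃ V₀ : Y.Opens, y ∈ V₀ ∧ ∀ a ∈ gens, V₀ ≤ Va a := by
  induction gens using Finset.induction_on with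
  | empty => exact ⟨⊤, trivial, by simp⟩
  | insert a s ha ih =>
    obtain ⟨V, hV, hle⟩ := ih (fun b hb => h b (Finset.mem_insert_of_mem hb))
    refine ⟨V ⊓ Va a, ⟨hV, h a (Finset.mem_insert_self _ _)⟩, ?_⟩
    intro b hb
    rcases Finset.mem_insert.mp hb with rfl | hb
    · exact inf_le_right
    · exact inf_le_left.trans (hle b hb)

lemma isIso_of_affine_of_bijective {A B : Scheme.{u}} (f : A ⟶ B) [IsAffine A] [IsAffine B]
    (hb : Function.Bijective f.appTop.hom) : IsIso f := by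
  have h1 : IsIso f.appTop := (ConcreteCategory.isIso_iff_bijective _).mpr hb
  exact (MorphismProperty.arrow_mk_iso_iff (MorphismProperty.isomorphisms _)
    (arrowIsoSpecΓOfIsAffine f)).mpr (inferInstanceAs (IsIso (Spec.map (f.appTop))))

variable [LocallyOfFinitePresentation j]

theorem exists_openImm_of_stalk_subsingleton (y : Y)
    (hst : Subsingleton ((Nmod j).presheaf.stalk y)) :
    ∃ U : Y.Opens, y ∈ U ∧ IsOpenImmersion (U.ι ≫ j) := by
  classical
  obtain ⟨t0, hyt, -⟩ := exists_iidx j y ⊤ trivial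
  have hW := t0.hU
  have hWc := t0.le
  have hV : IsAffineOpen (j ⁻¹ᵁ t0.U) := isAffineOpen_preimage_of_le_coborder j hW hWc
  have hsurj : Function.Surjective (j.app t0.U) := app_surjective_of_le_coborder j hW hWc
  have hfg : (RingHom.ker (j.app t0.U).hom).FG := by
    have h1 : RingHom.FinitePresentation (j.appLE t0.U (j ⁻¹ᵁ t0.U) le_rfl).hom :=
      HasRingHomProperty.appLE @LocallyOfFinitePresentation j inferInstance ⟨t0.U, hW⟩
        ⟨j ⁻¹ᵁ t0.U, hV⟩ le_rfl
    have h1' : RingHom.FinitePresentation (j.app t0.U).hom := by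
      rwa [Scheme.Hom.appLE_eq_app] at h1
    letI := (j.app t0.U).hom.toAlgebra
    have h2 : Algebra.FinitePresentation Γ(X, t0.U) Γ(Y, j ⁻¹ᵁ t0.U) := h1'
    exact Algebra.FinitePresentation.ker_fG_of_surjective
      (Algebra.ofId Γ(X, t0.U) Γ(Y, j ⁻¹ᵁ t0.U)) hsurj
  obtain ⟨gens, hgens⟩ := hfg
  have hloc : ∀ a ∈ gens, ∃ Va : Y.Opens, y ∈ Va ∧ ∃ (hle : Va ≤ j ⁻¹ᵁ t0.U)
      (s : Γ(ClSub.idealMod j.ker, t0.U)), OmegaSh.idealSect j.ker t0.U s = a ∧
      (Nmod j).presheaf.map (homOfLE hle).op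
        (OmegaSh.pullSect j (ClSub.idealMod j.ker) t0.U s) = 0 := by
    intro a ha
    have hak : a ∈ RingHom.ker (j.app t0.U).hom := hgens ▸ Ideal.subset_span ha
    obtain ⟨s, hs⟩ := exists_idealSect' j t0.U a hak
    have hgerm : (Nmod j).presheaf.germ (j ⁻¹ᵁ t0.U) y hyt
        (OmegaSh.pullSect j (ClSub.idealMod j.ker) t0.U s) =
        (Nmod j).presheaf.germ (j ⁻¹ᵁ t0.U) y hyt 0 := Subsingleton.elim _ _
    obtain ⟨Va, hyVa, iU, iV, e⟩ :=
      TopCat.Presheaf.germ_eq (Nmod j).presheaf y hyt hyt _ _ hgerm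
    exact ⟨Va, hyVa, iU.le, s, hs, e.trans (map_zero _)⟩
  choose! Va hyVa hVale sa hsa hta using hloc
  obtain ⟨V₀, hyV₀, hV₀le⟩ := exists_open_le_all y gens Va hyVa
  obtain ⟨W₀s, hW₀o, hW₀V⟩ := j.isEmbedding.isOpen_iff.mp V₀.2
  let W₀ : X.Opens := ⟨W₀s, hW₀o⟩
  have e0 : j ⁻¹ᵁ W₀ = V₀ := Opens.ext hW₀V
  have hjyW₀ : j y ∈ W₀ := by
    have : y ∈ j ⁻¹ᵁ W₀ := e0 ▸ hyV₀
    exact this
  obtain ⟨h, hh1, hh2⟩ := hW.exists_basicOpen_le (V := W₀) ⟨j y, hjyW₀⟩ hyt
  have hWh : IsAffineOpen (X.basicOpen h) := hW.basicOpen h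
  have hWhW : X.basicOpen h ≤ t0.U := X.basicOpen_le h
  have hWhc : X.basicOpen h ≤ j.coborderRange := hWhW.trans hWc
  have hVh : j ⁻¹ᵁ (X.basicOpen h) ≤ V₀ := by
    rw [← e0]
    exact j.preimage_mono hh1
  have hKh : RingHom.ker (j.app (X.basicOpen h)).hom =
      Ideal.span ((X.presheaf.map (homOfLE hWhW).op).hom '' (gens : Set Γ(X, t0.U))) := by
    have h1 := j.ker.map_ideal (U := ⟨X.basicOpen h, hWh⟩) (V := ⟨t0.U, hW⟩) hWhW
    rw [Scheme.Hom.ker_apply, Scheme.Hom.ker_apply] at h1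
    have h2 : RingHom.ker (j.app (X.basicOpen h)).hom =
        Ideal.map (X.presheaf.map (homOfLE hWhW).op).hom (RingHom.ker (j.app t0.U).hom) :=
      h1.symm
    rw [h2, ← hgens, Ideal.map_span]
  have hsq : RingHom.ker (j.app (X.basicOpen h)).hom ≤
      RingHom.ker (j.app (X.basicOpen h)).hom * RingHom.ker (j.app (X.basicOpen h)).hom := by
    refine hKh.le.trans (Ideal.span_le.mpr ?_)
    rintro _ ⟨a, ha, rfl⟩
    have e1 := idealSect_map j (homOfLE hWhW) (sa a)
    rw [hsa a ha] at e1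
    have e2 : OmegaSh.pullSect j (ClSub.idealMod j.ker) (X.basicOpen h)
        ((ClSub.idealMod j.ker).presheaf.map (homOfLE hWhW).op (sa a)) = 0 := by
      rw [pullSect_map]
      have e3 := res_res (Nmod j) (hVale a ha) (hVh.trans (hV₀le a ha))
        (OmegaSh.pullSect j (ClSub.idealMod j.ker) t0.U (sa a))
      refine e3.symm.trans ?_
      rw [hta a ha, map_zero]
    have e4 := idealSect_mem_sq j hWh hWhc _ e2
    rw [e1] at e4
    exact e4
  have hKhfg : (RingHom.ker (j.app (X.basicOpen h)).hom).FG := by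
    rw [hKh]
    exact ⟨gens.image (X.presheaf.map (homOfLE hWhW).op).hom, by rw [Finset.coe_image]⟩
  have hidem : IsIdempotentElem (RingHom.ker (j.app (X.basicOpen h)).hom) :=
    le_antisymm Ideal.mul_le_right hsq
  obtain ⟨e, he, hKe⟩ := (Ideal.isIdempotentElem_iff_of_fg _ hKhfg).mp hidem
  have heK : e ∈ RingHom.ker (j.app (X.basicOpen h)).hom := by
    rw [hKe]
    exact Submodule.mem_span_singleton_self e
  have hje : j.app (X.basicOpen h) e = 0 := heK
  have hW2 : IsAffineOpen (X.basicOpen (1 - e)) := hWh.basicOpen _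
  have hW2le : X.basicOpen (1 - e) ≤ X.basicOpen h := X.basicOpen_le _
  have hpre : j ⁻¹ᵁ (X.basicOpen (1 - e)) = j ⁻¹ᵁ (X.basicOpen h) := by
    rw [Scheme.preimage_basicOpen, map_sub, map_one, hje, sub_zero]
    exact Scheme.basicOpen_of_isUnit _ isUnit_one
  have hy2 : y ∈ j ⁻¹ᵁ (X.basicOpen (1 - e)) := by
    rw [hpre]
    exact hh2
  have hK2 : RingHom.ker (j.app (X.basicOpen (1 - e))).hom = ⊥ := by
    have h1 := j.ker.map_ideal (U := ⟨X.basicOpen (1 - e), hW2⟩) (V := ⟨X.basicOpen h, hWh⟩)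
      hW2le
    rw [Scheme.Hom.ker_apply, Scheme.Hom.ker_apply] at h1
    have h2 : RingHom.ker (j.app (X.basicOpen (1 - e))).hom =
        Ideal.map (X.presheaf.map (homOfLE hW2le).op).hom
          (RingHom.ker (j.app (X.basicOpen h)).hom) := h1.symm
    rw [h2, hKe]
    have h3 : (X.presheaf.map (homOfLE hW2le).op).hom e = 0 := by
      have hu : IsUnit ((X.presheaf.map (homOfLE hW2le).op).hom (1 - e)) :=
        RingedSpace.isUnit_res_basicOpen _ (1 - e)
      have h4 : (X.presheaf.map (homOfLE hW2le).op).hom e *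
          (X.presheaf.map (homOfLE hW2le).op).hom (1 - e) = 0 := by
        rw [← map_mul, mul_sub, mul_one, he.eq, sub_self, map_zero]
      exact (hu.mul_left_eq_zero).mp h4
    show Ideal.map _ (Ideal.span {e}) = ⊥
    rw [Ideal.map_span, Set.image_singleton, h3]
    exact Ideal.span_singleton_eq_bot.mpr rfl
  have hbij : Function.Bijective (j.app (X.basicOpen (1 - e))) := by
    refine ⟨(injective_iff_map_eq_zero _).mpr (fun a ha => ?_),
      app_surjective_of_le_coborder j hW2 (hW2le.trans hWhc)⟩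
    have : a ∈ RingHom.ker (j.app (X.basicOpen (1 - e))).hom := ha
    rwa [hK2, Ideal.mem_bot] at this
  refine ⟨j ⁻¹ᵁ (X.basicOpen (1 - e)), hy2, ?_⟩
  rw [← morphismRestrict_ι]
  have key : ∀ W₁ : X.Opens, W₁ = X.basicOpen (1 - e) → Function.Bijective (j.app W₁) := by
    rintro _ rfl
    exact hbij
  haveI : IsAffine (X.basicOpen (1 - e)).toScheme := hW2
  haveI : IsAffine (j ⁻¹ᵁ (X.basicOpen (1 - e))).toScheme :=
    isAffineOpen_preimage_of_le_coborder j hW2 (hW2le.trans hWhc)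
  haveI h1 : IsIso (j.app ((X.basicOpen (1 - e)).ι ''ᵁ ⊤)) :=
    (ConcreteCategory.isIso_iff_bijective _).mpr (key _ (Scheme.Opens.ι_image_top _))
  haveI h2 : IsIso (j ∣_ (X.basicOpen (1 - e))).appTop := by
    rw [morphismRestrict_appTop]
    haveI h3 : IsIso (Y.presheaf.map (eqToHom (image_morphismRestrict_preimage j
        (X.basicOpen (1 - e)) ⊤)).op) := Functor.map_isIso _ _
    exact @IsIso.comp_isIso _ _ _ _ _ _ _ h1 h3
  haveI : IsIso (j ∣_ (X.basicOpen (1 - e))) :=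
    isIso_of_affine_of_bijective _ (ConcreteCategory.bijective_of_isIso _)
  infer_instance

end Bwd

end Groth.Agent.Lib.Helper25.ConormalStalk
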