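import Groth.Agent.Lib.Helper24.ConsMorLqf

/-!
# ConsProp rows (EGA IV 9.x) on top of helper24's ConsMor libraries (helper25)

* `isConsMor_universallyInjective`, `isConsMor_quasiFinite`
* `isCons_of_isConsMor`: transfer from the morphism version (`g = 𝟙`) to single schemes
* `isCons_universallyInjective`, `isCons_lqf`, `isCons_isFinite`
-/

set_option autoImplicit false

universe u

open CategoryTheory CategoryTheory.Limits AlgebraicGeometry Topology TopologicalSpace

namespace Groth.Agent.Lib.Helper25.ConsPropRows

open Groth.Agent.Lib.Helper24.ConsLocus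
open Groth.Agent.Lib.Helper24.Lim8 Groth.Agent.Lib.Helper24.FibreLocus
open Groth.Agent.Lib.Helper24.ConsMorIso Groth.Agent.Lib.Helper24.ConsMorLqf

section
variable {X Y S : Scheme.{u}} (f : X ⟶ Y) (g : Y ⟶ S)
variable [IsIntegral S] [IsNoetherian S] [LocallyOfFiniteType g] [QuasiCompact g]
    [LocallyOfFiniteType (f ≫ g)] [QuasiCompact (f ≫ g)]

lemma dich_universallyInjective :
    Dich {s | UniversallyInjective (MoreMor.fiberMap f g s)} := by
  obtain ⟨h1, h2, h3, h4⟩ := props_of_comp f g
  have i1 : LocallyOfFiniteType (pullback.fst f f) := inferInstance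
  have i2 : QuasiCompact (pullback.fst f f) := inferInstance
  have i3 : LocallyOfFiniteType (pullback.diagonal f ≫ pullback.fst f f ≫ f ≫ g) := by
    rw [pullback.diagonal_fst_assoc]; infer_instance
  have i4 : QuasiCompact (pullback.diagonal f ≫ pullback.fst f f ≫ f ≫ g) := by
    rw [pullback.diagonal_fst_assoc]; infer_instance
  have key := dich_surjective (pullback.diagonal f) (pullback.fst f f ≫ f ≫ g)
  have : {s | UniversallyInjective (MoreMor.fiberMap f g s)} =
      {s | Surjective (MoreMor.fiberMap (pullback.diagonal f) (pullback.fst f f ≫ f ≫ g) s)} := by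
    ext s
    exact ((fiberMap_diagonal_iff (P := @Surjective) f g s).trans
      (UniversallyInjective.iff_diagonal _).symm).symm
  rw [this]
  exact key

end

theorem isConsMor_universallyInjective :
    ConsProp.IsConsMor.{u} (fun _ _ _ f _ => UniversallyInjective f) :=
  ⟨isFieldStableMor_of_descends @UniversallyInjective,
    fun _ _ _ f g _ _ _ _ _ _ ↦ dich_universallyInjective f g⟩

theorem isConsMor_quasiFinite :
    ConsProp.IsConsMor.{u} (fun _ _ _ f _ => LocallyOfFiniteType f ∧ QuasiCompact f ∧
      LocallyQuasiFinite f) := by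
  constructor
  · intro X X' Y Y' T T' f g f' g' eX eY h _ _ _ _ _ _ _ _ hY hX
    have := Groth.Agent.Lib.Helper24.ConsLocus.isNoetherian_of_subsingleton T
    obtain ⟨h1, h2⟩ := lft_qc_of_comp f g
    have h1' : LocallyOfFiniteType f' := MorphismProperty.of_isPullback hX h1
    have h2' : QuasiCompact f' := MorphismProperty.of_isPullback hX h2
    have key := isFieldStableMor_lqf f g f' g' eX eY h hY hX
    constructor
    · rintro ⟨-, -, H⟩
      exact ⟨h1', h2', key.mp H⟩
    · rintro ⟨-, -, H⟩
      exact ⟨h1, h2, key.mpr H⟩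
  · intro X Y S f g _ _ _ _ _ _
    have : ConsProp.locusMor (fun _ _ _ f _ => LocallyOfFiniteType f ∧ QuasiCompact f ∧
        LocallyQuasiFinite f) f g =
        ConsProp.locusMor (fun _ _ _ f _ => LocallyQuasiFinite f) f g := by
      ext s
      constructor
      · rintro ⟨-, -, H⟩
        exact H
      · intro H
        have := lfp_fiberMap f g s
        exact ⟨inferInstance, quasiCompact_fiberMap f g s, H⟩
    rw [this]
    exact isConsMor_lqf.2 f g

section Single

variable {X S : Scheme.{u}} (u' : X ⟶ S)

lemma fiberToSpecResidueField_congr (P : MorphismProperty Scheme.{u}) {u₁ u₂ : X ⟶ S}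
    (h : u₁ = u₂) (s : S) :
    P (u₁.fiberToSpecResidueField s) ↔ P (u₂.fiberToSpecResidueField s) := by
  subst h; rfl

lemma fiberMap_id_iff (P : MorphismProperty Scheme.{u}) [P.RespectsIso] (s : S) :
    P (MoreMor.fiberMap u' (𝟙 S) s) ↔ P (u'.fiberToSpecResidueField s) := by
  have h1 : MoreMor.fiberMap u' (𝟙 S) s ≫ Scheme.Hom.fiberToSpecResidueField (𝟙 S) s =
      (u' ≫ 𝟙 S).fiberToSpecResidueField s := pullback.lift_snd _ _ _
  have hiso : IsIso (Scheme.Hom.fiberToSpecResidueField (𝟙 S) s) :=
    inferInstanceAs (IsIso (pullback.snd (𝟙 S) (S.fromSpecResidueField s)))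
  rw [← P.cancel_right_of_respectsIso _ (Scheme.Hom.fiberToSpecResidueField (𝟙 S) s), h1]
  exact fiberToSpecResidueField_congr P (Category.comp_id u') s

/-- Transfer from the morphism version (with `g = 𝟙`) to the single-scheme version. -/
theorem isCons_of_isConsMor (P : MorphismProperty Scheme.{u}) [P.RespectsIso]
    (h : ConsProp.IsConsMor.{u} (fun _ _ _ f _ => P f)) :
    ConsProp.IsCons.{u} (fun _ _ g => P g) := by
  constructor
  · intro Y Y' T T' g g' e hh _ _ _ _ _ _ hpb
    have i1 : LocallyOfFiniteType (g ≫ 𝟙 T) := by rw [Category.comp_id]; infer_instance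
    have i2 : QuasiCompact (g ≫ 𝟙 T) := by rw [Category.comp_id]; infer_instance
    have hid : IsPullback hh (𝟙 T') (𝟙 T) hh := IsPullback.of_vert_isIso ⟨by simp⟩
    exact h.1 g (𝟙 T) g' (𝟙 T') e hh hh hid hpb
  · intro X S u _ _ _ _
    have i1 : LocallyOfFiniteType (u ≫ 𝟙 S) := by rw [Category.comp_id]; infer_instance
    have i2 : QuasiCompact (u ≫ 𝟙 S) := by rw [Category.comp_id]; infer_instance
    have : ConsProp.locus (fun _ _ g => P g) u =
        ConsProp.locusMor (fun _ _ _ f _ => P f) u (𝟙 S) := by
      ext s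
      exact (fiberMap_id_iff u P s).symm
    rw [this]
    exact h.2 u (𝟙 S)

end Single

theorem isCons_universallyInjective :
    ConsProp.IsCons.{u} (fun _ _ g => UniversallyInjective g) :=
  haveI : MorphismProperty.RespectsIso @UniversallyInjective :=
    MorphismProperty.IsStableUnderBaseChange.respectsIso
  isCons_of_isConsMor @UniversallyInjective isConsMor_universallyInjective

theorem isCons_lqf : ConsProp.IsCons.{u} (fun _ _ g => LocallyQuasiFinite g) :=
  haveI : MorphismProperty.RespectsIso @LocallyQuasiFinite :=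
    MorphismProperty.IsStableUnderBaseChange.respectsIso
  isCons_of_isConsMor @LocallyQuasiFinite isConsMor_lqf

lemma isFinite_iff_lqf {Y T : Scheme.{u}} (g : Y ⟶ T) [QuasiCompact g] [IsLocallyArtinian T] :
    IsFinite g ↔ LocallyQuasiFinite g :=
  ⟨fun _ => inferInstance, fun _ => IsFinite.of_locallyQuasiFinite g⟩

theorem isCons_isFinite : ConsProp.IsCons.{u} (fun _ _ g => IsFinite g) := by
  constructor
  · intro Y Y' T T' g g' e hh _ _ _ _ _ _ hpb
    have : QuasiCompact g' := MorphismProperty.of_isPullback hpb inferInstance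
    show IsFinite g ↔ IsFinite g'
    rw [isFinite_iff_lqf g, isFinite_iff_lqf g']
    exact isCons_lqf.1 g g' e hh hpb
  · intro X S u _ _ _ _
    have : ConsProp.locus (fun _ _ g => IsFinite g) u =
        ConsProp.locus (fun _ _ g => LocallyQuasiFinite g) u := by
      ext s
      have : QuasiCompact (u.fiberToSpecResidueField s) :=
        MorphismProperty.of_isPullback (IsPullback.of_hasPullback u (S.fromSpecResidueField s))
          inferInstance
      exact isFinite_iff_lqf (u.fiberToSpecResidueField s)
    rw [this]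
    exact isCons_lqf.2 u

end Groth.Agent.Lib.Helper25.ConsPropRows
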