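import Mathlib

/-!
# Formally unramified morphisms via the fibre rings `O_{X,x} / m_y O_{X,x}`

Helper lemmas for `Groth.Agent.S5017` and `Groth.Agent.S5011`.
-/

set_option autoImplicit false
set_option linter.style.haveILetI false

universe u

open CategoryTheory CategoryTheory.Limits AlgebraicGeometry IsLocalRing

namespace Groth.Agent.Lib.Helper25.UnramStalk

section Alg

variable {R S : Type*} [CommRing R] [CommRing S] [IsLocalRing R] [IsLocalRing S]

/-- The fibre ring map `R / m_R → S / m_R S` of a local homomorphism. -/
noncomputable abbrev fibreMap (φ : R →+* S) :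
    R ⧸ maximalIdeal R →+* S ⧸ (maximalIdeal R).map φ :=
  Ideal.quotientMap ((maximalIdeal R).map φ) φ Ideal.le_comap_map

theorem map_maximalIdeal_le (φ : R →+* S) [IsLocalHom φ] :
    (maximalIdeal R).map φ ≤ maximalIdeal S :=
  ((local_hom_TFAE φ).out 0 2 rfl rfl).mp ‹_›

/-- If the fibre ring is a field then `m_R S = m_S`. -/
theorem map_maximalIdeal_eq_of_isField (φ : R →+* S) [IsLocalHom φ]
    (h : IsField (S ⧸ (maximalIdeal R).map φ)) : (maximalIdeal R).map φ = maximalIdeal S := by
  apply eq_maximalIdeal
  rwa [Ideal.Quotient.maximal_ideal_iff_isField_quotient]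

end Alg

section Alg2

variable {R S : Type*} [CommRing R] [CommRing S] [IsLocalRing R] [IsLocalRing S] [Algebra R S]
  [IsLocalHom (algebraMap R S)]

/-- The algebra structure of the fibre ring over the residue field. -/
noncomputable abbrev fibreAlgebra :
    Algebra (ResidueField R) (S ⧸ (maximalIdeal R).map (algebraMap R S)) :=
  (fibreMap (algebraMap R S)).toAlgebra

/-- The identification `S / m_R S ≃ κ(S)` when `m_R S = m_S`, as an algebra isomorphism over
`κ(R)`. -/
noncomputable def fibreEquiv (h : (maximalIdeal R).map (algebraMap R S) = maximalIdeal S) :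
    letI : Algebra (ResidueField R) (S ⧸ (maximalIdeal R).map (algebraMap R S)) := fibreAlgebra
    (S ⧸ (maximalIdeal R).map (algebraMap R S)) ≃ₐ[ResidueField R] ResidueField S :=
  letI : Algebra (ResidueField R) (S ⧸ (maximalIdeal R).map (algebraMap R S)) := fibreAlgebra
  AlgEquiv.ofRingEquiv (f := Ideal.quotEquivOfEq h) (by
    intro x
    obtain ⟨x, rfl⟩ := residue_surjective x
    rfl)

variable [Algebra.EssFiniteType R S]

theorem formallyUnramified_iff_fibre :
    Algebra.FormallyUnramified R S ↔
      letI : Algebra (ResidueField R) (S ⧸ (maximalIdeal R).map (algebraMap R S)) := fibreAlgebra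
      IsField (S ⧸ (maximalIdeal R).map (algebraMap R S)) ∧
      Module.Finite (ResidueField R) (S ⧸ (maximalIdeal R).map (algebraMap R S)) ∧
      Algebra.IsSeparable (ResidueField R) (S ⧸ (maximalIdeal R).map (algebraMap R S)) := by
  letI : Algebra (ResidueField R) (S ⧸ (maximalIdeal R).map (algebraMap R S)) := fibreAlgebra
  constructor
  · intro h
    have hI := Algebra.FormallyUnramified.map_maximalIdeal (R := R) (S := S)
    let e := fibreEquiv hI
    refine ⟨?_, ?_, ?_⟩
    · exact e.toRingEquiv.toMulEquiv.isField (Field.toIsField (ResidueField S))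
    · exact Module.Finite.equiv e.symm.toLinearEquiv
    · exact AlgEquiv.Algebra.isSeparable e.symm
  · rintro ⟨h1, -, h3⟩
    have hI := map_maximalIdeal_eq_of_isField (algebraMap R S) h1
    let e := fibreEquiv hI
    haveI : Algebra.IsSeparable (ResidueField R) (ResidueField S) :=
      AlgEquiv.Algebra.isSeparable e
    exact Algebra.FormallyUnramified.of_map_maximalIdeal hI

theorem fibreMap_bijective_of_formallyUnramified [Algebra.FormallyUnramified R S]
    [IsPurelyInseparable (ResidueField R) (ResidueField S)] :
    Function.Bijective (fibreMap (algebraMap R S)) := by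
  letI : Algebra (ResidueField R) (S ⧸ (maximalIdeal R).map (algebraMap R S)) := fibreAlgebra
  have hI := Algebra.FormallyUnramified.map_maximalIdeal (R := R) (S := S)
  let e := fibreEquiv hI
  have hb : Function.Bijective (algebraMap (ResidueField R) (ResidueField S)) :=
    IsPurelyInseparable.bijective_algebraMap_of_isSeparable _ _
  have : (fibreMap (algebraMap R S) : R ⧸ maximalIdeal R → _) =
      e.symm ∘ algebraMap (ResidueField R) (ResidueField S) := by
    funext x
    exact (e.symm.commutes x).symm
  rw [this]
  exact e.symm.bijective.comp hb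

theorem formallyUnramified_of_fibreMap_bijective
    (h : Function.Bijective (fibreMap (algebraMap R S))) :
    Algebra.FormallyUnramified R S ∧
      Function.Bijective (algebraMap (ResidueField R) (ResidueField S)) := by
  letI : Algebra (ResidueField R) (S ⧸ (maximalIdeal R).map (algebraMap R S)) := fibreAlgebra
  have h1 : IsField (S ⧸ (maximalIdeal R).map (algebraMap R S)) :=
    (RingEquiv.ofBijective _ h).symm.toMulEquiv.isField (Field.toIsField (ResidueField R))
  have hI := map_maximalIdeal_eq_of_isField (algebraMap R S) h1
  let e := fibreEquiv hI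
  have hb : Function.Bijective (algebraMap (ResidueField R) (ResidueField S)) := by
    have : (algebraMap (ResidueField R) (ResidueField S) : ResidueField R → _) =
        e ∘ fibreMap (algebraMap R S) := by
      funext x
      exact (e.commutes x).symm
    rw [this]
    exact e.bijective.comp h
  haveI : Algebra.IsSeparable (ResidueField R) (ResidueField S) := by
    constructor
    intro x
    obtain ⟨r, rfl⟩ := hb.2 x
    exact isSeparable_algebraMap r
  exact ⟨Algebra.FormallyUnramified.of_map_maximalIdeal hI, hb⟩

end Alg2

section Sch

variable {X Y : Scheme.{u}} (f : X ⟶ Y)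

theorem formallyUnramified_iff_stalkMap :
    FormallyUnramified f ↔ ∀ x : X, (f.stalkMap x).hom.FormallyUnramified :=
  ⟨fun _ x => FormallyUnramified.stalkMap f x, fun H =>
    HasRingHomProperty.of_stalkMap (P := @FormallyUnramified)
      RingHom.FormallyUnramified.ofLocalizationPrime H⟩

theorem essFiniteType_stalkMap [LocallyOfFiniteType f] (x : X) :
    letI := (f.stalkMap x).hom.toAlgebra
    Algebra.EssFiniteType (Y.presheaf.stalk (f x)) (X.presheaf.stalk x) := by
  letI := (f.stalkMap x).hom.toAlgebra
  rw [← RingHom.essFiniteType_algebraMap, RingHom.algebraMap_toAlgebra]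
  exact LocallyOfFiniteType.stalkMap f x

/-- The fibre-ring criterion for a stalk map to be formally unramified, in the form of S5011. -/
theorem stalkMap_formallyUnramified_iff [LocallyOfFiniteType f] (x : X) :
    (f.stalkMap x).hom.FormallyUnramified ↔
      letI φ := (f.stalkMap x).hom
      letI 𝔪 := IsLocalRing.maximalIdeal ↑(Y.presheaf.stalk (f.base x))
      letI := (Ideal.quotientMap (𝔪.map φ) φ Ideal.le_comap_map).toAlgebra
      IsField (↑(X.presheaf.stalk x) ⧸ 𝔪.map φ) ∧
        Module.Finite (↑(Y.presheaf.stalk (f.base x)) ⧸ 𝔪) (↑(X.presheaf.stalk x) ⧸ 𝔪.map φ) ∧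
        Algebra.IsSeparable (↑(Y.presheaf.stalk (f.base x)) ⧸ 𝔪)
          (↑(X.presheaf.stalk x) ⧸ 𝔪.map φ) := by
  letI := (f.stalkMap x).hom.toAlgebra
  haveI : IsLocalHom (algebraMap (Y.presheaf.stalk (f x)) (X.presheaf.stalk x)) :=
    inferInstanceAs <| IsLocalHom (f.stalkMap x).hom
  haveI := essFiniteType_stalkMap f x
  have h1 : (f.stalkMap x).hom.FormallyUnramified ↔
      Algebra.FormallyUnramified (Y.presheaf.stalk (f x)) (X.presheaf.stalk x) := by
    rw [← RingHom.formallyUnramified_algebraMap, RingHom.algebraMap_toAlgebra]
  rw [h1]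
  exact formallyUnramified_iff_fibre

/-- The residue field map of a morphism gives the algebra structure on residue fields induced by
the stalk map. -/
theorem residueField_algebra_eq (x : X) :
    letI := (f.stalkMap x).hom.toAlgebra
    haveI : IsLocalHom (algebraMap (Y.presheaf.stalk (f x)) (X.presheaf.stalk x)) :=
      inferInstanceAs <| IsLocalHom (f.stalkMap x).hom
    (f.residueFieldMap x).hom.toAlgebra =
      (inferInstance : Algebra (ResidueField (Y.presheaf.stalk (f x)))
        (ResidueField (X.presheaf.stalk x))) := by
  letI := (f.stalkMap x).hom.toAlgebra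
  haveI : IsLocalHom (algebraMap (Y.presheaf.stalk (f x)) (X.presheaf.stalk x)) :=
    inferInstanceAs <| IsLocalHom (f.stalkMap x).hom
  refine Algebra.algebra_ext _ _ fun r => ?_
  obtain ⟨r, rfl⟩ := residue_surjective r
  rfl

theorem isPurelyInseparable_residueField_iff (x : X) :
    letI := (f.stalkMap x).hom.toAlgebra
    haveI : IsLocalHom (algebraMap (Y.presheaf.stalk (f x)) (X.presheaf.stalk x)) :=
      inferInstanceAs <| IsLocalHom (f.stalkMap x).hom
    (f.residueFieldMap x).hom.IsPurelyInseparable ↔
      IsPurelyInseparable (ResidueField (Y.presheaf.stalk (f x)))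
        (ResidueField (X.presheaf.stalk x)) := by
  letI := (f.stalkMap x).hom.toAlgebra
  haveI : IsLocalHom (algebraMap (Y.presheaf.stalk (f x)) (X.presheaf.stalk x)) :=
    inferInstanceAs <| IsLocalHom (f.stalkMap x).hom
  rw [RingHom.IsPurelyInseparable, residueField_algebra_eq]
  rfl

set_option backward.isDefEq.respectTransparency false in
/-- **EGA IV 17.2.6**: a morphism locally of finite type is a monomorphism iff every nonempty fibre
is the spectrum of the residue field. -/
theorem mono_iff_fibre [LocallyOfFiniteType f] :
    Mono f ↔ ∀ x : ↥X,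
      (∀ x' : ↥X, f.base x' = f.base x → x' = x) ∧
        Function.Bijective
          (Ideal.quotientMap
            ((IsLocalRing.maximalIdeal ↑(Y.presheaf.stalk (f.base x))).map (f.stalkMap x).hom)
            (f.stalkMap x).hom Ideal.le_comap_map) := by
  constructor
  · intro hmono x
    refine ⟨fun x' h => f.injective h, ?_⟩
    haveI : IsIso (pullback.diagonal f) := (pullback.isIso_diagonal_iff f).mpr hmono
    haveI : AlgebraicGeometry.FormallyUnramified f := inferInstance
    letI := (f.stalkMap x).hom.toAlgebra
    haveI : IsLocalHom (algebraMap (Y.presheaf.stalk (f x)) (X.presheaf.stalk x)) :=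
      inferInstanceAs <| IsLocalHom (f.stalkMap x).hom
    haveI := essFiniteType_stalkMap f x
    haveI : Algebra.FormallyUnramified (Y.presheaf.stalk (f x)) (X.presheaf.stalk x) := by
      rw [← RingHom.formallyUnramified_algebraMap, RingHom.algebraMap_toAlgebra]
      exact AlgebraicGeometry.FormallyUnramified.stalkMap f x
    haveI : IsPurelyInseparable (ResidueField (Y.presheaf.stalk (f x)))
        (ResidueField (X.presheaf.stalk x)) := by
      have htfae : UniversallyInjective f ↔ Function.Injective f ∧
          ∀ x, (f.residueFieldMap x).hom.IsPurelyInseparable :=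
        (tfae_universallyInjective f).out 0 2
      have h3 := htfae.mp inferInstance
      exact (isPurelyInseparable_residueField_iff f x).mp (h3.2 x)
    exact fibreMap_bijective_of_formallyUnramified
  · intro H
    have hstalk : ∀ x : X, (f.stalkMap x).hom.FormallyUnramified ∧
        (f.residueFieldMap x).hom.IsPurelyInseparable := by
      intro x
      letI := (f.stalkMap x).hom.toAlgebra
      haveI : IsLocalHom (algebraMap (Y.presheaf.stalk (f x)) (X.presheaf.stalk x)) :=
        inferInstanceAs <| IsLocalHom (f.stalkMap x).hom
      haveI := essFiniteType_stalkMap f x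
      obtain ⟨h1, h2⟩ := formallyUnramified_of_fibreMap_bijective
        (R := Y.presheaf.stalk (f x)) (S := X.presheaf.stalk x) (H x).2
      refine ⟨?_, ?_⟩
      · have := h1
        rwa [← RingHom.formallyUnramified_algebraMap, RingHom.algebraMap_toAlgebra] at this
      · rw [isPurelyInseparable_residueField_iff]
        have hint : Algebra.IsIntegral (ResidueField (Y.presheaf.stalk (f x)))
            (ResidueField (X.presheaf.stalk x)) := by
          constructor
          intro z
          obtain ⟨r, rfl⟩ := h2.2 z
          exact isIntegral_algebraMap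
        exact ⟨hint, fun z _ => h2.2 z⟩
    haveI : AlgebraicGeometry.FormallyUnramified f :=
      (formallyUnramified_iff_stalkMap f).mpr fun x => (hstalk x).1
    haveI : UniversallyInjective f := by
      have htfae : UniversallyInjective f ↔ Function.Injective f ∧
          ∀ x, (f.residueFieldMap x).hom.IsPurelyInseparable :=
        (tfae_universallyInjective f).out 0 2
      refine htfae.mpr ⟨?_, fun x => (hstalk x).2⟩
      intro x₁ x₂ h
      exact (H x₂).1 x₁ h
    have hsurj : Surjective (pullback.diagonal f) :=
      (UniversallyInjective.iff_diagonal f).mp inferInstance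
    haveI : Epi (pullback.diagonal f).base :=
      (TopCat.epi_iff_surjective _).mpr hsurj.1
    haveI : IsIso (pullback.diagonal f) := IsOpenImmersion.isIso _
    exact (pullback.isIso_diagonal_iff f).mp inferInstance

end Sch

end Groth.Agent.Lib.Helper25.UnramStalk
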