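import Mathlib
import Groth.Agent.Lib.Helper25.UnramStalk

/-!
# Étale morphisms and pullback maps / fibres

* `etale_pullback_map`: `pullback.map` of three étale morphisms is étale.
* `etale_SpecMap_residueFieldMap`: residue field extensions of an étale morphism are étale.
* `etale_fibre_map`: the map induced on fibres by an étale square is étale.
-/

open CategoryTheory AlgebraicGeometry Limits

universe u

set_option backward.isDefEq.respectTransparency false

namespace Groth.Agent.Lib.Helper25.EtaleFibre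

theorem etale_pullback_map {X Y S X' Y' S' : Scheme.{u}} (f : X ⟶ S) (g : Y ⟶ S)
    (f' : X' ⟶ S') (g' : Y' ⟶ S') (i₁ : X ⟶ X') (i₂ : Y ⟶ Y') (i₃ : S ⟶ S')
    (e₁ : f ≫ i₃ = i₁ ≫ f') (e₂ : g ≫ i₃ = i₂ ≫ g') [Etale i₁] [Etale i₂] [Etale i₃] :
    Etale (pullback.map f g f' g' i₁ i₂ i₃ e₁ e₂) := by
  have h1 : pullback.map f g f' g' i₁ i₂ i₃ e₁ e₂ =
      pullback.map f g (f ≫ i₃) (g ≫ i₃) (𝟙 _) (𝟙 _) i₃ (by simp) (by simp) ≫
        pullback.map (f ≫ i₃) (g ≫ i₃) f' g' i₁ i₂ (𝟙 _) (by simp [e₁]) (by simp [e₂]) := by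
    ext <;> simp
  rw [h1]
  have hd : Etale (pullback.diagonal i₃) := inferInstance
  have h2 : Etale (pullback.map f g (f ≫ i₃) (g ≫ i₃) (𝟙 _) (𝟙 _) i₃ (by simp) (by simp)) :=
    MorphismProperty.of_isPullback (pullback_map_diagonal_isPullback f g i₃) hd
  have h3 : Etale (pullback.map (f ≫ i₃) (g ≫ i₃) f' g' i₁ i₂ (𝟙 _)
      (by simp [e₁]) (by simp [e₂])) :=
    MorphismProperty.pullbackMap (P := @Etale) ‹_› ‹_› e₁ e₂
  infer_instance

end Groth.Agent.Lib.Helper25.EtaleFibre

namespace Groth.Agent.Lib.Helper25.EtaleFibre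

open IsLocalRing Groth.Agent.Lib.Helper25.UnramStalk

theorem etale_SpecMap_residueFieldMap {X Y : Scheme.{u}} (b : X ⟶ Y) [Etale b] (x : X) :
    Etale (Spec.map (b.residueFieldMap x)) := by
  rw [HasRingHomProperty.Spec_iff (P := @Etale)]
  let _ := (b.stalkMap x).hom.toAlgebra
  have : IsLocalHom (algebraMap (Y.presheaf.stalk (b x)) (X.presheaf.stalk x)) :=
    inferInstanceAs <| IsLocalHom (b.stalkMap x).hom
  have hfu : Algebra.FormallyUnramified (Y.presheaf.stalk (b x)) (X.presheaf.stalk x) := by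
    have := FormallyUnramified.stalkMap b x
    rwa [← RingHom.formallyUnramified_algebraMap, RingHom.algebraMap_toAlgebra]
  have heft := essFiniteType_stalkMap b x
  have hfin : Module.Finite (ResidueField (Y.presheaf.stalk (b x)))
    (ResidueField (X.presheaf.stalk x)) := inferInstance
  have hsep : Algebra.IsSeparable (ResidueField (Y.presheaf.stalk (b x)))
    (ResidueField (X.presheaf.stalk x)) := inferInstance
  unfold RingHom.Etale
  rw [residueField_algebra_eq b x]
  have h1 : Algebra.FormallyEtale (ResidueField (Y.presheaf.stalk (b x)))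
    (ResidueField (X.presheaf.stalk x)) := Algebra.FormallyEtale.of_isSeparable _ _
  have h2 : Algebra.FinitePresentation (ResidueField (Y.presheaf.stalk (b x)))
    (ResidueField (X.presheaf.stalk x)) :=
    Algebra.FinitePresentation.of_finiteType.mp inferInstance
  exact @Algebra.Etale.mk _ _ _ _ (_) h1 h2

end Groth.Agent.Lib.Helper25.EtaleFibre

namespace Groth.Agent.Lib.Helper25.EtaleFibre

theorem etale_fibre_map {U U' V V' : Scheme.{u}} (h : U ⟶ V) (h' : U' ⟶ V') (a : U' ⟶ U)
    (b : V' ⟶ V) [Etale a] [Etale b] (comm : h' ≫ b = a ≫ h) (v' : V')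
    (φ : h'.fiber v' ⟶ h.fiber (b v')) (hφ1 : φ ≫ h.fiberι (b v') = h'.fiberι v' ≫ a)
    (hφ2 : φ ≫ h.fiberToSpecResidueField (b v') =
      h'.fiberToSpecResidueField v' ≫ Spec.map (b.residueFieldMap v')) :
    Etale φ := by
  have := etale_SpecMap_residueFieldMap b v'
  have key : φ = pullback.map h' (V'.fromSpecResidueField v') h (V.fromSpecResidueField (b v'))
      a (Spec.map (b.residueFieldMap v')) b comm (by simp) := by
    apply pullback.hom_ext
    · simpa [Scheme.Hom.fiberι] using hφ1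
    · simpa [Scheme.Hom.fiberToSpecResidueField] using hφ2
  rw [key]
  exact etale_pullback_map _ _ _ _ _ _ _ _ _

end Groth.Agent.Lib.Helper25.EtaleFibre
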