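import Mathlib
import Groth.Prelude.Def_Omega3
import Groth.Agent.Lib.Helper25.ConormalOmega2

set_option autoImplicit false
set_option linter.unusedSectionVars false
universe w u

namespace Groth.Agent.Lib.Helper25.ExtClassConormal

open CategoryTheory CategoryTheory.Limits AlgebraicGeometry TopologicalSpace Opposite
open Groth.Agent.Lib.Helper25.SkyMod Groth.Agent.Lib.Helper25.EtaleDer
open Groth.Agent.Lib.Helper25.ImmDer Groth.Agent.Lib.Helper25.DiffCompat Groth.Agent.Lib.QCoh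
open Groth.Agent.Lib.Helper25.SplitConormal Groth.Agent.Lib.Helper25.DiffSeq
open Groth.Agent.Lib.Helper25.ConormalSeq Groth.Agent.Lib.Helper25.ConormalOmega

section

variable {D C C' S S₂ : Scheme.{u}} (i : D ⟶ C) (g : C ⟶ C') (q : C' ⟶ S)
  [IsImmersion i] [QuasiCompact i] [IsImmersion (i ≫ g)] [QuasiCompact (i ≫ g)]
  {pD : D ⟶ S₂} {Ω₂ : D.Modules} (d₂ : OmegaSh.Der pD Ω₂)
  {Ω₁ : C.Modules} (d₁ : OmegaSh.Der (g ≫ q) Ω₁)
  {Ω₁' : C'.Modules} (d₁' : OmegaSh.Der q Ω₁') (hd₁' : OmegaSh.IsUniversal d₁')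
  (φ : Nmod i ⟶ (Scheme.Modules.pullback i).obj Ω₁) (hφ : OmegaSh.IsConormalDiff i d₁ φ)
  (c : (Scheme.Modules.pullback i).obj Ω₁ ⟶ Ω₂) (hc : OmegaSh.IsDiffCompat i d₁ d₂ c)
  (φ' : Nmod (i ≫ g) ⟶ (Scheme.Modules.pullback (i ≫ g)).obj Ω₁')
  (hφ' : OmegaSh.IsConormalDiff (i ≫ g) d₁' φ')
  (c' : (Scheme.Modules.pullback (i ≫ g)).obj Ω₁' ⟶ Ω₂) (hc' : OmegaSh.IsDiffCompat (i ≫ g) d₁' d₂ c')
  (α : (Scheme.Modules.pullback (𝟙 D)).obj (Nmod (i ≫ g)) ⟶ Nmod i)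
  (hα : OmegaSh.IsConormalMap i (i ≫ g) g (𝟙 D) α)

/-- the derivation `a' ↦ i^*(d₁ (g♯ a'))` -/
noncomputable def bigDer :
    OmegaSh.Der q ((Scheme.Modules.pushforward (i ≫ g)).obj ((Scheme.Modules.pullback i).obj Ω₁)) :=
  (pushDer g (𝟙 S) (Category.comp_id _)
    (d₁.postcomp ((Scheme.Modules.pullbackPushforwardAdjunction i).unit.app Ω₁).val)).postcomp
    ((Scheme.Modules.pushforwardComp i g).hom.app ((Scheme.Modules.pullback i).obj Ω₁)).val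

lemma bigDer_app (U : C'.Opens) (a' : Γ(C', U)) :
    ((bigDer i g q d₁).app U a' : Γ((Scheme.Modules.pullback i).obj Ω₁, i ⁻¹ᵁ (g ⁻¹ᵁ U))) =
      OmegaSh.pullSect i Ω₁ (g ⁻¹ᵁ U) (d₁.app (g ⁻¹ᵁ U) (g.app U a')) := rfl

include hd₁' in
lemma exists_beta0 : ∃ β : (Scheme.Modules.pullback (i ≫ g)).obj Ω₁' ⟶
      (Scheme.Modules.pullback i).obj Ω₁,
    ∀ (U : C'.Opens) (a' : Γ(C', U)),
      (β.app (i ⁻¹ᵁ (g ⁻¹ᵁ U)) (OmegaSh.pullSect (i ≫ g) Ω₁' U (d₁'.app U a')) :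
        Γ((Scheme.Modules.pullback i).obj Ω₁, i ⁻¹ᵁ (g ⁻¹ᵁ U))) =
      OmegaSh.pullSect i Ω₁ (g ⁻¹ᵁ U) (d₁.app (g ⁻¹ᵁ U) (g.app U a')) := by
  obtain ⟨a, ha, -⟩ := hd₁' _ (bigDer i g q d₁)
  refine ⟨((Scheme.Modules.pullbackPushforwardAdjunction (i ≫ g)).homEquiv _ _).symm a, ?_⟩
  intro U a'
  refine (homEquiv_app (i ≫ g) _ U _).symm.trans ?_
  have e2 : (Scheme.Modules.pullbackPushforwardAdjunction (i ≫ g)).homEquiv _ _
      (((Scheme.Modules.pullbackPushforwardAdjunction (i ≫ g)).homEquiv _ _).symm a) = a :=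
    Equiv.apply_symm_apply _ _
  rw [e2]
  have e3 := PresheafOfModules.Derivation.congr_d ha (X := op U) a'
  exact e3.trans (bigDer_app i g q d₁ U a')

include hd₁' hφ hφ' hα hc hc' in
theorem exists_beta : ∃ β : (Scheme.Modules.pullback (i ≫ g)).obj Ω₁' ⟶
      (Scheme.Modules.pullback i).obj Ω₁,
    φ' ≫ β = qm i g α ≫ φ ∧ β ≫ c = c' := by
  obtain ⟨β, hβ⟩ := exists_beta0 i g q d₁ d₁' hd₁'
  refine ⟨β, ?_, ?_⟩
  · apply eq_of_sections (i ≫ g)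
    intro U s'
    obtain ⟨m, hm⟩ := exists_m i g U s'
    have l1 : ((φ' ≫ β).app ((i ≫ g) ⁻¹ᵁ U)
        (OmegaSh.pullSect (i ≫ g) (ClSub.idealMod (i ≫ g).ker) U s') :
          Γ((Scheme.Modules.pullback i).obj Ω₁, i ⁻¹ᵁ (g ⁻¹ᵁ U))) =
        β.app (i ⁻¹ᵁ (g ⁻¹ᵁ U)) (φ'.app ((i ≫ g) ⁻¹ᵁ U) (OmegaSh.conormalSect (i ≫ g) U s')) := rfl
    have l2 := congrArg (β.app (i ⁻¹ᵁ (g ⁻¹ᵁ U))) (hφ' U s')
    have l3 := hβ U (OmegaSh.idealSect (i ≫ g).ker U s')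
    have r1 : ((qm i g α ≫ φ).app ((i ≫ g) ⁻¹ᵁ U)
        (OmegaSh.pullSect (i ≫ g) (ClSub.idealMod (i ≫ g).ker) U s') :
          Γ((Scheme.Modules.pullback i).obj Ω₁, i ⁻¹ᵁ (g ⁻¹ᵁ U))) =
        φ.app (i ⁻¹ᵁ (g ⁻¹ᵁ U)) ((qm i g α).app (i ⁻¹ᵁ (g ⁻¹ᵁ U))
          (OmegaSh.pullSect (i ≫ g) (ClSub.idealMod (i ≫ g).ker) U s')) := rfl
    have r2 := congrArg (φ.app (i ⁻¹ᵁ (g ⁻¹ᵁ U))) (G1 i g α hα U s' m hm)
    have r3 := hφ (g ⁻¹ᵁ U) m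
    rw [hm] at r3
    exact l1.trans (l2.trans (l3.trans (r1.trans (r2.trans r3)).symm))
  · apply ((Scheme.Modules.pullbackPushforwardAdjunction (i ≫ g)).homEquiv _ _).injective
    have hD : d₁'.postcomp ((Scheme.Modules.pullbackPushforwardAdjunction (i ≫ g)).homEquiv _ _
        (β ≫ c)).val = d₁'.postcomp ((Scheme.Modules.pullbackPushforwardAdjunction
          (i ≫ g)).homEquiv _ _ c').val := by
      ext U a'
      show (((Scheme.Modules.pullbackPushforwardAdjunction (i ≫ g)).homEquiv _ _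
          (β ≫ c)).val.app U).hom (d₁'.app U.unop a') =
        (((Scheme.Modules.pullbackPushforwardAdjunction (i ≫ g)).homEquiv _ _ c').val.app U).hom
          (d₁'.app U.unop a')
      refine (homEquiv_app (i ≫ g) (β ≫ c) U.unop _).trans
        (Eq.trans ?_ (homEquiv_app (i ≫ g) c' U.unop _).symm)
      have l1 : ((β ≫ c).app ((i ≫ g) ⁻¹ᵁ U.unop)
          (OmegaSh.pullSect (i ≫ g) Ω₁' U.unop (d₁'.app U.unop a')) :
            Γ(Ω₂, i ⁻¹ᵁ (g ⁻¹ᵁ U.unop))) =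
          c.app (i ⁻¹ᵁ (g ⁻¹ᵁ U.unop)) (β.app (i ⁻¹ᵁ (g ⁻¹ᵁ U.unop))
            (OmegaSh.pullSect (i ≫ g) Ω₁' U.unop (d₁'.app U.unop a'))) := rfl
      have l2 := congrArg (c.app (i ⁻¹ᵁ (g ⁻¹ᵁ U.unop))) (hβ U.unop a')
      have l3 := hc (g ⁻¹ᵁ U.unop) (g.app U.unop a')
      have r1 := hc' U.unop a'
      exact l1.trans (l2.trans (l3.trans r1.symm))
    obtain ⟨a₀, -, huniq⟩ := hd₁' _ (d₁'.postcomp
      ((Scheme.Modules.pullbackPushforwardAdjunction (i ≫ g)).homEquiv _ _ c').val)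
    exact (huniq _ hD).trans (huniq _ rfl).symm

include hd₁' hφ hφ' hα hc hc' in
theorem extClass_comp_eq [HasExt.{w} D.Modules] (hw : φ ≫ c = 0)
    (hS : (ShortComplex.mk φ c hw).ShortExact) (hw' : φ' ≫ c' = 0)
    (hS' : (ShortComplex.mk φ' c' hw').ShortExact) :
    hS'.extClass.comp (Abelian.Ext.mk₀ (qm i g α)) (add_zero 1) = hS.extClass := by
  obtain ⟨β, h1, h2⟩ := exists_beta i g q d₂ d₁ d₁' hd₁' φ hφ c hc φ' hφ' c' hc' α hα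
  let f : ShortComplex.mk φ' c' hw' ⟶ ShortComplex.mk φ c hw :=
    { τ₁ := qm i g α
      τ₂ := β
      τ₃ := 𝟙 _
      comm₁₂ := h1.symm
      comm₂₃ := by
        show β ≫ c = c' ≫ 𝟙 _
        rw [h2, Category.comp_id] }
  have key := ShortComplex.ShortExact.extClass_naturality hS' hS f
  refine key.trans ?_
  show (Abelian.Ext.mk₀ (𝟙 Ω₂)).comp hS.extClass (zero_add 1) = hS.extClass
  rw [Abelian.Ext.mk₀_id_comp]

end

end Groth.Agent.Lib.Helper25.ExtClassConormal
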