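/-
Helper library for `Groth.Agent.S15547` (helper25): for a finite morphism `g : Z ⟶ X`, the points of
the fibre over `x` correspond to the maximal ideals of the stalk `(g_* O_Z)_x`.
-/
import Mathlib

open CategoryTheory AlgebraicGeometry TopologicalSpace Opposite

namespace Groth.Agent.Lib.Helper25.FinStalk

universe u

variable {Z X : Scheme.{u}} (g : Z ⟶ X)

/-- The canonical map from the stalk of `g_* O_Z` at `x` to the stalk of `O_Z` at `z`. -/
noncomputable def ρ {x : X} (z : {z : Z // g.base z = x}) :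
    (g.base _* Z.presheaf).stalk x ⟶ Z.presheaf.stalk z.1 :=
  ((g.base _* Z.presheaf).stalkCongr (Inseparable.of_eq z.2)).inv ≫
    TopCat.Presheaf.stalkPushforward CommRingCat g.base Z.presheaf z.1

lemma mem_preimage {x : X} (z : {z : Z // g.base z = x}) {W : X.Opens} (hx : x ∈ W) :
    z.1 ∈ g ⁻¹ᵁ W := by
  show g.base z.1 ∈ W
  rw [z.2]; exact hx

set_option backward.isDefEq.respectTransparency false in
lemma ρ_germ {x : X} (z : {z : Z // g.base z = x}) (W : X.Opens) (hx : x ∈ W)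
    (s : Γ(Z, g ⁻¹ᵁ W)) :
    ρ g z ((g.base _* Z.presheaf).germ W x hx s) =
      Z.presheaf.germ (g ⁻¹ᵁ W) z.1 (mem_preimage g z hx) s := by
  have h1 : (g.base _* Z.presheaf).germ W x hx ≫ ρ g z =
      Z.presheaf.germ (g ⁻¹ᵁ W) z.1 (mem_preimage g z hx) := by
    unfold ρ
    rw [TopCat.Presheaf.stalkCongr_inv, TopCat.Presheaf.germ_stalkSpecializes_assoc]
    exact TopCat.Presheaf.stalkPushforward_germ CommRingCat g.base Z.presheaf W z.1 _
  exact congr($h1 s)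

/-- the ideal `I(z)`. -/
noncomputable def I {x : X} (z : {z : Z // g.base z = x}) :
    Ideal ((g.base _* Z.presheaf).stalk x) :=
  Ideal.comap (ρ g z).hom (IsLocalRing.maximalIdeal (Z.presheaf.stalk z.1))

lemma germ_mem_I {x : X} (z : {z : Z // g.base z = x}) (W : X.Opens) (hx : x ∈ W)
    (s : Γ(Z, g ⁻¹ᵁ W)) :
    (g.base _* Z.presheaf).germ W x hx s ∈ I g z ↔ z.1 ∉ Z.basicOpen s := by
  unfold I
  rw [Ideal.mem_comap]
  show ρ g z _ ∈ _ ↔ _
  rw [ρ_germ, IsLocalRing.mem_maximalIdeal, mem_nonunits_iff,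
    Scheme.mem_basicOpen _ _ _ (mem_preimage g z hx)]

instance {x : X} (z : {z : Z // g.base z = x}) : (I g z).IsPrime := by
  unfold I; infer_instance

section affine

variable [IsAffineHom g] {U : X.Opens} (hU : IsAffineOpen U) {x : X} (hxU : x ∈ U)

/-- the map `B = Γ(Z, g⁻¹U) → (g_* O_Z)_x`. -/
noncomputable def β : Γ(Z, g ⁻¹ᵁ U) →+* (g.base _* Z.presheaf).stalk x :=
  ((g.base _* Z.presheaf).germ U x hxU).hom

omit [IsAffineHom g] in
lemma β_mem_I (z : {z : Z // g.base z = x}) (b : Γ(Z, g ⁻¹ᵁ U)) :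
    β g hxU b ∈ I g z ↔ z.1 ∉ Z.basicOpen b :=
  germ_mem_I g z U hxU b

include hU in
lemma exists_mul_eq (r : (g.base _* Z.presheaf).stalk x) :
    ∃ (a : Γ(X, U)) (n : ℕ) (b : Γ(Z, g ⁻¹ᵁ U)), x ∈ X.basicOpen a ∧
      r * β g hxU (g.app U a) ^ n = β g hxU b := by
  obtain ⟨W, hxW, s, rfl⟩ := (g.base _* Z.presheaf).exists_germ_eq r
  obtain ⟨a, haW, hxa⟩ := hU.exists_basicOpen_le ⟨x, hxW⟩ hxU
  have hV : IsAffineOpen (g ⁻¹ᵁ U) := hU.preimage g
  have hDU : X.basicOpen a ≤ U := X.basicOpen_le a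
  have hloc := hV.isLocalization_of_eq_basicOpen (g.app U a)
    (homOfLE (g.preimage_mono hDU)) (Scheme.preimage_basicOpen g a)
  let := (Z.presheaf.map (homOfLE (g.preimage_mono hDU)).op).hom.toAlgebra
  let s' : Γ(Z, g ⁻¹ᵁ X.basicOpen a) := (g.base _* Z.presheaf).map (homOfLE haW).op s
  obtain ⟨n, y, hy⟩ := IsLocalization.Away.surj (g.app U a) s'
  refine ⟨a, n, y, hxa, ?_⟩
  have h1 : (g.base _* Z.presheaf).germ (X.basicOpen a) x hxa s' =
      (g.base _* Z.presheaf).germ W x hxW s :=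
    TopCat.Presheaf.germ_res_apply _ (homOfLE haW) x hxa s
  have h2 : ∀ t : Γ(Z, g ⁻¹ᵁ U), (g.base _* Z.presheaf).germ (X.basicOpen a) x hxa
      (algebraMap Γ(Z, g ⁻¹ᵁ U) Γ(Z, g ⁻¹ᵁ X.basicOpen a) t) = β g hxU t := fun t =>
    TopCat.Presheaf.germ_res_apply (g.base _* Z.presheaf) (homOfLE hDU) x hxa t
  have := congr((g.base _* Z.presheaf).germ (X.basicOpen a) x hxa $hy)
  rw [map_mul, map_pow, h1, h2, h2] at this
  exact this

end affine

lemma fromSpec_mem_basicOpen {Y : Scheme.{u}} {U : Y.Opens} (hU : IsAffineOpen U)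
    (y : PrimeSpectrum Γ(Y, U)) (a : Γ(Y, U)) :
    hU.fromSpec y ∈ Y.basicOpen a ↔ a ∉ y.asIdeal := by
  have h := SetLike.ext_iff.mp (hU.fromSpec_preimage_basicOpen a) y
  exact h

lemma isUnit_β [IsAffineHom g] {U : X.Opens} {x : X} (hxU : x ∈ U) (a : Γ(X, U))
    (hxa : x ∈ X.basicOpen a) : IsUnit (β g hxU (g.app U a)) := by
  have h1 : IsUnit (X.presheaf.germ U x hxU a) := (Scheme.mem_basicOpen _ _ _ hxU).mp hxa
  have h2 := TopCat.Presheaf.stalkFunctor_map_germ_apply U x hxU g.c a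
  have h3 : β g hxU (g.app U a) =
      (TopCat.Presheaf.stalkFunctor CommRingCat x).map g.c (X.presheaf.germ U x hxU a) :=
    h2.symm
  rw [h3]
  exact h1.map _

theorem bijOn [IsFinite g] (x : X) :
    Set.BijOn (fun z : {z : Z // g.base z = x} => I g z) Set.univ
      {J : Ideal ((g.base _* Z.presheaf).stalk x) | J.IsMaximal} := by
  obtain ⟨U, hU, hxU, -⟩ := Opens.isBasis_iff_nbhd.mp X.isBasis_affineOpens
    (show x ∈ (⊤ : X.Opens) from trivial)
  have hV : IsAffineOpen (g ⁻¹ᵁ U) := hU.preimage g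
  have hfin : (g.app U).hom.Finite := g.finite_app U hU
  algebraize [(g.app U).hom]
  have hint : Algebra.IsIntegral Γ(X, U) Γ(Z, g ⁻¹ᵁ U) := inferInstance
  let yx := hU.primeIdealOf ⟨x, hxU⟩
  have hyx : hU.fromSpec yx = x := hU.fromSpec_primeIdealOf ⟨x, hxU⟩
  have hpx : ∀ a, a ∈ yx.asIdeal ↔ x ∉ X.basicOpen a := fun a => by
    have := fromSpec_mem_basicOpen hU yx a
    rw [hyx] at this
    tauto
  have hq : ∀ (z : {z : Z // g.base z = x}) (b : Γ(Z, g ⁻¹ᵁ U)),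
      b ∈ (I g z).comap (β g hxU) ↔ z.1 ∉ Z.basicOpen b := fun z b => β_mem_I g hxU z b
  have hP : ∀ M₁ M₂ : Ideal ((g.base _* Z.presheaf).stalk x),
      M₁.comap (β g hxU) ≤ M₂.comap (β g hxU) → M₁ ≤ M₂ := by
    intro M₁ M₂ h r hr
    obtain ⟨a, n, b, hxa, e⟩ := exists_mul_eq g hU hxU r
    have hb : β g hxU b ∈ M₁ := e ▸ M₁.mul_mem_right _ hr
    have hb2 : β g hxU b ∈ M₂ := h hb
    rw [← e] at hb2
    exact (Ideal.mul_unit_mem_iff_mem _ ((isUnit_β g hxU a hxa).pow n)).mp hb2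
  have hle : ∀ M : Ideal ((g.base _* Z.presheaf).stalk x), M ≠ ⊤ →
      (M.comap (β g hxU)).comap (algebraMap Γ(X, U) Γ(Z, g ⁻¹ᵁ U)) ≤ yx.asIdeal := by
    intro M hM a ha
    rw [hpx]
    intro hxa
    exact hM (Ideal.eq_top_of_isUnit_mem _ ha (isUnit_β g hxU a hxa))
  have hqz : ∀ z : {z : Z // g.base z = x},
      ((I g z).comap (β g hxU)).comap (algebraMap Γ(X, U) Γ(Z, g ⁻¹ᵁ U)) = yx.asIdeal := by
    intro z
    ext a
    rw [Ideal.mem_comap, hq, hpx]
    have h1 : Z.basicOpen (g.app U a) = g ⁻¹ᵁ X.basicOpen a := (Scheme.preimage_basicOpen g a).symm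
    show z.1 ∉ Z.basicOpen (g.app U a) ↔ _
    rw [h1]
    show ¬ g.base z.1 ∈ X.basicOpen a ↔ _
    rw [z.2]
  refine ⟨?_, ?_, ?_⟩
  · intro z _
    show (I g z).IsMaximal
    obtain ⟨M, hM, hle'⟩ := Ideal.exists_le_maximal (I g z) (Ideal.IsPrime.ne_top inferInstance)
    have hN : (M.comap (β g hxU)).IsPrime := Ideal.comap_isPrime _ _
    have h1 : (I g z).comap (β g hxU) ≤ M.comap (β g hxU) := Ideal.comap_mono hle'
    have h2 : (I g z).comap (β g hxU) = M.comap (β g hxU) := by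
      by_contra hne
      have hlt : (I g z).comap (β g hxU) < M.comap (β g hxU) := lt_of_le_of_ne h1 hne
      have := Ideal.IsIntegral.comap_lt_comap (R := Γ(X, U)) hlt
      rw [hqz z] at this
      exact lt_irrefl _ (this.trans_le (hle M hM.ne_top))
    have h3 : M ≤ I g z := hP _ _ h2.ge
    rw [le_antisymm hle' h3]
    exact hM
  · intro z₁ _ z₂ _ h
    have h : I g z₁ = I g z₂ := h
    have hz₁ : z₁.1 ∈ g ⁻¹ᵁ U := mem_preimage g z₁ hxU
    have hz₂ : z₂.1 ∈ g ⁻¹ᵁ U := mem_preimage g z₂ hxU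
    have e₁ : hV.fromSpec (hV.primeIdealOf ⟨z₁.1, hz₁⟩) = z₁.1 :=
      hV.fromSpec_primeIdealOf ⟨_, hz₁⟩
    have e₂ : hV.fromSpec (hV.primeIdealOf ⟨z₂.1, hz₂⟩) = z₂.1 :=
      hV.fromSpec_primeIdealOf ⟨_, hz₂⟩
    have : hV.primeIdealOf ⟨z₁.1, hz₁⟩ = hV.primeIdealOf ⟨z₂.1, hz₂⟩ := by
      apply PrimeSpectrum.ext
      ext b
      have a₁ := fromSpec_mem_basicOpen hV (hV.primeIdealOf ⟨z₁.1, hz₁⟩) b
      have a₂ := fromSpec_mem_basicOpen hV (hV.primeIdealOf ⟨z₂.1, hz₂⟩) b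
      rw [e₁] at a₁
      rw [e₂] at a₂
      have b₁ := hq z₁ b
      have b₂ := hq z₂ b
      rw [h] at b₁
      tauto
    apply Subtype.ext
    rw [← e₁, ← e₂, this]
  · intro M hM
    have hM : M.IsMaximal := hM
    have hN : (M.comap (β g hxU)).IsPrime := Ideal.comap_isPrime _ _
    have hyxp : yx.asIdeal.IsPrime := yx.2
    obtain ⟨N', hNN', hN'p, hN'c⟩ := Ideal.exists_ideal_over_prime_of_isIntegral_of_isPrime
      yx.asIdeal (M.comap (β g hxU)) (hle M hM.ne_top)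
    let y' : PrimeSpectrum Γ(Z, g ⁻¹ᵁ U) := ⟨N', hN'p⟩
    have hgz' : g.base (hV.fromSpec y') = x := by
      have h1 := IsAffineOpen.SpecMap_appLE_fromSpec g hU hV le_rfl
      have h2 : hU.fromSpec (Spec.map (g.appLE U (g ⁻¹ᵁ U) le_rfl) y') =
          g (hV.fromSpec y') := congr($h1 y')
      have h3 : Spec.map (g.appLE U (g ⁻¹ᵁ U) le_rfl) y' = yx := by
        apply PrimeSpectrum.ext
        rw [← hN'c, ← Scheme.Hom.app_eq_appLE]
        rfl
      rw [h3, hyx] at h2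
      exact h2.symm
    refine ⟨⟨hV.fromSpec y', hgz'⟩, trivial, ?_⟩
    show I g ⟨hV.fromSpec y', hgz'⟩ = M
    have : M ≤ I g ⟨hV.fromSpec y', hgz'⟩ := by
      refine hP _ _ fun b hb => ?_
      rw [hq]
      show hV.fromSpec y' ∉ Z.basicOpen b
      rw [fromSpec_mem_basicOpen hV y' b, not_not]
      exact hNN' hb
    exact (hM.eq_of_le (Ideal.IsPrime.ne_top inferInstance) this).symm

end Groth.Agent.Lib.Helper25.FinStalk
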