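import Mathlib

/-!
# Flatness over a discrete valuation ring from a reduced closed fibre (EGA IV 15.2)

Helper lemmas for `Groth.Agent.S4948`.
-/

set_option autoImplicit false
set_option linter.style.haveILetI false

open IsLocalRing

namespace Groth.Agent.Lib.Helper25.FlatDVR

/-- Let `A` be a discrete valuation ring, `R` a Noetherian local ring and `φ : A → R` a local
homomorphism such that `R / 𝔪_A R` is reduced and no minimal prime of `R` contains `𝔪_A R`.
Then `R` is flat over `A`. -/
theorem flat_of_isReduced_quotient {A R : Type*} [CommRing A] [IsDomain A]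
    [IsDiscreteValuationRing A] [CommRing R] [IsNoetherianRing R] [IsLocalRing R] (φ : A →+* R)
    [IsLocalHom φ] (hred : IsReduced (R ⧸ (maximalIdeal A).map φ))
    (hmin : ∀ q ∈ minimalPrimes R, ¬ (maximalIdeal A).map φ ≤ q) : φ.Flat := by
  obtain ⟨ϖ, hϖ⟩ := IsDiscreteValuationRing.exists_irreducible A
  have hmax : maximalIdeal A = Ideal.span {ϖ} := hϖ.maximalIdeal_eq
  set p : R := φ ϖ with hp
  have hmap : (maximalIdeal A).map φ = Ideal.span {p} := by
    rw [hmax, Ideal.map_span, Set.image_singleton]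
  rw [hmap] at hred hmin
  -- the `p`-power torsion ideal
  let T : Ideal R :=
    { carrier := {r | ∃ n : ℕ, p ^ n * r = 0}
      zero_mem' := ⟨0, by simp⟩
      add_mem' := by
        rintro a b ⟨n, hn⟩ ⟨m, hm⟩
        refine ⟨n + m, ?_⟩
        rw [mul_add, pow_add, mul_assoc, mul_comm (p ^ n) (p ^ m * a), mul_assoc, mul_comm a,
          hn, mul_zero, mul_assoc, hm, mul_zero, add_zero]
      smul_mem' := by
        rintro c a ⟨n, hn⟩
        exact ⟨n, by rw [smul_eq_mul, mul_left_comm, hn, mul_zero]⟩ }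
  have hTmem : ∀ r, r ∈ T ↔ ∃ n : ℕ, p ^ n * r = 0 := fun r => Iff.rfl
  -- `T` consists of nilpotent elements
  have hTnil : ∀ r ∈ T, IsNilpotent r := by
    intro r hr
    obtain ⟨n, hn⟩ := (hTmem r).mp hr
    rw [← mem_nilradical, nilradical, ← Ideal.sInf_minimalPrimes, Ideal.mem_sInf]
    intro q hq
    have hqp : q.IsPrime := hq.1.1
    have h0 : p ^ n * r ∈ q := hn ▸ q.zero_mem
    rcases hqp.mem_or_mem h0 with h1 | h1
    · exfalso
      refine hmin q hq ?_
      rw [Ideal.span_singleton_le_iff_mem]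
      exact hqp.mem_of_pow_mem n h1
    · exact h1
  -- `T ≤ p T`
  have hTle : T ≤ Ideal.span {p} • T := by
    intro r hr
    obtain ⟨n, hn⟩ := (hTmem r).mp hr
    have hnil := hTnil r hr
    have h1 : Ideal.Quotient.mk (Ideal.span {p}) r = 0 :=
      (hnil.map (Ideal.Quotient.mk (Ideal.span {p}))).eq_zero
    rw [Ideal.Quotient.eq_zero_iff_mem, Ideal.mem_span_singleton'] at h1
    obtain ⟨r', rfl⟩ := h1
    have hr' : r' ∈ T := ⟨n + 1, by rw [pow_succ, mul_assoc, mul_comm p r']; exact hn⟩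
    rw [mul_comm]
    exact Submodule.smul_mem_smul (Ideal.mem_span_singleton_self p) hr'
  have hpmax : Ideal.span {p} ≤ Ideal.jacobson (⊥ : Ideal R) := by
    rw [IsLocalRing.jacobson_eq_maximalIdeal ⊥ bot_ne_top, Ideal.span_singleton_le_iff_mem]
    have : ϖ ∈ maximalIdeal A := by rw [hmax]; exact Ideal.mem_span_singleton_self ϖ
    exact ((IsLocalRing.mem_maximalIdeal _).mpr
      (fun hu => (IsLocalRing.mem_maximalIdeal _).mp this (isUnit_of_map_unit φ ϖ hu)))
  have hTbot : T = ⊥ :=
    Submodule.eq_bot_of_le_smul_of_le_jacobson_bot (Ideal.span {p}) T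
      (IsNoetherian.noetherian T) hTle hpmax
  -- torsion-freeness
  letI : Algebra A R := φ.toAlgebra
  show Module.Flat A R
  rw [IsDedekindDomain.flat_iff_torsion_eq_bot, eq_bot_iff]
  rintro m ⟨⟨a, ha⟩, ham⟩
  have ha0 : a ≠ 0 := nonZeroDivisors.ne_zero ha
  obtain ⟨n, u, hu⟩ := IsDiscreteValuationRing.eq_unit_mul_pow_irreducible ha0 hϖ
  have h1 : φ a * m = 0 := ham
  have h2 : p ^ n * m = 0 := by
    rw [hu, map_mul, map_pow, mul_assoc] at h1
    have hunit : IsUnit (φ (u : A)) := (u.isUnit).map φ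
    exact hunit.mul_right_eq_zero.mp h1
  have : m ∈ T := ⟨n, h2⟩
  rw [hTbot] at this
  exact this

end Groth.Agent.Lib.Helper25.FlatDVR
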