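import Mathlib
import Groth.Prelude.Def_EGA43
import Groth.Agent.Lib.Helper25.FlatDVR
import Groth.Agent.Lib.Helper35.FiberStalk
import Groth.Agent.Lib.Helper39.ClosureSpecializes

/-!
# Flatness over a discrete valuation ring from a reduced closed fibre: scheme part

Helper lemmas for `Groth.Agent.S4948`.
-/

set_option autoImplicit false
set_option linter.style.haveILetI false

universe u

open CategoryTheory CategoryTheory.Limits AlgebraicGeometry IsLocalRing Topology

namespace Groth.Agent.Lib.Helper25.FlatDVR

/-- The stalk of `Spec A` at the closed point of a discrete valuation ring is a discrete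
valuation ring. -/
theorem isDVR_stalk_closedPoint (A : Type u) [CommRing A] [IsDomain A] [IsDiscreteValuationRing A]
    (p : Spec (CommRingCat.of A)) (hp : p = closedPoint A) :
    ∃ _ : IsDomain ((Spec (CommRingCat.of A)).presheaf.stalk p),
      IsDiscreteValuationRing ((Spec (CommRingCat.of A)).presheaf.stalk p) := by
  subst hp
  letI : Algebra A ((Spec (CommRingCat.of A)).presheaf.stalk (closedPoint A)) :=
    StructureSheaf.stalkAlgebra (R := A) (closedPoint A)
  haveI : IsLocalization.AtPrime ((Spec (CommRingCat.of A)).presheaf.stalk (closedPoint A))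
      (closedPoint A).asIdeal := StructureSheaf.IsLocalization.to_stalk (R := A) (closedPoint A)
  have hM : (closedPoint A).asIdeal.primeCompl ≤ IsUnit.submonoid A := by
    intro a ha
    by_contra hu
    exact ha ((IsLocalRing.mem_maximalIdeal a).mpr hu)
  let e : A ≃ₐ[A] ((Spec (CommRingCat.of A)).presheaf.stalk (closedPoint A)) :=
    IsLocalization.atUnits A (closedPoint A).asIdeal.primeCompl hM
  haveI : IsDomain ((Spec (CommRingCat.of A)).presheaf.stalk (closedPoint A)) :=
    e.toRingEquiv.toMulEquiv.isDomain_iff.mp inferInstance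
  exact ⟨inferInstance, IsDiscreteValuationRing.RingEquivClass.isDiscreteValuationRing e.toRingEquiv⟩

/-- If `f : X ⟶ Spec A` (with `A` a discrete valuation ring and `X` locally Noetherian) is open
at a point `ξ` of the closed fibre, then `ξ` has a generization in the generic fibre. -/
theorem exists_generization_of_isOpenAt (A : Type u) [CommRing A] [IsDomain A]
    [IsDiscreteValuationRing A] {X : Scheme.{u}} [IsLocallyNoetherian X]
    (f : X ⟶ Spec (CommRingCat.of A)) (ξ : X) (hξ : f.base ξ = closedPoint A)
    (hopen : EGA43.IsOpenAt f.base ξ) : ∃ u : X, u ⤳ ξ ∧ f.base u ≠ closedPoint A := by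
  let Uη : (Spec (CommRingCat.of A)).Opens :=
    ⟨({IsLocalRing.closedPoint A} : Set (PrimeSpectrum A))ᶜ,
      (IsLocalRing.isClosed_singleton_closedPoint A).isOpen_compl⟩
  let D : X.Opens := f ⁻¹ᵁ Uη
  have hcl : ξ ∈ closure (Set.range D.ι.base) := by
    rw [Scheme.Opens.range_ι, mem_closure_iff_nhds]
    intro W hW
    have h1 := hopen W hW
    rw [hξ] at h1
    obtain ⟨O, hOsub, hOopen, hOmem⟩ := mem_nhds_iff.mp h1
    have hOtop : (⟨O, hOopen⟩ : TopologicalSpace.Opens (PrimeSpectrum A)) = ⊤ :=
      (IsLocalRing.closedPoint_mem_iff _).mp hOmem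
    let η : PrimeSpectrum A := ⟨⊥, Ideal.isPrime_bot⟩
    have hηO : η ∈ O := by
      have : η ∈ (⟨O, hOopen⟩ : TopologicalSpace.Opens (PrimeSpectrum A)) := by
        rw [hOtop]; trivial
      exact this
    obtain ⟨w, hwW, hwη⟩ := hOsub hηO
    refine ⟨w, hwW, ?_⟩
    show f.base w ∈ ({IsLocalRing.closedPoint A} : Set (PrimeSpectrum A))ᶜ
    rw [hwη]
    intro hη
    have : (⊥ : Ideal A) = IsLocalRing.maximalIdeal A := congrArg PrimeSpectrum.asIdeal hη
    exact IsDiscreteValuationRing.not_a_field A this.symm
  obtain ⟨u, hu⟩ :=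
    Groth.Agent.Lib.Helper39.KA.exists_specializes_of_mem_closure_range D.ι ξ hcl
  refine ⟨D.ι u, hu, ?_⟩
  have : D.ι u ∈ D := u.2
  exact this

/-- EGA IV 15.2.x over a discrete valuation ring: openness at the maximal points of the closed
fibre through `x` and reducedness of the closed fibre at `x` imply flatness at `x`. -/
theorem flat_stalkMap_of_isOpenAt (A : Type u) [CommRing A] [IsDomain A]
    [IsDiscreteValuationRing A] {X : Scheme.{u}} (f : X ⟶ Spec (CommRingCat.of A))
    [LocallyOfFiniteType f] (s : Spec (CommRingCat.of A)) (hs : s = closedPoint A)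
    (z : f.fiber s)
    (h : ∀ z₁ : ↥(f.fiber s), z ∈ closure {z₁} →
      (∀ z' : ↥(f.fiber s), z₁ ∈ closure {z'} → z' = z₁) →
      EGA43.IsOpenAt f.base ((f.fiberι s).base z₁))
    (hred : _root_.IsReduced ((f.fiber s).presheaf.stalk z)) :
    ∀ x₁ : X, x₁ = (f.fiberι s).base z → (f.stalkMap x₁).hom.Flat := by
  rintro _ rfl
  set x := (f.fiberι s).base z with hxdef
  have hfx : f.base x = s := Groth.Agent.Lib.Helper35.FiberStalk.fiberι_base_eq f s z
  haveI : IsLocallyNoetherian X := LocallyOfFiniteType.isLocallyNoetherian f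
  obtain ⟨hdom, hdvr⟩ := isDVR_stalk_closedPoint A (f.base x) (hfx.trans hs)
  haveI := hdom
  haveI := hdvr
  refine flat_of_isReduced_quotient (f.stalkMap x).hom ?_ ?_
  · -- reducedness
    have hker := Groth.Agent.Lib.Helper35.FiberStalk.ker_stalkMap_fiberι f s z
    have hsurj := Groth.Agent.Lib.Helper35.FiberStalk.stalkMap_fiberι_surjective f s z
    rw [← hker]
    exact isReduced_of_injective (RingHom.quotientKerEquivOfSurjective hsurj).toRingHom
      (RingEquiv.injective _)
  · intro q hq hle
    haveI hqp : q.IsPrime := hq.1.1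
    let qpt : Spec (X.presheaf.stalk x) := ⟨q, hqp⟩
    obtain ⟨ξ, hξdef⟩ : ∃ ξ : X, ξ = X.fromSpecStalk x qpt := ⟨_, rfl⟩
    have hgen : ∀ u : X, u ⤳ ξ → u = ξ := by
      intro u hu
      have hξx : ξ ⤳ x := by
        have : ξ ∈ Set.range (X.fromSpecStalk x) := ⟨qpt, hξdef.symm⟩
        rwa [Scheme.range_fromSpecStalk] at this
      obtain ⟨q', hq'⟩ : u ∈ Set.range (X.fromSpecStalk x) := by
        rw [Scheme.range_fromSpecStalk]; exact hu.trans hξx
      have hsp : q' ⤳ qpt := by
        rw [← (X.fromSpecStalk x).isEmbedding.isInducing.specializes_iff, hq', ← hξdef]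
        exact hu
      have hle' : q'.asIdeal ≤ q :=
        (PrimeSpectrum.le_iff_specializes (q' : PrimeSpectrum (X.presheaf.stalk x))
          (qpt : PrimeSpectrum (X.presheaf.stalk x))).mpr hsp
      have hge : q ≤ q'.asIdeal := hq.2 ⟨q'.2, bot_le⟩ hle'
      have : q' = qpt := PrimeSpectrum.ext (le_antisymm hle' hge)
      rw [← hq', this, hξdef]
    -- `ξ` lies in the closed fibre
    have hfξ : f.base ξ = s := by
      have hnat := Scheme.SpecMap_stalkMap_fromSpecStalk f (x := x)
      have h1 : f.base ξ = (Spec (CommRingCat.of A)).fromSpecStalk (f.base x)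
          (Spec.map (f.stalkMap x) qpt) := by
        rw [hξdef, ← Scheme.Hom.comp_apply, ← Scheme.Hom.comp_apply, hnat]
      have h2 : Spec.map (f.stalkMap x) qpt =
          closedPoint ((Spec (CommRingCat.of A)).presheaf.stalk (f.base x)) := by
        apply PrimeSpectrum.ext
        have hle2 : maximalIdeal ((Spec (CommRingCat.of A)).presheaf.stalk (f.base x)) ≤
            q.comap (f.stalkMap x).hom := Ideal.map_le_iff_le_comap.mp hle
        exact ((maximalIdeal.isMaximal _).eq_of_le
          (Ideal.comap_ne_top _ hqp.ne_top) hle2).symm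
      rw [h1, h2, Scheme.fromSpecStalk_closedPoint]
      exact hfx
    obtain ⟨z₁, hz₁⟩ : ξ ∈ Set.range (f.fiberι s) := by
      rw [Scheme.Hom.range_fiberι]; exact hfξ
    have hopen : EGA43.IsOpenAt f.base ξ := by
      rw [← hz₁]
      refine h z₁ ?_ ?_
      · rw [← specializes_iff_mem_closure,
          ← (f.fiberι s).isEmbedding.isInducing.specializes_iff, hz₁]
        have : ξ ∈ Set.range (X.fromSpecStalk x) := ⟨qpt, hξdef.symm⟩
        rwa [Scheme.range_fromSpecStalk] at this
      · intro z' hz'
        rw [← specializes_iff_mem_closure,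
          ← (f.fiberι s).isEmbedding.isInducing.specializes_iff, hz₁] at hz'
        exact (f.fiberι s).isEmbedding.injective ((hgen _ hz').trans hz₁.symm)
    obtain ⟨u, hu, hune⟩ := exists_generization_of_isOpenAt A f ξ (hfξ.trans hs) hopen
    rw [hgen u hu] at hune
    exact hune (hfξ.trans hs)

end Groth.Agent.Lib.Helper25.FlatDVR
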