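import Mathlib
import Groth.Agent.Lib.Helper25.SkyMod

set_option autoImplicit false
universe u

open CategoryTheory CategoryTheory.Limits AlgebraicGeometry TopologicalSpace Opposite TensorProduct

namespace Groth.Agent.Lib.Helper25.PullFaithful

open Groth.Agent.Lib.Helper25.SkyMod

variable {X Y : Scheme.{u}} (f : X ⟶ Y) (x : X) (N : Y.Modules)

/-- the stalk of an `O_Y`-module at `y`, as a type with its `O_{Y,y}`-module structure -/
abbrev Stk (y : Y) : Type u := ↑(TopCat.Presheaf.stalk N.presheaf y)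

noncomputable instance (y : Y) : Module (Y.presheaf.stalk y) (Stk N y) :=
  PresheafOfModules.instModuleCarrierStalkCommRingCatCarrierAbPresheafOpensCarrier
    (X := Y.toTopCat) (R := Y.presheaf) N.val y

lemma germ_smul' (y : Y) (V : Y.Opens) (hy : y ∈ V) (r : Γ(Y, V)) (s : Γ(N, V)) :
    (TopCat.Presheaf.germ N.presheaf V y hy (r • s) : Stk N y) =
      Y.presheaf.germ V y hy r • (TopCat.Presheaf.germ N.presheaf V y hy s : Stk N y) :=
  PresheafOfModules.germ_smul (X := Y.toTopCat) (R := Y.presheaf) N.val y V hy r s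


/-- the algebra structure on stalks given by `f` -/
@[reducible] noncomputable def stalkAlg : Algebra (Y.presheaf.stalk (f x)) (X.presheaf.stalk x) :=
  (f.stalkMap x).hom.toAlgebra

attribute [local instance] stalkAlg

/-- the test module `O_{X,x} ⊗ N_{f x}` -/
abbrev E : Type u := (X.presheaf.stalk x) ⊗[Y.presheaf.stalk (f x)] (Stk N (f x))

/-- `n ↦ 1 ⊗ n` -/
noncomputable def ψ : Stk N (f x) →+ E f x N :=
  (TensorProduct.mk (Y.presheaf.stalk (f x)) (X.presheaf.stalk x) (Stk N (f x)) 1).toAddMonoidHom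

lemma ψ_apply (n : Stk N (f x)) : ψ f x N n = (1 : X.presheaf.stalk x) ⊗ₜ n := rfl

/-- the map of abelian presheaves `N → f_* sky_x(E)` -/
noncomputable def θpre : N.presheaf ⟶
    ((Scheme.Modules.pushforward f).obj (sky x (E f x N))).presheaf where
  app V := AddCommGrpCat.ofHom (AddMonoidHom.pi (fun h : PLift (x ∈ f ⁻¹ᵁ V.unop) =>
    (ψ f x N).comp (TopCat.Presheaf.germ N.presheaf V.unop (f x) h.down).hom))
  naturality V W i := by
    ext s
    funext h
    show ψ f x N (TopCat.Presheaf.germ N.presheaf W.unop (f x) h.down (N.presheaf.map i s)) =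
      ψ f x N (TopCat.Presheaf.germ N.presheaf V.unop (f x) _ s)
    congr 1
    exact TopCat.Presheaf.germ_res_apply N.presheaf i.unop (f x) h.down s

lemma θpre_apply (V : Y.Opens) (s : Γ(N, V)) (h : PLift (x ∈ f ⁻¹ᵁ V)) :
    (show Sec x (E f x N) (f ⁻¹ᵁ V) from (θpre f x N).app (op V) s) h =
      ψ f x N (TopCat.Presheaf.germ N.presheaf V (f x) h.down s) := rfl


lemma θpre_smul (V : Y.Opens) (r : Γ(Y, V)) (s : Γ(N, V)) :
    (θpre f x N).app (op V) (r • s) =
      (show Γ((Scheme.Modules.pushforward f).obj (sky x (E f x N)), V) from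
        r • (show Γ((Scheme.Modules.pushforward f).obj (sky x (E f x N)), V) from
          (θpre f x N).app (op V) s)) := by
  funext h
  have e1 : (show Sec x (E f x N) (f ⁻¹ᵁ V) from (θpre f x N).app (op V) (r • s)) h =
      ψ f x N (TopCat.Presheaf.germ N.presheaf V (f x) h.down (r • s)) := rfl
  have e2 : (show Sec x (E f x N) (f ⁻¹ᵁ V) from
      (show Γ((Scheme.Modules.pushforward f).obj (sky x (E f x N)), V) from
        r • (show Γ((Scheme.Modules.pushforward f).obj (sky x (E f x N)), V) from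
          (θpre f x N).app (op V) s))) h =
      X.presheaf.germ (f ⁻¹ᵁ V) x h.down (f.app V r) •
        ψ f x N (TopCat.Presheaf.germ N.presheaf V (f x) h.down s) := rfl
  refine e1.trans (Eq.trans ?_ e2.symm)
  have hy : f x ∈ V := h.down
  have hx' : x ∈ f ⁻¹ᵁ V := h.down
  show ψ f x N (TopCat.Presheaf.germ N.presheaf V (f x) hy (r • s)) =
    X.presheaf.germ (f ⁻¹ᵁ V) x hx' (f.app V r) •
      ψ f x N (TopCat.Presheaf.germ N.presheaf V (f x) hy s)
  rw [germ_smul', ψ_apply, ψ_apply, TensorProduct.tmul_smul, TensorProduct.smul_tmul',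
    TensorProduct.smul_tmul', smul_eq_mul, mul_one, Algebra.smul_def, mul_one]
  congr 1
  exact Scheme.Hom.germ_stalkMap_apply f V x hx' r

/-- the morphism of modules `N → f_* sky_x(E)` -/
noncomputable def θ : N ⟶ (Scheme.Modules.pushforward f).obj (sky x (E f x N)) :=
  ⟨PresheafOfModules.homMk (θpre f x N) (fun V r s => θpre_smul f x N V.unop r s)⟩

lemma θ_app (V : Y.Opens) (s : Γ(N, V)) (h : PLift (x ∈ f ⁻¹ᵁ V)) :
    (show Sec x (E f x N) (f ⁻¹ᵁ V) from (θ f x N).app V s) h =
      ψ f x N (TopCat.Presheaf.germ N.presheaf V (f x) h.down s) := rfl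


section Main

variable [Flat f]

lemma faithfullyFlat_stalk : Module.FaithfullyFlat (Y.presheaf.stalk (f x)) (X.presheaf.stalk x) := by
  have h1 : Module.Flat (Y.presheaf.stalk (f x)) (X.presheaf.stalk x) :=
    AlgebraicGeometry.Flat.stalkMap f x
  have h2 : IsLocalHom (algebraMap (Y.presheaf.stalk (f x)) (X.presheaf.stalk x)) :=
    inferInstanceAs (IsLocalHom (f.stalkMap x).hom)
  exact Module.FaithfullyFlat.of_flat_of_isLocalHom

variable {N}

lemma germ_eq_zero {M : Y.Modules} (φ : M ⟶ N) (hφ : (Scheme.Modules.pullback f).map φ = 0)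
    (V : Y.Opens) (hx : f x ∈ V) (s : Γ(M, V)) :
    TopCat.Presheaf.germ N.presheaf V (f x) hx (φ.app V s) = 0 := by
  have h1 : φ ≫ θ f x N = 0 := by
    have := (Scheme.Modules.pullbackPushforwardAdjunction f).homEquiv_naturality_left φ
      (((Scheme.Modules.pullbackPushforwardAdjunction f).homEquiv _ _).symm (θ f x N))
    rw [Equiv.apply_symm_apply] at this
    rw [← this, hφ, zero_comp, Adjunction.homEquiv_unit, Functor.map_zero, comp_zero]
  have h2 := congr(($h1).app V s)
  have h3 : (show Sec x (E f x N) (f ⁻¹ᵁ V) from (θ f x N).app V (φ.app V s)) ⟨hx⟩ = 0 :=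
    congrFun h2 ⟨hx⟩
  rw [θ_app, ψ_apply] at h3
  have := faithfullyFlat_stalk f x
  exact (Module.FaithfullyFlat.one_tmul_eq_zero_iff (Y.presheaf.stalk (f x))
    (Stk N (f x)) _).mp h3

theorem faithful_pullback [Surjective f] : (Scheme.Modules.pullback f).Faithful := by
  have key : ∀ {M N : Y.Modules} (φ : M ⟶ N), (Scheme.Modules.pullback f).map φ = 0 → φ = 0 := by
    intro M N φ hφ
    ext V s
    apply TopCat.Presheaf.section_ext (⟨N.presheaf, N.isSheaf⟩ : TopCat.Sheaf Ab Y) V
    intro y hy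
    obtain ⟨x, rfl⟩ := f.surjective y
    refine (germ_eq_zero f x φ hφ V hy s).trans ?_
    exact (map_zero (TopCat.Presheaf.germ N.presheaf V (f x) hy).hom).symm
  constructor
  intro M N φ φ' h
  rw [← sub_eq_zero]
  apply key
  rw [Functor.map_sub, h, sub_self]

end Main

end Groth.Agent.Lib.Helper25.PullFaithful
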