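import Mathlib
import Groth.Agent.Lib.Helper25.PullFaithful
import Groth.Agent.Lib.QCoh.Helper18_Stalk

set_option autoImplicit false
universe u

open CategoryTheory CategoryTheory.Limits AlgebraicGeometry TopologicalSpace Opposite

namespace Groth.Agent.Lib.Helper25.SkyInj

open Groth.Agent.Lib.Helper25.SkyMod Groth.Agent.Lib.Helper25.PullFaithful

variable {X : Scheme.{u}} (x : X)

lemma exists_rep (A : X.Modules) (r : X.presheaf.stalk x) (a : Stk A x) :
    ∃ (U : X.Opens) (hx : x ∈ U) (r' : Γ(X, U)) (s : Γ(A, U)),
      X.presheaf.germ U x hx r' = r ∧ TopCat.Presheaf.germ A.presheaf U x hx s = a := by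
  obtain ⟨U₁, h₁, r₁, rfl⟩ := TopCat.Presheaf.exists_germ_eq X.presheaf r
  obtain ⟨U₂, h₂, s₂, rfl⟩ := TopCat.Presheaf.exists_germ_eq A.presheaf a
  refine ⟨U₁ ⊓ U₂, ⟨h₁, h₂⟩, X.presheaf.map (homOfLE inf_le_left).op r₁,
    A.presheaf.map (homOfLE inf_le_right).op s₂, ?_, ?_⟩
  · exact TopCat.Presheaf.germ_res_apply X.presheaf (homOfLE inf_le_left) x _ r₁
  · exact TopCat.Presheaf.germ_res_apply A.presheaf (homOfLE inf_le_right) x _ s₂

variable (A : X.Modules) (E : Type u) [AddCommGroup E] [Module (X.presheaf.stalk x) E]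

/-- the additive map on the stalk induced by a morphism into a skyscraper -/
noncomputable def toStalkAdd (g : A ⟶ sky x E) : Stk A x →+ E :=
  (colimit.desc ((OpenNhds.inclusion x).op ⋙ A.presheaf)
    { pt := AddCommGrpCat.of E
      ι :=
        { app := fun U => AddCommGrpCat.ofHom
            ((Pi.evalAddMonoidHom (fun _ : PLift (x ∈ U.unop.1) => E) ⟨U.unop.2⟩).comp
              (g.mapPresheaf.app (op U.unop.1)).hom)
          naturality := by
            intro U V i
            ext s
            have := congr($(g.mapPresheaf.naturality ((OpenNhds.inclusion x).op.map i)) s)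
            exact congrFun this ⟨V.unop.2⟩ } }).hom

lemma toStalkAdd_germ (g : A ⟶ sky x E) (V : X.Opens) (hx : x ∈ V) (s : Γ(A, V)) :
    toStalkAdd x A E g (TopCat.Presheaf.germ A.presheaf V x hx s) =
      (show Sec x E V from g.app V s) ⟨hx⟩ := by
  have := congr($(colimit.ι_desc (F := (OpenNhds.inclusion x).op ⋙ A.presheaf)
    { pt := AddCommGrpCat.of E
      ι :=
        { app := fun U => AddCommGrpCat.ofHom
            ((Pi.evalAddMonoidHom (fun _ : PLift (x ∈ U.unop.1) => E) ⟨U.unop.2⟩).comp
              (g.mapPresheaf.app (op U.unop.1)).hom)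
          naturality := by
            intro U V i
            ext s
            have := congr($(g.mapPresheaf.naturality ((OpenNhds.inclusion x).op.map i)) s)
            exact congrFun this ⟨V.unop.2⟩ } } (op ⟨V, hx⟩)) s)
  exact this

/-- the linear map on the stalk induced by a morphism into a skyscraper -/
noncomputable def toStalk (g : A ⟶ sky x E) : Stk A x →ₗ[X.presheaf.stalk x] E :=
  { toStalkAdd x A E g with
    map_smul' := by
      intro r a
      obtain ⟨U, hx, r', s, rfl, rfl⟩ := exists_rep x A r a
      show toStalkAdd x A E g (_ • _) = _ • toStalkAdd x A E g _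
      rw [← germ_smul', toStalkAdd_germ, toStalkAdd_germ]
      have h1 : g.app U (r' • s) = r' • g.app U s := Scheme.Modules.Hom.app_smul g r' s
      rw [h1]
      rfl }

lemma toStalk_germ (g : A ⟶ sky x E) (V : X.Opens) (hx : x ∈ V) (s : Γ(A, V)) :
    toStalk x A E g (TopCat.Presheaf.germ A.presheaf V x hx s) =
      (show Sec x E V from g.app V s) ⟨hx⟩ :=
  toStalkAdd_germ x A E g V hx s

variable {A E}

/-- the morphism of abelian presheaves into a skyscraper induced by an additive map on the stalk -/
noncomputable def ofStalkPre (l : Stk A x →+ E) : A.presheaf ⟶ (sky x E).presheaf where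
  app V := AddCommGrpCat.ofHom (AddMonoidHom.pi (fun h : PLift (x ∈ V.unop) =>
    l.comp (TopCat.Presheaf.germ A.presheaf V.unop x h.down).hom))
  naturality V W i := by
    ext s
    funext h
    show l (TopCat.Presheaf.germ A.presheaf W.unop x h.down (A.presheaf.map i s)) =
      l (TopCat.Presheaf.germ A.presheaf V.unop x _ s)
    congr 1
    exact TopCat.Presheaf.germ_res_apply A.presheaf i.unop x h.down s

/-- the morphism into a skyscraper induced by a linear map on the stalk -/
noncomputable def ofStalk (l : Stk A x →ₗ[X.presheaf.stalk x] E) : A ⟶ sky x E :=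
  ⟨PresheafOfModules.homMk (ofStalkPre x l.toAddMonoidHom) (fun V r s => by
    funext h
    have hx : x ∈ V.unop := h.down
    show l (TopCat.Presheaf.germ A.presheaf V.unop x hx (r • s)) =
      X.presheaf.germ V.unop x hx r • l (TopCat.Presheaf.germ A.presheaf V.unop x hx s)
    have e := germ_smul' A x V.unop hx r s
    exact (congrArg l e).trans (map_smul l _ _))⟩

lemma ofStalk_app (l : Stk A x →ₗ[X.presheaf.stalk x] E) (V : X.Opens) (s : Γ(A, V))
    (h : PLift (x ∈ V)) :
    (show Sec x E V from (ofStalk x l).app V s) h =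
      l (TopCat.Presheaf.germ A.presheaf V x h.down s) := rfl

/-- the stalk map of a morphism of modules, as a linear map -/
noncomputable def stalkLin {A B : X.Modules} (v : A ⟶ B) :
    Stk A x →ₗ[X.presheaf.stalk x] Stk B x :=
  { toFun := Groth.Agent.Lib.QCoh.stalkMap v x
    map_add' := map_add _
    map_smul' := by
      intro r a
      obtain ⟨U, hx, r', s, rfl, rfl⟩ := exists_rep x A r a
      show Groth.Agent.Lib.QCoh.stalkMap v x (X.presheaf.germ U x hx r' •
          (TopCat.Presheaf.germ A.presheaf U x hx s : Stk A x)) =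
        X.presheaf.germ U x hx r' • (Groth.Agent.Lib.QCoh.stalkMap v x
          (TopCat.Presheaf.germ A.presheaf U x hx s) : Stk B x)
      rw [← germ_smul', Groth.Agent.Lib.QCoh.stalkMap_germ, Groth.Agent.Lib.QCoh.stalkMap_germ,
        ← germ_smul']
      congr 1
      exact Scheme.Modules.Hom.app_smul v r' s }

lemma stalkLin_germ {A B : X.Modules} (v : A ⟶ B) (V : X.Opens) (hx : x ∈ V) (s : Γ(A, V)) :
    stalkLin x v (TopCat.Presheaf.germ A.presheaf V x hx s) =
      TopCat.Presheaf.germ B.presheaf V x hx (v.app V s) :=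
  Groth.Agent.Lib.QCoh.stalkMap_germ v x V hx s

variable (E)

/-- skyscraper modules with injective value are injective objects -/
theorem injective_sky [Module.Injective (X.presheaf.stalk x) E] : Injective (sky x E) := by
  constructor
  intro A B g v hv
  have hinj : Function.Injective (stalkLin x v) :=
    Groth.Agent.Lib.QCoh.stalkMap_injective_of_mono v x
  obtain ⟨l, hl⟩ := Module.Injective.out (R := X.presheaf.stalk x) (Q := E)
    (stalkLin x v) hinj (toStalk x A E g)
  refine ⟨ofStalk x l, ?_⟩
  ext V s
  funext h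
  have hx : x ∈ V := h.down
  show l (TopCat.Presheaf.germ B.presheaf V x hx (v.app V s)) =
    (show Sec x E V from g.app V s) ⟨hx⟩
  rw [← stalkLin_germ, hl, toStalk_germ]

end Groth.Agent.Lib.Helper25.SkyInj
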