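import Mathlib
import Groth.Agent.Lib.Helper25.SkyInj

set_option autoImplicit false
universe u

open CategoryTheory CategoryTheory.Limits AlgebraicGeometry TopologicalSpace Opposite

namespace Groth.Agent.Lib.Helper25.SkyInj

open Groth.Agent.Lib.Helper25.SkyMod Groth.Agent.Lib.Helper25.PullFaithful

open TensorProduct in
/-- restriction of scalars along a flat ring map preserves injective modules -/
theorem injective_of_flat_tower {A B : Type u} [CommRing A] [CommRing B] [Algebra A B]
    [Module.Flat A B] (E : Type u) [AddCommGroup E] [Module B E] [Module A E]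
    [IsScalarTower A B E] [Module.Injective B E] : Module.Injective A E := by
  constructor
  intro X Y _ _ _ _ f hf g
  have hinj : Function.Injective (f.baseChange B) :=
    Module.Flat.lTensor_preserves_injective_linearMap f hf
  obtain ⟨H, hH⟩ := Module.Injective.out (R := B) (Q := E) (f.baseChange B) hinj
    (LinearMap.liftBaseChange B g)
  refine ⟨(H.restrictScalars A).comp (TensorProduct.mk A B Y 1), ?_⟩
  intro x
  have := hH ((1 : B) ⊗ₜ[A] x)
  simpa using this

theorem injective_compHom {A B : Type u} [CommRing A] [CommRing B] (φ : A →+* B) (hφ : φ.Flat)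
    (E : Type u) [AddCommGroup E] [Module B E] [Module.Injective B E] :
    @Module.Injective A _ E _ (Module.compHom E φ) := by
  let _ := φ.toAlgebra
  let _ := Module.compHom E φ
  have : Module.Flat A B := hφ
  have : IsScalarTower A B E := ⟨fun a b e => by
    show (φ a * b) • e = φ a • (b • e)
    rw [mul_smul]⟩
  exact injective_of_flat_tower (A := A) (B := B) E

section Push

variable {W Z : Scheme.{u}} (a : W ⟶ Z) (x : W) (E : Type u) [AddCommGroup E]
  [Module (W.presheaf.stalk x) E]

/-- restriction of scalars to the stalk of the target -/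
@[reducible] noncomputable def restrictModule : Module (Z.presheaf.stalk (a x)) E :=
  Module.compHom E (a.stalkMap x).hom

/-- the skyscraper at `a x` with restricted scalars -/
noncomputable abbrev skyPush : Z.Modules := @sky Z (a x) E _ (restrictModule a x E)

/-- `a_* sky_x E ⟶ sky_{a x} E` -/
noncomputable def pushSkyHom : (Scheme.Modules.pushforward a).obj (sky x E) ⟶ skyPush a x E :=
  ⟨PresheafOfModules.homMk
    { app := fun V => AddCommGrpCat.ofHom
        { toFun := fun σ => ((fun h => (show Sec x E (a ⁻¹ᵁ V.unop) from σ) ⟨h.down⟩ :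
            Sec (a x) E V.unop))
          map_zero' := rfl
          map_add' := fun _ _ => rfl }
      naturality := by intros; rfl }
    (fun V r s => by
      funext h
      have hx : x ∈ a ⁻¹ᵁ V.unop := h.down
      letI := restrictModule a x E
      show W.presheaf.germ (a ⁻¹ᵁ V.unop) x hx (a.app V.unop r) •
          (show Sec x E (a ⁻¹ᵁ V.unop) from s) ⟨hx⟩ =
        (a.stalkMap x).hom (Z.presheaf.germ V.unop (a x) hx r) •
          (show Sec x E (a ⁻¹ᵁ V.unop) from s) ⟨hx⟩
      congr 1
      exact (Scheme.Hom.germ_stalkMap_apply a V.unop x hx r).symm)⟩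

/-- `sky_{a x} E ⟶ a_* sky_x E` -/
noncomputable def pushSkyInv : skyPush a x E ⟶ (Scheme.Modules.pushforward a).obj (sky x E) :=
  ⟨PresheafOfModules.homMk
    { app := fun V => AddCommGrpCat.ofHom
        { toFun := fun σ => ((fun h => (show Sec (a x) E V.unop from σ) ⟨h.down⟩ :
            Sec x E (a ⁻¹ᵁ V.unop)))
          map_zero' := rfl
          map_add' := fun _ _ => rfl }
      naturality := by intros; rfl }
    (fun V r s => by
      funext h
      have hx : x ∈ a ⁻¹ᵁ V.unop := h.down
      let _ := restrictModule a x E
      show (a.stalkMap x).hom (Z.presheaf.germ V.unop (a x) hx r) •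
          (show Sec (a x) E V.unop from s) ⟨hx⟩ =
        W.presheaf.germ (a ⁻¹ᵁ V.unop) x hx (a.app V.unop r) •
          (show Sec (a x) E V.unop from s) ⟨hx⟩
      congr 1
      exact Scheme.Hom.germ_stalkMap_apply a V.unop x hx r)⟩

/-- `a_* sky_x E ≅ sky_{a x} E` -/
noncomputable def pushSkyIso : (Scheme.Modules.pushforward a).obj (sky x E) ≅ skyPush a x E where
  hom := pushSkyHom a x E
  inv := pushSkyInv a x E
  hom_inv_id := by ext V s; rfl
  inv_hom_id := by ext V s; rfl

theorem injective_push_sky
    (h : @Module.Injective (Z.presheaf.stalk (a x)) _ E _ (restrictModule a x E)) :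
    Injective ((Scheme.Modules.pushforward a).obj (sky x E)) := by
  let _ := restrictModule a x E
  have : Injective (skyPush a x E) := injective_sky (a x) E
  exact Injective.of_iso (pushSkyIso a x E).symm this

end Push

section FlatPullback

variable {W Z : Scheme.{u}} (a : W ⟶ Z) [Flat a]

/-- every module over a ring embeds in an injective module (same universe) -/
lemma exists_injective_embedding (R : Type u) [CommRing R] (K : Type u) [AddCommGroup K]
    [Module R K] :
    ∃ (E : Type u) (_ : AddCommGroup E) (_ : Module R E) (_ : Module.Injective R E)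
      (j : K →ₗ[R] E), Function.Injective j := by
  let K' : ModuleCat.{u} R := ModuleCat.of R K
  let I : ModuleCat.{u} R := Injective.under K'
  have hI : Injective I := inferInstance
  refine ⟨(I : Type u), inferInstance, inferInstance,
    Module.injective_module_of_injective_object R I, (Injective.ι K').hom, ?_⟩
  exact (ModuleCat.mono_iff_injective (Injective.ι K')).1 inferInstance

/-- sections of a module all of whose germs vanish -/
lemma eq_zero_of_germ_eq_zero {K : W.Modules} (V : W.Opens) (s : Γ(K, V))
    (h : ∀ (x : W) (hx : x ∈ V), TopCat.Presheaf.germ K.presheaf V x hx s = 0) : s = 0 := by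
  apply TopCat.Presheaf.section_ext (⟨K.presheaf, K.isSheaf⟩ : TopCat.Sheaf Ab W) V
  intro x hx
  refine (h x hx).trans ?_
  exact (map_zero (TopCat.Presheaf.germ K.presheaf V x hx).hom).symm

/-- the key vanishing: a morphism `κ : K ⟶ a^* M` killed by `a^* v` with `v` mono has all germs zero -/
lemma germ_eq_zero_of_comp_eq_zero {M N : Z.Modules} (v : M ⟶ N) [Mono v] {K : W.Modules}
    (κ : K ⟶ (Scheme.Modules.pullback a).obj M) [Mono κ]
    (hκ : κ ≫ (Scheme.Modules.pullback a).map v = 0) (x : W) (V : W.Opens) (hx : x ∈ V)
    (s : Γ(K, V)) : TopCat.Presheaf.germ K.presheaf V x hx s = 0 := by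
  obtain ⟨E, _, _, hE, j, hj⟩ := exists_injective_embedding (W.presheaf.stalk x) (Stk K x)
  have hskyW : Injective (sky x E) := injective_sky x E
  have hskyZ : Injective ((Scheme.Modules.pushforward a).obj (sky x E)) :=
    injective_push_sky a x E (injective_compHom (a.stalkMap x).hom (Flat.stalkMap a x) E)
  let adj := Scheme.Modules.pullbackPushforwardAdjunction a
  let ψ : K ⟶ sky x E := ofStalk x j
  let ψ' : (Scheme.Modules.pullback a).obj M ⟶ sky x E := Injective.factorThru ψ κ
  have hψ' : κ ≫ ψ' = ψ := Injective.comp_factorThru ψ κ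
  let χ : N ⟶ (Scheme.Modules.pushforward a).obj (sky x E) :=
    Injective.factorThru (adj.homEquiv _ _ ψ') v
  have hχ : v ≫ χ = adj.homEquiv _ _ ψ' := Injective.comp_factorThru _ v
  have h1 : (Scheme.Modules.pullback a).map v ≫ (adj.homEquiv _ _).symm χ = ψ' := by
    rw [← Adjunction.homEquiv_naturality_left_symm, hχ, Equiv.symm_apply_apply]
  have h2 : ψ = 0 := by
    rw [← hψ', ← h1, ← Category.assoc, hκ, zero_comp]
  have h3 := congr(($h2).app V s)
  have h4 : (show Sec x E V from (ofStalk x j).app V s) ⟨hx⟩ = 0 := congrFun h3 ⟨hx⟩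
  rw [ofStalk_app] at h4
  exact hj (h4.trans (map_zero j).symm)

/-- pullback along a flat morphism preserves monomorphisms -/
instance preservesMonomorphisms_pullback_of_flat :
    (Scheme.Modules.pullback a).PreservesMonomorphisms where
  preserves {M N} v hv := by
    apply Abelian.mono_of_kernel_ι_eq_zero
    ext V s
    have h0 : s = 0 := eq_zero_of_germ_eq_zero V s (fun x hx =>
      germ_eq_zero_of_comp_eq_zero a v (kernel.ι ((Scheme.Modules.pullback a).map v))
        (kernel.condition _) x V hx s)
    rw [h0, map_zero, map_zero]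

end FlatPullback

end Groth.Agent.Lib.Helper25.SkyInj
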