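import Mathlib
import Groth.Prelude.Def_Omega3
import Groth.Prelude.Def_Frob

set_option autoImplicit false
universe u

open CategoryTheory CategoryTheory.Limits AlgebraicGeometry TopologicalSpace Opposite

namespace Groth.Agent.Lib.Helper25.FrobDer

variable {X Y Z : Scheme.{u}}

/-- Sections of a module are determined by their restrictions to a cover. -/
lemma sections_ext_of_cover (F : X.Modules) {ι : Type*} (A : ι → X.Opens) (V : X.Opens)
    (hAV : ∀ i, A i ≤ V) (hcover : V ≤ iSup A) (s t : Γ(F, V))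
    (h : ∀ i, F.presheaf.map (homOfLE (hAV i)).op s = F.presheaf.map (homOfLE (hAV i)).op t) :
    s = t :=
  TopCat.Sheaf.eq_of_locally_eq' (⟨F.presheaf, F.isSheaf⟩ : TopCat.Sheaf Ab X) A V
    (fun i => homOfLE (hAV i)) hcover s t h

section Kills

variable {f : X ⟶ Y} {Ω : X.Modules} (D : OmegaSh.Der f Ω) (g : X ⟶ Z)

/-- `D` kills the pullback of the section `a` along `g`. -/
def Kills (V : Z.Opens) (a : Γ(Z, V)) : Prop :=
  D.app (g ⁻¹ᵁ V) (g.app V a) = 0

lemma app_mul (U : X.Opens) (a b : Γ(X, U)) :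
    D.app U (a * b) = a • D.app U b + b • D.app U a :=
  D.d_mul a b

lemma app_one (U : X.Opens) : D.app U 1 = 0 := D.d_one _

lemma app_map {U V : X.Opens} (i : V ⟶ U) (a : Γ(X, U)) :
    D.app V (X.presheaf.map i.op a) = Ω.presheaf.map i.op (D.app U a) :=
  D.d_map i.op a

lemma kills_zero (V : Z.Opens) : Kills D g V 0 := by
  simp [Kills]

lemma kills_one (V : Z.Opens) : Kills D g V 1 := by
  simp [Kills, app_one]

lemma kills_add {V : Z.Opens} {a b : Γ(Z, V)} (ha : Kills D g V a) (hb : Kills D g V b) :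
    Kills D g V (a + b) := by
  unfold Kills at *
  rw [map_add, map_add, ha, hb, add_zero]

lemma kills_neg {V : Z.Opens} {a : Γ(Z, V)} (ha : Kills D g V a) : Kills D g V (-a) := by
  unfold Kills at *
  rw [map_neg, map_neg, ha, neg_zero]

lemma kills_mul {V : Z.Opens} {a b : Γ(Z, V)} (ha : Kills D g V a) (hb : Kills D g V b) :
    Kills D g V (a * b) := by
  unfold Kills at *
  rw [map_mul, app_mul, ha, hb, smul_zero, smul_zero, add_zero]

/-- The subring of sections killed by `D ∘ g^♯`. -/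
def killSubring (V : Z.Opens) : Subring Γ(Z, V) where
  carrier := {a | Kills D g V a}
  mul_mem' := kills_mul D g
  one_mem' := kills_one D g V
  add_mem' := kills_add D g
  zero_mem' := kills_zero D g V
  neg_mem' := kills_neg D g

lemma mem_killSubring {V : Z.Opens} {a : Γ(Z, V)} : a ∈ killSubring D g V ↔ Kills D g V a :=
  Iff.rfl

lemma kills_res {V V' : Z.Opens} (i : V' ⟶ V) {a : Γ(Z, V)} (ha : Kills D g V a) :
    Kills D g V' (Z.presheaf.map i.op a) := by
  unfold Kills at *
  have h1 : g.app V' (Z.presheaf.map i.op a) =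
      X.presheaf.map ((Opens.map g.base).map i).op (g.app V a) := by
    have := g.naturality i.op
    exact congr($this a)
  rw [h1, app_map, ha, map_zero]

lemma kills_of_mul_unit {V : Z.Opens} {a s : Γ(Z, V)} (hs : IsUnit s) (hs' : Kills D g V s)
    (h : Kills D g V (a * s)) : Kills D g V a := by
  unfold Kills at *
  rw [map_mul, app_mul, hs', smul_zero, zero_add] at h
  have hu : IsUnit (g.app V s) := hs.map _
  obtain ⟨u, hu⟩ := hu
  have := congrArg (fun m => (↑u⁻¹ : Γ(X, g ⁻¹ᵁ V)) • m) h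
  simp only [smul_zero, ← hu, smul_smul, Units.inv_mul, one_smul] at this
  exact this

lemma kills_of_cover {V : Z.Opens} (a : Γ(Z, V))
    (h : ∀ x ∈ V, ∃ (V' : Z.Opens) (i : V' ⟶ V), x ∈ V' ∧ Kills D g V' (Z.presheaf.map i.op a)) :
    Kills D g V a := by
  choose V' i hx hk using h
  unfold Kills at *
  refine sections_ext_of_cover Ω (fun x : V => g ⁻¹ᵁ (V' x.1 x.2)) (g ⁻¹ᵁ V)
    (fun x => g.preimage_mono (i x.1 x.2).le) ?_ _ _ ?_
  · intro y hy
    exact Opens.mem_iSup.mpr ⟨⟨g y, hy⟩, hx _ hy⟩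
  · intro x
    rw [map_zero]
    have h1 : g.app (V' x.1 x.2) (Z.presheaf.map (i x.1 x.2).op a) =
        X.presheaf.map ((Opens.map g.base).map (i x.1 x.2)).op (g.app V a) := by
      have := g.naturality (i x.1 x.2).op
      exact congr($this a)
    have := hk x.1 x.2
    rw [h1, app_map] at this
    exact this

end Kills

section Pushout

/-- In a pushout square of commutative rings, a subring containing both images is everything. -/
lemma eq_top_of_isPushout {A B C P : CommRingCat.{u}} {f : A ⟶ B} {g : A ⟶ C} {inl : B ⟶ P}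
    {inr : C ⟶ P} (h : IsPushout f g inl inr) (K : Subring P) (hl : ∀ b, inl b ∈ K)
    (hr : ∀ c, inr c ∈ K) : K = ⊤ := by
  let ι : CommRingCat.of K ⟶ P := CommRingCat.ofHom K.subtype
  let inl' : B ⟶ CommRingCat.of K := CommRingCat.ofHom (inl.hom.codRestrict K hl)
  let inr' : C ⟶ CommRingCat.of K := CommRingCat.ofHom (inr.hom.codRestrict K hr)
  have w : f ≫ inl' = g ≫ inr' := by
    ext a
    exact congr($(h.w) a)
  have h1 : h.desc inl' inr' w ≫ ι = 𝟙 P := by
    apply h.hom_ext
    · rw [h.inl_desc_assoc]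
      ext b
      rfl
    · rw [h.inr_desc_assoc]
      ext b
      rfl
  rw [eq_top_iff]
  intro x _
  have := congr($h1 x)
  simp only [CommRingCat.comp_apply, CommRingCat.id_apply] at this
  rw [← this]
  exact (h.desc inl' inr' w x).2

end Pushout

section Frob

variable (p : ℕ) [Fact p.Prime] {X S : Scheme.{u}} [FrobSch.IsCharP S p] (f : X ⟶ S)
  {Ω : X.Modules} (D : OmegaSh.Der f Ω)

lemma app_pow (U : X.Opens) (u : Γ(X, U)) (n : ℕ) :
    D.app U (u ^ (n + 1)) = ((n + 1 : ℕ) : Γ(X, U)) • (u ^ n • D.app U u) := by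
  induction n with
  | zero => simp
  | succ n ih =>
    rw [pow_succ, app_mul, ih]
    simp only [smul_smul, ← add_smul]
    congr 1
    push_cast
    ring

include f in
lemma app_pow_char (U : X.Opens) (u : Γ(X, U)) : D.app U (u ^ p) = 0 := by
  haveI : FrobSch.IsCharP X p := FrobSch.IsCharP.of_hom f p
  obtain ⟨n, hn⟩ : ∃ n, p = n + 1 := ⟨p - 1, (Nat.succ_pred_eq_of_pos (Fact.out : p.Prime).pos).symm⟩
  have h0 : ((n + 1 : ℕ) : Γ(X, U)) = 0 := by
    rw [← hn]
    exact FrobSch.natCast_eq_zero_app X p U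
  rw [hn, app_pow, h0, zero_smul]

lemma kills_fst (U : X.Opens) (u : Γ(X, U)) :
    Kills D (FrobSch.relFrob f p) (pullback.fst f (FrobSch.frob S p) ⁻¹ᵁ U)
      ((pullback.fst f (FrobSch.frob S p)).app U u) := by
  haveI : FrobSch.IsCharP X p := FrobSch.IsCharP.of_hom f p
  unfold Kills
  have e := FrobSch.relFrob_fst f p
  have h1 := Scheme.Hom.congr_app e U
  rw [Scheme.Hom.comp_app] at h1
  have h2 := congr($h1 u)
  rw [CommRingCat.comp_apply] at h2
  rw [h2, CommRingCat.comp_apply]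
  refine (app_map D (eqToHom ?_) ((FrobSch.frob X p).app U u)).trans ?_
  have h3 : D.app (FrobSch.frob X p ⁻¹ᵁ U) ((FrobSch.frob X p).app U u) = 0 :=
    app_pow_char p f D U u
  rw [h3, map_zero]

lemma kills_snd (T : S.Opens) (t : Γ(S, T)) :
    Kills D (FrobSch.relFrob f p) (pullback.snd f (FrobSch.frob S p) ⁻¹ᵁ T)
      ((pullback.snd f (FrobSch.frob S p)).app T t) := by
  unfold Kills
  have e := FrobSch.relFrob_snd f p
  have h1 := Scheme.Hom.congr_app e T
  rw [Scheme.Hom.comp_app] at h1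
  have h2 := congr($h1 t)
  rw [CommRingCat.comp_apply] at h2
  rw [h2, CommRingCat.comp_apply]
  refine (app_map D (eqToHom ?_) (f.app T t)).trans ?_
  have h3 : D.app (f ⁻¹ᵁ T) (f.app T t) = 0 := D.d_app t
  rw [h3, map_zero]

lemma isAffineOpen_inf {T : S.Opens} (hT : IsAffineOpen T) {U : X.Opens} (hU : IsAffineOpen U)
    (hUT : U ≤ f ⁻¹ᵁ T) :
    IsAffineOpen (pullback.fst f (FrobSch.frob S p) ⁻¹ᵁ U ⊓
      pullback.snd f (FrobSch.frob S p) ⁻¹ᵁ T) := by
  have H := IsPullback.of_hasPullback f (FrobSch.frob S p)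
  have hUST : T ≤ FrobSch.frob S p ⁻¹ᵁ T := le_rfl
  have : IsAffine T.toScheme := hT
  have : IsAffine U.toScheme := hU
  exact .of_isIso (Scheme.Hom.isPullback_resLE H hUST hUT rfl).isoPullback.hom

lemma killSubring_eq_top {T : S.Opens} (hT : IsAffineOpen T) {U : X.Opens} (hU : IsAffineOpen U)
    (hUT : U ≤ f ⁻¹ᵁ T) :
    killSubring D (FrobSch.relFrob f p) (pullback.fst f (FrobSch.frob S p) ⁻¹ᵁ U ⊓
      pullback.snd f (FrobSch.frob S p) ⁻¹ᵁ T) = ⊤ := by
  have H := IsPullback.of_hasPullback f (FrobSch.frob S p)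
  have hUST : T ≤ FrobSch.frob S p ⁻¹ᵁ T := le_rfl
  have hiso := isIso_pushoutSection_of_isAffineOpen H hUST hUT rfl hT hT hU
  have hpo := (isIso_pushoutSection_iff H hUST hUT rfl).mp hiso
  refine eq_top_of_isPushout hpo _ (fun b => ?_) (fun c => ?_)
  · exact kills_res D _ (homOfLE inf_le_left) (kills_fst p f D U b)
  · exact kills_res D _ (homOfLE inf_le_right) (kills_snd p f D T c)

/-- The universal `S`-derivation kills every section pulled back along the relative Frobenius. -/
theorem kills_all (V : (FrobSch.frobTwist f p).Opens) (a : Γ(FrobSch.frobTwist f p, V)) :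
    Kills D (FrobSch.relFrob f p) V a := by
  apply kills_of_cover
  intro x' hx'
  obtain ⟨_, ⟨T, hT, rfl⟩, hsT, -⟩ := S.isBasis_affineOpens.exists_subset_of_mem_open
    (Set.mem_univ (pullback.snd f (FrobSch.frob S p) x')) isOpen_univ
  have hfx : f (pullback.fst f (FrobSch.frob S p) x') ∈ T := by
    have h2 : f (pullback.fst f (FrobSch.frob S p) x') =
        FrobSch.frob S p (pullback.snd f (FrobSch.frob S p) x') := by
      rw [← Scheme.Hom.comp_apply, ← Scheme.Hom.comp_apply, pullback.condition]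
    rw [h2, FrobSch.frob_apply]
    exact hsT
  obtain ⟨_, ⟨U, hU, rfl⟩, hxU, hUT⟩ := X.isBasis_affineOpens.exists_subset_of_mem_open
    (show pullback.fst f (FrobSch.frob S p) x' ∈ ((f ⁻¹ᵁ T : X.Opens) : Set X) from hfx)
    (f ⁻¹ᵁ T).isOpen
  have hUT' : U ≤ f ⁻¹ᵁ T := hUT
  have hUY : IsAffineOpen (pullback.fst f (FrobSch.frob S p) ⁻¹ᵁ U ⊓
      pullback.snd f (FrobSch.frob S p) ⁻¹ᵁ T) := isAffineOpen_inf p f hT hU hUT'
  have hx'UY : x' ∈ pullback.fst f (FrobSch.frob S p) ⁻¹ᵁ U ⊓
      pullback.snd f (FrobSch.frob S p) ⁻¹ᵁ T := ⟨hxU, hsT⟩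
  obtain ⟨g, hgV, hx'g⟩ := hUY.exists_basicOpen_le ⟨x', hx'⟩ hx'UY
  refine ⟨(FrobSch.frobTwist f p).basicOpen g, homOfLE hgV, hx'g, ?_⟩
  have hloc := hUY.isLocalization_basicOpen g
  obtain ⟨n, b, hb⟩ := IsLocalization.Away.surj g
    ((FrobSch.frobTwist f p).presheaf.map (homOfLE hgV).op a)
  have htop := killSubring_eq_top p f D hT hU hUT'
  have hK : ∀ c : Γ(FrobSch.frobTwist f p, pullback.fst f (FrobSch.frob S p) ⁻¹ᵁ U ⊓
      pullback.snd f (FrobSch.frob S p) ⁻¹ᵁ T),
      Kills D (FrobSch.relFrob f p) ((FrobSch.frobTwist f p).basicOpen g)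
      (algebraMap _ Γ(FrobSch.frobTwist f p, (FrobSch.frobTwist f p).basicOpen g) c) := by
    intro c
    refine kills_res D _ (homOfLE ((FrobSch.frobTwist f p).basicOpen_le g)) ?_
    rw [← mem_killSubring, htop]
    trivial
  have hgn : Kills D (FrobSch.relFrob f p) ((FrobSch.frobTwist f p).basicOpen g)
      (algebraMap _ Γ(FrobSch.frobTwist f p, (FrobSch.frobTwist f p).basicOpen g) g ^ n) :=
    (killSubring D (FrobSch.relFrob f p) _).pow_mem (hK g) n
  have hunit : IsUnit (algebraMap _ Γ(FrobSch.frobTwist f p,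
      (FrobSch.frobTwist f p).basicOpen g) g) := IsLocalization.Away.algebraMap_isUnit g
  refine kills_of_mul_unit D _ (hunit.pow n) hgn ?_
  rw [hb]
  exact hK b

lemma app_f_eq_zero_of_relFrob {F : X.Modules} (D' : OmegaSh.Der (FrobSch.relFrob f p) F)
    (T : S.Opens) (t : Γ(S, T)) : D'.app (f ⁻¹ᵁ T) (f.app T t) = 0 := by
  have e := FrobSch.relFrob_snd f p
  have h1 := Scheme.Hom.congr_app e.symm T
  have h2 : f.app T t = X.presheaf.map (eqToHom (by
        conv_lhs => rw [← e]
        rfl)).op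
      ((FrobSch.relFrob f p).app (pullback.snd f (FrobSch.frob S p) ⁻¹ᵁ T)
        ((pullback.snd f (FrobSch.frob S p)).app T t)) := congr($h1 t)
  rw [h2]
  refine (app_map D' (eqToHom ?_) _).trans ?_
  have h3 : D'.app (FrobSch.relFrob f p ⁻¹ᵁ (pullback.snd f (FrobSch.frob S p) ⁻¹ᵁ T))
      ((FrobSch.relFrob f p).app _ ((pullback.snd f (FrobSch.frob S p)).app T t)) = 0 :=
    D'.d_app _
  rw [h3, map_zero]

/-- An `F_{X/S}`-derivation is an `S`-derivation. -/
def derOfRelFrob {F : X.Modules} (D' : OmegaSh.Der (FrobSch.relFrob f p) F) : OmegaSh.Der f F where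
  d := D'.d
  d_mul := D'.d_mul
  d_map := D'.d_map
  d_app {T} t := app_f_eq_zero_of_relFrob p f D' T.unop t

/-- The derivation `D`, viewed as a derivation relative to the relative Frobenius. -/
def derRelFrob : OmegaSh.Der (FrobSch.relFrob f p) Ω where
  d := D.d
  d_mul := D.d_mul
  d_map := D.d_map
  d_app {V} a := kills_all p f D V.unop a

theorem exists_der_relFrob (hd : OmegaSh.IsUniversal D) :
    ∃ d' : OmegaSh.Der (FrobSch.relFrob f p) Ω,
      (∀ (U : X.Opens) (s : Γ(X, U)), d'.app U s = D.app U s) ∧ OmegaSh.IsUniversal d' := by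
  refine ⟨derRelFrob p f D, fun U s => rfl, ?_⟩
  intro F D'
  have key : ∀ β : Ω ⟶ F, (derRelFrob p f D).postcomp β.val = D' ↔
      D.postcomp β.val = derOfRelFrob p f D' := by
    intro β
    constructor
    · intro h
      ext V x
      exact PresheafOfModules.Derivation.congr_d h x
    · intro h
      ext V x
      exact PresheafOfModules.Derivation.congr_d h x
  obtain ⟨α, hα, huniq⟩ := hd F (derOfRelFrob p f D')
  exact ⟨α, (key α).mpr hα, fun β hβ => huniq β ((key β).mp hβ)⟩

end Frob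

end Groth.Agent.Lib.Helper25.FrobDer
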