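import Groth.Agent.Lib.Helper25.FrobProps
import Mathlib.AlgebraicGeometry.Morphisms.Immersion
import Mathlib.AlgebraicGeometry.Morphisms.ClosedImmersion

/-!
# The absolute Frobenius of a reduced scheme is an epimorphism
-/

set_option autoImplicit false
set_option linter.style.haveILetI false

universe u

open CategoryTheory AlgebraicGeometry FrobSch Opposite Limits

namespace Groth.Agent.Lib.Helper25

variable {p : ℕ} [Fact p.Prime]

/-- A surjective morphism `π : Y' ⟶ Y` onto a reduced scheme is an epimorphism "against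
arbitrary targets": two morphisms `g₁ g₂ : Y ⟶ Z` with `π ≫ g₁ = π ≫ g₂` agree. -/
theorem eq_of_surjective_comp_eq {Y' Y Z : Scheme.{u}} [IsReduced Y] (π : Y' ⟶ Y) [Surjective π]
    (g₁ g₂ : Y ⟶ Z) (h : π ≫ g₁ = π ≫ g₂) : g₁ = g₂ := by
  have hl : equalizer.lift π h ≫ equalizer.ι g₁ g₂ = π := equalizer.lift_ι _ _
  have hs : Surjective (equalizer.ι g₁ g₂) := by
    refine ⟨fun y => ?_⟩
    obtain ⟨y', rfl⟩ := π.surjective y
    refine ⟨equalizer.lift π h y', ?_⟩
    rw [← Scheme.Hom.comp_apply, hl]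
  have hc : IsClosedImmersion (equalizer.ι g₁ g₂) := by
    apply IsClosedImmersion.of_isPreimmersion
    rw [(equalizer.ι g₁ g₂).surjective.range_eq]
    exact isClosed_univ
  have hi : IsIso (equalizer.ι g₁ g₂) := isIso_of_isClosedImmersion_of_surjective _
  rw [← cancel_epi (equalizer.ι g₁ g₂)]
  exact equalizer.condition _ _

/-- The absolute Frobenius of a reduced scheme is an epimorphism. -/
theorem epi_frob_of_isReduced (Y : Scheme.{u}) [IsCharP Y p] [IsReduced Y] : Epi (frob Y p) := by
  have : Surjective (frob Y p) := ⟨fun y => ⟨y, rfl⟩⟩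
  exact ⟨fun g₁ g₂ h => eq_of_surjective_comp_eq (frob Y p) g₁ g₂ h⟩

end Groth.Agent.Lib.Helper25
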