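import Groth.Agent.Lib.Helper25.FrobProps
import Groth.Prelude.Def_W4c3convisocdirimgFrobIter
import Mathlib.AlgebraicGeometry.Morphisms.ClosedImmersion
import Mathlib.AlgebraicGeometry.IdealSheaf.Subscheme

/-!
# The scheme-theoretic images of the iterated Frobenius

`T^(m) = (frobIter T p m).ker.subscheme`.  The absolute Frobenius of `T` maps `T^(n)` into
`T^(n+1)`.
-/

set_option autoImplicit false
set_option linter.style.haveILetI false

universe u

open CategoryTheory AlgebraicGeometry FrobSch Opposite Limits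

namespace Groth.Agent.Lib.Helper25

variable {p : ℕ} [Fact p.Prime]

theorem frobIter_quasiCompact (T : Scheme.{u}) [IsCharP T p] (m : ℕ) :
    QuasiCompact (frobIter T p m) := by
  induction m with
  | zero => rw [frobIter_zero]; infer_instance
  | succ m ih =>
    rw [frobIter_succ]
    have := frob_isAffineHom (p := p) T
    infer_instance

/-- On sections, `frobIter T p m` kills `s` iff `s ^ p ^ m = 0`. -/
theorem frobIter_app_eq_zero_iff (T : Scheme.{u}) [IsCharP T p] (m : ℕ) (U : T.Opens)
    (s : Γ(T, U)) : (frobIter T p m).app U s = 0 ↔ s ^ p ^ m = 0 := by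
  induction m generalizing s with
  | zero =>
    change s = 0 ↔ s ^ p ^ 0 = 0
    simp
  | succ m ih =>
    have h1 : (frobIter T p (m + 1)).app U =
        (frobIter T p m).app U ≫ (frob T p).app (frobIter T p m ⁻¹ᵁ U) :=
      Scheme.Hom.comp_app _ _ _
    have h2 : (frobIter T p (m + 1)).app U s = ((frobIter T p m).app U s) ^ p := by
      rw [h1]
      rfl
    have h3 : ((frobIter T p m).app U s) ^ p = (frobIter T p m).app U (s ^ p) :=
      (map_pow _ _ _).symm
    have h4 : (s ^ p) ^ p ^ m = s ^ p ^ (m + 1) := by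
      rw [← pow_mul, ← pow_succ']
    rw [← h4]
    refine Iff.trans ?_ (ih (s ^ p))
    rw [h2, h3]
    exact Iff.rfl

/-- The Frobenius of `T` maps `T^(n)` into `T^(n+1)`. -/
theorem exists_frob_lift_ker (T : Scheme.{u}) [IsCharP T p] (n : ℕ) :
    ∃ φ : (frobIter T p n).ker.subscheme ⟶ (frobIter T p (n + 1)).ker.subscheme,
      φ ≫ (frobIter T p (n + 1)).ker.subschemeι = (frobIter T p n).ker.subschemeι ≫ frob T p := by
  have hqc1 := frobIter_quasiCompact (p := p) T n
  have haff := frob_isAffineHom (p := p) T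
  have hqc : QuasiCompact ((frobIter T p n).ker.subschemeι ≫ frob T p) := inferInstance
  have H : (frobIter T p (n + 1)).ker.subschemeι.ker ≤
      ((frobIter T p n).ker.subschemeι ≫ frob T p).ker := by
    rw [Scheme.IdealSheafData.ker_subschemeι, Scheme.IdealSheafData.le_def]
    intro U s hs
    have hs1 : s ∈ RingHom.ker ((frobIter T p (n + 1)).app U).hom :=
      Scheme.Hom.ideal_ker_le _ U hs
    rw [RingHom.mem_ker] at hs1
    have hs2 : s ^ p ^ (n + 1) = 0 := (frobIter_app_eq_zero_iff T (n + 1) U.1 s).mp hs1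
    have hs3 : (s ^ p) ^ p ^ n = 0 := by rw [← pow_mul, ← pow_succ']; exact hs2
    have hs4 : (frobIter T p n).app U.1 (s ^ p) = 0 :=
      (frobIter_app_eq_zero_iff T n U.1 (s ^ p)).mpr hs3
    have hs5 : s ^ p ∈ (frobIter T p n).ker.ideal U := by
      rw [Scheme.Hom.ker_apply, RingHom.mem_ker]
      exact hs4
    rw [← Scheme.IdealSheafData.ker_subschemeι_app, RingHom.mem_ker] at hs5
    rw [Scheme.Hom.ker_apply, RingHom.mem_ker]
    have h1 : ((frobIter T p n).ker.subschemeι ≫ frob T p).app U.1 =
        (frob T p).app U.1 ≫ (frobIter T p n).ker.subschemeι.app (frob T p ⁻¹ᵁ U.1) :=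
      Scheme.Hom.comp_app _ _ _
    rw [h1]
    exact hs5
  exact ⟨IsClosedImmersion.lift _ _ H, IsClosedImmersion.lift_fac _ _ H⟩

end Groth.Agent.Lib.Helper25
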