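import Groth.Agent.Lib.Helper25.PerfScheme6
import Mathlib.AlgebraicGeometry.Morphisms.Finite

/-!
# Properties of the absolute and relative Frobenius of a scheme

The absolute Frobenius `frob X p` and the relative Frobenius `relFrob f p` are integral, universally
injective, surjective, hence universal homeomorphisms.
-/

set_option autoImplicit false
set_option linter.style.haveILetI false

universe u

open CategoryTheory AlgebraicGeometry FrobSch Opposite Limits

namespace Groth.Agent.Lib.Helper25

variable {p : ℕ} [Fact p.Prime]

/-- The absolute Frobenius is affine. -/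
theorem frob_isAffineHom (X : Scheme.{u}) [IsCharP X p] : IsAffineHom (frob X p) :=
  ⟨fun _ hU => hU⟩

/-- The absolute Frobenius is integral. -/
theorem frob_isIntegralHom (X : Scheme.{u}) [IsCharP X p] : IsIntegralHom (frob X p) := by
  haveI := frob_isAffineHom (p := p) X
  refine ⟨fun U _ s => ?_⟩
  let s' : Γ(X, U) := s
  refine ⟨Polynomial.X ^ p - Polynomial.C s',
    Polynomial.monic_X_pow_sub_C s' (Fact.out : p.Prime).ne_zero, ?_⟩
  rw [Polynomial.eval₂_sub, Polynomial.eval₂_X_pow, Polynomial.eval₂_C]
  exact sub_self _

/-- The absolute Frobenius is a universal homeomorphism. -/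
theorem frob_isUnivHomeo (X : Scheme.{u}) [IsCharP X p] : FlatMor.IsUnivHomeo (frob X p) := by
  haveI := frob_isIntegralHom (p := p) X
  rw [isUnivHomeo_iff]
  exact ⟨inferInstance, frob_universallyInjective X, frob_surjective X⟩

/-- The relative Frobenius is universally injective. -/
theorem relFrob_universallyInjective {X S : Scheme.{u}} [IsCharP S p] (f : X ⟶ S) :
    UniversallyInjective (relFrob f p) := by
  haveI : IsCharP X p := IsCharP.of_hom f p
  have h0 := ((tfae_universallyInjective (frob X p)).out 0 1).mp (frob_universallyInjective X)
  refine ((tfae_universallyInjective (relFrob f p)).out 0 1).mpr ?_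
  intro K _ g₁ g₂ hg
  dsimp only at hg
  apply h0 K
  dsimp only
  rw [← relFrob_fst f p, ← Category.assoc, ← Category.assoc, hg]

/-- The first projection of the Frobenius twist is integral. -/
theorem frobTwist_fst_isIntegralHom {X S : Scheme.{u}} [IsCharP S p] (f : X ⟶ S) :
    IsIntegralHom (pullback.fst f (frob S p)) := by
  haveI := frob_isIntegralHom (p := p) S
  infer_instance

set_option backward.isDefEq.respectTransparency.types false in
/-- The first projection of the Frobenius twist is universally injective. -/
theorem frobTwist_fst_universallyInjective {X S : Scheme.{u}} [IsCharP S p] (f : X ⟶ S) :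
    UniversallyInjective (pullback.fst f (frob S p)) := by
  haveI := frob_universallyInjective (p := p) S
  exact MorphismProperty.pullback_fst f (frob S p) inferInstance

/-- The relative Frobenius is integral. -/
theorem relFrob_isIntegralHom {X S : Scheme.{u}} [IsCharP S p] (f : X ⟶ S) :
    IsIntegralHom (relFrob f p) := by
  haveI : IsCharP X p := IsCharP.of_hom f p
  haveI := frobTwist_fst_isIntegralHom (p := p) f
  haveI : IsIntegralHom (relFrob f p ≫ pullback.fst f (frob S p)) := by
    rw [relFrob_fst]
    exact frob_isIntegralHom X
  exact IsIntegralHom.of_comp (relFrob f p) (pullback.fst f (frob S p))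

/-- The relative Frobenius is surjective. -/
theorem relFrob_surjective {X S : Scheme.{u}} [IsCharP S p] (f : X ⟶ S) :
    Surjective (relFrob f p) := by
  haveI : IsCharP X p := IsCharP.of_hom f p
  haveI := frobTwist_fst_universallyInjective (p := p) f
  refine ⟨fun z => ⟨pullback.fst f (frob S p) z, ?_⟩⟩
  apply (pullback.fst f (frob S p)).injective
  rw [← Scheme.Hom.comp_apply, relFrob_fst]
  rfl

/-- The relative Frobenius is a universal homeomorphism. -/
theorem relFrob_isUnivHomeo {X S : Scheme.{u}} [IsCharP S p] (f : X ⟶ S) :
    FlatMor.IsUnivHomeo (relFrob f p) := by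
  haveI := relFrob_isIntegralHom (p := p) f
  rw [isUnivHomeo_iff]
  exact ⟨inferInstance, relFrob_universallyInjective f, relFrob_surjective f⟩

end Groth.Agent.Lib.Helper25
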