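import Mathlib

/-!
# Connectedness of the generic fibre over a discrete valuation ring (EGA IV 15.5)

Ring-theoretic part for `Groth.Agent.S3417`.
-/

set_option autoImplicit false
set_option linter.style.haveILetI false

open IsLocalRing

namespace Groth.Agent.Lib.Helper25.GenFibreConn

/-- If `π` is a nonzerodivisor of `R` with `R / π` reduced, every idempotent of `R[1/π]` comes
from an idempotent of `R`. -/
theorem exists_of_isIdempotentElem_away {R S : Type*} [CommRing R] [CommRing S] [Algebra R S]
    (π : R) [IsLocalization.Away π S] (hπ : π ∈ nonZeroDivisors R)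
    (hred : IsReduced (R ⧸ Ideal.span {π})) (e : S) (he : IsIdempotentElem e) :
    ∃ r : R, IsIdempotentElem r ∧ algebraMap R S r = e := by
  have hinj : Function.Injective (algebraMap R S) :=
    IsLocalization.injective S (Submonoid.powers_le.mpr hπ)
  have hunit : IsUnit (algebraMap R S π) := IsLocalization.Away.algebraMap_isUnit π
  have key : ∀ (n : ℕ) (r : R), e * algebraMap R S π ^ n = algebraMap R S r →
      ∃ r : R, IsIdempotentElem r ∧ algebraMap R S r = e := by
    intro n
    induction n with
    | zero =>
      intro r hr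
      rw [pow_zero, mul_one] at hr
      refine ⟨r, hinj ?_, hr.symm⟩
      rw [map_mul, ← hr]; exact he
    | succ n ih =>
      intro r hr
      -- `r ^ 2 = π ^ (n + 1) * r`
      have h1 : r * r = π ^ (n + 1) * r := by
        apply hinj
        rw [map_mul, map_mul, map_pow, ← hr]
        calc e * algebraMap R S π ^ (n + 1) * (e * algebraMap R S π ^ (n + 1))
            = (e * e) * algebraMap R S π ^ (n + 1) * algebraMap R S π ^ (n + 1) := by ring
          _ = e * algebraMap R S π ^ (n + 1) * algebraMap R S π ^ (n + 1) := by rw [he.eq]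
          _ = algebraMap R S π ^ (n + 1) * (e * algebraMap R S π ^ (n + 1)) := by ring
      have h2 : Ideal.Quotient.mk (Ideal.span {π}) r = 0 := by
        have hnil : IsNilpotent (Ideal.Quotient.mk (Ideal.span {π}) r) := by
          refine ⟨2, ?_⟩
          rw [← map_pow, Ideal.Quotient.eq_zero_iff_mem, pow_two, h1, pow_succ', mul_assoc]
          exact Ideal.mul_mem_right _ _ (Ideal.mem_span_singleton_self π)
        exact hnil.eq_zero
      rw [Ideal.Quotient.eq_zero_iff_mem, Ideal.mem_span_singleton'] at h2
      obtain ⟨r', rfl⟩ := h2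
      refine ih r' ?_
      rw [pow_succ, ← mul_assoc, map_mul] at hr
      exact hunit.mul_left_injective hr
  obtain ⟨⟨r, ⟨_, n, rfl⟩⟩, hr⟩ := IsLocalization.surj (Submonoid.powers π) e
  exact key n r (by rw [← hr, map_pow])

/-- For a local ring `R` and a nonzerodivisor `π` with `R / π` reduced, the spectrum of
`R[1/π]` is preconnected. -/
theorem preconnectedSpace_away {R S : Type*} [CommRing R] [IsLocalRing R] [CommRing S]
    [Algebra R S] (π : R) [IsLocalization.Away π S] (hπ : π ∈ nonZeroDivisors R)
    (hred : IsReduced (R ⧸ Ideal.span {π})) : PreconnectedSpace (PrimeSpectrum S) := by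
  rw [preconnectedSpace_iff_clopen]
  intro s hs
  obtain ⟨e, he, rfl⟩ := PrimeSpectrum.isClopen_iff.mp hs
  obtain ⟨r, hr, rfl⟩ := exists_of_isIdempotentElem_away π hπ hred e he
  have h0 : r * (1 - r) = 0 := by rw [mul_sub, mul_one, hr.eq, sub_self]
  rcases IsLocalRing.isUnit_or_isUnit_one_sub_self r with hu | hu
  · right
    have : r = 1 := by
      have := hu.mul_right_eq_zero.mp h0
      exact (sub_eq_zero.mp this).symm
    rw [this, map_one, PrimeSpectrum.basicOpen_one]; rfl
  · left
    have : r = 0 := hu.mul_left_eq_zero.mp h0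
    rw [this, map_zero, PrimeSpectrum.basicOpen_zero]; rfl

end Groth.Agent.Lib.Helper25.GenFibreConn
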