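import Mathlib
import Groth.Prelude.Def_EGA43
import Groth.Agent.Lib.Helper25.FlatDVR2
import Groth.Agent.Lib.Helper25.GenFibreConn

/-!
# Connectedness of the generic fibre over a discrete valuation ring: scheme part

Helper lemmas for `Groth.Agent.S3417`.
-/

set_option autoImplicit false
set_option linter.style.haveILetI false

universe u

open CategoryTheory CategoryTheory.Limits AlgebraicGeometry IsLocalRing Topology

namespace Groth.Agent.Lib.Helper25.GenFibreConn

open Groth.Agent.Lib.Helper25.FlatDVR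

/-- A generization of `x` corresponding to a prime containing `𝔪_{f x} 𝒪_{X,x}` lies in the
fibre through `x`. -/
theorem apply_fromSpecStalk_eq {X Y : Scheme.{u}} (f : X ⟶ Y) (x : X)
    (q : Spec (X.presheaf.stalk x))
    (hle : (maximalIdeal (Y.presheaf.stalk (f.base x))).map (f.stalkMap x).hom ≤ q.asIdeal) :
    f.base (X.fromSpecStalk x q) = f.base x := by
  have hnat := Scheme.SpecMap_stalkMap_fromSpecStalk f (x := x)
  have h1 : f.base (X.fromSpecStalk x q) = Y.fromSpecStalk (f.base x)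
      (Spec.map (f.stalkMap x) q) := by
    rw [← Scheme.Hom.comp_apply, ← Scheme.Hom.comp_apply, hnat]
  have h2 : Spec.map (f.stalkMap x) q = closedPoint (Y.presheaf.stalk (f.base x)) := by
    apply PrimeSpectrum.ext
    have hle2 : maximalIdeal (Y.presheaf.stalk (f.base x)) ≤
        q.asIdeal.comap (f.stalkMap x).hom := Ideal.map_le_iff_le_comap.mp hle
    exact ((maximalIdeal.isMaximal _).eq_of_le
      (Ideal.comap_ne_top _ q.2.ne_top) hle2).symm
  rw [h1, h2, Scheme.fromSpecStalk_closedPoint]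

/-- Conversely, a generization of `x` in the fibre through `x` corresponds to a prime containing
`𝔪_{f x} 𝒪_{X,x}`. -/
theorem map_maximalIdeal_le_of_apply_fromSpecStalk_eq {X Y : Scheme.{u}} (f : X ⟶ Y) (x : X)
    (q : Spec (X.presheaf.stalk x)) (h : f.base (X.fromSpecStalk x q) = f.base x) :
    (maximalIdeal (Y.presheaf.stalk (f.base x))).map (f.stalkMap x).hom ≤ q.asIdeal := by
  have hnat := Scheme.SpecMap_stalkMap_fromSpecStalk f (x := x)
  have h1 : f.base (X.fromSpecStalk x q) = Y.fromSpecStalk (f.base x)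
      (Spec.map (f.stalkMap x) q) := by
    rw [← Scheme.Hom.comp_apply, ← Scheme.Hom.comp_apply, hnat]
  rw [h1] at h
  have h2 : Spec.map (f.stalkMap x) q = closedPoint (Y.presheaf.stalk (f.base x)) := by
    apply (Y.fromSpecStalk (f.base x)).isEmbedding.injective
    rw [h, Scheme.fromSpecStalk_closedPoint]
  rw [Ideal.map_le_iff_le_comap]
  have : (Spec.map (f.stalkMap x) q).asIdeal = maximalIdeal (Y.presheaf.stalk (f.base x)) :=
    congrArg PrimeSpectrum.asIdeal h2
  exact this.symm.le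

/-- The local ring of the fibre is the quotient of the local ring of the total space. -/
theorem isReduced_quotient_of_fiber {X S : Scheme.{u}} (f : X ⟶ S) (s : S) (z : f.fiber s)
    (hred : _root_.IsReduced ((f.fiber s).presheaf.stalk z)) :
    ∀ x₁ : X, x₁ = (f.fiberι s).base z →
      _root_.IsReduced (X.presheaf.stalk x₁ ⧸
        (maximalIdeal (S.presheaf.stalk (f.base x₁))).map (f.stalkMap x₁).hom) := by
  rintro _ rfl
  have hker := Groth.Agent.Lib.Helper35.FiberStalk.ker_stalkMap_fiberι f s z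
  have hsurj := Groth.Agent.Lib.Helper35.FiberStalk.stalkMap_fiberι_surjective f s z
  rw [← hker]
  exact isReduced_of_injective (RingHom.quotientKerEquivOfSurjective hsurj).toRingHom
    (RingEquiv.injective _)

/-- The local step: two generizations of a point `x` of the closed fibre lying in the generic
fibre cannot be separated by disjoint open sets covering the generic fibre. -/
theorem local_step (A : Type u) [CommRing A] [IsDomain A] [IsDiscreteValuationRing A]
    {X : Scheme.{u}} (f : X ⟶ Spec (CommRingCat.of A)) [LocallyOfFiniteType f]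
    (hopen : IsOpenMap f.base) (hred : AlgebraicGeometry.IsReduced (f.fiber (closedPoint A)))
    (x : X) (hx : f.base x = closedPoint A) (W₁ W₂ : Set X) (hW₁ : IsOpen W₁) (hW₂ : IsOpen W₂)
    (hdisj : W₁ ∩ W₂ = ∅)
    (hcov : f.base ⁻¹' ({closedPoint A} : Set (PrimeSpectrum A))ᶜ ⊆ W₁ ∪ W₂)
    (u₁ u₂ : X) (hu₁ : u₁ ∈ W₁) (hu₂ : u₂ ∈ W₂) (h₁ : u₁ ⤳ x) (h₂ : u₂ ⤳ x)
    (hf₁ : f.base u₁ ≠ closedPoint A) (hf₂ : f.base u₂ ≠ closedPoint A) : False := by
  haveI : IsLocallyNoetherian X := LocallyOfFiniteType.isLocallyNoetherian f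
  obtain ⟨hdom, hdvr⟩ := isDVR_stalk_closedPoint A (f.base x) hx
  haveI := hdom
  haveI := hdvr
  have hredfib : AlgebraicGeometry.IsReduced (f.fiber (f.base x)) := by
    rw [hx]; exact hred
  have hredx : _root_.IsReduced ((f.fiber (f.base x)).presheaf.stalk (f.asFiber x)) :=
    inferInstance
  have hflat : (f.stalkMap x).hom.Flat :=
    flat_stalkMap_of_isOpenAt A f (f.base x) hx (f.asFiber x)
      (fun z₁ _ _ U hU => hopen.image_mem_nhds hU) hredx x (f.fiberι_asFiber x).symm
  have hredq := isReduced_quotient_of_fiber f (f.base x) (f.asFiber x) hredx x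
    (f.fiberι_asFiber x).symm
  obtain ⟨ϖ, hϖ⟩ := IsDiscreteValuationRing.exists_irreducible
    ((Spec (CommRingCat.of A)).presheaf.stalk (f.base x))
  obtain ⟨π, hπdef⟩ : ∃ π : X.presheaf.stalk x, π = (f.stalkMap x).hom ϖ := ⟨_, rfl⟩
  have hmap : (maximalIdeal ((Spec (CommRingCat.of A)).presheaf.stalk (f.base x))).map
      (f.stalkMap x).hom = Ideal.span {π} := by
    rw [hϖ.maximalIdeal_eq, Ideal.map_span, Set.image_singleton, hπdef]
  rw [hmap] at hredq
  have hπ : π ∈ nonZeroDivisors (X.presheaf.stalk x) := by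
    letI : Algebra ((Spec (CommRingCat.of A)).presheaf.stalk (f.base x)) (X.presheaf.stalk x) :=
      (f.stalkMap x).hom.toAlgebra
    haveI : Module.Flat ((Spec (CommRingCat.of A)).presheaf.stalk (f.base x))
      (X.presheaf.stalk x) := hflat
    have hreg : IsSMulRegular (X.presheaf.stalk x) ϖ :=
      Module.Flat.isSMulRegular_of_nonZeroDivisors (mem_nonZeroDivisors_of_ne_zero hϖ.ne_zero)
    rw [mem_nonZeroDivisors_iff_left]
    intro r hr
    refine hreg ?_
    show (f.stalkMap x).hom ϖ * r = (f.stalkMap x).hom ϖ * 0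
    rw [← hπdef, hr, mul_zero]
  haveI : PreconnectedSpace (PrimeSpectrum (Localization.Away π)) :=
    preconnectedSpace_away (S := Localization.Away π) π hπ hredq
  let γ : PrimeSpectrum (Localization.Away π) → X := fun t =>
    X.fromSpecStalk x (PrimeSpectrum.comap (algebraMap (X.presheaf.stalk x)
      (Localization.Away π)) t)
  have hγc : Continuous γ :=
    (X.fromSpecStalk x).continuous.comp (PrimeSpectrum.continuous_comap _)
  have hpre : _root_.IsPreconnected (Set.range γ) := isPreconnected_range hγc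
  have hI1 : ∀ t, f.base (γ t) ≠ closedPoint A := by
    intro t heq
    have hle := map_maximalIdeal_le_of_apply_fromSpecStalk_eq f x _ (heq.trans hx.symm)
    rw [hmap, Ideal.span_singleton_le_iff_mem] at hle
    have hmem : algebraMap (X.presheaf.stalk x) (Localization.Away π) π ∈ t.asIdeal := hle
    exact t.2.ne_top (Ideal.eq_top_of_isUnit_mem _ hmem
      (IsLocalization.Away.algebraMap_isUnit π))
  have hI2 : ∀ u : X, u ⤳ x → f.base u ≠ closedPoint A → u ∈ Set.range γ := by
    intro u hu hfu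
    obtain ⟨q, rfl⟩ : u ∈ Set.range (X.fromSpecStalk x) := by
      rw [Scheme.range_fromSpecStalk]; exact hu
    have hπq : π ∉ q.asIdeal := by
      intro hmem
      refine hfu ((apply_fromSpecStalk_eq f x q ?_).trans hx)
      rw [hmap, Ideal.span_singleton_le_iff_mem]
      exact hmem
    obtain ⟨t, ht⟩ : q ∈ Set.range (PrimeSpectrum.comap (algebraMap (X.presheaf.stalk x)
        (Localization.Away π))) := by
      rw [PrimeSpectrum.localization_away_comap_range (Localization.Away π) π]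
      exact hπq
    exact ⟨t, by simp only [γ]; rw [ht]⟩
  have hsub : Set.range γ ⊆ W₁ ∪ W₂ := by
    rintro _ ⟨t, rfl⟩
    exact hcov (hI1 t)
  obtain ⟨w, -, hw1, hw2⟩ := hpre W₁ W₂ hW₁ hW₂ hsub ⟨u₁, hI2 u₁ h₁ hf₁, hu₁⟩
    ⟨u₂, hI2 u₂ h₂ hf₂, hu₂⟩
  have : w ∈ W₁ ∩ W₂ := ⟨hw1, hw2⟩
  rw [hdisj] at this
  exact this

/-- EGA IV 15.5.x: for an open morphism locally of finite type to the spectrum of a discrete
valuation ring with connected source and reduced closed fibre, the generic fibre is connected. -/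
theorem isPreconnected_generic_fibre (A : Type u) [CommRing A] [IsDomain A]
    [IsDiscreteValuationRing A] {X : Scheme.{u}} (f : X ⟶ Spec (CommRingCat.of A))
    [LocallyOfFiniteType f] (hopen : IsOpenMap f.base) [PreconnectedSpace X]
    (hred : AlgebraicGeometry.IsReduced (f.fiber (closedPoint A))) :
    _root_.IsPreconnected (f.base ⁻¹' ({closedPoint A} : Set (PrimeSpectrum A))ᶜ) := by
  haveI : IsLocallyNoetherian X := LocallyOfFiniteType.isLocallyNoetherian f
  obtain ⟨Xη, hXηdef⟩ : ∃ Xη : Set X,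
      Xη = f.base ⁻¹' ({closedPoint A} : Set (PrimeSpectrum A))ᶜ := ⟨_, rfl⟩
  rw [← hXηdef]
  have hXηopen : IsOpen Xη := by
    rw [hXηdef]
    exact (IsLocalRing.isClosed_singleton_closedPoint A).isOpen_compl.preimage
      f.base.hom.continuous
  have hmemη : ∀ p : X, p ∈ Xη ↔ f.base p ≠ closedPoint A := by
    intro p; rw [hXηdef]; rfl
  intro u v hu hv hcov hnu hnv
  obtain ⟨p₁, hp₁η, hp₁u⟩ := hnu
  obtain ⟨p₂, hp₂η, hp₂v⟩ := hnv
  by_contra hne
  have hW₁open : IsOpen (Xη ∩ u) := hXηopen.inter hu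
  have hW₂open : IsOpen (Xη ∩ v) := hXηopen.inter hv
  have hdisj : (Xη ∩ u) ∩ (Xη ∩ v) = ∅ := by
    rw [Set.eq_empty_iff_forall_notMem]
    rintro w ⟨⟨hw1, hw2⟩, -, hw3⟩
    exact hne ⟨w, hw1, hw2, hw3⟩
  have hcov' : Xη ⊆ (Xη ∩ u) ∪ (Xη ∩ v) := by
    intro w hw
    rcases hcov hw with h | h
    · exact Or.inl ⟨hw, h⟩
    · exact Or.inr ⟨hw, h⟩
  have hcov'' : f.base ⁻¹' ({closedPoint A} : Set (PrimeSpectrum A))ᶜ ⊆
      (Xη ∩ u) ∪ (Xη ∩ v) := hXηdef ▸ hcov'
  have hZcov : (Set.univ : Set X) ⊆ closure (Xη ∩ u) ∪ closure (Xη ∩ v) := by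
    intro x _
    by_cases hx : f.base x = closedPoint A
    · obtain ⟨g, hg, hgne⟩ := exists_generization_of_isOpenAt A f x hx
        (fun U hU => hopen.image_mem_nhds hU)
      rcases hcov' ((hmemη g).mpr hgne) with h | h
      · exact Or.inl (closure_mono (Set.singleton_subset_iff.mpr h) hg.mem_closure)
      · exact Or.inr (closure_mono (Set.singleton_subset_iff.mpr h) hg.mem_closure)
    · rcases hcov' ((hmemη x).mpr hx) with h | h
      · exact Or.inl (subset_closure h)
      · exact Or.inr (subset_closure h)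
  have hZdisj : closure (Xη ∩ u) ∩ closure (Xη ∩ v) = ∅ := by
    rw [Set.eq_empty_iff_forall_notMem]
    rintro x ⟨hx1, hx2⟩
    by_cases hx : f.base x = closedPoint A
    · let W₁ : X.Opens := ⟨Xη ∩ u, hW₁open⟩
      let W₂ : X.Opens := ⟨Xη ∩ v, hW₂open⟩
      obtain ⟨g₁, hg₁⟩ := Groth.Agent.Lib.Helper39.KA.exists_specializes_of_mem_closure_range
        W₁.ι x (by rw [Scheme.Opens.range_ι]; exact hx1)
      obtain ⟨g₂, hg₂⟩ := Groth.Agent.Lib.Helper39.KA.exists_specializes_of_mem_closure_range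
        W₂.ι x (by rw [Scheme.Opens.range_ι]; exact hx2)
      have hg₁W : W₁.ι g₁ ∈ Xη ∩ u := g₁.2
      have hg₂W : W₂.ι g₂ ∈ Xη ∩ v := g₂.2
      exact local_step A f hopen hred x hx (Xη ∩ u) (Xη ∩ v) hW₁open hW₂open hdisj hcov''
        (W₁.ι g₁) (W₂.ι g₂) hg₁W hg₂W hg₁ hg₂ ((hmemη _).mp hg₁W.1) ((hmemη _).mp hg₂W.1)
    · rcases hcov' ((hmemη x).mpr hx) with h | h
      · obtain ⟨w, hw1, hw2⟩ := mem_closure_iff.mp hx2 _ hW₁open h
        have : w ∈ (Xη ∩ u) ∩ (Xη ∩ v) := ⟨hw1, hw2⟩
        rw [hdisj] at this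
        exact this
      · obtain ⟨w, hw1, hw2⟩ := mem_closure_iff.mp hx1 _ hW₂open h
        have : w ∈ (Xη ∩ u) ∩ (Xη ∩ v) := ⟨hw2, hw1⟩
        rw [hdisj] at this
        exact this
  have hcon := isPreconnected_closed_iff.mp (isPreconnected_univ (α := X))
    (closure (Xη ∩ u)) (closure (Xη ∩ v)) isClosed_closure isClosed_closure hZcov
    ⟨p₁, trivial, subset_closure ⟨hp₁η, hp₁u⟩⟩ ⟨p₂, trivial, subset_closure ⟨hp₂η, hp₂v⟩⟩
  obtain ⟨w, -, hw⟩ := hcon
  rw [hZdisj] at hw
  exact hw

end Groth.Agent.Lib.Helper25.GenFibreConn
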