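import Mathlib
import Groth.Prelude.Def_FlatFun

set_option autoImplicit false
universe u

open CategoryTheory CategoryTheory.Limits AlgebraicGeometry Opposite

namespace Groth.Agent.Lib.Helper25.GenPSpSheaf

variable {S : Scheme.{u}}

/-- abstract sheaf criterion for `genPSp`: stable + local for fpqc coverings -/
theorem isSheaf_genPSp (P : Over S → Prop)
    (hstab : ∀ ⦃T T₀ : Over S⦄ (_ : T ⟶ T₀), P T₀ → P T)
    (hloc : ∀ (T : Over S) (R : Presieve T),
      R.map (Over.forget S) ∈ Scheme.fpqcPrecoverage T.left →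
      (∀ ⦃V : Over S⦄ (g : V ⟶ T), R g → P V) → P T) :
    Presheaf.IsSheaf (QuotSh.J Scheme.fpqcPrecoverage S) (FlatFun.genPSp S P) := by
  rw [isSheaf_iff_isSheaf_of_type]
  show Presieve.IsSheaf ((Scheme.fpqcPrecoverage.toGrothendieck).over S) _
  rw [CategoryTheory.over_toGrothendieck_eq_toGrothendieck_comap_forget,
    Precoverage.isSheaf_toGrothendieck_iff_of_isStableUnderBaseChange]
  intro T R hR
  rw [Precoverage.mem_comap_iff] at hR
  intro x hx
  have hV : ∀ ⦃V : Over S⦄ (g : V ⟶ T), R g → P V := fun V g hg =>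
    (FlatFun.genPSp_nonempty_iff_of_stable P hstab V).1 ⟨x g hg⟩
  have hT : P T := hloc T R hR hV
  obtain ⟨t⟩ := FlatFun.genPSp_nonempty_of P hT
  refine ⟨t, fun V g hg => Subsingleton.elim _ _, fun t' _ => Subsingleton.elim _ _⟩

end Groth.Agent.Lib.Helper25.GenPSpSheaf
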