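import Mathlib
import Groth.Prelude.Def_FlatFun
import Groth.Agent.Lib.Helper25.PullFaithful
import Groth.Agent.Lib.Helper25.GenPSpSheaf

set_option autoImplicit false
universe u

open CategoryTheory CategoryTheory.Limits AlgebraicGeometry Opposite

namespace Groth.Agent.Lib.Helper25.GenPSpSheaf2

open Groth.Agent.Lib.Helper25.PullFaithful

/-- a morphism of modules killed by all pullbacks along a flat jointly surjective family is zero -/
theorem eq_zero_of_family {Z : Scheme.{u}} {ι : Type*} {W : ι → Scheme.{u}} (a : ∀ i, W i ⟶ Z)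
    (hflat : ∀ i, Flat (a i)) (hsurj : ∀ z : Z, ∃ i, z ∈ Set.range (a i))
    {M N : Z.Modules} (φ : M ⟶ N) (h : ∀ i, (Scheme.Modules.pullback (a i)).map φ = 0) :
    φ = 0 := by
  ext V s
  apply TopCat.Presheaf.section_ext (⟨N.presheaf, N.isSheaf⟩ : TopCat.Sheaf Ab Z) V
  intro y hy
  obtain ⟨i, x, rfl⟩ := hsurj y
  have := hflat i
  refine (germ_eq_zero (a i) x φ (h i) V hy s).trans ?_
  exact (map_zero (TopCat.Presheaf.germ N.presheaf V ((a i) x) hy).hom).symm

/-- compatibility of pullback functors with composition, on morphisms -/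
theorem pullback_comp_map {Z' Z X : Scheme.{u}} (a : Z' ⟶ Z) (p : Z ⟶ X) {F G : X.Modules}
    (u : F ⟶ G) :
    (Scheme.Modules.pullback (a ≫ p)).map u =
      (Scheme.Modules.pullbackComp a p).inv.app F ≫
        (Scheme.Modules.pullback a).map ((Scheme.Modules.pullback p).map u) ≫
          (Scheme.Modules.pullbackComp a p).hom.app G := by
  have := (Scheme.Modules.pullbackComp a p).hom.naturality u
  simp only [Functor.comp_map] at this
  rw [this, Iso.inv_hom_id_app_assoc]

/-- variant with a proof of equality -/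
theorem pullback_map_of_eq {Z' Z X : Scheme.{u}} (a : Z' ⟶ Z) (p : Z ⟶ X) (p' : Z' ⟶ X)
    (h : a ≫ p = p') {F G : X.Modules} (u : F ⟶ G) :
    ∃ (e₁ : (Scheme.Modules.pullback p').obj F ≅
        (Scheme.Modules.pullback a).obj ((Scheme.Modules.pullback p).obj F))
      (e₂ : (Scheme.Modules.pullback p').obj G ≅
        (Scheme.Modules.pullback a).obj ((Scheme.Modules.pullback p).obj G)),
      (Scheme.Modules.pullback p').map u =
        e₁.hom ≫ (Scheme.Modules.pullback a).map ((Scheme.Modules.pullback p).map u) ≫ e₂.inv := by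
  subst h
  exact ⟨((Scheme.Modules.pullbackComp a p).app F).symm, ((Scheme.Modules.pullbackComp a p).app G).symm,
    pullback_comp_map a p u⟩

variable {X S : Scheme.{u}} (f : X ⟶ S)

/-- the base change map `X_V ⟶ X_T` of a morphism `g : V ⟶ T` over `S` -/
noncomputable def bc {V T : Over S} (g : V ⟶ T) : pullback f V.hom ⟶ pullback f T.hom :=
  pullback.lift (pullback.fst f V.hom) (pullback.snd f V.hom ≫ g.left)
    (by rw [pullback.condition, Category.assoc, Over.w])

@[reassoc (attr := simp)]
lemma bc_fst {V T : Over S} (g : V ⟶ T) : bc f g ≫ pullback.fst f T.hom = pullback.fst f V.hom :=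
  pullback.lift_fst _ _ _

@[reassoc (attr := simp)]
lemma bc_snd {V T : Over S} (g : V ⟶ T) :
    bc f g ≫ pullback.snd f T.hom = pullback.snd f V.hom ≫ g.left :=
  pullback.lift_snd _ _ _

lemma isPullback_bc {V T : Over S} (g : V ⟶ T) :
    IsPullback (bc f g) (pullback.snd f V.hom) (pullback.snd f T.hom) g.left := by
  have h1 : IsPullback (pullback.fst f T.hom) (pullback.snd f T.hom) f T.hom :=
    IsPullback.of_hasPullback f T.hom
  have h2 : IsPullback (bc f g ≫ pullback.fst f T.hom) (pullback.snd f V.hom) f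
      (g.left ≫ T.hom) := by
    rw [bc_fst, Over.w]
    exact IsPullback.of_hasPullback f V.hom
  exact IsPullback.of_right h2 (bc_snd f g) h1

set_option backward.isDefEq.respectTransparency.types false in
/-- base change of an fpqc covering of `T` to `X_T` is flat and jointly surjective -/
lemma bc_cover {T : Over S} (R : Presieve T)
    (hR : R.map (Over.forget S) ∈ Scheme.fpqcPrecoverage T.left) :
    (∀ ⦃V : Over S⦄ (g : V ⟶ T), R g → Flat (bc f g)) ∧
    (∀ z : ↥(pullback f T.hom), ∃ (V : Over S) (g : V ⟶ T), R g ∧ z ∈ Set.range (bc f g)) := by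
  have hR' : R.map (Over.forget S) ∈ Scheme.precoverage (@Flat : MorphismProperty Scheme.{u}) T.left :=
    Scheme.propQCPrecoverage_le_precoverage _ hR
  obtain ⟨ι, Y, g, rfl⟩ := R.exists_eq_ofArrows
  rw [Presieve.map_ofArrows] at hR'
  have key : Presieve.ofArrows (fun i => pullback f (Y i).hom) (fun i => bc f (g i)) ∈
      Scheme.precoverage (@Flat : MorphismProperty Scheme.{u}) (pullback f T.hom) :=
    Precoverage.mem_coverings_of_isPullback (fun i => (Over.forget S).map (g i)) hR'
      (pullback.snd f T.hom) (fun i => bc f (g i)) (fun i => pullback.snd f (Y i).hom)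
      (fun i => isPullback_bc f (g i))
  rw [Scheme.ofArrows_mem_precoverage_iff] at key
  constructor
  · rintro V g' ⟨i⟩
    exact key.2 i
  · intro z
    obtain ⟨i, hi⟩ := key.1 z
    exact ⟨Y i, g i, ⟨i⟩, hi⟩

variable {F G : X.Modules} (u : F ⟶ G)

/-- the comparison: `u_V` is conjugate to the pullback of `u_T` along `bc f g` -/
lemma exists_conj {V T : Over S} (g : V ⟶ T) :
    ∃ (e₁ : (Scheme.Modules.pullback (pullback.fst f V.hom)).obj F ≅
        (Scheme.Modules.pullback (bc f g)).obj ((Scheme.Modules.pullback (pullback.fst f T.hom)).obj F))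
      (e₂ : (Scheme.Modules.pullback (pullback.fst f V.hom)).obj G ≅
        (Scheme.Modules.pullback (bc f g)).obj ((Scheme.Modules.pullback (pullback.fst f T.hom)).obj G)),
      (Scheme.Modules.pullback (pullback.fst f V.hom)).map u =
        e₁.hom ≫ (Scheme.Modules.pullback (bc f g)).map
          ((Scheme.Modules.pullback (pullback.fst f T.hom)).map u) ≫ e₂.inv :=
  pullback_map_of_eq (bc f g) (pullback.fst f T.hom) (pullback.fst f V.hom) (bc_fst f g) u

theorem isSheaf_zero :
    Presheaf.IsSheaf (QuotSh.J Scheme.fpqcPrecoverage S)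
      (FlatFun.genPSp S (fun T => ((Scheme.Modules.pullback (pullback.fst f T.hom)).map u) = 0)) := by
  apply Groth.Agent.Lib.Helper25.GenPSpSheaf.isSheaf_genPSp
  · intro T T₀ k h
    obtain ⟨e₁, e₂, he⟩ := exists_conj f u k
    show (Scheme.Modules.pullback (pullback.fst f T.hom)).map u = 0
    rw [he, h, Functor.map_zero, zero_comp, comp_zero]
  · intro T R hR h
    obtain ⟨hflat, hsurj⟩ := bc_cover f R hR
    obtain ⟨ι, Y, g, rfl⟩ := R.exists_eq_ofArrows
    apply eq_zero_of_family (fun i => bc f (g i)) (fun i => hflat (g i) ⟨i⟩)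
    · intro z
      obtain ⟨V, g', ⟨i⟩, hz⟩ := hsurj z
      exact ⟨i, hz⟩
    · intro i
      obtain ⟨e₁, e₂, he⟩ := exists_conj f u (g i)
      have h0 : (Scheme.Modules.pullback (pullback.fst f (Y i).hom)).map u = 0 := h (g i) ⟨i⟩
      rw [he] at h0
      have := congr(e₁.inv ≫ $h0 ≫ e₂.hom)
      simpa using this

end Groth.Agent.Lib.Helper25.GenPSpSheaf2
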