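import Mathlib
import Groth.Prelude.Def_FlatFun
import Groth.Agent.Lib.Helper25.GenPSpSheaf2

set_option autoImplicit false
universe u

open CategoryTheory CategoryTheory.Limits AlgebraicGeometry Opposite

namespace Groth.Agent.Lib.Helper25.GenPSpSheaf3

open Groth.Agent.Lib.Helper25.GenPSpSheaf2

/-- epimorphisms descend along flat jointly surjective families -/
theorem epi_of_family {Z : Scheme.{u}} {ι : Type*} {W : ι → Scheme.{u}} (a : ∀ i, W i ⟶ Z)
    (hflat : ∀ i, Flat (a i)) (hsurj : ∀ z : Z, ∃ i, z ∈ Set.range (a i))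
    {M N : Z.Modules} (φ : M ⟶ N) (h : ∀ i, Epi ((Scheme.Modules.pullback (a i)).map φ)) :
    Epi φ := by
  apply Abelian.epi_of_cokernel_π_eq_zero
  apply eq_zero_of_family a hflat hsurj
  intro i
  have := h i
  rw [← cancel_epi ((Scheme.Modules.pullback (a i)).map φ), ← Functor.map_comp,
    cokernel.condition, Functor.map_zero, comp_zero]

/-- monomorphisms descend along flat jointly surjective families -/
theorem mono_of_family {Z : Scheme.{u}} {ι : Type*} {W : ι → Scheme.{u}} (a : ∀ i, W i ⟶ Z)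
    (hflat : ∀ i, Flat (a i)) (hsurj : ∀ z : Z, ∃ i, z ∈ Set.range (a i))
    {M N : Z.Modules} (φ : M ⟶ N) (h : ∀ i, Mono ((Scheme.Modules.pullback (a i)).map φ)) :
    Mono φ := by
  apply Abelian.mono_of_kernel_ι_eq_zero
  apply eq_zero_of_family a hflat hsurj
  intro i
  have := h i
  rw [← cancel_mono ((Scheme.Modules.pullback (a i)).map φ), ← Functor.map_comp,
    kernel.condition, Functor.map_zero, zero_comp]

/-- isomorphisms descend along flat jointly surjective families -/
theorem isIso_of_family {Z : Scheme.{u}} {ι : Type*} {W : ι → Scheme.{u}} (a : ∀ i, W i ⟶ Z)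
    (hflat : ∀ i, Flat (a i)) (hsurj : ∀ z : Z, ∃ i, z ∈ Set.range (a i))
    {M N : Z.Modules} (φ : M ⟶ N) (h : ∀ i, IsIso ((Scheme.Modules.pullback (a i)).map φ)) :
    IsIso φ := by
  have h1 : Mono φ := mono_of_family a hflat hsurj φ (fun i => by have := h i; infer_instance)
  have h2 : Epi φ := epi_of_family a hflat hsurj φ (fun i => by have := h i; infer_instance)
  exact isIso_of_mono_of_epi φ

variable {X S : Scheme.{u}} (f : X ⟶ S) {F G : X.Modules} (u : F ⟶ G)

theorem isSheaf_epi :
    Presheaf.IsSheaf (QuotSh.J Scheme.fpqcPrecoverage S)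
      (FlatFun.genPSp S (fun T => Epi ((Scheme.Modules.pullback (pullback.fst f T.hom)).map u))) := by
  apply Groth.Agent.Lib.Helper25.GenPSpSheaf.isSheaf_genPSp
  · intro T T₀ k h
    obtain ⟨e₁, e₂, he⟩ := exists_conj f u k
    show Epi ((Scheme.Modules.pullback (pullback.fst f T.hom)).map u)
    rw [he]
    have : Epi ((Scheme.Modules.pullback (pullback.fst f T₀.hom)).map u) := h
    have : Epi ((Scheme.Modules.pullback (bc f k)).map
        ((Scheme.Modules.pullback (pullback.fst f T₀.hom)).map u)) := inferInstance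
    infer_instance
  · intro T R hR h
    obtain ⟨hflat, hsurj⟩ := bc_cover f R hR
    obtain ⟨ι, Y, g, rfl⟩ := R.exists_eq_ofArrows
    apply epi_of_family (fun i => bc f (g i)) (fun i => hflat (g i) ⟨i⟩)
    · intro z
      obtain ⟨V, g', ⟨i⟩, hz⟩ := hsurj z
      exact ⟨i, hz⟩
    · intro i
      obtain ⟨e₁, e₂, he⟩ := exists_conj f u (g i)
      have h0 : Epi ((Scheme.Modules.pullback (pullback.fst f (Y i).hom)).map u) := h (g i) ⟨i⟩
      rw [he] at h0
      have h1 : Epi (e₁.inv ≫ (e₁.hom ≫ (Scheme.Modules.pullback (bc f (g i))).map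
          ((Scheme.Modules.pullback (pullback.fst f T.hom)).map u) ≫ e₂.inv) ≫ e₂.hom) :=
        inferInstance
      simpa using h1

theorem isSheaf_iso :
    Presheaf.IsSheaf (QuotSh.J Scheme.fpqcPrecoverage S)
      (FlatFun.genPSp S (fun T => IsIso ((Scheme.Modules.pullback (pullback.fst f T.hom)).map u))) := by
  apply Groth.Agent.Lib.Helper25.GenPSpSheaf.isSheaf_genPSp
  · intro T T₀ k h
    obtain ⟨e₁, e₂, he⟩ := exists_conj f u k
    show IsIso ((Scheme.Modules.pullback (pullback.fst f T.hom)).map u)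
    rw [he]
    have : IsIso ((Scheme.Modules.pullback (pullback.fst f T₀.hom)).map u) := h
    infer_instance
  · intro T R hR h
    obtain ⟨hflat, hsurj⟩ := bc_cover f R hR
    obtain ⟨ι, Y, g, rfl⟩ := R.exists_eq_ofArrows
    apply isIso_of_family (fun i => bc f (g i)) (fun i => hflat (g i) ⟨i⟩)
    · intro z
      obtain ⟨V, g', ⟨i⟩, hz⟩ := hsurj z
      exact ⟨i, hz⟩
    · intro i
      obtain ⟨e₁, e₂, he⟩ := exists_conj f u (g i)
      have h0 : IsIso ((Scheme.Modules.pullback (pullback.fst f (Y i).hom)).map u) := h (g i) ⟨i⟩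
      rw [he] at h0
      have h1 : IsIso (e₁.inv ≫ (e₁.hom ≫ (Scheme.Modules.pullback (bc f (g i))).map
          ((Scheme.Modules.pullback (pullback.fst f T.hom)).map u) ≫ e₂.inv) ≫ e₂.hom) :=
        inferInstance
      simpa using h1

end Groth.Agent.Lib.Helper25.GenPSpSheaf3
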