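import Mathlib
import Groth.Prelude.Def_FlatFun
import Groth.Agent.Lib.Helper25.GenPSpSheaf3
import Groth.Agent.Lib.Helper25.FlatPullMono

set_option autoImplicit false
universe u

open CategoryTheory CategoryTheory.Limits AlgebraicGeometry Opposite

namespace Groth.Agent.Lib.Helper25.GenPSpSheaf4

open Groth.Agent.Lib.Helper25.GenPSpSheaf2 Groth.Agent.Lib.Helper25.GenPSpSheaf3
open Groth.Agent.Lib.Helper25.SkyInj

/-- pullback along a flat morphism is exact -/
instance preservesFiniteLimits_pullback_of_flat {W Z : Scheme.{u}} (a : W ⟶ Z) [Flat a] :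
    PreservesFiniteLimits (Scheme.Modules.pullback a) := by
  have : (Scheme.Modules.pullback a).IsLeftAdjoint :=
    (Scheme.Modules.pullbackPushforwardAdjunction a).isLeftAdjoint
  rw [Functor.preservesFiniteLimits_iff_forall_exact_map_and_mono]
  intro S hS
  have hmono : Mono S.f := hS.mono_f
  refine ⟨?_, inferInstance⟩
  have h : PreservesFiniteColimits (Scheme.Modules.pullback a) := inferInstance
  exact ((Functor.preservesFiniteColimits_iff_forall_exact_map_and_epi
    (Scheme.Modules.pullback a)).1 h S hS).1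

variable {X S : Scheme.{u}} (f : X ⟶ S) {F G : X.Modules} (u : F ⟶ G)

theorem mono_iff_of_fpqc (T : Over S) {ι : Type u} (Ti : ι → Over S) (g : ∀ i, Ti i ⟶ T)
    (hcov : Presieve.ofArrows (fun i => (Ti i).left) (fun i => (g i).left) ∈
      Scheme.fpqcPrecoverage T.left) :
    Mono ((Scheme.Modules.pullback (pullback.fst f T.hom)).map u) ↔
      ∀ i, Mono ((Scheme.Modules.pullback (pullback.fst f (Ti i).hom)).map u) := by
  have hR : (Presieve.ofArrows Ti g).map (Over.forget S) ∈ Scheme.fpqcPrecoverage T.left := by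
    rw [Presieve.map_ofArrows]
    exact hcov
  obtain ⟨hflat, hsurj⟩ := bc_cover f (Presieve.ofArrows Ti g) hR
  constructor
  · intro h i
    obtain ⟨e₁, e₂, he⟩ := exists_conj f u (g i)
    rw [he]
    have := hflat (g i) ⟨i⟩
    have : Mono ((Scheme.Modules.pullback (bc f (g i))).map
        ((Scheme.Modules.pullback (pullback.fst f T.hom)).map u)) := inferInstance
    infer_instance
  · intro h
    apply mono_of_family (fun i => bc f (g i)) (fun i => hflat (g i) ⟨i⟩)
    · intro z
      obtain ⟨V, g', ⟨i⟩, hz⟩ := hsurj z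
      exact ⟨i, hz⟩
    · intro i
      obtain ⟨e₁, e₂, he⟩ := exists_conj f u (g i)
      have h0 := h i
      rw [he] at h0
      have h1 : Mono (e₁.inv ≫ (e₁.hom ≫ (Scheme.Modules.pullback (bc f (g i))).map
          ((Scheme.Modules.pullback (pullback.fst f T.hom)).map u) ≫ e₂.inv) ≫ e₂.hom) :=
        inferInstance
      simpa using h1

end Groth.Agent.Lib.Helper25.GenPSpSheaf4
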