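import Mathlib
import Groth.Prelude.Def_FlatFun
import Groth.Agent.Lib.Helper25.GenPSpSheaf2
import Groth.Agent.Lib.Helper25.SkyInj
import Groth.Agent.Lib.QCoh.Helper74_FlatOverBaseChange

set_option autoImplicit false
universe u

open CategoryTheory CategoryTheory.Limits AlgebraicGeometry Opposite

namespace Groth.Agent.Lib.Helper25.GenPSpSheaf5

open Groth.Agent.Lib.Helper25.GenPSpSheaf2 Groth.Agent.Lib.Helper25.SkyInj
open Groth.Agent.Lib.QCoh FlatMod

/-- relative flatness at a point is invariant under isomorphisms of modules -/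
lemma isFlatOverAt_of_iso {X S : Scheme.{u}} (f : X ⟶ S) {M N : X.Modules} (e : M ≅ N) (x : X)
    (h : IsFlatOverAt f M x) : IsFlatOverAt f N x := by
  let _ := moduleStalkOver f M x
  let _ := moduleStalkOver f N x
  let a : M.presheaf.stalk x ≃+ N.presheaf.stalk x :=
    ((Groth.Agent.Lib.QCoh.stalkFunctor X x).mapIso e).addCommGroupIsoToAddEquiv
  let φ : M.presheaf.stalk x ≃ₗ[S.presheaf.stalk (f.base x)] N.presheaf.stalk x :=
    { a with
      map_smul' := fun r m => (stalkLin x e.hom).map_smul ((f.stalkMap x).hom r) m }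
  have hM : Module.Flat (S.presheaf.stalk (f.base x)) (M.presheaf.stalk x) := h
  exact Module.Flat.of_linearEquiv φ.symm

variable {X S : Scheme.{u}} (f : X ⟶ S) (F : X.Modules)

/-- `F_V ≅ bc^* F_T` -/
noncomputable def etIso {V T : Over S} (g : V ⟶ T) :
    (Scheme.Modules.pullback (bc f g)).obj ((Scheme.Modules.pullback (pullback.fst f T.hom)).obj F) ≅
      (Scheme.Modules.pullback (pullback.fst f V.hom)).obj F :=
  (Scheme.Modules.pullbackComp (bc f g) (pullback.fst f T.hom)).app F ≪≫
    (Scheme.Modules.pullbackCongr (bc_fst f g)).app F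

set_option backward.isDefEq.respectTransparency.types false in
/-- members of an fpqc covering are flat -/
lemma flat_of_mem {T : Over S} (R : Presieve T)
    (hR : R.map (Over.forget S) ∈ Scheme.fpqcPrecoverage T.left) ⦃V : Over S⦄ (g : V ⟶ T)
    (hg : R g) : Flat g.left := by
  have hR' : R.map (Over.forget S) ∈ Scheme.precoverage (@Flat : MorphismProperty Scheme.{u}) T.left :=
    Scheme.propQCPrecoverage_le_precoverage _ hR
  exact hR'.2 (Presieve.map_map hg)

theorem isSheaf_flat [F.IsQuasicoherent] :
    Presheaf.IsSheaf (QuotSh.J Scheme.fpqcPrecoverage S)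
      (FlatFun.genPSp S (fun T => FlatMod.IsFlatOver (PicF.XTproj f T) (FGA.ET f F T))) := by
  apply Groth.Agent.Lib.Helper25.GenPSpSheaf.isSheaf_genPSp
  · intro T T₀ k h
    have hq : ((Scheme.Modules.pullback (pullback.fst f T₀.hom)).obj F).IsQuasicoherent :=
      isQuasicoherent_pullback _ F
    have h1 := isFlatOver_pullback_of_isPullback (pullback.snd f T₀.hom) k.left (bc f k)
      (pullback.snd f T.hom) (isPullback_bc f k) _ h
    intro z
    exact isFlatOverAt_of_iso _ (etIso f F k) z (h1 z)
  · intro T R hR h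
    obtain ⟨hflat, hsurj⟩ := bc_cover f R hR
    have hq : ((Scheme.Modules.pullback (pullback.fst f T.hom)).obj F).IsQuasicoherent :=
      isQuasicoherent_pullback _ F
    intro z
    obtain ⟨V, g, hg, z', rfl⟩ := hsurj z
    have := hflat g hg
    have := flat_of_mem R hR g hg
    have h0 : IsFlatOverAt (pullback.snd f V.hom)
        ((Scheme.Modules.pullback (pullback.fst f V.hom)).obj F) z' := h g hg z'
    have h1 : IsFlatOverAt (pullback.snd f V.hom)
        ((Scheme.Modules.pullback (bc f g)).obj
          ((Scheme.Modules.pullback (pullback.fst f T.hom)).obj F)) z' :=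
      isFlatOverAt_of_iso _ (etIso f F g).symm z' h0
    have h2 : IsFlatOverAt (pullback.snd f V.hom ≫ g.left)
        ((Scheme.Modules.pullback (bc f g)).obj
          ((Scheme.Modules.pullback (pullback.fst f T.hom)).obj F)) z' :=
      isFlatOverAt_comp_of_flat_stalkMap _ g.left _ z' (Flat.stalkMap g.left _) h1
    rw [← bc_snd] at h2
    exact (isFlatOverAt_pullback_iff_of_flat_stalkMap (bc f g) (pullback.snd f T.hom)
      ((Scheme.Modules.pullback (pullback.fst f T.hom)).obj F) z'
      (Flat.stalkMap (bc f g) z')).2 h2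

end Groth.Agent.Lib.Helper25.GenPSpSheaf5
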