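import Groth.Agent.S4861
import Mathlib.Topology.KrullDimension
import Mathlib.Topology.JacobsonSpace
import Mathlib.AlgebraicGeometry.Noetherian
import Mathlib.RingTheory.Spectrum.Prime.RingHom

/-!
# Noetherian schemes with open generic point (EGA IV 10.5-type results)

Ring-level and scheme-level lemmas around: "an irreducible closed subset of a Noetherian scheme
whose generic point is relatively open is finite", and "a Noetherian ring with finite spectrum
has dimension at most one".
-/

set_option autoImplicit false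
set_option linter.style.haveILetI false

universe u

open TopologicalSpace

namespace Groth.Agent.Lib.Helper25

section Ring

/-- In a Noetherian domain, if some singleton of the spectrum is open, the spectrum is finite. -/
theorem finite_primeSpectrum_of_isOpen_singleton_of_isDomain (B : Type u) [CommRing B] [IsDomain B]
    [IsNoetherianRing B] (x : PrimeSpectrum B) (hx : IsOpen ({x} : Set (PrimeSpectrum B))) :
    Finite (PrimeSpectrum B) := by
  obtain ⟨_, ⟨f, rfl⟩, hxf, hsub⟩ :=
    PrimeSpectrum.isTopologicalBasis_basic_opens.exists_subset_of_mem_open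
      (Set.mem_singleton x) hx
  have hf0 : f ≠ 0 := by
    rintro rfl
    simp at hxf
  have hall : ∀ q : PrimeSpectrum B, f ∉ q.asIdeal → q = x := fun q hq => hsub hq
  have hbot : (⟨⊥, Ideal.isPrime_bot⟩ : PrimeSpectrum B) = x := hall _ (by simpa using hf0)
  have h1 : ∃ f : B, f ≠ 0 ∧ IsField (Localization.Away f) := by
    refine ⟨f, hf0, (away_isField_iff B hf0).mpr ?_⟩
    intro q hq hfq
    have := hall ⟨q, hq⟩ hfq
    rw [← hbot] at this
    exact congrArg PrimeSpectrum.asIdeal this
  exact ((Groth.Agent.S4861.result B).out 0 1).mp h1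

/-- Let `R` be a Noetherian ring and `p` a prime. If some point of `V(p)` is relatively open in
`V(p)`, then `V(p)` is finite. -/
theorem finite_zeroLocus_of_relOpen_singleton (R : Type u) [CommRing R] [IsNoetherianRing R]
    (p : Ideal R) [p.IsPrime] (x : PrimeSpectrum R) (O : Set (PrimeSpectrum R)) (hO : IsOpen O)
    (hx : O ∩ PrimeSpectrum.zeroLocus (p : Set R) = {x}) :
    (PrimeSpectrum.zeroLocus (p : Set R)).Finite := by
  have hsurj : Function.Surjective (Ideal.Quotient.mk p) := Ideal.Quotient.mk_surjective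
  have hrange : Set.range (PrimeSpectrum.comap (Ideal.Quotient.mk p)) =
      PrimeSpectrum.zeroLocus (p : Set R) := by
    rw [range_comap_of_surjective _ _ hsurj, Ideal.mk_ker]
  have hinj : Function.Injective (PrimeSpectrum.comap (Ideal.Quotient.mk p)) :=
    PrimeSpectrum.comap_injective_of_surjective _ hsurj
  have hxmem : x ∈ O ∩ PrimeSpectrum.zeroLocus (p : Set R) := hx ▸ Set.mem_singleton x
  obtain ⟨y, hy⟩ : x ∈ Set.range (PrimeSpectrum.comap (Ideal.Quotient.mk p)) :=
    hrange ▸ hxmem.2
  have hopen : IsOpen ({y} : Set (PrimeSpectrum (R ⧸ p))) := by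
    have : ({y} : Set (PrimeSpectrum (R ⧸ p))) =
        (PrimeSpectrum.comap (Ideal.Quotient.mk p)) ⁻¹' O := by
      ext z
      simp only [Set.mem_singleton_iff, Set.mem_preimage]
      constructor
      · rintro rfl
        rw [hy]
        exact hxmem.1
      · intro hz
        have : PrimeSpectrum.comap (Ideal.Quotient.mk p) z ∈
            O ∩ PrimeSpectrum.zeroLocus (p : Set R) := ⟨hz, hrange ▸ Set.mem_range_self z⟩
        rw [hx, Set.mem_singleton_iff, ← hy] at this
        exact hinj this
    rw [this]
    exact hO.preimage (PrimeSpectrum.continuous_comap _)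
  have := finite_primeSpectrum_of_isOpen_singleton_of_isDomain (R ⧸ p) y hopen
  rw [← hrange]
  exact Set.finite_range _

/-- Let `R` be a Noetherian ring and `T` an irreducible closed subset of `Spec R`. If some point of
`T` is relatively open in `T`, then `T` is finite. -/
theorem finite_of_isIrreducible_of_relOpen_singleton (R : Type u) [CommRing R] [IsNoetherianRing R]
    (T : Set (PrimeSpectrum R)) (hT : IsClosed T) (hT' : IsIrreducible T)
    (x : PrimeSpectrum R) (O : Set (PrimeSpectrum R)) (hO : IsOpen O) (hx : O ∩ T = {x}) :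
    T.Finite := by
  have hprime : (PrimeSpectrum.vanishingIdeal T).IsPrime :=
    (PrimeSpectrum.isIrreducible_iff_vanishingIdeal_isPrime).mp hT'
  have hTeq : PrimeSpectrum.zeroLocus (PrimeSpectrum.vanishingIdeal T : Set R) = T := by
    rw [PrimeSpectrum.zeroLocus_vanishingIdeal_eq_closure, hT.closure_eq]
  have := finite_zeroLocus_of_relOpen_singleton R (PrimeSpectrum.vanishingIdeal T) x O hO
    (by rw [hTeq]; exact hx)
  rwa [hTeq] at this

/-- A Noetherian ring with finite prime spectrum has Krull dimension at most one. -/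
theorem ringKrullDim_le_one_of_finite_primeSpectrum (R : Type u) [CommRing R] [IsNoetherianRing R]
    [Finite (PrimeSpectrum R)] : ringKrullDim R ≤ 1 := by
  rw [ringKrullDim, Order.krullDim_le_one_iff]
  intro x
  by_contra hcon
  rw [not_or, not_isMin_iff, not_isMax_iff] at hcon
  obtain ⟨⟨p0, hp0⟩, ⟨p2, hp2⟩⟩ := hcon
  let I : Ideal R := p0.asIdeal
  haveI : I.IsPrime := p0.isPrime
  let e := I.primeSpectrumQuotientOrderIsoZeroLocus
  have hfin : Finite (PrimeSpectrum (R ⧸ I)) := Finite.of_injective e e.injective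
  have hdim' : Finite (MaximalSpectrum (R ⧸ I)) ∧ ringKrullDim (R ⧸ I) ≤ 1 :=
    ((Groth.Agent.S4861.result (R ⧸ I)).out 1 2).mp hfin
  have hdim : ringKrullDim (R ⧸ I) ≤ 1 := hdim'.2
  rw [ringKrullDim, Order.krullDim_le_one_iff] at hdim
  have m0 : p0 ∈ PrimeSpectrum.zeroLocus (I : Set R) := by
    rw [PrimeSpectrum.mem_zeroLocus]
  have m1 : x ∈ PrimeSpectrum.zeroLocus (I : Set R) := by
    rw [PrimeSpectrum.mem_zeroLocus]
    exact hp0.le
  have m2 : p2 ∈ PrimeSpectrum.zeroLocus (I : Set R) := by
    rw [PrimeSpectrum.mem_zeroLocus]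
    exact hp0.le.trans hp2.le
  have h01 : e.symm ⟨p0, m0⟩ < e.symm ⟨x, m1⟩ := e.symm.strictMono hp0
  have h12 : e.symm ⟨x, m1⟩ < e.symm ⟨p2, m2⟩ := e.symm.strictMono hp2
  rcases hdim (e.symm ⟨x, m1⟩) with h | h
  · exact absurd (h h01.le) (not_le_of_gt h01)
  · exact absurd (h h12.le) (not_le_of_gt h12)

end Ring

section Topology

open TopologicalSpace.IrreducibleCloseds

/-- The topological Krull dimension is local: if every point has an open neighbourhood of
dimension at most `n`, then the whole space has dimension at most `n`. -/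
theorem topologicalKrullDim_le_of_forall_exists_open {X : Type*} [TopologicalSpace X]
    (n : WithBot ℕ∞)
    (h : ∀ x : X, ∃ U : Set X, IsOpen U ∧ x ∈ U ∧ topologicalKrullDim U ≤ n) :
    topologicalKrullDim X ≤ n := by
  rw [topologicalKrullDim, Order.krullDim_eq_iSup_coheight]
  apply iSup_le
  intro Z
  obtain ⟨x, hx⟩ := Z.isIrreducible.nonempty
  obtain ⟨U, hU, hxU, hdim⟩ := h x
  have hemb : Topology.IsOpenEmbedding (Subtype.val : U → X) := hU.isOpenEmbedding_subtypeVal
  let e := orderIsoOfIsOpenEmbedding _ hemb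
  let Z' : IrreducibleCloseds U := e.symm ⟨Z, ⟨⟨x, hxU⟩, hx⟩⟩
  have hZ' : map Subtype.val hemb.continuous Z' = Z :=
    congrArg Subtype.val (e.apply_symm_apply ⟨Z, ⟨⟨x, hxU⟩, hx⟩⟩)
  rw [← hZ', hemb.coheight_map]
  exact (Order.coheight_le_krullDim Z').trans hdim

/-- In a finite T0 space with a generic point, the generic point is open. -/
theorem isOpen_singleton_of_finite_of_isGenericPoint {X : Type*} [TopologicalSpace X] [T0Space X]
    [Finite X] {η : X} (hη : IsGenericPoint η (Set.univ : Set X)) : IsOpen ({η} : Set X) := by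
  rw [← isClosed_compl_iff]
  have : ({η} : Set X)ᶜ = ⋃ x ∈ {x : X | x ≠ η}, closure ({x} : Set X) := by
    ext y
    simp only [Set.mem_compl_iff, Set.mem_singleton_iff, Set.mem_ofPred_eq, Set.mem_iUnion,
      exists_prop]
    constructor
    · intro hy
      exact ⟨y, hy, subset_closure rfl⟩
    · rintro ⟨x, hx, hyx⟩ rfl
      apply hx
      have hgen : IsGenericPoint x (Set.univ : Set X) := by
        rw [isGenericPoint_def]
        apply Set.eq_univ_of_univ_subset
        rw [← hη.def]
        exact closure_minimal (Set.singleton_subset_iff.mpr hyx) isClosed_closure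
      exact hgen.eq hη
  rw [this]
  exact (Set.toFinite _).isClosed_biUnion fun _ _ => isClosed_closure

/-- A compact T0 space with a generic point, of dimension at most one and with finitely many closed
points, is finite. -/
theorem finite_of_dim_le_one_of_finite_closedPoints {X : Type*} [TopologicalSpace X] [T0Space X]
    [CompactSpace X] {η : X} (hη : IsGenericPoint η (Set.univ : Set X))
    (hdim : topologicalKrullDim X ≤ 1) (hfin : {x : X | IsClosed ({x} : Set X)}.Finite) :
    Finite X := by
  rw [topologicalKrullDim, Order.krullDim_le_one_iff] at hdim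
  have hall : ∀ x : X, x ∈ insert η {x : X | IsClosed ({x} : Set X)} := by
    intro x
    by_contra hx
    rw [Set.mem_insert_iff, not_or] at hx
    obtain ⟨hxη, hxc⟩ := hx
    obtain ⟨y, hy, hyc⟩ := (isClosed_closure (s := ({x} : Set X))).exists_closed_singleton
      (Set.singleton_nonempty x |>.closure)
    have hyx : y ≠ x := by
      rintro rfl
      exact hxc hyc
    let A : IrreducibleCloseds X := ⟨{y}, isIrreducible_singleton, hyc⟩
    let B : IrreducibleCloseds X := ⟨closure {x}, isIrreducible_singleton.closure, isClosed_closure⟩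
    let C : IrreducibleCloseds X := ⟨Set.univ, hη.isIrreducible, isClosed_univ⟩
    have hAB : A ≤ B := by
      intro z hz
      have hz' : z = y := hz
      rw [hz']
      exact hy
    have hBC : B ≤ C := fun z _ => Set.mem_univ z
    rcases hdim B with h | h
    · have : B ≤ A := h hAB
      have hxA : x ∈ ({y} : Set X) := this (subset_closure rfl : x ∈ closure ({x} : Set X))
      exact hyx (Set.mem_singleton_iff.mp hxA).symm
    · have : C ≤ B := h hBC
      have hgen : IsGenericPoint x (Set.univ : Set X) := by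
        rw [isGenericPoint_def]
        apply Set.eq_univ_of_univ_subset
        exact this
      exact hxη (hgen.eq hη)
  have : Set.Finite (Set.univ : Set X) := (hfin.insert η).subset fun x _ => hall x
  exact Set.finite_univ_iff.mp this

end Topology

section Scheme

open AlgebraicGeometry

/-- Affine-local step: in a locally Noetherian scheme, an irreducible closed subset with a
relatively open point meets every affine open in a finite set. -/
theorem finite_inter_affineOpen_of_relOpen_singleton (X : Scheme.{u}) [IsLocallyNoetherian X]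
    (Y : Set X) (hY : IsClosed Y) (hY' : IsIrreducible Y) (z : X) (O : Set X) (hO : IsOpen O)
    (hz : O ∩ Y = {z}) (W : X.Opens) (hW : IsAffineOpen W) : (Y ∩ (W : Set X)).Finite := by
  by_cases hne : (Y ∩ (W : Set X)).Nonempty
  swap
  · rw [Set.not_nonempty_iff_eq_empty] at hne
    rw [hne]
    exact Set.finite_empty
  have hzO : z ∈ O ∩ Y := hz ▸ Set.mem_singleton z
  have hzW : z ∈ W := by
    obtain ⟨y, hyY, hyO, hyW⟩ := hY'.isPreirreducible O W hO W.isOpen ⟨z, hzO.2, hzO.1⟩ hne
    have : y ∈ O ∩ Y := ⟨hyO, hyY⟩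
    rw [hz, Set.mem_singleton_iff] at this
    rwa [this] at hyW
  haveI : IsNoetherianRing Γ(X, W) := IsLocallyNoetherian.component_noetherian ⟨W, hW⟩
  let φ : W.toScheme ≃ₜ PrimeSpectrum Γ(X, W) := hW.isoSpec.hom.homeomorph
  let ψ : W.toScheme → X := W.ι
  have hemb : Topology.IsOpenEmbedding ψ := W.ι.isOpenEmbedding
  have hrange : Set.range ψ = (W : Set X) := Scheme.Opens.range_ι W
  obtain ⟨w0, hw0⟩ : z ∈ Set.range ψ := hrange ▸ hzW
  let Y' : Set W.toScheme := ψ ⁻¹' Y
  have hY'irr : IsIrreducible Y' := by
    refine ⟨?_, hY'.isPreirreducible.preimage hemb⟩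
    obtain ⟨y, hyY, hyW⟩ := hne
    obtain ⟨w, hw⟩ : y ∈ Set.range ψ := hrange ▸ hyW
    exact ⟨w, (hw ▸ hyY : ψ w ∈ Y)⟩
  have hT : IsClosed (φ '' Y') := φ.isClosed_image.mpr (hY.preimage hemb.continuous)
  have hT' : IsIrreducible (φ '' Y') := hY'irr.image φ φ.continuous.continuousOn
  have hO' : IsOpen (φ '' (ψ ⁻¹' O)) :=
    φ.isOpen_image.mpr (hO.preimage hemb.continuous)
  have hx : φ '' (ψ ⁻¹' O) ∩ φ '' Y' = {φ w0} := by
    rw [← Set.image_inter φ.injective, ← Set.image_singleton]
    congr 1
    ext w
    change ψ w ∈ O ∩ Y ↔ w ∈ ({w0} : Set W.toScheme)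
    rw [hz, Set.mem_singleton_iff, Set.mem_singleton_iff, ← hw0]
    exact hemb.injective.eq_iff
  have hfin := finite_of_isIrreducible_of_relOpen_singleton Γ(X, W) (φ '' Y') hT hT'
    (φ w0) _ hO' hx
  have hfin' : Y'.Finite := Set.Finite.of_finite_image hfin φ.injective.injOn
  have : Y ∩ (W : Set X) = ψ '' Y' := by
    rw [Set.image_preimage_eq_inter_range, hrange]
  rw [this]
  exact hfin'.image _

/-- In a Noetherian scheme, an irreducible closed subset one of whose points is relatively open in
it, is finite. -/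
theorem finite_of_isIrreducible_isClosed_of_relOpen_singleton (X : Scheme.{u}) [IsNoetherian X]
    (Y : Set X) (hY : IsClosed Y) (hY' : IsIrreducible Y) (z : X) (O : Set X) (hO : IsOpen O)
    (hz : O ∩ Y = {z}) : Y.Finite := by
  have hex : ∀ x : X, ∃ W : X.Opens, IsAffineOpen W ∧ x ∈ W := fun x => by
    obtain ⟨W, hW, hxW, _⟩ := exists_isAffineOpen_mem_and_subset (TopologicalSpace.Opens.mem_top x)
    exact ⟨W, hW, hxW⟩
  choose W hW hxW using hex
  obtain ⟨t, ht⟩ := isCompact_univ.elim_nhds_subcover (fun x => (W x : Set X))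
    (fun x _ => (W x).isOpen.mem_nhds (hxW x))
  have hsub : Y ⊆ ⋃ x ∈ t, Y ∩ (W x : Set X) := by
    intro y hy
    obtain ⟨x, hxt, hyx⟩ := Set.mem_iUnion₂.mp (ht.2 (Set.mem_univ y))
    exact Set.mem_iUnion₂.mpr ⟨x, hxt, hy, hyx⟩
  refine Set.Finite.subset (Set.Finite.biUnion t.finite_toSet fun x _ => ?_) hsub
  exact finite_inter_affineOpen_of_relOpen_singleton X Y hY hY' z O hO hz (W x) (hW x)

/-- A finite affine open of a locally Noetherian scheme has dimension at most one. -/
theorem topologicalKrullDim_le_one_of_finite_affineOpen (X : Scheme.{u}) [IsLocallyNoetherian X]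
    (W : X.Opens) (hW : IsAffineOpen W) [Finite W] : topologicalKrullDim W ≤ 1 := by
  haveI : IsNoetherianRing Γ(X, W) := IsLocallyNoetherian.component_noetherian ⟨W, hW⟩
  let φ : W.toScheme ≃ₜ PrimeSpectrum Γ(X, W) := hW.isoSpec.hom.homeomorph
  haveI : Finite W.toScheme := ‹Finite W›
  haveI : Finite (PrimeSpectrum Γ(X, W)) := Finite.of_injective φ.symm φ.symm.injective
  change topologicalKrullDim W.toScheme ≤ 1
  rw [IsHomeomorph.topologicalKrullDim_eq φ φ.isHomeomorph,
    PrimeSpectrum.topologicalKrullDim_eq_ringKrullDim]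
  exact ringKrullDim_le_one_of_finite_primeSpectrum Γ(X, W)

end Scheme

end Groth.Agent.Lib.Helper25
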