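/-
Helper library for `Groth.Agent.S14352` (helper25): a morphism locally of finite presentation is
formally unramified iff its geometric fibres are reduced and discrete.
-/
import Mathlib

open CategoryTheory CategoryTheory.Limits AlgebraicGeometry TensorProduct

namespace Groth.Agent.Lib.Helper25.GeomUnram

universe u


/-- Lemma A: over a perfect field, a finite type reduced algebra with discrete spectrum is
formally unramified. -/
theorem formallyUnramified_of_isReduced_of_discrete (K B : Type*) [Field K] [PerfectField K]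
    [CommRing B] [Algebra K B] [Algebra.FiniteType K B] [IsReduced B]
    [DiscreteTopology (PrimeSpectrum B)] : Algebra.FormallyUnramified K B := by
  have hdim : Ring.KrullDimLE 0 B := by
    rw [Ring.krullDimLE_zero_iff]
    intro I hI
    exact (PrimeSpectrum.isClosed_singleton_iff_isMaximal ⟨I, hI⟩).mp (isClosed_discrete _)
  have hfin : Module.Finite K B := (Module.finite_iff_krullDimLE_zero K B).mpr hdim
  have hart : IsArtinianRing B := (Module.finite_iff_isArtinianRing K B).mp hfin
  let e : B ≃ₐ[K] ∀ I : MaximalSpectrum B, B ⧸ I.asIdeal :=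
    (IsArtinianRing.equivPi B).restrictScalars K
  have : ∀ I : MaximalSpectrum B, Algebra.FormallyUnramified K (B ⧸ I.asIdeal) := by
    intro I
    let : Field (B ⧸ I.asIdeal) := Ideal.Quotient.field I.asIdeal
    have : Algebra.IsAlgebraic K (B ⧸ I.asIdeal) := inferInstance
    exact Algebra.FormallyUnramified.of_isSeparable K (B ⧸ I.asIdeal)
  exact Algebra.FormallyUnramified.of_equiv e.symm



/-- ring-level Lemma C -/
theorem isReduced_and_discrete_of_formallyUnramified (K B : Type*) [Field K] [CommRing B]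
    [Algebra K B] [Algebra.FiniteType K B] [Algebra.FormallyUnramified K B] :
    IsReduced B ∧ DiscreteTopology (PrimeSpectrum B) := by
  have h1 : IsReduced B := Algebra.FormallyUnramified.isReduced_of_field K B
  have h2 : Module.Finite K B := Algebra.FormallyUnramified.finite_of_free K B
  have h3 : IsArtinianRing B := IsArtinianRing.of_finite K B
  exact ⟨h1, inferInstance⟩

/-- scheme-level Lemma C -/
theorem isReduced_and_discrete_of_formallyUnramified_scheme {Y : Scheme.{u}} (K : Type u)
    [Field K] (h : Y ⟶ Spec (.of K)) [FormallyUnramified h] [LocallyOfFiniteType h] :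
    IsReduced Y ∧ DiscreteTopology Y := by
  let 𝒰 := Y.affineOpenCover
  have key : ∀ i, IsReduced (𝒰.X i) ∧ DiscreteTopology (PrimeSpectrum (𝒰.X i)) := by
    intro i
    let ψ : CommRingCat.of K ⟶ 𝒰.X i := Spec.preimage (𝒰.f i ≫ h)
    have hψ : Spec.map ψ = 𝒰.f i ≫ h := Spec.map_preimage _
    have h1 : FormallyUnramified (Spec.map ψ) := by
      rw [hψ]; exact MorphismProperty.comp_mem _ _ _ inferInstance inferInstance
    have h2 : LocallyOfFiniteType (Spec.map ψ) := by rw [hψ]; infer_instance
    rw [HasRingHomProperty.Spec_iff (P := @FormallyUnramified)] at h1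
    rw [HasRingHomProperty.Spec_iff (P := @LocallyOfFiniteType)] at h2
    algebraize [ψ.hom]
    exact isReduced_and_discrete_of_formallyUnramified K (𝒰.X i)
  constructor
  · have : ∀ i, IsReduced (𝒰.openCover.X i) := fun i => by
      show IsReduced (Spec (𝒰.X i))
      have := (key i).1
      infer_instance
    exact IsReduced.of_openCover _ 𝒰.openCover
  · rw [discreteTopology_iff_isOpen_singleton]
    intro y
    obtain ⟨i, z, rfl⟩ := 𝒰.openCover.exists_eq y
    have := (key i).2
    have hz : IsOpen ({z} : Set (Spec (𝒰.X i))) :=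
      isOpen_discrete (α := PrimeSpectrum (𝒰.X i)) _
    have := (𝒰.openCover.f i).isOpenEmbedding.isOpenMap _ hz
    convert this using 1
    exact Set.image_singleton.symm



theorem tensor_isReduced_and_discrete {X S : Scheme.{u}} (f : X ⟶ S) {U : S.Opens}
    (hU : IsAffineOpen U) {V : X.Opens} (hV : IsAffineOpen V) (e : V ≤ f ⁻¹ᵁ U)
    (L : Type u) [Field L] [Algebra Γ(S, U) L]
    (hred : IsReduced (pullback f (Spec.map (CommRingCat.ofHom (algebraMap Γ(S, U) L)) ≫
      hU.fromSpec)))
    (hdis : DiscreteTopology ↥(pullback f (Spec.map (CommRingCat.ofHom (algebraMap Γ(S, U) L)) ≫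
      hU.fromSpec))) :
    letI := (f.appLE U V e).hom.toAlgebra
    IsReduced (L ⊗[Γ(S, U)] Γ(X, V)) ∧ DiscreteTopology (PrimeSpectrum (L ⊗[Γ(S, U)] Γ(X, V))) := by
  let := (f.appLE U V e).hom.toAlgebra
  set s := Spec.map (CommRingCat.ofHom (algebraMap Γ(S, U) L)) ≫ hU.fromSpec with hs
  have e₁ : Spec.map (CommRingCat.ofHom (algebraMap Γ(S, U) Γ(X, V))) ≫ hU.fromSpec =
      hV.fromSpec ≫ f := IsAffineOpen.SpecMap_appLE_fromSpec f hU hV e
  have e₂ : Spec.map (CommRingCat.ofHom (algebraMap Γ(S, U) L)) ≫ hU.fromSpec = 𝟙 _ ≫ s := by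
    rw [Category.id_comp]
  let j := pullback.map (Spec.map (CommRingCat.ofHom (algebraMap Γ(S, U) Γ(X, V))))
    (Spec.map (CommRingCat.ofHom (algebraMap Γ(S, U) L))) f s hV.fromSpec (𝟙 _) hU.fromSpec e₁ e₂
  have hj : IsOpenImmersion j := inferInstance
  let i := pullbackSpecIso Γ(S, U) Γ(X, V) L
  let k := i.inv ≫ j
  have hk : IsOpenImmersion k := inferInstance
  have h1 : IsReduced (Spec (CommRingCat.of (Γ(X, V) ⊗[Γ(S, U)] L))) :=
    isReduced_of_isOpenImmersion k
  have h2 : DiscreteTopology (Spec (CommRingCat.of (Γ(X, V) ⊗[Γ(S, U)] L))) :=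
    k.isOpenEmbedding.isEmbedding.discreteTopology
  have h1' : IsReduced (Γ(X, V) ⊗[Γ(S, U)] L) := (affine_isReduced_iff _).mp h1
  have h2' : DiscreteTopology (PrimeSpectrum (Γ(X, V) ⊗[Γ(S, U)] L)) := h2
  let c := Algebra.TensorProduct.comm Γ(S, U) L Γ(X, V)
  constructor
  · exact isReduced_of_injective c.toRingEquiv.toRingHom c.injective
  · exact (PrimeSpectrum.homeomorphOfRingEquiv c.toRingEquiv).isEmbedding.discreteTopology



attribute [local instance] Algebra.TensorProduct.rightAlgebra

/-- Lemma B. -/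
theorem formallyUnramified_of_geometric_fibres (R S : Type u) [CommRing R] [CommRing S]
    [Algebra R S] [Algebra.FiniteType R S]
    (h : ∀ (q : Ideal S) [q.IsPrime], ∃ (L : Type u) (_ : Field L) (_ : Algebra R L)
      (_ : q.ResidueField →ₐ[R] L), Algebra.FormallyUnramified L (L ⊗[R] S)) :
    Algebra.FormallyUnramified R S := by
  constructor
  by_contra hne
  rw [not_subsingleton_iff_nontrivial] at hne
  obtain ⟨q, hq⟩ := (Module.nonempty_support_iff (R := S) (M := Ω[S⁄R])).mpr hne
  have hqn := (Module.mem_support_iff_nontrivial_residueField_tensorProduct q).mp hq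
  have := q.2
  obtain ⟨L, _, _, ι, hT⟩ := h q.asIdeal
  let κ := q.asIdeal.ResidueField
  have hsub : Subsingleton ((L ⊗[R] S) ⊗[S] Ω[S⁄R]) :=
    (KaehlerDifferential.tensorKaehlerEquiv R L S (L ⊗[R] S)).subsingleton
  -- the ring hom T → L
  let g : S →ₐ[R] L := ι.comp (IsScalarTower.toAlgHom R S κ)
  let μ : (L ⊗[R] S) →ₐ[L] L := Algebra.TensorProduct.lift (Algebra.ofId L L) g
    (fun _ _ => Commute.all _ _)
  obtain ⟨v, hv⟩ := exists_ne (0 : κ ⊗[S] Ω[S⁄R])
  obtain ⟨φ, hφ⟩ := not_forall.mp (mt (Module.forall_dual_apply_eq_zero_iff κ v).mp hv)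
  -- the balanced biadditive map
  let f : (L ⊗[R] S) →+ Ω[S⁄R] →+ L :=
    { toFun := fun t =>
        { toFun := fun m => μ t * ι (φ (1 ⊗ₜ m))
          map_zero' := by simp
          map_add' := fun m m' => by simp [tmul_add, mul_add] }
      map_zero' := by ext; simp
      map_add' := fun t t' => by ext; simp [add_mul] }
  have hf : ∀ (s : S) (t : L ⊗[R] S) (m : Ω[S⁄R]), f (s • t) m = f t (s • m) := by
    intro s t m
    show μ (s • t) * ι (φ (1 ⊗ₜ m)) = μ t * ι (φ (1 ⊗ₜ (s • m)))
    have h1 : μ (s • t) = g s * μ t := by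
      rw [Algebra.smul_def, map_mul]
      congr 1
      show μ ((1 : L) ⊗ₜ[R] s) = g s
      simp [μ]
    have h2 : φ ((1 : κ) ⊗ₜ[S] (s • m)) = algebraMap S κ s * φ (1 ⊗ₜ m) := by
      rw [← TensorProduct.smul_tmul, Algebra.smul_def, mul_one,
        show (algebraMap S κ s) ⊗ₜ[S] m = (algebraMap S κ s) • ((1 : κ) ⊗ₜ[S] m) by
          rw [TensorProduct.smul_tmul', smul_eq_mul, mul_one], map_smul, smul_eq_mul]
    rw [h1, h2, map_mul]
    show g s * μ t * ι (φ (1 ⊗ₜ m)) = μ t * (g s * ι (φ (1 ⊗ₜ m)))
    ring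
  let Φ := TensorProduct.liftAddHom f hf
  have h1 : ∀ m : Ω[S⁄R], φ (1 ⊗ₜ m) = 0 := by
    intro m
    have e1 : Φ ((1 : L ⊗[R] S) ⊗ₜ[S] m) = ι (φ (1 ⊗ₜ m)) := by
      show μ 1 * ι (φ (1 ⊗ₜ m)) = _
      rw [map_one, one_mul]
    rw [Subsingleton.elim ((1 : L ⊗[R] S) ⊗ₜ[S] m) 0, map_zero] at e1
    exact (map_eq_zero_iff _ ι.toRingHom.injective).mp e1.symm
  have hall : ∀ w : κ ⊗[S] Ω[S⁄R], φ w = 0 := by
    intro w
    induction w using TensorProduct.induction_on with
    | zero => simp
    | tmul a m =>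
      have : a ⊗ₜ[S] m = a • ((1 : κ) ⊗ₜ[S] m) := by
        rw [TensorProduct.smul_tmul', smul_eq_mul, mul_one]
      rw [this, map_smul, h1, smul_zero]
    | add x y hx hy => rw [map_add, hx, hy, add_zero]
  exact hφ (hall v)


theorem formallyUnramified_of_geometric {X S : Scheme.{u}} (f : X ⟶ S) [LocallyOfFiniteType f]
    (H : ∀ (K : Type u) [Field K] [IsAlgClosed K] (s : Spec (CommRingCat.of K) ⟶ S),
      IsReduced (pullback f s) ∧ DiscreteTopology ↥(pullback f s)) : FormallyUnramified f := by
  rw [HasRingHomProperty.iff_appLE (P := @FormallyUnramified)]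
  intro U V e
  have hft : (f.appLE U.1 V.1 e).hom.FiniteType :=
    HasRingHomProperty.appLE (P := @LocallyOfFiniteType) f inferInstance U V e
  algebraize [(f.appLE U.1 V.1 e).hom]
  rw [RingHom.FormallyUnramified]
  apply formallyUnramified_of_geometric_fibres
  intro q _
  refine ⟨AlgebraicClosure q.ResidueField, inferInstance, inferInstance,
    IsScalarTower.toAlgHom _ _ _, ?_⟩
  obtain ⟨hred, hdis⟩ := H (AlgebraicClosure q.ResidueField)
    (Spec.map (CommRingCat.ofHom (algebraMap Γ(S, U.1) (AlgebraicClosure q.ResidueField))) ≫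
      U.2.fromSpec)
  obtain ⟨h1, h2⟩ := tensor_isReduced_and_discrete f U.2 V.2 e (AlgebraicClosure q.ResidueField)
    hred hdis
  exact formallyUnramified_of_isReduced_of_discrete _ _

theorem formallyUnramified_iff_geometric {X S : Scheme.{u}} (f : X ⟶ S)
    [LocallyOfFinitePresentation f] :
    FormallyUnramified f ↔
      ∀ (K : Type u) [Field K] [IsAlgClosed K] (s : Spec (CommRingCat.of K) ⟶ S),
        IsReduced (pullback f s) ∧ DiscreteTopology ↥(pullback f s) := by
  constructor
  · intro hf K _ _ s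
    have : FormallyUnramified (pullback.snd f s) := MorphismProperty.IsStableUnderBaseChange.of_isPullback (IsPullback.of_hasPullback f s) hf
    exact isReduced_and_discrete_of_formallyUnramified_scheme K (pullback.snd f s)
  · exact formallyUnramified_of_geometric f

end Groth.Agent.Lib.Helper25.GeomUnram
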