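import Mathlib
import Groth.Prelude.Def_CAlgX
import Groth.Agent.Lib.Helper25.SmoothConormalAlg

set_option autoImplicit false
universe u

namespace Groth.Agent.Lib.Helper25.H1FreeAlg

open TensorProduct Groth.Agent.Lib.Helper25.SmoothConormalAlg

section

variable {Rb C : Type u} [CommRing Rb] [CommRing C] [Algebra Rb C]
  (hπ : Function.Surjective (algebraMap Rb C))
  {c : ℕ} (fb : Fin c → Rb) (hfb : CAlgX.IsH1Regular fb)
  (hker : RingHom.ker (algebraMap Rb C) = Ideal.span (Set.range fb))
  {KM : Type u} [AddCommGroup KM] [Module Rb KM] (εK : KM →ₗ[Rb] Rb)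
  (hεK : Function.Injective εK)
  (hεK' : ∀ b : Rb, algebraMap Rb C b = 0 → ∃ y, εK y = b)
  (hεK'' : ∀ y, algebraMap Rb C (εK y) = 0)

include hfb in
lemma entries_mem_of_rel (K : Ideal Rb) (hK : ∀ l, fb l ∈ K) (a : Fin c → Rb)
    (ha : ∑ l, a l * fb l = 0) : ∀ l, a l ∈ K := by
  have hmem := hfb a ha
  clear ha
  induction hmem using Submodule.span_induction with
  | mem v hv =>
    obtain ⟨p, q, rfl⟩ := hv
    intro l
    rw [Pi.sub_apply]
    refine sub_mem ?_ ?_
    · by_cases h : l = p
      · subst h; simpa using hK q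
      · simp [Pi.single_eq_of_ne h]
    · by_cases h : l = q
      · subst h; simpa using hK p
      · simp [Pi.single_eq_of_ne h]
  | zero => intro l; exact K.zero_mem
  | add v₁ v₂ _ _ h₁ h₂ => intro l; exact add_mem (h₁ l) (h₂ l)
  | smul r v _ h => intro l; exact K.mul_mem_left _ (h l)

include hπ hfb hker hεK hεK' hεK'' in
theorem finite_projective :
    Module.Finite C (C ⊗[Rb] KM) ∧ Module.Projective C (C ⊗[Rb] KM) := by
  set K : Ideal Rb := RingHom.ker (algebraMap Rb C) with hKdef
  have hfK : ∀ l, fb l ∈ K := by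
    intro l
    rw [hker]
    exact Ideal.subset_span ⟨l, rfl⟩
  choose y hy using fun l => hεK' (fb l) (hfK l)
  let Φ : (Fin c → C) →ₗ[C] C ⊗[Rb] KM :=
    Fintype.linearCombination C (fun l => (1 : C) ⊗ₜ[Rb] y l)
  have hΦ : ∀ r : Fin c → Rb, Φ (fun l => algebraMap Rb C (r l)) =
      (1 : C) ⊗ₜ[Rb] (∑ l, r l • y l) := by
    intro r
    rw [Fintype.linearCombination_apply, TensorProduct.tmul_sum]
    refine Finset.sum_congr rfl (fun l _ => ?_)
    rw [TensorProduct.tmul_smul, ← algebraMap_smul C (r l), TensorProduct.smul_tmul']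
  have hsurj : Function.Surjective Φ := by
    intro t
    obtain ⟨y₀, rfl⟩ := exists_one_tmul hπ t
    have h1 : εK y₀ ∈ Ideal.span (Set.range fb) := by
      rw [← hker]
      exact hεK'' y₀
    obtain ⟨r, hr⟩ := (Ideal.mem_span_range_iff_exists_fun).mp h1
    refine ⟨fun l => algebraMap Rb C (r l), ?_⟩
    rw [hΦ]
    congr 1
    apply hεK
    rw [map_sum, ← hr]
    exact Finset.sum_congr rfl (fun l _ => by rw [map_smul, hy l, smul_eq_mul])
  have hinj : Function.Injective Φ := by
    rw [injective_iff_map_eq_zero]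
    intro v hv
    choose r hr using fun l => hπ (v l)
    have hv' : v = fun l => algebraMap Rb C (r l) := funext (fun l => (hr l).symm)
    rw [hv', hΦ] at hv
    have h1 := mem_smul_top_of_one_tmul hπ _ hv
    have h2 : εK (∑ l, r l • y l) ∈ K * K := by
      refine Submodule.smul_induction_on h1 ?_ ?_
      · intro b hb n _
        rw [map_smul, smul_eq_mul]
        exact Ideal.mul_mem_mul hb (hεK'' n)
      · intro u w hu hw
        rw [map_add]
        exact add_mem hu hw
    have h3 : εK (∑ l, r l • y l) = ∑ l, r l * fb l := by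
      rw [map_sum]
      exact Finset.sum_congr rfl (fun l _ => by rw [map_smul, hy l, smul_eq_mul])
    rw [h3] at h2
    have h4 : ∃ k : Fin c → Rb, (∀ l, k l ∈ K) ∧ ∑ l, k l * fb l = ∑ l, r l * fb l := by
      refine Submodule.mul_induction_on h2 ?_ ?_
      · intro a ha b hb
        have hb' : b ∈ Ideal.span (Set.range fb) := by rw [← hker]; exact hb
        obtain ⟨r', hr'⟩ := (Ideal.mem_span_range_iff_exists_fun).mp hb'
        refine ⟨fun l => a * r' l, fun l => K.mul_mem_right _ ha, ?_⟩
        rw [← hr', Finset.mul_sum]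
        exact Finset.sum_congr rfl (fun l _ => by ring)
      · rintro a b ⟨k₁, hk₁, e₁⟩ ⟨k₂, hk₂, e₂⟩
        refine ⟨fun l => k₁ l + k₂ l, fun l => add_mem (hk₁ l) (hk₂ l), ?_⟩
        rw [← e₁, ← e₂, ← Finset.sum_add_distrib]
        exact Finset.sum_congr rfl (fun l _ => by ring)
    obtain ⟨k, hk, hkr⟩ := h4
    have h5 : ∑ l, (r l - k l) * fb l = 0 := by
      simp only [sub_mul, Finset.sum_sub_distrib]
      rw [hkr, sub_self]
    have h6 := entries_mem_of_rel fb hfb K hfK (fun l => r l - k l) h5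
    rw [hv']
    funext l
    have : r l ∈ K := by
      have := add_mem (h6 l) (hk l)
      simpa using this
    exact this
  let e : (Fin c → C) ≃ₗ[C] C ⊗[Rb] KM := LinearEquiv.ofBijective Φ ⟨hinj, hsurj⟩
  exact ⟨Module.Finite.equiv e, Module.Projective.of_equiv e⟩

end

end Groth.Agent.Lib.Helper25.H1FreeAlg
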