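import Mathlib
import Groth.Prelude.Def_CAlgX
import Groth.Agent.Lib.Helper25.SmoothConormalAlg

set_option autoImplicit false
universe u

namespace Groth.Agent.Lib.Helper25.KoszulConormalAlg

open TensorProduct Groth.Agent.Lib.Helper25.SmoothConormalAlg

section A

variable {R Rb C : Type u} [CommRing R] [CommRing Rb] [CommRing C]
  (ρ : R →+* Rb) (π : Rb →+* C) (hρ : Function.Surjective ρ)
  {c : ℕ} (fb : Fin c → Rb) (hfb : CAlgX.IsH1Regular fb)
  (hker : RingHom.ker π = Ideal.span (Set.range fb))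

include hρ hfb in
/-- lifts of trivial relations evaluate into `K·I` -/
lemma eval_mem_of_triv (K : Ideal R) (f : Fin c → R) (hf : ∀ l, ρ (f l) = fb l) (hfK : ∀ l, f l ∈ K)
    (cb : Fin c → Rb) (hcb : ∑ l, cb l * fb l = 0) (cc : Fin c → R) (hcc : ∀ l, ρ (cc l) = cb l) :
    ∑ l, cc l * f l ∈ K * RingHom.ker ρ := by
  have hmem := hfb cb hcb
  have hI : ∀ e : Fin c → R, (∀ l, ρ (e l) = 0) → ∑ l, e l * f l ∈ K * RingHom.ker ρ := by
    intro e he
    refine Ideal.sum_mem _ (fun l _ => ?_)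
    rw [mul_comm (e l)]
    exact Ideal.mul_mem_mul (hfK l) (he l)
  suffices H : ∀ v ∈ Submodule.span Rb {v : Fin c → Rb | ∃ p q : Fin c,
      v = Pi.single p (fb q) - Pi.single q (fb p)}, ∀ cc : Fin c → R, (∀ l, ρ (cc l) = v l) →
      ∑ l, cc l * f l ∈ K * RingHom.ker ρ from H cb hmem cc hcc
  intro v hv
  induction hv using Submodule.span_induction with
  | mem v hv =>
    obtain ⟨p, q, rfl⟩ := hv
    intro cc hcc
    let c0 : Fin c → R := Pi.single p (f q) - Pi.single q (f p)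
    have h0 : ∑ l, c0 l * f l = 0 := by
      simp only [c0, Pi.sub_apply, sub_mul, Finset.sum_sub_distrib]
      rw [Finset.sum_eq_single p, Finset.sum_eq_single q]
      · simp [mul_comm]
      · intro b _ hb; simp [Pi.single_eq_of_ne hb]
      · intro h; exact absurd (Finset.mem_univ _) h
      · intro b _ hb; simp [Pi.single_eq_of_ne hb]
      · intro h; exact absurd (Finset.mem_univ _) h
    have h1 : ∑ l, cc l * f l = ∑ l, (cc l - c0 l) * f l := by
      have : ∑ l, (cc l - c0 l) * f l = ∑ l, cc l * f l - ∑ l, c0 l * f l := by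
        simp only [sub_mul, Finset.sum_sub_distrib]
      rw [this, h0, sub_zero]
    rw [h1]
    apply hI
    intro l
    rw [map_sub, hcc l]
    simp only [c0, Pi.sub_apply]
    rw [map_sub]
    have e1 : ρ ((Pi.single p (f q) : Fin c → R) l) = (Pi.single p (fb q) : Fin c → Rb) l := by
      by_cases h : l = p
      · subst h; simp [hf]
      · simp [Pi.single_eq_of_ne h]
    have e2 : ρ ((Pi.single q (f p) : Fin c → R) l) = (Pi.single q (fb p) : Fin c → Rb) l := by
      by_cases h : l = q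
      · subst h; simp [hf]
      · simp [Pi.single_eq_of_ne h]
    rw [e1, e2]
    exact sub_self _
  | zero =>
    intro cc hcc
    exact hI cc hcc
  | add v₁ v₂ _ _ h₁ h₂ =>
    intro cc hcc
    choose c₁ hc₁ using fun l => hρ (v₁ l)
    have e : ∑ l, cc l * f l = ∑ l, c₁ l * f l + ∑ l, (cc l - c₁ l) * f l := by
      rw [← Finset.sum_add_distrib]
      exact Finset.sum_congr rfl (fun l _ => by ring)
    rw [e]
    refine add_mem (h₁ c₁ hc₁) (h₂ (fun l => cc l - c₁ l) ?_)
    intro l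
    rw [map_sub, hcc l, hc₁ l, Pi.add_apply, add_sub_cancel_left]
  | smul r v _ h =>
    intro cc hcc
    choose c₁ hc₁ using fun l => hρ (v l)
    obtain ⟨r₀, hr₀⟩ := hρ r
    have e : ∑ l, cc l * f l = r₀ * ∑ l, c₁ l * f l + ∑ l, (cc l - r₀ * c₁ l) * f l := by
      rw [Finset.mul_sum, ← Finset.sum_add_distrib]
      exact Finset.sum_congr rfl (fun l _ => by ring)
    rw [e]
    refine add_mem (Ideal.mul_mem_left _ _ (h c₁ hc₁)) (hI _ ?_)
    intro l
    rw [map_sub, hcc l, map_mul, hr₀, hc₁ l, Pi.smul_apply, smul_eq_mul, sub_self]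

end A

section A2

variable {R Rb C : Type u} [CommRing R] [CommRing Rb] [CommRing C]
  (ρ : R →+* Rb) (π : Rb →+* C) (hρ : Function.Surjective ρ)
  {c : ℕ} (fb : Fin c → Rb) (hfb : CAlgX.IsH1Regular fb)
  (hker : RingHom.ker π = Ideal.span (Set.range fb))

include hρ hfb hker in
theorem mem_mul_ker_of_mem_sq (x : R) (hx0 : ρ x = 0)
    (hx : x ∈ RingHom.ker (π.comp ρ) * RingHom.ker (π.comp ρ)) :
    x ∈ RingHom.ker (π.comp ρ) * RingHom.ker ρ := by
  set K : Ideal R := RingHom.ker (π.comp ρ) with hK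
  choose f hf using fun l => hρ (fb l)
  have hfK : ∀ l, f l ∈ K := by
    intro l
    show π (ρ (f l)) = 0
    rw [hf l]
    have : fb l ∈ RingHom.ker π := by
      rw [hker]
      exact Ideal.subset_span ⟨l, rfl⟩
    exact this
  have hdec : ∀ k ∈ K, ∃ e ∈ RingHom.ker ρ, ∃ r : Fin c → R, k = e + ∑ l, r l * f l := by
    intro k hk
    have h1 : ρ k ∈ Ideal.span (Set.range fb) := by
      rw [← hker]
      exact hk
    obtain ⟨rb, hrb⟩ := (Ideal.mem_span_range_iff_exists_fun).mp h1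
    choose r hr using fun l => hρ (rb l)
    refine ⟨k - ∑ l, r l * f l, ?_, r, by ring⟩
    show ρ (k - ∑ l, r l * f l) = 0
    rw [map_sub, map_sum, ← hrb, sub_eq_zero]
    exact Finset.sum_congr rfl (fun l _ => by rw [map_mul, hr l, hf l])
  have hle : K * RingHom.ker ρ ≤ RingHom.ker ρ := Ideal.mul_le_right
  have hform : ∃ y ∈ K * RingHom.ker ρ, ∃ cc : Fin c → R, x = y + ∑ l, cc l * f l := by
    refine Submodule.mul_induction_on hx ?_ ?_
    · intro k hk k' hk'
      obtain ⟨e, he, r, rfl⟩ := hdec k' hk'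
      refine ⟨k * e, Ideal.mul_mem_mul hk he, fun l => k * r l, ?_⟩
      rw [mul_add, Finset.mul_sum]
      congr 1
      exact Finset.sum_congr rfl (fun l _ => by ring)
    · rintro a b ⟨y₁, hy₁, c₁, rfl⟩ ⟨y₂, hy₂, c₂, rfl⟩
      refine ⟨y₁ + y₂, add_mem hy₁ hy₂, fun l => c₁ l + c₂ l, ?_⟩
      simp only [add_mul, Finset.sum_add_distrib]
      ring
  obtain ⟨y, hy, cc, rfl⟩ := hform
  refine add_mem hy ?_
  refine eval_mem_of_triv ρ hρ fb hfb K f hf hfK (fun l => ρ (cc l)) ?_ cc (fun _ => rfl)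
  have hy0 : ρ y = 0 := hle hy
  rw [map_add, hy0, zero_add, map_sum] at hx0
  rw [← hx0]
  exact Finset.sum_congr rfl (fun l _ => by rw [map_mul, hf l])

end A2

section B

variable {R Rb C : Type u} [CommRing R] [CommRing Rb] [CommRing C] [Algebra R Rb] [Algebra R C]
  [Algebra Rb C] [IsScalarTower R Rb C]
  (hρ : Function.Surjective (algebraMap R Rb))
  {c : ℕ} (fb : Fin c → Rb) (hfb : CAlgX.IsH1Regular fb)
  (hker : RingHom.ker (algebraMap Rb C) = Ideal.span (Set.range fb))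
  {IM : Type*} [AddCommGroup IM] [Module R IM] (εI : IM →ₗ[R] R)
  (hεI : Function.Injective εI)
  (hεI' : ∀ a : R, algebraMap R Rb a = 0 → ∃ s, εI s = a)
  (hεI'' : ∀ s, algebraMap R Rb (εI s) = 0)
  {KM : Type*} [AddCommGroup KM] [Module R KM] (εK : KM →ₗ[R] R)
  (hεK'' : ∀ y, algebraMap R C (εK y) = 0)

include hρ hfb hker hεI hεI' hεI'' hεK'' in
theorem one_tmul_one_tmul_eq_zero (hπ : Function.Surjective (algebraMap Rb C))
    (s : IM) (st : KM) (hst : εK st = εI s)
    (h : (1 : C) ⊗ₜ[R] st = 0) : (1 : C) ⊗ₜ[Rb] ((1 : Rb) ⊗ₜ[R] s) = 0 := by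
  have hRC : Function.Surjective (algebraMap R C) := by
    intro z
    obtain ⟨b, rfl⟩ := hπ z
    obtain ⟨a, rfl⟩ := hρ b
    exact ⟨a, IsScalarTower.algebraMap_apply R Rb C a⟩
  have hcomp : (algebraMap Rb C).comp (algebraMap R Rb) = algebraMap R C :=
    (IsScalarTower.algebraMap_eq R Rb C).symm
  have h1 := mem_smul_top_of_one_tmul hRC st h
  have h2 : εK st ∈ RingHom.ker (algebraMap R C) * RingHom.ker (algebraMap R C) := by
    refine Submodule.smul_induction_on h1 ?_ ?_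
    · intro b hb n _
      rw [map_smul, smul_eq_mul]
      exact Ideal.mul_mem_mul hb (hεK'' n)
    · intro u v hu hv
      rw [map_add]
      exact add_mem hu hv
  rw [hst, ← hcomp] at h2
  have h3 := mem_mul_ker_of_mem_sq (algebraMap R Rb) (algebraMap Rb C) hρ fb hfb hker (εI s)
    (hεI'' s) h2
  rw [hcomp] at h3
  suffices H : ∀ (r : R) (hr : r ∈ RingHom.ker (algebraMap R C) * RingHom.ker (algebraMap R Rb)),
      ∀ s : IM, εI s = r → (1 : C) ⊗ₜ[Rb] ((1 : Rb) ⊗ₜ[R] s) = 0 from H _ h3 s rfl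
  intro r hr
  refine Submodule.mul_induction_on' (C := fun r _ => ∀ s : IM, εI s = r →
    (1 : C) ⊗ₜ[Rb] ((1 : Rb) ⊗ₜ[R] s) = 0) ?_ ?_ hr
  · intro k hk a ha s hs
    obtain ⟨sa, hsa⟩ := hεI' a ha
    have : s = k • sa := by
      apply hεI
      rw [hs, map_smul, hsa, smul_eq_mul]
    rw [this, TensorProduct.tmul_smul, ← algebraMap_smul Rb k, ← TensorProduct.smul_tmul,
      Algebra.smul_def, mul_one, ← IsScalarTower.algebraMap_apply]
    have : algebraMap R C k = 0 := hk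
    rw [this, TensorProduct.zero_tmul]
  · intro r₁ hr₁ r₂ hr₂ h₁ h₂ s hs
    obtain ⟨s₁, hs₁⟩ := hεI' r₁ (Ideal.mul_le_right hr₁)
    obtain ⟨s₂, hs₂⟩ := hεI' r₂ (Ideal.mul_le_right hr₂)
    have : s = s₁ + s₂ := by
      apply hεI
      rw [hs, map_add, hs₁, hs₂]
    rw [this, TensorProduct.tmul_add, TensorProduct.tmul_add, h₁ s₁ hs₁, h₂ s₂ hs₂, add_zero]

end B

end Groth.Agent.Lib.Helper25.KoszulConormalAlg
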