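import Mathlib
import Groth.Prelude.Def_Omega3
import Groth.Prelude.Def_RegImm
import Groth.Agent.Lib.Helper25.ConormalOmega2
import Groth.Agent.Lib.Helper25.SmoothConormalAlg
import Groth.Agent.Lib.Helper25.KoszulConormalAlg
import Groth.Agent.Lib.QCoh.Helper50_AffineDict
import Groth.Agent.Lib.QCoh.Helper50_Pullback
import Groth.Agent.Lib.QCoh.OmegaS1
import Groth.Agent.Lib.Helper91.RegBC2
import Groth.Agent.Lib.Helper22.KoszulH1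
import Groth.Agent.Lib.Helper25.KoszulConormal
import Groth.Agent.Lib.Helper25.H1FreeAlg
import Groth.Agent.Lib.QCoh.Helper74_LocFree

set_option autoImplicit false
set_option linter.unusedSectionVars false
set_option linter.style.haveILetI false
universe u

namespace Groth.Agent.Lib.Helper25.H1Conormal

open CategoryTheory CategoryTheory.Limits AlgebraicGeometry TopologicalSpace Opposite TensorProduct
open Groth.Agent.Lib.Helper25.SkyMod Groth.Agent.Lib.Helper25.EtaleDer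
open Groth.Agent.Lib.Helper25.ImmDer Groth.Agent.Lib.Helper25.DiffCompat Groth.Agent.Lib.QCoh
open Groth.Agent.Lib.Helper25.SplitConormal Groth.Agent.Lib.Helper25.DiffSeq
open Groth.Agent.Lib.Helper25.ConormalSeq Groth.Agent.Lib.Helper25.ConormalOmega
open Groth.Agent.Lib.Helper25.SmoothConormalAlg Groth.Agent.Lib.Helper25.KoszulConormalAlg
open Groth.Agent.Lib.Helper25.KoszulConormal (res_flat)

section Geo

variable {X Y Z : Scheme.{u}} (i : Y ⟶ X) [IsImmersion i] [QuasiCompact i] (j : Z ⟶ Y)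
  [IsImmersion j] [QuasiCompact j]

/-- good affine opens -/
structure KGood where
  U : X.Opens
  hU : IsAffineOpen U
  hUc : U ≤ i.coborderRange
  hWc : i ⁻¹ᵁ U ≤ j.coborderRange
  c : ℕ
  fb : Fin c → Γ(Y, i ⁻¹ᵁ U)
  hfb : CAlgX.IsH1Regular fb
  hker : RingHom.ker (j.app (i ⁻¹ᵁ U)).hom = Ideal.span (Set.range fb)

lemma exists_kgood
    (hj : ∀ z : Z, ∃ W : Y.affineOpens, j z ∈ W.1 ∧ W.1 ≤ j.coborderRange ∧
      ∃ rs : List Γ(Y, W.1),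
      CAlgX.IsH1Regular rs.get ∧ RingHom.ker (j.app W.1).hom = Ideal.ofList rs)
    (z : Z) (V₀ : Z.Opens) (hz : z ∈ V₀) :
    ∃ g : KGood i j, z ∈ j ⁻¹ᵁ (i ⁻¹ᵁ g.U) ∧ j ⁻¹ᵁ (i ⁻¹ᵁ g.U) ≤ V₀ := by
  obtain ⟨W, hzW, hWc, rs, hrs, hk⟩ := hj z
  obtain ⟨W₀s, hW₀o, hW₀V⟩ := (j ≫ i).isEmbedding.isOpen_iff.mp V₀.2
  obtain ⟨W₁s, hW₁o, hW₁W⟩ := i.isEmbedding.isOpen_iff.mp W.1.2
  let W₀ : X.Opens := ⟨W₀s, hW₀o⟩
  let W₁ : X.Opens := ⟨W₁s, hW₁o⟩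
  have e0 : (j ≫ i) ⁻¹ᵁ W₀ = V₀ := Opens.ext hW₀V
  have e1 : i ⁻¹ᵁ W₁ = W.1 := Opens.ext hW₁W
  have hz0 : i (j z) ∈ W₀ := by
    have : z ∈ (j ≫ i) ⁻¹ᵁ W₀ := e0 ▸ hz
    exact this
  have hz1 : i (j z) ∈ W₁ := by
    have : j z ∈ i ⁻¹ᵁ W₁ := e1 ▸ hzW
    exact this
  obtain ⟨_, ⟨U, hU : IsAffineOpen U, rfl⟩, hxU, hUW⟩ :=
    (X.isBasis_affineOpens).exists_subset_of_mem_open
      (show i (j z) ∈ ((W₀ ⊓ W₁ ⊓ i.coborderRange : X.Opens) : Set X) from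
        ⟨⟨hz0, hz1⟩, subset_coborder ⟨j z, rfl⟩⟩) (W₀ ⊓ W₁ ⊓ i.coborderRange).2
  have hle : i ⁻¹ᵁ U ≤ W.1 := by
    rw [← e1]
    exact i.preimage_mono (fun y hy => (hUW hy).1.2)
  have hUc : U ≤ i.coborderRange := fun y hy => (hUW hy).2
  have hW' : IsAffineOpen (i ⁻¹ᵁ U) := isAffineOpen_preimage_of_le_coborder i hU hUc
  have hflat := res_flat W.2 hW' hle
  refine ⟨⟨U, hU, hUc, hle.trans hWc, rs.length, (Y.presheaf.map (homOfLE hle).op).hom ∘ rs.get,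
    Groth.Agent.Lib.Helper91.RegBC.isH1Regular_map_of_flat _ hflat _ hrs, ?_⟩, hxU, ?_⟩
  · have h1 := j.ker.map_ideal (U := ⟨i ⁻¹ᵁ U, hW'⟩) (V := W) hle
    rw [Scheme.Hom.ker_apply, Scheme.Hom.ker_apply] at h1
    have h2 : RingHom.ker (j.app (i ⁻¹ᵁ U)).hom =
        Ideal.map (Y.presheaf.map (homOfLE hle).op).hom (RingHom.ker (j.app W.1).hom) := h1.symm
    rw [h2, hk, Ideal.ofList, Ideal.map_span]
    congr 1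
    ext y
    constructor
    · rintro ⟨x, hx, rfl⟩
      obtain ⟨n, rfl⟩ := List.mem_iff_get.mp hx
      exact ⟨n, rfl⟩
    · rintro ⟨n, rfl⟩
      exact ⟨rs.get n, List.get_mem _ _, rfl⟩
  · rw [← e0]
    exact (j ≫ i).preimage_mono (fun y hy => (hUW hy).1.1)

end Geo

section Inj

variable {X Y Z : Scheme.{u}} (i : Y ⟶ X) [IsImmersion i] [QuasiCompact i] (j : Z ⟶ Y)
  [IsImmersion j] [QuasiCompact j]
  (φ₁ : (Scheme.Modules.pullback j).obj (Nmod i) ⟶ Nmod (j ≫ i))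
  (hφ₁ : OmegaSh.IsConormalMap (j ≫ i) i (𝟙 X) j φ₁)

include hφ₁ in
theorem injective_app_of_kgood (g : KGood i j) :
    Function.Injective (φ₁.app (j ⁻¹ᵁ (i ⁻¹ᵁ g.U))) := by
  have hW' : IsAffineOpen (i ⁻¹ᵁ g.U) := isAffineOpen_preimage_of_le_coborder i g.hU g.hUc
  have hV : IsAffineOpen (j ⁻¹ᵁ (i ⁻¹ᵁ g.U)) := isAffineOpen_preimage_of_le_coborder j hW' g.hWc
  letI algRRb : Algebra Γ(X, g.U) Γ(Y, i ⁻¹ᵁ g.U) :=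
    (i.appLE g.U (i ⁻¹ᵁ g.U) le_rfl).hom.toAlgebra
  letI algRbC : Algebra Γ(Y, i ⁻¹ᵁ g.U) Γ(Z, j ⁻¹ᵁ (i ⁻¹ᵁ g.U)) :=
    (j.appLE (i ⁻¹ᵁ g.U) (j ⁻¹ᵁ (i ⁻¹ᵁ g.U)) le_rfl).hom.toAlgebra
  letI algRC : Algebra Γ(X, g.U) Γ(Z, j ⁻¹ᵁ (i ⁻¹ᵁ g.U)) :=
    ((j ≫ i).appLE g.U (j ⁻¹ᵁ (i ⁻¹ᵁ g.U)) le_rfl).hom.toAlgebra
  haveI : IsScalarTower Γ(X, g.U) Γ(Y, i ⁻¹ᵁ g.U) Γ(Z, j ⁻¹ᵁ (i ⁻¹ᵁ g.U)) := by
    apply IsScalarTower.of_algebraMap_eq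
    intro a
    exact congr($(Scheme.Hom.appLE_comp_appLE j i g.U (i ⁻¹ᵁ g.U) (j ⁻¹ᵁ (i ⁻¹ᵁ g.U))
      le_rfl le_rfl) a).symm
  haveI : (Nmod i).IsQuasicoherent := isQuasicoherent_pullback i _
  have hRb : Function.Surjective (algebraMap Γ(X, g.U) Γ(Y, i ⁻¹ᵁ g.U)) := by
    show Function.Surjective (i.appLE g.U (i ⁻¹ᵁ g.U) le_rfl)
    rw [Scheme.Hom.appLE_eq_app]
    exact app_surjective_of_le_coborder i g.hU g.hUc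
  have hπ : Function.Surjective (algebraMap Γ(Y, i ⁻¹ᵁ g.U) Γ(Z, j ⁻¹ᵁ (i ⁻¹ᵁ g.U))) := by
    show Function.Surjective (j.appLE (i ⁻¹ᵁ g.U) (j ⁻¹ᵁ (i ⁻¹ᵁ g.U)) le_rfl)
    rw [Scheme.Hom.appLE_eq_app]
    exact app_surjective_of_le_coborder j hW' g.hWc
  have hker' : RingHom.ker (algebraMap Γ(Y, i ⁻¹ᵁ g.U) Γ(Z, j ⁻¹ᵁ (i ⁻¹ᵁ g.U))) =
      Ideal.span (Set.range g.fb) := by
    rw [← g.hker]
    show RingHom.ker (j.appLE (i ⁻¹ᵁ g.U) (j ⁻¹ᵁ (i ⁻¹ᵁ g.U)) le_rfl).hom = _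
    rw [Scheme.Hom.appLE_eq_app]
  obtain ⟨κ₀, -, hκ₀, -, -⟩ := exists_linearEquiv_pullback_map i (le_refl (i ⁻¹ᵁ g.U)) g.hU hW'
    (𝟙 (ClSub.idealMod i.ker))
  obtain ⟨κ₁, -, hκ₁, -, -⟩ := exists_linearEquiv_pullback_map j
    (le_refl (j ⁻¹ᵁ (i ⁻¹ᵁ g.U))) hW' hV (𝟙 (Nmod i))
  obtain ⟨κ₂, -, hκ₂, -, -⟩ := exists_linearEquiv_pullback_map (j ≫ i)
    (le_refl (j ⁻¹ᵁ (i ⁻¹ᵁ g.U))) g.hU hV (𝟙 (ClSub.idealMod (j ≫ i).ker))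
  rw [injective_iff_map_eq_zero]
  intro t ht
  obtain ⟨n, hn⟩ := exists_one_tmul hπ (κ₁.symm t)
  obtain ⟨s, hs⟩ := exists_one_tmul hRb (κ₀.symm n)
  have hn' : n = OmegaSh.pullSect i (ClSub.idealMod i.ker) g.U s := by
    have : n = κ₀ ((1 : Γ(Y, i ⁻¹ᵁ g.U)) ⊗ₜ[Γ(X, g.U)] s) := by
      rw [← hs, LinearEquiv.apply_symm_apply]
    rw [this, hκ₀ s]
    exact res_self (Nmod i) _ _ _
  have ht' : t = OmegaSh.pullSect j (Nmod i) (i ⁻¹ᵁ g.U) n := by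
    have : t = κ₁ ((1 : Γ(Z, j ⁻¹ᵁ (i ⁻¹ᵁ g.U))) ⊗ₜ[Γ(Y, i ⁻¹ᵁ g.U)] n) := by
      rw [← hn, LinearEquiv.apply_symm_apply]
    rw [this, hκ₁ n]
    exact res_self _ _ _ _
  have h0 : (j ≫ i).app g.U (OmegaSh.idealSect i.ker g.U s) = 0 := by
    show j.app _ (i.app g.U (OmegaSh.idealSect i.ker g.U s)) = 0
    rw [idealSect_mem i g.U s, map_zero]
  obtain ⟨st, hst⟩ := exists_idealSect' (j ≫ i) g.U _ h0
  have c1 := F2 i j φ₁ hφ₁ g.U s st hst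
  have e : OmegaSh.pullSect j (Nmod i) (i ⁻¹ᵁ g.U)
      (OmegaSh.pullSect i (ClSub.idealMod i.ker) g.U s) = t := by
    rw [ht', hn']
  have c2 : κ₂ ((1 : Γ(Z, j ⁻¹ᵁ (i ⁻¹ᵁ g.U))) ⊗ₜ[Γ(X, g.U)] st) = 0 := by
    rw [hκ₂ st]
    exact (res_self (Nmod (j ≫ i)) _ _ _).trans
      (c1.symm.trans ((congrArg (φ₁.app (j ⁻¹ᵁ (i ⁻¹ᵁ g.U))) e).trans ht))
  have c3 : (1 : Γ(Z, j ⁻¹ᵁ (i ⁻¹ᵁ g.U))) ⊗ₜ[Γ(X, g.U)] st = 0 := by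
    apply κ₂.injective
    rw [c2, map_zero]
  have c4 := one_tmul_one_tmul_eq_zero hRb g.fb g.hfb hker' (epsLin i g.U)
    (idealSect_injective i g.U)
    (fun a ha => exists_idealSect' i g.U a (by
      have : i.appLE g.U (i ⁻¹ᵁ g.U) le_rfl a = 0 := ha
      rwa [Scheme.Hom.appLE_eq_app] at this))
    (fun s' => by
      show i.appLE g.U (i ⁻¹ᵁ g.U) le_rfl (OmegaSh.idealSect i.ker g.U s') = 0
      rw [Scheme.Hom.appLE_eq_app]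
      exact idealSect_mem i g.U s')
    (epsLin (j ≫ i) g.U)
    (fun y => by
      have h1 := idealSect_mem (j ≫ i) g.U y
      show Z.presheaf.map _ ((j ≫ i).app g.U (OmegaSh.idealSect (j ≫ i).ker g.U y)) = 0
      rw [h1, map_zero])
    hπ s st hst c3
  have c5 : (1 : Γ(Z, j ⁻¹ᵁ (i ⁻¹ᵁ g.U))) ⊗ₜ[Γ(Y, i ⁻¹ᵁ g.U)] n = 0 := by
    have := congrArg (LinearMap.lTensor Γ(Z, j ⁻¹ᵁ (i ⁻¹ᵁ g.U)) κ₀.toLinearMap) c4
    rw [LinearMap.lTensor_tmul, map_zero] at this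
    have e : κ₀.toLinearMap ((1 : Γ(Y, i ⁻¹ᵁ g.U)) ⊗ₜ[Γ(X, g.U)] s) = n := by
      show κ₀ _ = n
      rw [← hs, LinearEquiv.apply_symm_apply]
    rwa [e] at this
  have : κ₁.symm t = 0 := by rw [hn, c5]
  exact κ₁.symm.map_eq_zero_iff.mp this

end Inj

section Final

variable {X Y Z : Scheme.{u}} (i : Y ⟶ X) [IsImmersion i] [QuasiCompact i] (j : Z ⟶ Y)
  [IsImmersion j] [QuasiCompact j]
  (φ₁ : (Scheme.Modules.pullback j).obj (Nmod i) ⟶ Nmod (j ≫ i))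
  (hφ₁ : OmegaSh.IsConormalMap (j ≫ i) i (𝟙 X) j φ₁)
  (φ₂ : (Scheme.Modules.pullback (𝟙 Z)).obj (Nmod (j ≫ i)) ⟶ Nmod j)
  (hφ₂ : OmegaSh.IsConormalMap j (j ≫ i) i (𝟙 Z) φ₂)

include hφ₁ in
theorem mono_of_h1
    (hj : ∀ z : Z, ∃ W : Y.affineOpens, j z ∈ W.1 ∧ W.1 ≤ j.coborderRange ∧
      ∃ rs : List Γ(Y, W.1),
      CAlgX.IsH1Regular rs.get ∧ RingHom.ker (j.app W.1).hom = Ideal.ofList rs) : Mono φ₁ := by
  have hB : Opens.IsBasis (Set.range (fun g : KGood i j => j ⁻¹ᵁ (i ⁻¹ᵁ g.U))) := by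
    rw [Opens.isBasis_iff_nbhd]
    intro V z hz
    obtain ⟨g, h1, h2⟩ := exists_kgood i j hj z V hz
    exact ⟨_, ⟨g, rfl⟩, h1, h2⟩
  exact mono_of_injective_of_isBasis (fun g : KGood i j => j ⁻¹ᵁ (i ⁻¹ᵁ g.U)) hB φ₁
    (fun g => injective_app_of_kgood i j φ₁ hφ₁ g)

include hφ₁ hφ₂ in
theorem shortExact_of_h1
    (hj : ∀ z : Z, ∃ W : Y.affineOpens, j z ∈ W.1 ∧ W.1 ≤ j.coborderRange ∧
      ∃ rs : List Γ(Y, W.1),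
      CAlgX.IsH1Regular rs.get ∧ RingHom.ker (j.app W.1).hom = Ideal.ofList rs) :
    ∃ w : φ₁ ≫ ((Scheme.Modules.pullbackId Z).inv.app (Nmod (j ≫ i)) ≫ φ₂) = 0,
      (ShortComplex.mk φ₁ ((Scheme.Modules.pullbackId Z).inv.app (Nmod (j ≫ i)) ≫ φ₂)
        w).ShortExact := by
  obtain ⟨hepi, himg⟩ := exact_conormal_of_immersions i j φ₁ hφ₁ φ₂ hφ₂
  have w : φ₁ ≫ ((Scheme.Modules.pullbackId Z).inv.app (Nmod (j ≫ i)) ≫ φ₂) = 0 :=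
    comp_qmap_eq_zero i j φ₁ hφ₁ φ₂ hφ₂
  have hmono : Mono φ₁ := mono_of_h1 i j φ₁ hφ₁ hj
  have hex : (ShortComplex.mk φ₁ ((Scheme.Modules.pullbackId Z).inv.app (Nmod (j ≫ i)) ≫ φ₂)
      w).Exact := (ShortComplex.exact_iff_image_eq_kernel _).mpr himg
  have hepi' : Epi ((Scheme.Modules.pullbackId Z).inv.app (Nmod (j ≫ i)) ≫ φ₂) := by
    infer_instance
  exact ⟨w, { exact := hex, mono_f := hmono, epi_g := hepi' }⟩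

end Final

section LocFree

variable {X Y Z : Scheme.{u}} (i : Y ⟶ X) [IsImmersion i] [QuasiCompact i] (j : Z ⟶ Y)
  [IsImmersion j] [QuasiCompact j]

lemma le_coborder_of_isClosedImmersion_restrict (W : Y.Opens) [IsClosedImmersion (j ∣_ W)] :
    W ≤ j.coborderRange := by
  intro x hxW
  show x ∈ coborder (Set.range j)
  rw [coborder, Set.mem_compl_iff]
  rintro ⟨hcl, hnot⟩
  have hclosed : IsClosed (Set.range (j ∣_ W)) := (j ∣_ W).isClosedEmbedding.isClosed_range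
  have hr : Set.range (j ∣_ W) = Subtype.val ⁻¹' Set.range j := by
    ext y
    constructor
    · rintro ⟨x', rfl⟩
      exact ⟨x'.1, (morphismRestrict_base_coe j W x').symm⟩
    · rintro ⟨x', hx'⟩
      have hx'W : j x' ∈ W := by
        rw [hx']
        exact y.2
      exact ⟨⟨x', hx'W⟩, Subtype.ext ((morphismRestrict_base_coe j W ⟨x', hx'W⟩).trans hx')⟩
  rw [hr] at hclosed
  obtain ⟨F, hF, hFe⟩ := isClosed_induced_iff.mp hclosed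
  have hsub : Set.range j ⊆ F ∪ (W : Set Y)ᶜ := by
    intro y hy
    by_cases hyW : y ∈ W
    · left
      exact (Set.ext_iff.mp hFe ⟨y, hyW⟩).mpr hy
    · right
      exact hyW
  have hcl' : x ∈ F ∪ (W : Set Y)ᶜ :=
    closure_minimal hsub (hF.union W.2.isClosed_compl) hcl
  rcases hcl' with h | h
  · exact hnot ((Set.ext_iff.mp hFe ⟨x, hxW⟩).mp h)
  · exact h hxW

include i in
theorem isFinLocFree_conormal
    (hj : ∀ z : Z, ∃ W : Y.affineOpens, j z ∈ W.1 ∧ W.1 ≤ j.coborderRange ∧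
      ∃ rs : List Γ(Y, W.1),
      CAlgX.IsH1Regular rs.get ∧ RingHom.ker (j.app W.1).hom = Ideal.ofList rs) :
    FlatMod.IsFinLocFree (Nmod j) := by
  haveI : (Nmod j).IsQuasicoherent := isQuasicoherent_pullback j _
  apply isFinLocFree_of_exists_affineOpen
  intro z
  obtain ⟨g, hzg, -⟩ := exists_kgood i j hj z ⊤ trivial
  have hW' : IsAffineOpen (i ⁻¹ᵁ g.U) := isAffineOpen_preimage_of_le_coborder i g.hU g.hUc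
  have hV : IsAffineOpen (j ⁻¹ᵁ (i ⁻¹ᵁ g.U)) := isAffineOpen_preimage_of_le_coborder j hW' g.hWc
  refine ⟨j ⁻¹ᵁ (i ⁻¹ᵁ g.U), hV, hzg, ?_⟩
  letI algRbC : Algebra Γ(Y, i ⁻¹ᵁ g.U) Γ(Z, j ⁻¹ᵁ (i ⁻¹ᵁ g.U)) :=
    (j.appLE (i ⁻¹ᵁ g.U) (j ⁻¹ᵁ (i ⁻¹ᵁ g.U)) le_rfl).hom.toAlgebra
  have hπ : Function.Surjective (algebraMap Γ(Y, i ⁻¹ᵁ g.U) Γ(Z, j ⁻¹ᵁ (i ⁻¹ᵁ g.U))) := by
    show Function.Surjective (j.appLE (i ⁻¹ᵁ g.U) (j ⁻¹ᵁ (i ⁻¹ᵁ g.U)) le_rfl)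
    rw [Scheme.Hom.appLE_eq_app]
    exact app_surjective_of_le_coborder j hW' g.hWc
  have hker' : RingHom.ker (algebraMap Γ(Y, i ⁻¹ᵁ g.U) Γ(Z, j ⁻¹ᵁ (i ⁻¹ᵁ g.U))) =
      Ideal.span (Set.range g.fb) := by
    rw [← g.hker]
    show RingHom.ker (j.appLE (i ⁻¹ᵁ g.U) (j ⁻¹ᵁ (i ⁻¹ᵁ g.U)) le_rfl).hom = _
    rw [Scheme.Hom.appLE_eq_app]
  obtain ⟨κ, -, -, -, -⟩ := exists_linearEquiv_pullback_map j
    (le_refl (j ⁻¹ᵁ (i ⁻¹ᵁ g.U))) hW' hV (𝟙 (ClSub.idealMod j.ker))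
  obtain ⟨h1, h2⟩ := Groth.Agent.Lib.Helper25.H1FreeAlg.finite_projective hπ g.fb g.hfb hker'
    (epsLin j (i ⁻¹ᵁ g.U)) (idealSect_injective j (i ⁻¹ᵁ g.U))
    (fun a ha => exists_idealSect' j (i ⁻¹ᵁ g.U) a (by
      have : j.appLE (i ⁻¹ᵁ g.U) (j ⁻¹ᵁ (i ⁻¹ᵁ g.U)) le_rfl a = 0 := ha
      rwa [Scheme.Hom.appLE_eq_app] at this))
    (fun s' => by
      show j.appLE (i ⁻¹ᵁ g.U) (j ⁻¹ᵁ (i ⁻¹ᵁ g.U)) le_rfl (OmegaSh.idealSect j.ker _ s') = 0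
      rw [Scheme.Hom.appLE_eq_app]
      exact idealSect_mem j (i ⁻¹ᵁ g.U) s')
  exact ⟨Module.Finite.equiv κ, Module.Projective.of_equiv κ⟩

variable (φ₁ : (Scheme.Modules.pullback j).obj (Nmod i) ⟶ Nmod (j ≫ i))
  (hφ₁ : OmegaSh.IsConormalMap (j ≫ i) i (𝟙 X) j φ₁)
  (φ₂ : (Scheme.Modules.pullback (𝟙 Z)).obj (Nmod (j ≫ i)) ⟶ Nmod j)
  (hφ₂ : OmegaSh.IsConormalMap j (j ≫ i) i (𝟙 Z) φ₂)

include hφ₁ hφ₂ in
theorem h1_package (hj : RegImm.IsRegularImmersion RegImm.Kind.h1 j) :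
    φ₁ ≫ ((Scheme.Modules.pullbackId Z).inv.app (Nmod (j ≫ i)) ≫ φ₂) = 0 ∧
      (∀ w : φ₁ ≫ ((Scheme.Modules.pullbackId Z).inv.app (Nmod (j ≫ i)) ≫ φ₂) = 0,
        (ShortComplex.mk φ₁ ((Scheme.Modules.pullbackId Z).inv.app (Nmod (j ≫ i)) ≫ φ₂)
          w).ShortExact) ∧
      FlatMod.IsFinLocFree (Nmod j) := by
  have hj' : ∀ z : Z, ∃ W : Y.affineOpens, j z ∈ W.1 ∧ W.1 ≤ j.coborderRange ∧
      ∃ rs : List Γ(Y, W.1),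
      CAlgX.IsH1Regular rs.get ∧ RingHom.ker (j.app W.1).hom = Ideal.ofList rs := by
    intro z
    obtain ⟨W, hzW, hcl, rs, hrs, hk⟩ := hj.2 z
    haveI := hcl
    exact ⟨W, hzW, le_coborder_of_isClosedImmersion_restrict j W.1, rs, hrs, hk⟩
  obtain ⟨w, hSE⟩ := shortExact_of_h1 i j φ₁ hφ₁ φ₂ hφ₂ hj'
  exact ⟨w, fun _ => hSE, isFinLocFree_conormal i j hj'⟩

end LocFree

end Groth.Agent.Lib.Helper25.H1Conormal
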