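import Mathlib

/-!
# Irreducibility from irreducible general fibres

* `exists_isOpen_subset_of_dense_of_isConstructible`: a dense constructible subset of an
  irreducible space contains a nonempty open subset.
* `irreducibleSpace_of_fibres`: the scheme-level statement (finite type over a field `k`).
-/

open CategoryTheory AlgebraicGeometry Topology TopologicalSpace

namespace Groth.Agent.Lib.Helper25.IrredFibre

universe u

theorem isConstructible_dichotomy {Z : Type*} [TopologicalSpace Z] [IrreducibleSpace Z]
    {s : Set Z} (hs : IsConstructible s) :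
    (∃ U : Set Z, IsOpen U ∧ U.Nonempty ∧ U ⊆ s) ∨
      (∃ U : Set Z, IsOpen U ∧ U.Nonempty ∧ U ⊆ sᶜ) := by
  induction hs using IsConstructible.empty_union_induction with
  | open_retrocompact U hU _ =>
    by_cases h : U.Nonempty
    · exact Or.inl ⟨U, hU, h, subset_rfl⟩
    · right
      refine ⟨Set.univ, isOpen_univ, Set.univ_nonempty, ?_⟩
      rw [Set.not_nonempty_iff_eq_empty] at h
      simp [h]
  | union s hs t ht ihs iht =>
    rcases ihs with ⟨U, hU, hne, hsub⟩ | ⟨U, hU, hne, hsub⟩
    · left; exact ⟨U, hU, hne, hsub.trans Set.subset_union_left⟩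
    · rcases iht with ⟨V, hV, hVne, hVsub⟩ | ⟨V, hV, hVne, hVsub⟩
      · left; exact ⟨V, hV, hVne, hVsub.trans Set.subset_union_right⟩
      · right
        refine ⟨U ∩ V, hU.inter hV, nonempty_preirreducible_inter hU hV hne hVne, ?_⟩
        rw [Set.compl_union]
        exact Set.inter_subset_inter hsub hVsub
  | compl s hs ih =>
    rcases ih with h | h
    · right; simpa using h
    · left; exact h

theorem exists_isOpen_subset_of_dense_of_isConstructible {Z : Type*} [TopologicalSpace Z]
    [IrreducibleSpace Z] {s : Set Z} (hs : IsConstructible s) (hd : Dense s) :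
    ∃ U : Set Z, IsOpen U ∧ U.Nonempty ∧ U ⊆ s := by
  rcases isConstructible_dichotomy hs with h | ⟨U, hU, hne, hsub⟩
  · exact h
  · exfalso
    obtain ⟨x, hxU, hxs⟩ := hd.inter_open_nonempty U hU hne
    exact hsub hxU hxs

theorem irreducibleSpace_of_fibres {k : Type u} [Field k]
    (Y Z : Scheme.{u}) (g : Z ⟶ Spec (CommRingCat.of k)) (f : Y ⟶ Z)
    [LocallyOfFiniteType g] [QuasiCompact g] [LocallyOfFiniteType f] [QuasiCompact f]
    [IrreducibleSpace Z]
    (hgen : ∃ V : Z.Opens, (V : Set Z).Nonempty ∧
      ∀ z ∈ V, IsClosed ({z} : Set Z) → IsIrreducible (f.base ⁻¹' {z}))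
    (hdom : ∀ W ∈ irreducibleComponents Y, Dense (f.base '' W)) :
    IrreducibleSpace Y := by
  have hZln : IsLocallyNoetherian Z := LocallyOfFiniteType.isLocallyNoetherian g
  have hZc : CompactSpace Z := QuasiCompact.compactSpace_of_compactSpace g
  have hZn : IsNoetherian Z := { }
  have hYln : IsLocallyNoetherian Y := LocallyOfFiniteType.isLocallyNoetherian f
  have hYc : CompactSpace Y := QuasiCompact.compactSpace_of_compactSpace f
  have hYn : IsNoetherian Y := { }
  have hZj : JacobsonSpace Z := LocallyOfFiniteType.jacobsonSpace g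
  obtain ⟨V, hVne, hV⟩ := hgen
  -- the set of closed points of `V`
  set cl : Set Z := (V : Set Z) ∩ closedPoints Z with hcl
  have hcl_dense : Dense cl := by
    rw [dense_iff_closure_eq, hcl]
    have := JacobsonSpace.closure_inter_closedPoints_eq_closure (S := (V : Set Z))
      V.2.isLocallyClosed
    rw [this]
    exact (V.2.dense hVne).closure_eq
  have hfin : (irreducibleComponents Y).Finite := NoetherianSpace.finite_irreducibleComponents
  have hcover : ⋃₀ (irreducibleComponents Y) = Set.univ := sUnion_irreducibleComponents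
  have hclosed : ∀ W ∈ irreducibleComponents Y, IsClosed W :=
    fun W hW => isClosed_of_mem_irreducibleComponents W hW
  -- each fibre over a closed point of `V` lies in a component
  have hfib : ∀ z ∈ cl, ∃ W ∈ irreducibleComponents Y, f.base ⁻¹' {z} ⊆ W := by
    intro z hz
    have hirr := hV z hz.1 hz.2
    obtain ⟨W, hW, hsub⟩ := isIrreducible_iff_sUnion_isClosed.mp hirr hfin.toFinset
      (fun W hW => hclosed W (hfin.mem_toFinset.mp hW))
      (by rw [hfin.coe_toFinset, hcover]; exact Set.subset_univ _)
    exact ⟨W, hfin.mem_toFinset.mp hW, hsub⟩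
  -- some component `W₁` contains the fibres over a dense set of closed points
  have hex : ∃ W₁ ∈ irreducibleComponents Y,
      Dense {z | z ∈ cl ∧ f.base ⁻¹' {z} ⊆ W₁} := by
    have h1 : cl ⊆ ⋃ W ∈ irreducibleComponents Y, {z | z ∈ cl ∧ f.base ⁻¹' {z} ⊆ W} := by
      intro z hz
      obtain ⟨W, hW, hsub⟩ := hfib z hz
      exact Set.mem_biUnion hW ⟨hz, hsub⟩
    have h2 : (Set.univ : Set Z) ⊆
        ⋃ W ∈ irreducibleComponents Y, closure {z | z ∈ cl ∧ f.base ⁻¹' {z} ⊆ W} := by
      rw [← hfin.closure_biUnion, ← hcl_dense.closure_eq]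
      exact closure_mono h1
    have hirrZ : IsIrreducible (Set.univ : Set Z) := IrreducibleSpace.isIrreducible_univ Z
    classical
    obtain ⟨T, hT, hsub⟩ := isIrreducible_iff_sUnion_isClosed.mp hirrZ
      (hfin.toFinset.image fun W => closure {z | z ∈ cl ∧ f.base ⁻¹' {z} ⊆ W})
      (by
        intro T hT
        obtain ⟨W, -, rfl⟩ := Finset.mem_image.mp hT
        exact isClosed_closure)
      (by
        refine h2.trans ?_
        intro z hz
        obtain ⟨W, hW, hzW⟩ := Set.mem_iUnion₂.mp hz
        exact Set.mem_sUnion.mpr ⟨_, Finset.mem_coe.mpr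
          (Finset.mem_image.mpr ⟨W, hfin.mem_toFinset.mpr hW, rfl⟩), hzW⟩)
    obtain ⟨W, hW, rfl⟩ := Finset.mem_image.mp hT
    refine ⟨W, hfin.mem_toFinset.mp hW, ?_⟩
    rw [dense_iff_closure_eq]
    exact Set.univ_subset_iff.mp hsub
  obtain ⟨W₁, hW₁, hdense⟩ := hex
  -- claim: `W₁ = univ`
  suffices hW₁univ : W₁ = Set.univ by
    rw [irreducibleSpace_def]
    have := hW₁.1
    rw [hW₁univ] at this
    exact this
  by_contra hne
  obtain ⟨y, hy⟩ : (W₁ᶜ : Set Y).Nonempty := by
    rw [Set.nonempty_compl]; exact hne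
  have hOopen : IsOpen (W₁ᶜ : Set Y) := (hclosed W₁ hW₁).isOpen_compl
  have hOcons : IsConstructible (W₁ᶜ : Set Y) :=
    (NoetherianSpace.isCompact _).isConstructible hOopen
  have himcons : IsConstructible (f.base '' (W₁ᶜ : Set Y)) := f.isConstructible_image hOcons
  have himdense : Dense (f.base '' (W₁ᶜ : Set Y)) := by
    -- `y` lies in some component `W₂`
    have hW₂ := irreducibleComponent_mem_irreducibleComponents y
    set W₂ := irreducibleComponent y with hW₂def
    have hyW₂ : y ∈ W₂ := mem_irreducibleComponent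
    have hsub : W₂ ⊆ closure (W₂ ∩ W₁ᶜ) :=
      subset_closure_inter_of_isPreirreducible_of_isOpen hW₂.1.isPreirreducible hOopen
        ⟨y, hyW₂, hy⟩
    have h3 : f.base '' W₂ ⊆ closure (f.base '' (W₁ᶜ : Set Y)) := by
      refine (Set.image_mono hsub).trans ?_
      refine (image_closure_subset_closure_image f.continuous).trans ?_
      exact closure_mono (Set.image_mono Set.inter_subset_right)
    rw [dense_iff_closure_eq, ← Set.univ_subset_iff, ← (hdom W₂ hW₂).closure_eq]
    exact closure_minimal h3 isClosed_closure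
  obtain ⟨U, hUopen, hUne, hUsub⟩ :=
    exists_isOpen_subset_of_dense_of_isConstructible himcons himdense
  obtain ⟨z, hzU, hz⟩ := hdense.inter_open_nonempty U hUopen hUne
  obtain ⟨y', hy', rfl⟩ := hUsub hzU
  exact hy' (hz.2 rfl)

end Groth.Agent.Lib.Helper25.IrredFibre
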