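import Mathlib

set_option autoImplicit false
universe u

open CategoryTheory CategoryTheory.Limits

namespace Groth.Agent.Lib.Helper25.KInjAdj

variable {C D : Type*} [Category C] [Category D] [Abelian C] [Abelian D]
  {L : D ⥤ C} {R : C ⥤ D} (adj : L ⊣ R) [L.Additive] [R.Additive]

/-- the transpose of a morphism of complexes `K ⟶ R I` -/
noncomputable def transpose {K : CochainComplex D ℤ} {I : CochainComplex C ℤ}
    (φ : K ⟶ (R.mapHomologicalComplex (ComplexShape.up ℤ)).obj I) :
    (L.mapHomologicalComplex (ComplexShape.up ℤ)).obj K ⟶ I where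
  f n := (adj.homEquiv (K.X n) (I.X n)).symm (φ.f n)
  comm' i j _ := by
    let a : K.X i ⟶ R.obj (I.X i) := φ.f i
    let b : K.X j ⟶ R.obj (I.X j) := φ.f j
    have h : a ≫ R.map (I.d i j) = K.d i j ≫ b := φ.comm i j
    exact ((adj.homEquiv_naturality_right_symm a (I.d i j)).symm.trans
      ((congrArg _ h).trans (adj.homEquiv_naturality_left_symm (K.d i j) b)))

/-- the unit on complexes -/
noncomputable def unitHC (K : CochainComplex D ℤ) :
    K ⟶ (R.mapHomologicalComplex (ComplexShape.up ℤ)).obj
      ((L.mapHomologicalComplex (ComplexShape.up ℤ)).obj K) where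
  f n := adj.unit.app (K.X n)
  comm' i j _ := (adj.unit.naturality (K.d i j)).symm

lemma unit_transpose {K : CochainComplex D ℤ} {I : CochainComplex C ℤ}
    (φ : K ⟶ (R.mapHomologicalComplex (ComplexShape.up ℤ)).obj I) :
    unitHC adj K ≫ (R.mapHomologicalComplex (ComplexShape.up ℤ)).map (transpose adj φ) = φ := by
  ext n
  let a : K.X n ⟶ R.obj (I.X n) := φ.f n
  show adj.unit.app (K.X n) ≫ R.map ((adj.homEquiv (K.X n) (I.X n)).symm a) = a
  exact (adj.homEquiv_unit _ _ _).symm.trans (Equiv.apply_symm_apply _ a)

omit [R.Additive] in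
lemma acyclic_map (L : D ⥤ C) [L.Additive] [L.PreservesHomology] {K : CochainComplex D ℤ}
    (hK : K.Acyclic) :
    ((L.mapHomologicalComplex (ComplexShape.up ℤ)).obj K).Acyclic := by
  intro i
  have h := hK i
  rw [HomologicalComplex.exactAt_iff] at h ⊢
  exact h.map L

include adj in
/-- right adjoints of exact functors preserve K-injective complexes -/
theorem isKInjective_map [L.PreservesHomology] (I : CochainComplex C ℤ) [I.IsKInjective] :
    CochainComplex.IsKInjective ((R.mapHomologicalComplex (ComplexShape.up ℤ)).obj I) := by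
  constructor
  intro K φ hK
  have h := CochainComplex.IsKInjective.homotopyZero (transpose adj φ) (acyclic_map L hK)
  have h' := (R.mapHomotopy h).compLeft (unitHC adj K)
  refine ⟨(Homotopy.ofEq (unit_transpose adj φ).symm).trans (h'.trans (Homotopy.ofEq ?_))⟩
  rw [Functor.map_zero, comp_zero]

end Groth.Agent.Lib.Helper25.KInjAdj
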