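import Mathlib

/-!
# A family of saturated ideals that is locally generated is globally generated

Pure commutative algebra behind "an ideal sheaf on `Spec R` which is locally generated by
sections is quasi-coherent".  Helper for `Groth.Agent.S9506`.
-/

set_option autoImplicit false

namespace Groth.Agent.Lib.Helper25.LRSClosedAlg

variable {R : Type*} [CommRing R]

/-- Key step: if `b` lies in `K x` for all `x ∈ D(f)`, a power of `f` moves `b` into all `K x`. -/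
theorem exists_pow_mul_mem (K : PrimeSpectrum R → Ideal R)
    (hsat : ∀ (q : PrimeSpectrum R) (r c : R), r ∉ q.asIdeal → r * c ∈ K q → c ∈ K q)
    (hloc : ∀ q : PrimeSpectrum R, ∃ g : R, g ∉ q.asIdeal ∧ ∃ J : Ideal R,
      ∀ x : PrimeSpectrum R, g ∉ x.asIdeal →
        ∀ c, c ∈ K x ↔ ∃ r, r ∉ x.asIdeal ∧ r * c ∈ J)
    (f b : R) (hb : ∀ x : PrimeSpectrum R, f ∉ x.asIdeal → b ∈ K x) :
    ∃ m : ℕ, ∀ x : PrimeSpectrum R, f ^ m * b ∈ K x := by
  classical
  let T : Set R := {g | ∃ m : ℕ, ∀ x : PrimeSpectrum R, g ∉ x.asIdeal → f ^ m * b ∈ K x}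
  have hT : Ideal.span T = ⊤ := by
    by_contra hne
    obtain ⟨M, hM, hle⟩ := Ideal.exists_le_maximal _ hne
    obtain ⟨g, hg, J, hJ⟩ := hloc ⟨M, hM.isPrime⟩
    apply hg
    apply hle
    apply Ideal.subset_span
    -- `g ∈ T`
    let C : Ideal R := Submodule.comap (LinearMap.mulRight R b) J
    have hC : ∀ r, r ∈ C ↔ r * b ∈ J := fun r => by
      simp only [C, Submodule.mem_comap, LinearMap.mulRight_apply]
    have hrad : g * f ∈ C.radical := by
      rw [Ideal.radical_eq_sInf, Ideal.mem_sInf]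
      rintro P ⟨hCP, hP⟩
      by_contra hgf
      have hgP : g ∉ P := fun h => hgf (P.mul_mem_right _ h)
      have hfP : f ∉ P := fun h => hgf (P.mul_mem_left _ h)
      obtain ⟨r, hr, hrb⟩ := (hJ ⟨P, hP⟩ hgP b).mp (hb ⟨P, hP⟩ hfP)
      exact hr (hCP ((hC r).mpr hrb))
    obtain ⟨m, hm⟩ := hrad
    refine ⟨m, fun x hx => ?_⟩
    have h1 : (g * f) ^ m * b ∈ K x :=
      (hJ x hx _).mpr ⟨1, fun h => x.2.ne_top ((Ideal.eq_top_iff_one _).mpr h), by
        rw [one_mul]; exact (hC _).mp hm⟩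
    rw [mul_pow, mul_assoc] at h1
    exact hsat x (g ^ m) _ (fun h => hx (x.2.mem_of_pow_mem m h)) h1
  obtain ⟨s, hsT, hs⟩ := (Ideal.span_eq_top_iff_finite T).mp hT
  choose! mf hmf using fun g (hg : g ∈ T) => hg
  refine ⟨s.sup mf, fun x => ?_⟩
  have : ∃ g ∈ s, g ∉ x.asIdeal := by
    by_contra hcon
    push Not at hcon
    have : Ideal.span (s : Set R) ≤ x.asIdeal := Ideal.span_le.mpr fun g hg => hcon g hg
    exact x.2.ne_top (top_le_iff.mp (hs ▸ this))
  obtain ⟨g, hgs, hgx⟩ := this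
  have h1 := hmf g (hsT hgs) x hgx
  have hle : mf g ≤ s.sup mf := Finset.le_sup hgs
  obtain ⟨k, hk⟩ := Nat.exists_eq_add_of_le hle
  rw [hk, pow_add, mul_comm (f ^ mf g), mul_assoc]
  exact (K x).mul_mem_left _ h1

/-- A locally generated family of saturated ideals is generated by its intersection. -/
theorem exists_mul_mem_forall (K : PrimeSpectrum R → Ideal R)
    (hsat : ∀ (q : PrimeSpectrum R) (r c : R), r ∉ q.asIdeal → r * c ∈ K q → c ∈ K q)
    (hloc : ∀ q : PrimeSpectrum R, ∃ g : R, g ∉ q.asIdeal ∧ ∃ J : Ideal R,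
      ∀ x : PrimeSpectrum R, g ∉ x.asIdeal →
        ∀ c, c ∈ K x ↔ ∃ r, r ∉ x.asIdeal ∧ r * c ∈ J)
    (q : PrimeSpectrum R) (a : R) (ha : a ∈ K q) :
    ∃ v, v ∉ q.asIdeal ∧ ∀ x, v * a ∈ K x := by
  obtain ⟨g, hg, J, hJ⟩ := hloc q
  obtain ⟨r, hr, hra⟩ := (hJ q hg a).mp ha
  have hb : ∀ x : PrimeSpectrum R, g ∉ x.asIdeal → r * a ∈ K x := fun x hx =>
    (hJ x hx _).mpr ⟨1, fun h => x.2.ne_top ((Ideal.eq_top_iff_one _).mpr h), by rwa [one_mul]⟩
  obtain ⟨m, hm⟩ := exists_pow_mul_mem K hsat hloc g (r * a) hb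
  refine ⟨g ^ m * r, fun h => ?_, fun x => by rw [mul_assoc]; exact hm x⟩
  rcases q.2.mem_or_mem h with h | h
  · exact hg (q.2.mem_of_pow_mem m h)
  · exact hr h

end Groth.Agent.Lib.Helper25.LRSClosedAlg
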