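import Mathlib
import Groth.Prelude.Def_W4stkremschemesLRS
import Groth.Agent.Lib.Helper25.LRSClosedAlg

set_option autoImplicit false
set_option backward.isDefEq.respectTransparency false
universe u
open CategoryTheory AlgebraicGeometry TopologicalSpace Opposite TopCat

namespace Groth.Agent.Lib.Helper25.LRSClosed

variable {R : Type u} [CommRing R] {Z : LocallyRingedSpace.{u}}
    (i : Z ⟶ (Spec (CommRingCat.of R)).toLocallyRingedSpace)

noncomputable abbrev OO (R : Type u) [CommRing R] := (Spec.structureSheaf R).presheaf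

theorem germ_algebraMap (U : Opens (PrimeSpectrum.Top R)) (x : PrimeSpectrum.Top R) (hx : x ∈ U)
    (a : R) :
    ((OO R).germ U x hx).hom (algebraMap R ((OO R).obj (op U)) a) =
      algebraMap R ((OO R).stalk x) a :=
  StructureSheaf.algebraMap_germ_apply U x hx a

/-- stalk kernel -/
noncomputable def Kst (x : PrimeSpectrum.Top R) : Ideal ((OO R).stalk x) :=
  RingHom.ker ((TopCat.Presheaf.stalkFunctor CommRingCat x).map i.c).hom

noncomputable def K (x : PrimeSpectrum R) : Ideal R :=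
  (Kst i x).comap (algebraMap R ((OO R).stalk x))

theorem mem_K_iff (x : PrimeSpectrum R) (a : R) : a ∈ K i x ↔
    ((TopCat.Presheaf.stalkFunctor CommRingCat (x : PrimeSpectrum.Top R)).map i.c).hom
      (algebraMap R ((OO R).stalk x) a) = 0 :=
  Iff.rfl

theorem K_sat (q : PrimeSpectrum R) (r c : R) (hr : r ∉ q.asIdeal) (h : r * c ∈ K i q) :
    c ∈ K i q := by
  have hu : IsUnit (algebraMap R ((OO R).stalk q) r) :=
    IsLocalization.map_units (M := q.asIdeal.primeCompl) _ ⟨r, hr⟩
  simp only [K, Ideal.mem_comap, map_mul] at h ⊢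
  exact (Ideal.unit_mul_mem_iff_mem _ hu).mp h

theorem stalkFunctor_map_germ' (U : Opens (PrimeSpectrum.Top R)) (x : PrimeSpectrum.Top R)
    (hx : x ∈ U) (s : (OO R).obj (op U)) :
    ((TopCat.Presheaf.stalkFunctor CommRingCat x).map i.c).hom (((OO R).germ U x hx).hom s) =
      ((i.base _* Z.presheaf).germ U x hx).hom ((i.c.app (op U)).hom s) :=
  TopCat.Presheaf.stalkFunctor_map_germ_apply U x hx i.c s

theorem ker_le_K (x : PrimeSpectrum R) (a : R)
    (ha : (i.c.app (op ⊤)).hom (algebraMap R ((OO R).obj (op ⊤)) a) = 0) : a ∈ K i x := by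
  rw [mem_K_iff, ← germ_algebraMap ⊤ x trivial a, stalkFunctor_map_germ', ha, map_zero]

theorem germ_c_app (U : Opens (PrimeSpectrum.Top R)) (z : Z.toTopCat) (hz : i.base z ∈ U)
    (s : (OO R).obj (op U)) :
    (Z.presheaf.germ ((Opens.map i.base).obj U) z hz).hom ((i.c.app (op U)).hom s) =
      (Z.presheaf.stalkPushforward CommRingCat i.base z).hom
        (((TopCat.Presheaf.stalkFunctor CommRingCat (i.base z)).map i.c).hom
          (((OO R).germ U (i.base z) hz).hom s)) := by
  rw [stalkFunctor_map_germ']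
  exact (TopCat.Presheaf.stalkPushforward_germ_apply CommRingCat i.base Z.presheaf U z hz _).symm

theorem eq_zero_of_forall_mem_K (a : R) (h : ∀ z : Z.toTopCat, a ∈ K i (i.base z)) :
    (i.c.app (op ⊤)).hom (algebraMap R ((OO R).obj (op ⊤)) a) = 0 := by
  apply TopCat.Presheaf.section_ext Z.sheaf ((Opens.map i.base).obj ⊤)
  intro z hz
  rw [map_zero]
  refine (germ_c_app i ⊤ z trivial _).trans ?_
  rw [germ_algebraMap, (mem_K_iff i _ a).mp (h z), map_zero]

theorem K_eq_top (hc : IsClosed (Set.range i.base)) (x : PrimeSpectrum R)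
    (hx : x ∉ Set.range i.base) : K i x = ⊤ := by
  rw [Ideal.eq_top_iff_one, mem_K_iff, map_one]
  let V : Opens (PrimeSpectrum.Top R) := ⟨(Set.range i.base)ᶜ, hc.isOpen_compl⟩
  have hxV : x ∈ V := hx
  rw [← map_one ((OO R).germ V x hxV).hom, stalkFunctor_map_germ']
  have hV : (Opens.map i.base).obj V = ⊥ := by
    ext z
    simp only [Opens.map_coe, Set.mem_preimage, SetLike.mem_coe, Opens.coe_bot,
      Set.mem_empty_iff_false, iff_false]
    exact fun h => h ⟨z, rfl⟩
  have : Subsingleton (Z.presheaf.obj (op ((Opens.map i.base).obj V))) :=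
    CommRingCat.subsingleton_of_isTerminal (Z.sheaf.isTerminalOfEqEmpty hV)
  have h10 : (i.c.app (op V)).hom 1 = 0 := by
    have : Subsingleton ↑((i.base _* Z.presheaf).obj (op V)) := this
    exact Subsingleton.elim _ _
  rw [h10, map_zero]

theorem span_range_eq_of_mul_unit {S : Type*} {ι : Type*} [CommRing S] (a b u : ι → S)
    (hu : ∀ j, IsUnit (u j)) (h : ∀ j, a j * u j = b j) :
    Ideal.span (Set.range a) = Ideal.span (Set.range b) := by
  apply le_antisymm <;> rw [Ideal.span_le] <;> rintro _ ⟨j, rfl⟩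
  · obtain ⟨v, hv⟩ := hu j
    have : a j = b j * ↑v⁻¹ := by rw [← h j, ← hv, mul_assoc, Units.mul_inv, mul_one]
    rw [this]; exact Ideal.mul_mem_right _ _ (Ideal.subset_span ⟨j, rfl⟩)
  · rw [← h j]; exact Ideal.mul_mem_right _ _ (Ideal.subset_span ⟨j, rfl⟩)

theorem K_loc (hk : LRSImm.KerLocallyGenerated i) (q : PrimeSpectrum R) :
    ∃ g : R, g ∉ q.asIdeal ∧ ∃ J : Ideal R, ∀ x : PrimeSpectrum R, g ∉ x.asIdeal →
      ∀ c, c ∈ K i x ↔ ∃ r, r ∉ x.asIdeal ∧ r * c ∈ J := by
  obtain ⟨U, hqU, ι, s, hs0, hs⟩ := hk q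
  obtain ⟨_, ⟨g, rfl⟩, hqg, hgU⟩ :=
    PrimeSpectrum.isTopologicalBasis_basic_opens.exists_subset_of_mem_open hqU U.2
  have hgU' : PrimeSpectrum.basicOpen g ≤ U := hgU
  let t : ι → (OO R).obj (op (PrimeSpectrum.basicOpen g)) :=
    fun j => ((OO R).map (homOfLE hgU').op).hom (s j)
  have ht : ∀ j, ∃ (b : R) (n : ℕ),
      t j * algebraMap R ((OO R).obj (op (PrimeSpectrum.basicOpen g))) (g ^ n) =
        algebraMap R ((OO R).obj (op (PrimeSpectrum.basicOpen g))) b := by
    intro j
    obtain ⟨⟨b, ⟨_, n, rfl⟩⟩, h⟩ := IsLocalization.surj (Submonoid.powers g) (t j)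
    exact ⟨b, n, h⟩
  choose b n hbn using ht
  refine ⟨g, hqg, Ideal.span (Set.range b), fun x hx c => ?_⟩
  have hxg : x ∈ PrimeSpectrum.basicOpen g := hx
  have hxU : x ∈ U := hgU hxg
  have hK : Kst i x = Ideal.map (algebraMap R ((OO R).stalk x)) (Ideal.span (Set.range b)) := by
    rw [Ideal.map_span, ← Set.range_comp]
    have hs' : Ideal.span (Set.range fun j => ((OO R).germ U x hxU).hom (s j)) = Kst i x :=
      hs x hxU
    rw [← hs']
    refine span_range_eq_of_mul_unit (S := (OO R).stalk x) _ _ (fun j => algebraMap R ((OO R).stalk x) (g ^ n j))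
      (fun j => IsLocalization.map_units (M := x.asIdeal.primeCompl) _
        ⟨g ^ n j, fun h => hx (x.2.mem_of_pow_mem _ h)⟩) (fun j => ?_)
    have h1 : ((OO R).germ U x hxU).hom (s j) =
        ((OO R).germ (PrimeSpectrum.basicOpen g) x hxg).hom (t j) :=
      (TopCat.Presheaf.germ_res_apply (OO R) (homOfLE hgU') x hxg (s j)).symm
    show ((OO R).germ U x hxU).hom (s j) * _ = algebraMap R ((OO R).stalk x) (b j)
    rw [h1, ← germ_algebraMap (PrimeSpectrum.basicOpen g) x hxg, ← map_mul, hbn,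
      germ_algebraMap]
  show algebraMap R ((OO R).stalk x) c ∈ Kst i x ↔ _
  rw [hK, IsLocalization.algebraMap_mem_map_algebraMap_iff x.asIdeal.primeCompl]
  rfl

theorem exists_mul_mem_K (hk : LRSImm.KerLocallyGenerated i) (q : PrimeSpectrum R) (a : R)
    (ha : a ∈ K i q) : ∃ v, v ∉ q.asIdeal ∧ ∀ x, v * a ∈ K i x :=
  LRSClosedAlg.exists_mul_mem_forall (K i) (K_sat i) (K_loc i hk) q a ha

theorem mem_range_of_ker_le (hc : IsClosed (Set.range i.base)) (hk : LRSImm.KerLocallyGenerated i)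
    (x : PrimeSpectrum R)
    (hx : ∀ a, (i.c.app (op ⊤)).hom (algebraMap R ((OO R).obj (op ⊤)) a) = 0 → a ∈ x.asIdeal) :
    x ∈ Set.range i.base := by
  by_contra hxr
  obtain ⟨_, ⟨g, rfl⟩, hxg, hgV⟩ :=
    PrimeSpectrum.isTopologicalBasis_basic_opens.exists_subset_of_mem_open
      (show x ∈ (Set.range i.base)ᶜ from hxr) hc.isOpen_compl
  obtain ⟨m, hm⟩ := LRSClosedAlg.exists_pow_mul_mem (K i) (K_sat i) (K_loc i hk) g 1
    (fun x' hx' => by rw [K_eq_top i hc x' (hgV hx')]; trivial)
  have : g ^ m * 1 ∈ x.asIdeal := hx _ (eq_zero_of_forall_mem_K i _ (fun z => hm _))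
  rw [mul_one] at this
  exact hxg (x.2.mem_of_pow_mem _ this)

noncomputable def phi0 : R →+* Z.presheaf.obj (op ⊤) :=
  (i.c.app (op ⊤)).hom.comp (algebraMap R ((OO R).obj (op ⊤)))

theorem phi0_eq : ((Scheme.ΓSpecIso (CommRingCat.of R)).inv ≫ i.c.app (op ⊤)).hom = phi0 i := rfl

theorem i_eq : i = Z.toΓSpec ≫ Spec.locallyRingedSpaceMap (CommRingCat.ofHom (phi0 i)) := by
  have h := (ΓSpec.locallyRingedSpaceAdjunction.homEquiv Z (op (CommRingCat.of R))).apply_symm_apply i
  rw [Adjunction.homEquiv_counit] at h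
  refine h.symm.trans ?_
  rfl

noncomputable def phibar (I : Ideal R) (hI : I = RingHom.ker (phi0 i)) :
    R ⧸ I →+* Z.presheaf.obj (op ⊤) :=
  Ideal.Quotient.lift I (phi0 i) (fun a ha => by rw [hI] at ha; exact ha)

noncomputable def jmap (I : Ideal R) (hI : I = RingHom.ker (phi0 i)) :
    Z ⟶ (Spec (CommRingCat.of (R ⧸ I))).toLocallyRingedSpace :=
  Z.toΓSpec ≫ Spec.locallyRingedSpaceMap (CommRingCat.ofHom (phibar i I hI))

theorem jmap_comp (I : Ideal R) (hI : I = RingHom.ker (phi0 i)) :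
    jmap i I hI ≫ (Spec.map (CommRingCat.ofHom (Ideal.Quotient.mk I))).toLRSHom = i := by
  conv_rhs => rw [i_eq i]
  rw [jmap, Category.assoc]
  congr 1
  show Spec.locallyRingedSpaceMap _ ≫ Spec.locallyRingedSpaceMap _ = _
  rw [← Spec.locallyRingedSpaceMap_comp]
  congr 1

/-- the composite stalk map of `i` -/
noncomputable def Psi (z : Z.toTopCat) : (OO R).stalk (i.base z) →+* Z.presheaf.stalk z :=
  (Z.presheaf.stalkPushforward CommRingCat i.base z).hom.comp
    ((TopCat.Presheaf.stalkFunctor CommRingCat (i.base z)).map i.c).hom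

theorem Psi_algebraMap (z : Z.toTopCat) (a : R) :
    Psi i z (algebraMap R ((OO R).stalk (i.base z)) a) =
      (Z.presheaf.germ ⊤ z trivial).hom (phi0 i a) := by
  rw [← germ_algebraMap ⊤ (i.base z) trivial a]
  exact (germ_c_app i ⊤ z trivial _).symm

theorem Psi_surjective (hi : LRSImm.IsClosedImmersion i) (z : Z.toTopCat) :
    Function.Surjective (Psi i z) := by
  have h1 := (TopCat.Presheaf.locally_surjective_iff_surjective_on_stalks i.c).mp hi.2.1 (i.base z)
  have h2 : IsIso (Z.presheaf.stalkPushforward CommRingCat i.base z) :=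
    TopCat.Presheaf.stalkPushforward.stalkPushforward_iso_of_isInducing CommRingCat
      hi.1.isInducing Z.presheaf z
  have h3 : Function.Bijective (Z.presheaf.stalkPushforward CommRingCat i.base z).hom :=
    ConcreteCategory.bijective_of_isIso _
  exact h3.surjective.comp h1

theorem Psi_eq_zero_iff (hi : LRSImm.IsClosedImmersion i) (z : Z.toTopCat) (a : R) :
    Psi i z (algebraMap R ((OO R).stalk (i.base z)) a) = 0 ↔ a ∈ K i (i.base z) := by
  have h2 : IsIso (Z.presheaf.stalkPushforward CommRingCat i.base z) :=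
    TopCat.Presheaf.stalkPushforward.stalkPushforward_iso_of_isInducing CommRingCat
      hi.1.isInducing Z.presheaf z
  have h3 : Function.Bijective (Z.presheaf.stalkPushforward CommRingCat i.base z).hom :=
    ConcreteCategory.bijective_of_isIso _
  rw [mem_K_iff]
  exact map_eq_zero_iff _ h3.injective

theorem stalkMap_jmap_algebraMap (I : Ideal R) (hI : I = RingHom.ker (phi0 i)) (z : Z.toTopCat)
    (b : R ⧸ I) :
    ((jmap i I hI).stalkMap z).hom
        (algebraMap (R ⧸ I) ((OO (R ⧸ I)).stalk ((jmap i I hI).base z)) b) =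
      (Z.presheaf.germ ⊤ z trivial).hom (phibar i I hI b) := by
  rw [← germ_algebraMap ⊤ _ trivial b]
  refine (LocallyRingedSpace.stalkMap_germ_apply (jmap i I hI) ⊤ z trivial _).trans ?_
  have := ΓSpec.toOpen_comp_locallyRingedSpaceAdjunction_homEquiv_app (X := Z) (R := R ⧸ I)
    (op (CommRingCat.ofHom (phibar i I hI))) (op ⊤)
  have h2 := congrArg (fun f => f.hom b) this
  dsimp only at h2
  have h3 : ((jmap i I hI).c.app (op ⊤)).hom (algebraMap (R ⧸ I) ((OO (R ⧸ I)).obj (op ⊤)) b) =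
      (Z.presheaf.map (homOfLE (le_top : (Opens.map (jmap i I hI).base).obj ⊤ ≤ ⊤)).op).hom
        (phibar i I hI b) := h2
  refine (congrArg (Z.presheaf.germ ((Opens.map (jmap i I hI).base).obj ⊤) z trivial).hom h3).trans ?_
  exact TopCat.Presheaf.germ_res_apply Z.presheaf
    (homOfLE (le_top : (Opens.map (jmap i I hI).base).obj ⊤ ≤ ⊤)) z (by trivial) _



theorem jmap_base_comap (I : Ideal R) (hI : I = RingHom.ker (phi0 i)) (z : Z.toTopCat) :
    PrimeSpectrum.comap (Ideal.Quotient.mk I) ((jmap i I hI).base z) = i.base z :=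
  congrArg (fun f => f.base z) (jmap_comp i I hI)

theorem jmap_isClosedEmbedding (I : Ideal R) (hI : I = RingHom.ker (phi0 i))
    (hi : Topology.IsClosedEmbedding i.base) : Topology.IsClosedEmbedding (jmap i I hI).base := by
  have hm : Topology.IsClosedEmbedding (PrimeSpectrum.comap (Ideal.Quotient.mk I)) :=
    PrimeSpectrum.isClosedEmbedding_comap_of_surjective _ _ Ideal.Quotient.mk_surjective
  have : (i.base : Z.toTopCat → _) =
      PrimeSpectrum.comap (Ideal.Quotient.mk I) ∘ (jmap i I hI).base :=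
    funext fun z => (jmap_base_comap i I hI z).symm
  rw [this] at hi
  exact (Topology.IsClosedEmbedding.of_comp_iff hm).mp hi

theorem jmap_surjective (I : Ideal R) (hI : I = RingHom.ker (phi0 i))
    (hi : LRSImm.IsClosedImmersion i) : Function.Surjective (jmap i I hI).base := by
  intro y
  have hx : PrimeSpectrum.comap (Ideal.Quotient.mk I) y ∈ Set.range i.base := by
    apply mem_range_of_ker_le i hi.1.isClosed_range hi.2.2
    intro a ha
    have : a ∈ I := by rw [hI]; exact ha
    show Ideal.Quotient.mk I a ∈ y.asIdeal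
    rw [Ideal.Quotient.eq_zero_iff_mem.mpr this]
    exact zero_mem _
  obtain ⟨z, hz⟩ := hx
  refine ⟨z, ?_⟩
  apply PrimeSpectrum.comap_injective_of_surjective _ Ideal.Quotient.mk_surjective
  rw [jmap_base_comap, hz]



/-- the stalk map of `jmap`, with the source typed via the structure sheaf of `R ⧸ I` -/
noncomputable def jst (I : Ideal R) (hI : I = RingHom.ker (phi0 i)) (z : Z.toTopCat) :
    (OO (R ⧸ I)).stalk ((jmap i I hI).base z) →+* Z.presheaf.stalk z :=
  ((jmap i I hI).stalkMap z).hom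

theorem jst_key (I : Ideal R) (hI : I = RingHom.ker (phi0 i)) (z : Z.toTopCat) (c : R) :
    jst i I hI z
        (algebraMap (R ⧸ I) ((OO (R ⧸ I)).stalk ((jmap i I hI).base z)) (Ideal.Quotient.mk I c)) =
      Psi i z (algebraMap R ((OO R).stalk (i.base z)) c) := by
  refine (stalkMap_jmap_algebraMap i I hI z _).trans ?_
  rw [Psi_algebraMap]
  congr 1

theorem jst_injective (I : Ideal R) (hI : I = RingHom.ker (phi0 i))
    (hi : LRSImm.IsClosedImmersion i) (z : Z.toTopCat) :
    Function.Injective (jst i I hI z) := by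
  rw [injective_iff_map_eq_zero]
  intro t ht
  obtain ⟨⟨b, s⟩, hbs⟩ := IsLocalization.surj ((jmap i I hI).base z).asIdeal.primeCompl t
  obtain ⟨a, rfl⟩ := Ideal.Quotient.mk_surjective b
  have h1 : jst i I hI z
      (algebraMap (R ⧸ I) ((OO (R ⧸ I)).stalk ((jmap i I hI).base z)) (Ideal.Quotient.mk I a)) = 0 := by
    rw [← hbs, map_mul, ht, zero_mul]
  rw [jst_key, Psi_eq_zero_iff i hi] at h1
  obtain ⟨v, hv, hva⟩ := exists_mul_mem_K i hi.2.2 _ a h1
  have h3 : v * a ∈ I := by rw [hI]; exact eq_zero_of_forall_mem_K i _ (fun z' => hva _)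
  have hvy : Ideal.Quotient.mk I v ∉ ((jmap i I hI).base z).asIdeal := by
    rw [← jmap_base_comap i I hI z] at hv; exact hv
  have hu : IsUnit (algebraMap (R ⧸ I) ((OO (R ⧸ I)).stalk ((jmap i I hI).base z))
      (Ideal.Quotient.mk I v)) :=
    IsLocalization.map_units (M := ((jmap i I hI).base z).asIdeal.primeCompl) _ ⟨_, hvy⟩
  have h4 : algebraMap (R ⧸ I) ((OO (R ⧸ I)).stalk ((jmap i I hI).base z)) (Ideal.Quotient.mk I v) *
      algebraMap (R ⧸ I) ((OO (R ⧸ I)).stalk ((jmap i I hI).base z)) (Ideal.Quotient.mk I a) = 0 := by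
    rw [← map_mul, ← map_mul, Ideal.Quotient.eq_zero_iff_mem.mpr h3, map_zero]
  have h5 := hu.mul_right_eq_zero.mp h4
  rw [h5] at hbs
  exact (IsLocalization.map_units (M := ((jmap i I hI).base z).asIdeal.primeCompl) _ s).mul_left_eq_zero.mp hbs

theorem jst_surjective (I : Ideal R) (hI : I = RingHom.ker (phi0 i))
    (hi : LRSImm.IsClosedImmersion i) (z : Z.toTopCat) :
    Function.Surjective (jst i I hI z) := by
  intro w
  obtain ⟨t', rfl⟩ := Psi_surjective i hi z w
  obtain ⟨⟨a, ⟨s, hs⟩⟩, has⟩ := IsLocalization.surj (i.base z).asIdeal.primeCompl t'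
  have hs' : s ∉ (i.base z).asIdeal := hs
  have hsy : Ideal.Quotient.mk I s ∉ ((jmap i I hI).base z).asIdeal := by
    rw [← jmap_base_comap i I hI z] at hs'; exact hs'
  have hu : IsUnit (algebraMap (R ⧸ I) ((OO (R ⧸ I)).stalk ((jmap i I hI).base z))
      (Ideal.Quotient.mk I s)) :=
    IsLocalization.map_units (M := ((jmap i I hI).base z).asIdeal.primeCompl) _ ⟨_, hsy⟩
  obtain ⟨u, hu'⟩ := hu
  refine ⟨algebraMap (R ⧸ I) ((OO (R ⧸ I)).stalk ((jmap i I hI).base z)) (Ideal.Quotient.mk I a) *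
    ↑u⁻¹, ?_⟩
  have h1 : Psi i z t' * jst i I hI z ↑u =
      jst i I hI z (algebraMap (R ⧸ I)
        ((OO (R ⧸ I)).stalk ((jmap i I hI).base z)) (Ideal.Quotient.mk I a)) := by
    rw [hu', jst_key, jst_key, ← map_mul]
    exact congrArg _ has
  rw [map_mul, ← h1, mul_assoc, ← map_mul, Units.mul_inv, map_one, mul_one]



theorem isIso_jmap (I : Ideal R) (hI : I = RingHom.ker (phi0 i))
    (hi : LRSImm.IsClosedImmersion i) : IsIso (jmap i I hI) := by
  have hce := jmap_isClosedEmbedding i I hI hi.1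
  have hsurj := jmap_surjective i I hI hi
  have hopen : Topology.IsOpenEmbedding (jmap i I hI).base :=
    ⟨hce.isEmbedding, by rw [hsurj.range_eq]; exact isOpen_univ⟩
  have hepi : Epi (jmap i I hI).base := (TopCat.epi_iff_surjective _).mpr hsurj
  have hst : ∀ z : Z.toTopCat, IsIso ((jmap i I hI).stalkMap z) := fun z =>
    (ConcreteCategory.isIso_iff_bijective _).mpr ⟨jst_injective i I hI hi z, jst_surjective i I hI hi z⟩
  have := LocallyRingedSpace.IsOpenImmersion.of_stalk_iso (jmap i I hI) hopen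
  exact LocallyRingedSpace.IsOpenImmersion.to_iso (jmap i I hI)

theorem main (R : Type u) [CommRing R] (Z : LocallyRingedSpace.{u})
    (i : Z ⟶ (Spec (CommRingCat.of R)).toLocallyRingedSpace) (hi : LRSImm.IsClosedImmersion i)
    (I : Ideal R)
    (hI : I = RingHom.ker ((Scheme.ΓSpecIso (CommRingCat.of R)).inv ≫ i.c.app (op ⊤)).hom) :
    ∃ e : Z ≅ (Spec (CommRingCat.of (R ⧸ I))).toLocallyRingedSpace,
      e.hom ≫ (Spec.map (CommRingCat.ofHom (Ideal.Quotient.mk I))).toLRSHom = i := by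
  have hI' : I = RingHom.ker (phi0 i) := hI
  have := isIso_jmap i I hI' hi
  exact ⟨asIso (jmap i I hI'), jmap_comp i I hI'⟩

end Groth.Agent.Lib.Helper25.LRSClosed
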