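import Groth.Agent.Lib.Helper25.LRSClosedLocal

set_option autoImplicit false
set_option backward.isDefEq.respectTransparency false
universe u
open CategoryTheory AlgebraicGeometry TopologicalSpace Opposite TopCat

namespace Groth.Agent.Lib.Helper25.LRSClosedLocal

theorem of_scheme {X Y : Scheme.{u}} (f : X ⟶ Y) (h1 : Topology.IsClosedEmbedding f)
    (h2 : TopCat.Presheaf.IsLocallySurjective f.c) :
    LRSImm.IsClosedImmersion f.toLRSHom := by
  have hsurj : ∀ x : X, Function.Surjective (f.stalkMap x).hom := fun x =>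
    (surjective_stalkFunctor_iff f.toLRSHom h1.isInducing x).mp
      ((TopCat.Presheaf.locally_surjective_iff_surjective_on_stalks f.c).mp h2 (f x))
  have hci : IsClosedImmersion f := by
    have : SurjectiveOnStalks f := ⟨hsurj⟩
    exact ⟨h1⟩
  apply CI2.isClosedImmersion
  refine ⟨h1, hsurj, fun y => ?_⟩
  obtain ⟨W, hW, hyW, -⟩ := exists_isAffineOpen_mem_and_subset (X := Y) (x := y) (U := ⊤) trivial
  have hV : IsAffineOpen (f ⁻¹ᵁ W) := hW.preimage f
  have hφ : Function.Surjective (f.app W) := f.app_surjective W hW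
  refine ⟨W, hyW, ↥(RingHom.ker (f.app W).hom), fun j => j.1, fun j => j.2, ?_, ?_⟩
  · intro y' hy' hr
    obtain ⟨a, haV, hya⟩ := hW.exists_basicOpen_le
      (V := ⟨(Set.range f)ᶜ, h1.isClosed_range.isOpen_compl⟩) ⟨y', hr⟩ hy'
    have h0 : X.basicOpen (f.app W a) = ⊥ := by
      rw [← Scheme.preimage_basicOpen]
      ext x
      simp only [Scheme.Hom.mem_preimage, Opens.coe_bot, Set.mem_empty_iff_false, iff_false,
        SetLike.mem_coe]
      intro hx
      exact haV hx ⟨x, rfl⟩
    obtain ⟨n, hn⟩ := (Scheme.isNilpotent_iff_basicOpen_eq_bot_of_isCompact hV.isCompact _).mpr h0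
    have hmem : (Y.presheaf.germ W y' hy').hom (a ^ n) ∈
        Ideal.span (Set.range fun j : ↥(RingHom.ker (f.app W).hom) =>
          (Y.presheaf.germ W y' hy').hom j.1) :=
      Ideal.subset_span ⟨⟨a ^ n, by rw [RingHom.mem_ker, map_pow]; exact hn⟩, rfl⟩
    have hu : IsUnit ((Y.presheaf.germ W y' hy').hom (a ^ n)) := by
      rw [map_pow]
      exact ((Y.mem_basicOpen a y' hy').mp hya).pow n
    exact Ideal.eq_top_of_isUnit_mem _ hmem hu
  · intro x hx
    have hxV : x ∈ f ⁻¹ᵁ W := hx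
    have hgerm : ∀ a : Γ(Y, W), (f.stalkMap x).hom ((Y.presheaf.germ W (f x) hx).hom a) =
        (X.presheaf.germ (f ⁻¹ᵁ W) x hxV).hom ((f.app W).hom a) :=
      fun a => Scheme.Hom.germ_stalkMap_apply f W x hx a
    have locY := hW.isLocalization_stalk ⟨f x, hx⟩
    have locX := hV.isLocalization_stalk ⟨x, hxV⟩
    apply le_antisymm
    · rw [Ideal.span_le]
      rintro _ ⟨j, rfl⟩
      show (f.stalkMap x).hom ((Y.presheaf.germ W (f x) hx).hom j.1) = 0
      rw [hgerm, show (f.app W).hom j.1 = 0 from j.2, map_zero]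
    · intro σ hσ
      let algY : Algebra Γ(Y, W) (Y.presheaf.stalk (f x)) :=
        TopCat.Presheaf.algebra_section_stalk Y.presheaf ⟨f x, hx⟩
      let algX : Algebra Γ(X, f ⁻¹ᵁ W) (X.presheaf.stalk x) :=
        TopCat.Presheaf.algebra_section_stalk X.presheaf ⟨x, hxV⟩
      obtain ⟨⟨a, s⟩, has⟩ :=
        @IsLocalization.surj _ _ (hW.primeIdealOf ⟨f x, hx⟩).asIdeal.primeCompl
          (Y.presheaf.stalk (f x)) _ algY locY σ
      have has' : σ * (Y.presheaf.germ W (f x) hx).hom s.1 = (Y.presheaf.germ W (f x) hx).hom a :=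
        has
      have hus : IsUnit ((Y.presheaf.germ W (f x) hx).hom s.1) :=
        @IsLocalization.map_units _ _ (hW.primeIdealOf ⟨f x, hx⟩).asIdeal.primeCompl
          (Y.presheaf.stalk (f x)) _ algY locY s
      have h1 : (X.presheaf.germ (f ⁻¹ᵁ W) x hxV).hom ((f.app W).hom a) = 0 := by
        rw [← hgerm, ← has', map_mul, show (f.stalkMap x).hom σ = 0 from hσ, zero_mul]
      obtain ⟨⟨t, ht⟩, hta⟩ := (@IsLocalization.map_eq_zero_iff _ _
        (hV.primeIdealOf ⟨x, hxV⟩).asIdeal.primeCompl (X.presheaf.stalk x) _ algX locX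
        ((f.app W).hom a)).mp h1
      obtain ⟨t', rfl⟩ := hφ t
      have hut : IsUnit ((X.presheaf.germ (f ⁻¹ᵁ W) x hxV).hom ((f.app W).hom t')) :=
        @IsLocalization.map_units _ _ (hV.primeIdealOf ⟨x, hxV⟩).asIdeal.primeCompl
          (X.presheaf.stalk x) _ algX locX ⟨(f.app W).hom t', ht⟩
      rw [← hgerm] at hut
      have hut' : IsUnit ((Y.presheaf.germ W (f x) hx).hom t') := isUnit_of_map_unit _ _ hut
      have hker : t' * a ∈ RingHom.ker (f.app W).hom := by
        rw [RingHom.mem_ker, map_mul]; exact hta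
      have hmem : (Y.presheaf.germ W (f x) hx).hom (t' * a) ∈
          Ideal.span (Set.range fun j : ↥(RingHom.ker (f.app W).hom) =>
            (Y.presheaf.germ W (f x) hx).hom j.1) :=
        Ideal.subset_span ⟨⟨t' * a, hker⟩, rfl⟩
      rw [map_mul, Ideal.unit_mul_mem_iff_mem _ hut', ← has',
        Ideal.mul_unit_mem_iff_mem _ hus] at hmem
      exact hmem

end Groth.Agent.Lib.Helper25.LRSClosedLocal
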