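import Groth.Agent.Lib.Helper25.LRSClosedLocal
import Groth.Agent.Lib.Helper25.LRSClosed

set_option autoImplicit false
set_option backward.isDefEq.respectTransparency false
universe u
open CategoryTheory AlgebraicGeometry TopologicalSpace Opposite TopCat

namespace Groth.Agent.Lib.Helper25.LRSClosedLocal

theorem local_affine_of_isClosedImmersion (X : Scheme.{u}) (Z : LocallyRingedSpace.{u})
    (i : Z ⟶ X.toLocallyRingedSpace) (hi : LRSImm.IsClosedImmersion i) (z : Z.toTopCat) :
    ∃ (U : OpenNhds z) (R : CommRingCat),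
      Nonempty (Z.restrict U.isOpenEmbedding ≅ Spec.toLocallyRingedSpace.obj (op R)) := by
  obtain ⟨W, hW, hxW, -⟩ := exists_isAffineOpen_mem_and_subset (X := X) (x := i.base z)
    (U := ⊤) trivial
  let V : Opens Z.toTopCat := (Opens.map i.base).obj W
  have hzV : z ∈ V := hxW
  let f : (Spec (CommRingCat.of Γ(X, W))).toLocallyRingedSpace ⟶ X.toLocallyRingedSpace :=
    hW.fromSpec.toLRSHom
  have hfo : LocallyRingedSpace.IsOpenImmersion f := hW.isOpenImmersion_fromSpec
  let g : Z.restrict V.isOpenEmbedding ⟶ Z := Z.ofRestrict V.isOpenEmbedding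
  have hrf : Set.range f.base = (W : Set X) := hW.range_fromSpec
  have hrg : Set.range g.base = (V : Set Z.toTopCat) := Subtype.range_val
  have H' : Set.range (g ≫ i).base ⊆ Set.range f.base := by
    rw [hrf]
    rintro _ ⟨v, rfl⟩
    exact v.2
  let i' := LocallyRingedSpace.IsOpenImmersion.lift f (g ≫ i) H'
  have sq : i' ≫ f = g ≫ i := LocallyRingedSpace.IsOpenImmersion.lift_fac f (g ≫ i) H'
  have cart : ∀ z', i.base z' ∈ Set.range f.base → z' ∈ Set.range g.base := by
    intro z' hz'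
    rw [hrf] at hz'
    rw [hrg]
    exact hz'
  have hi' : LRSImm.IsClosedImmersion i' :=
    (CI2.of_square i f g i' sq cart (CI2.of_isClosedImmersion i hi)).isClosedImmersion
  obtain ⟨e, -⟩ := LRSClosed.main Γ(X, W) _ i' hi' _ rfl
  exact ⟨⟨V, hzV⟩, _, ⟨e⟩⟩


theorem main (X : Scheme.{u}) (Z : LocallyRingedSpace.{u}) (i : Z ⟶ X.toLocallyRingedSpace)
    (hi : LRSImm.IsClosedImmersion i) :
    ∃ (Z' : Scheme.{u}) (e : Z'.toLocallyRingedSpace ≅ Z),
      AlgebraicGeometry.IsClosedImmersion (Scheme.Hom.mk (e.hom ≫ i) : Z' ⟶ X) := by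
  let Z' : Scheme :=
    { toLocallyRingedSpace := Z
      local_affine := local_affine_of_isClosedImmersion X Z i hi }
  have h2 := CI2.of_isClosedImmersion i hi
  refine ⟨Z', Iso.refl _, ?_⟩
  have hid : (Iso.refl Z'.toLocallyRingedSpace).hom ≫ i = i := Category.id_comp i
  rw [hid]
  have hs : SurjectiveOnStalks (Scheme.Hom.mk i : Z' ⟶ X) := ⟨fun z => h2.surj z⟩
  exact ⟨h2.emb⟩

end Groth.Agent.Lib.Helper25.LRSClosedLocal
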