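import Mathlib

set_option autoImplicit false
set_option linter.style.haveILetI false
universe u

open CategoryTheory CategoryTheory.Limits AlgebraicGeometry TopologicalSpace

namespace Groth.Agent.Lib.Helper25.MonoQC

set_option backward.isDefEq.respectTransparency.types false in
/-- A monomorphism has a section over every residue field point in its image. -/
theorem exists_section_of_mono {X Y : Scheme.{u}} (f : Y ⟶ X) [Mono f] (x : X)
    (hx : x ∈ Set.range f.base) :
    ∃ σ : Spec (X.residueField x) ⟶ Y, σ ≫ f = X.fromSpecResidueField x := by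
  let p := pullback.snd f (X.fromSpecResidueField x)
  haveI : Mono p := inferInstance
  haveI : Surjective p := by
    constructor
    intro z
    obtain ⟨y, rfl⟩ := hx
    have hz : f.base y = (X.fromSpecResidueField (f.base y)).base z := by simp
    obtain ⟨t, -, ht2⟩ := Scheme.Pullback.exists_preimage_pullback y z hz
    exact ⟨t, ht2⟩
  haveI : Subsingleton (Spec (X.residueField x)) :=
    inferInstanceAs (Subsingleton (PrimeSpectrum (X.residueField x)))
  haveI : Subsingleton ↥(pullback f (X.fromSpecResidueField x)) := p.injective.subsingleton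
  haveI : CompactSpace ↥(pullback f (X.fromSpecResidueField x)) := inferInstance
  haveI : QuasiCompact p := HasAffineProperty.iff_of_isAffine.mpr ‹_›
  haveI : Flat p := inferInstance
  haveI := Flat.isIso_of_surjective_of_mono p
  exact ⟨inv p ≫ pullback.fst _ _, by
    rw [Category.assoc, pullback.condition, IsIso.inv_hom_id_assoc]⟩

/-- The generic lifting hypothesis (c). -/
def GenLift {X Y : Scheme.{u}} (f : Y ⟶ X) : Prop :=
  ∀ (A : Type u) [CommRing A] [IsDomain A] (s : Spec (CommRingCat.of A) ⟶ X)
    (D : Set ↥(Spec (CommRingCat.of A))), Dense D →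
    (∀ p ∈ D, ∃ l : Spec ((Spec (CommRingCat.of A)).residueField p) ⟶ Y,
        l ≫ f = (Spec (CommRingCat.of A)).fromSpecResidueField p ≫ s) →
      ∃ U : (Spec (CommRingCat.of A)).Opens, (U : Set ↥(Spec (CommRingCat.of A))).Nonempty ∧
        ∃ l : (U : Scheme.{u}) ⟶ Y, l ≫ f = U.ι ≫ s

theorem exists_lift_of_mem_range {X Y T : Scheme.{u}} (f : Y ⟶ X) [Mono f] (s : T ⟶ X) (a : T)
    (ha : s.base a ∈ Set.range f.base) :
    ∃ l : Spec (T.residueField a) ⟶ Y, l ≫ f = T.fromSpecResidueField a ≫ s := by
  obtain ⟨σ, hσ⟩ := exists_section_of_mono f (s.base a) ha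
  exact ⟨Spec.map (s.residueFieldMap a) ≫ σ, by
    rw [Category.assoc, hσ, Scheme.Hom.SpecMap_residueFieldMap_fromSpecResidueField]⟩

theorem isCompact_preimage_image {X Y : Scheme.{u}} (f : Y ⟶ X) [Mono f] (hc : GenLift f)
    (R : CommRingCat.{u}) [IsNoetherianRing R] (j : Spec R ⟶ X) (Z : Closeds ↥(Spec R)) :
    IsCompact (f.base ⁻¹' (j.base '' (Z : Set ↥(Spec R)))) := by
  haveI : NoetherianSpace ↥(Spec R) := inferInstanceAs (NoetherianSpace (PrimeSpectrum R))
  induction Z using WellFoundedLT.induction with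
  | ind Z IH =>
  rcases eq_or_ne Z ⊥ with rfl | h₀
  · simp
  by_cases h₁ : IsPreirreducible (Z : Set ↥(Spec R))
  · let Zs : Set (PrimeSpectrum R) := show Set ↥(Spec R) from (Z : Set ↥(Spec R))
    have hZs : IsClosed Zs := Z.isClosed
    have hirr : IsIrreducible Zs := ⟨Closeds.coe_nonempty.2 h₀, h₁⟩
    have hprime : (PrimeSpectrum.vanishingIdeal Zs).IsPrime :=
      (PrimeSpectrum.isIrreducible_iff_vanishingIdeal_isPrime).mp hirr
    set p := PrimeSpectrum.vanishingIdeal Zs with hp
    have hZ : Zs = PrimeSpectrum.zeroLocus (p : Set R) := by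
      rw [hp, PrimeSpectrum.zeroLocus_vanishingIdeal_eq_closure]
      exact (hZs.closure_eq).symm
    let q : (R : Type u) →+* R ⧸ p := Ideal.Quotient.mk p
    have hq : Function.Surjective q := Ideal.Quotient.mk_surjective
    let s₀ : Spec (CommRingCat.of (R ⧸ p)) ⟶ Spec R := Spec.map (CommRingCat.ofHom q)
    have hs₀ : Topology.IsClosedEmbedding s₀.base :=
      PrimeSpectrum.isClosedEmbedding_comap_of_surjective _ q hq
    have hrange : Set.range s₀.base = (Z : Set ↥(Spec R)) := by
      have := _root_.range_comap_of_surjective _ q hq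
      rw [Ideal.mk_ker] at this
      exact this.trans hZ.symm
    let s := s₀ ≫ j
    let D : Set ↥(Spec (CommRingCat.of (R ⧸ p))) := s.base ⁻¹' Set.range f.base
    by_cases hD : Dense D
    · obtain ⟨V, ⟨v, hv⟩, l, hl⟩ := hc (R ⧸ p) s D hD
        (fun a ha => exists_lift_of_mem_range f s a ha)
      let Z' : Closeds ↥(Spec R) :=
        ⟨s₀.base '' ((V : Set ↥(Spec (CommRingCat.of (R ⧸ p))))ᶜ),
          hs₀.isClosedMap _ V.isOpen.isClosed_compl⟩
      have hZ'le : (Z' : Set ↥(Spec R)) ⊆ Z := by
        rw [← hrange]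
        exact Set.image_subset_range _ _
      have hZ'lt : Z' < Z := by
        refine lt_of_le_of_ne hZ'le ?_
        intro h
        have h1 : s₀.base v ∈ (Z : Set ↥(Spec R)) := by
          rw [← hrange]; exact ⟨v, rfl⟩
        rw [← h] at h1
        obtain ⟨w, hw, hwv⟩ := h1
        exact hw (by rw [hs₀.injective hwv]; exact hv)
      haveI : NoetherianSpace ↥(Spec (CommRingCat.of (R ⧸ p))) :=
        inferInstanceAs (NoetherianSpace (PrimeSpectrum (R ⧸ p)))
      have hVc : IsCompact (V : Set ↥(Spec (CommRingCat.of (R ⧸ p)))) := NoetherianSpace.isCompact _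
      haveI : CompactSpace ↥(V : Scheme.{u}) := isCompact_iff_compactSpace.mp hVc
      have hl' : ∀ w : ↥V, f.base (l.base w) = j.base (s₀.base w.1) := by
        intro w
        have h1 : (l ≫ f) w = (V.ι ≫ s) w := by rw [hl]
        exact h1
      have heq : f.base ⁻¹' (j.base '' (Z : Set ↥(Spec R))) =
          f.base ⁻¹' (j.base '' (Z' : Set ↥(Spec R))) ∪ Set.range l.base := by
        apply Set.Subset.antisymm
        · rintro y ⟨z, hz, hzy⟩
          rw [← hrange] at hz
          obtain ⟨a, rfl⟩ := hz
          by_cases haV : a ∈ (V : Set _)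
          · right
            refine ⟨⟨a, haV⟩, ?_⟩
            apply f.injective
            rw [hl' ⟨a, haV⟩, hzy]
          · left
            exact ⟨s₀.base a, ⟨a, haV, rfl⟩, hzy⟩
        · apply Set.union_subset
          · exact Set.preimage_mono (Set.image_mono hZ'le)
          · rintro _ ⟨w, rfl⟩
            refine ⟨s₀.base w.1, ?_, (hl' w).symm⟩
            rw [← hrange]; exact ⟨_, rfl⟩
      rw [heq]
      exact (IH Z' hZ'lt).union (isCompact_range l.continuous)
    · let Z' : Closeds ↥(Spec R) :=
        ⟨s₀.base '' (closure D), hs₀.isClosedMap _ isClosed_closure⟩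
      have hZ'le : (Z' : Set ↥(Spec R)) ⊆ Z := by
        rw [← hrange]
        exact Set.image_subset_range _ _
      have hZ'lt : Z' < Z := by
        refine lt_of_le_of_ne hZ'le ?_
        intro h
        apply hD
        intro a
        have h1 : s₀.base a ∈ (Z : Set ↥(Spec R)) := by
          rw [← hrange]; exact ⟨a, rfl⟩
        rw [← h] at h1
        obtain ⟨w, hw, hwv⟩ := h1
        rw [← hs₀.injective hwv]; exact hw
      have heq : f.base ⁻¹' (j.base '' (Z : Set ↥(Spec R))) =
          f.base ⁻¹' (j.base '' (Z' : Set ↥(Spec R))) := by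
        apply Set.Subset.antisymm
        · rintro y ⟨z, hz, hzy⟩
          rw [← hrange] at hz
          obtain ⟨a, rfl⟩ := hz
          refine ⟨s₀.base a, ⟨a, subset_closure ?_, rfl⟩, hzy⟩
          exact ⟨y, hzy.symm⟩
        · exact Set.preimage_mono (Set.image_mono hZ'le)
      rw [heq]
      exact IH Z' hZ'lt
  · simp only [isPreirreducible_iff_isClosed_union_isClosed, not_forall, not_or] at h₁
    obtain ⟨z₁, z₂, hz₁, hz₂, h, hz₁', hz₂'⟩ := h₁
    lift z₁ to Closeds ↥(Spec R) using hz₁
    lift z₂ to Closeds ↥(Spec R) using hz₂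
    have h1 := IH (Z ⊓ z₁) (inf_lt_left.2 hz₁')
    have h2 := IH (Z ⊓ z₂) (inf_lt_left.2 hz₂')
    have heq : f.base ⁻¹' (j.base '' (Z : Set ↥(Spec R))) =
        f.base ⁻¹' (j.base '' ((Z ⊓ z₁ : Closeds _) : Set ↥(Spec R))) ∪
        f.base ⁻¹' (j.base '' ((Z ⊓ z₂ : Closeds _) : Set ↥(Spec R))) := by
      rw [← Set.preimage_union, ← Set.image_union]
      congr 2
      ext t
      simp only [Closeds.coe_inf, Set.mem_union, Set.mem_inter_iff]
      constructor
      · intro ht
        rcases h ht with h' | h'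
        · exact Or.inl ⟨ht, h'⟩
        · exact Or.inr ⟨ht, h'⟩
      · rintro (h' | h') <;> exact h'.1
    rw [heq]
    exact h1.union h2

/-- **Stacks (mono + generic lifting ⟹ quasi-compact)** over a locally Noetherian base. -/
theorem quasiCompact_of_mono_genLift {X Y : Scheme.{u}} [IsLocallyNoetherian X] (f : Y ⟶ X)
    [Mono f] (hc : GenLift f) : QuasiCompact f := by
  rw [quasiCompact_iff_forall_isAffineOpen]
  intro U hU
  haveI : IsNoetherianRing Γ(X, U) := IsLocallyNoetherian.component_noetherian ⟨U, hU⟩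
  have := isCompact_preimage_image f hc Γ(X, U) hU.fromSpec ⊤
  rw [Closeds.coe_top, Set.image_univ, hU.range_fromSpec] at this
  exact this

end Groth.Agent.Lib.Helper25.MonoQC
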