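import Mathlib
import Groth.Agent.S4450
import Groth.Agent.Lib.Helper25.MonoQC

set_option autoImplicit false
set_option linter.style.haveILetI false
universe u

open CategoryTheory CategoryTheory.Limits AlgebraicGeometry TopologicalSpace

namespace Groth.Agent.Lib.Helper25.MonoDVR

/-- A monomorphism admits a lift of every "field-like" point landing in its image. -/
theorem exists_lift_of_subsingleton {X Y T : Scheme.{u}} (f : Y ⟶ X) [Mono f]
    [Subsingleton T] [IsIntegral T] (t : T ⟶ X) (ht : ∀ a : T, t.base a ∈ Set.range f.base) :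
    ∃ σ : T ⟶ Y, σ ≫ f = t := by
  let p := pullback.snd f t
  haveI : Mono p := inferInstance
  haveI : Surjective p := by
    constructor
    intro z
    obtain ⟨y, hy⟩ := ht z
    obtain ⟨w, -, hw2⟩ := Scheme.Pullback.exists_preimage_pullback y z hy
    exact ⟨w, hw2⟩
  haveI : Subsingleton ↥(pullback f t) := p.injective.subsingleton
  haveI : QuasiCompact p := ⟨fun U _ _ => (Set.subsingleton_of_subsingleton).isCompact⟩
  haveI : Flat p := inferInstance
  haveI := Flat.isIso_of_surjective_of_mono p
  exact ⟨inv p ≫ pullback.fst _ _, by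
    rw [Category.assoc, pullback.condition, IsIso.inv_hom_id_assoc]⟩

/-- The DVR lifting hypothesis (b). -/
def DVRLift {X Y : Scheme.{u}} (f : Y ⟶ X) : Prop :=
  ∀ S : ValuativeCommSq f, IsDiscreteValuationRing S.R →
    (∃ l₀ : Spec (CommRingCat.of (IsLocalRing.ResidueField S.R)) ⟶ Y,
        l₀ ≫ f = Spec.map (CommRingCat.ofHom (IsLocalRing.residue S.R)) ≫ S.i₂) →
      S.commSq.HasLift

/-- Over a locally Noetherian base, a monomorphism with the DVR lifting property reflects
specializations. -/
theorem specializes_of_dvrLift {X Y : Scheme.{u}} [IsLocallyNoetherian X] (f : Y ⟶ X) [Mono f]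
    (hb : DVRLift f) (y₀ y₁ : Y) (hsp : f.base y₁ ⤳ f.base y₀) : y₁ ⤳ y₀ := by
  by_cases hne : f.base y₀ = f.base y₁
  · rw [f.injective hne]
  obtain ⟨A, h, hA, hcl, hgen⟩ := Groth.Agent.S4450.main4450 (𝟙 X) (f.base y₁) (f.base y₀) hsp hne
  obtain ⟨σ, hσ⟩ := Groth.Agent.Lib.Helper25.MonoQC.exists_section_of_mono f (f.base y₁) ⟨y₁, rfl⟩
  rw [Category.comp_id] at hgen
  let S : ValuativeCommSq f :=
    { R := A
      K := X.residueField (f.base y₁)
      i₁ := σ
      i₂ := h
      commSq := ⟨by rw [hσ]; exact hgen.symm⟩ }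
  have hl₀ : ∃ l₀ : Spec (CommRingCat.of (IsLocalRing.ResidueField S.R)) ⟶ Y,
      l₀ ≫ f = Spec.map (CommRingCat.ofHom (IsLocalRing.residue S.R)) ≫ S.i₂ := by
    apply exists_lift_of_subsingleton
    intro a
    refine ⟨y₀, ?_⟩
    have h1 : (Spec.map (CommRingCat.ofHom (IsLocalRing.residue S.R))).base a =
        IsLocalRing.closedPoint A := IsLocalRing.PrimeSpectrum.comap_residue _ a
    change f.base y₀ = h.base ((Spec.map (CommRingCat.ofHom (IsLocalRing.residue S.R))).base a)
    rw [h1, hcl]
  obtain ⟨⟨l, hl1, hl2⟩⟩ := hb S hA hl₀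
  have e0 : l.base (IsLocalRing.closedPoint A) = y₀ := by
    apply f.injective
    have : (l ≫ f).base (IsLocalRing.closedPoint A) = h.base (IsLocalRing.closedPoint A) := by
      rw [hl2]
    exact this.trans hcl
  let pt : Spec (X.residueField (f.base y₁)) := default
  have e1 : l.base ((Spec.map (CommRingCat.ofHom (algebraMap A (X.residueField (f.base y₁))))).base
      pt) = y₁ := by
    apply f.injective
    have h2 : (Spec.map (CommRingCat.ofHom (algebraMap A (X.residueField (f.base y₁)))) ≫ l ≫ f).base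
        pt = (σ ≫ f).base pt := by
      rw [← Category.assoc, hl1]
    rw [hσ] at h2
    refine h2.trans ?_
    simp
  have key : l.base ((Spec.map (CommRingCat.ofHom (algebraMap A (X.residueField (f.base y₁))))).base
      pt) ⤳ l.base (IsLocalRing.closedPoint A) :=
    (IsLocalRing.specializes_closedPoint _).map l.continuous
  rwa [e0, e1] at key

/-- The DVR lifting property is stable under base change. -/
theorem DVRLift.baseChange {X Y X' : Scheme.{u}} (f : Y ⟶ X) (g : X' ⟶ X) (hb : DVRLift f) :
    DVRLift (pullback.snd f g) := by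
  intro S' hS' ⟨l₀, hl₀⟩
  let S : ValuativeCommSq f :=
    { R := S'.R
      K := S'.K
      i₁ := S'.i₁ ≫ pullback.fst f g
      i₂ := S'.i₂ ≫ g
      commSq := ⟨by
        rw [Category.assoc, pullback.condition, ← Category.assoc, S'.commSq.w, Category.assoc]⟩ }
  have h0 : ∃ l₀ : Spec (CommRingCat.of (IsLocalRing.ResidueField S.R)) ⟶ Y,
      l₀ ≫ f = Spec.map (CommRingCat.ofHom (IsLocalRing.residue S.R)) ≫ S.i₂ := by
    refine ⟨l₀ ≫ pullback.fst f g, ?_⟩
    rw [Category.assoc, pullback.condition, ← Category.assoc, hl₀, Category.assoc]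
  obtain ⟨⟨l, hl1, hl2⟩⟩ := hb S hS' h0
  refine ⟨⟨pullback.lift l S'.i₂ hl2, ?_, pullback.lift_snd _ _ _⟩⟩
  apply pullback.hom_ext
  · rw [Category.assoc, pullback.lift_fst]
    exact hl1
  · rw [Category.assoc, pullback.lift_snd]
    exact S'.commSq.w.symm

end Groth.Agent.Lib.Helper25.MonoDVR
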