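import Mathlib
import Groth.Agent.Lib.Helper25.MonoQC
import Groth.Agent.Lib.Helper25.MonoDVR
import Groth.Agent.Lib.Helper38.QCClosure

set_option autoImplicit false
set_option linter.style.haveILetI false
universe u

open CategoryTheory CategoryTheory.Limits AlgebraicGeometry TopologicalSpace MorphismProperty

namespace Groth.Agent.Lib.Helper25.MonoImm

open Groth.Agent.Lib.Helper25.MonoDVR

lemma mono_morphismRestrict {X Y : Scheme.{u}} (f : X ⟶ Y) [Mono f] (U : Y.Opens) :
    Mono (f ∣_ U) := by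
  haveI : Mono ((f ∣_ U) ≫ U.ι) := by
    rw [morphismRestrict_ι]
    infer_instance
  exact mono_of_mono (f ∣_ U) U.ι

set_option backward.isDefEq.respectTransparency false in
/-- Abstract étale-local step. -/
theorem aux {X Y P U : Scheme.{u}} [IsLocallyNoetherian X] (f : Y ⟶ X)
    [LocallyOfFinitePresentation f] [Mono f] [QuasiCompact f]
    (q : P ⟶ Y) (p : P ⟶ U) (g : U ⟶ X) (hsq : IsPullback q p f g) [Etale g]
    (hbp : DVRLift p) (V W : P.Opens) (v : V) (hVW : IsCompl V W) (hfin : IsFinite (V.ι ≫ p)) :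
    ∃ W₀ : X.Opens, g.base (p.base v.1) ∈ W₀ ∧ IsClosedImmersion (f ∣_ W₀) := by
  haveI : LocallyOfFiniteType f := inferInstance
  haveI : LocallyOfFiniteType g := inferInstance
  haveI : IsLocallyNoetherian U := LocallyOfFiniteType.isLocallyNoetherian g
  haveI : Mono p := MorphismProperty.of_isPullback (P := MorphismProperty.monomorphisms Scheme.{u})
    hsq (inferInstanceAs (Mono f))
  haveI : QuasiCompact p := MorphismProperty.of_isPullback (P := @QuasiCompact) hsq inferInstance
  have hrefl : ∀ w v' : ↥P, p.base w ⤳ p.base v' → w ⤳ v' :=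
    fun w v' h => specializes_of_dvrLift p hbp v' w h
  have hWclosed : IsClosed (W : Set ↥P) := by
    have : (W : Set ↥P) = (V : Set ↥P)ᶜ := by
      ext z
      constructor
      · intro hzW hzV
        have : z ∈ (V ⊓ W : P.Opens) := ⟨hzV, hzW⟩
        rw [hVW.inf_eq_bot] at this
        exact this
      · intro hzV
        have : z ∈ (V ⊔ W : P.Opens) := by rw [hVW.sup_eq_top]; trivial
        rcases this with h | h
        · exact absurd h hzV
        · exact h
    rw [this]
    exact V.isOpen.isClosed_compl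
  have hu₀ : p.base v.1 ∉ closure (p.base '' (W : Set ↥P)) := by
    intro hmem
    obtain ⟨w, hwW, hsp⟩ := Groth.Agent.Lib.Helper38.QCClosure.exists_specializes_of_mem_closure_image
      p (W : Set ↥P) hWclosed _ hmem
    have hwv : w ⤳ v.1 := hrefl w v.1 hsp
    have hwV : w ∈ V := hwv.mem_open V.isOpen v.2
    have : w ∈ (V ⊓ W : P.Opens) := ⟨hwV, hwW⟩
    rw [hVW.inf_eq_bot] at this
    exact this
  let U' : U.Opens := ⟨(closure (p.base '' (W : Set ↥P)))ᶜ, isClosed_closure.isOpen_compl⟩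
  have hU'V : p ⁻¹ᵁ U' ≤ V := by
    intro z hz
    have : z ∈ (V ⊔ W : P.Opens) := by rw [hVW.sup_eq_top]; trivial
    rcases this with h | h
    · exact h
    · exact absurd (subset_closure (Set.mem_image_of_mem p.base h)) hz
  -- closed immersion over `U'`
  haveI : IsClosedImmersion (V.ι ≫ p) :=
    (IsClosedImmersion.iff_isFinite_and_mono _).mpr ⟨hfin, inferInstance⟩
  have hci : IsClosedImmersion (p ∣_ U') := by
    have h1 : IsClosedImmersion ((V.ι ≫ p) ∣_ U') := inferInstance
    rw [morphismRestrict_comp] at h1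
    haveI : IsIso (V.ι ∣_ (p ⁻¹ᵁ U')) := by
      refine (isIso_iff_isOpenImmersion_and_surjective _).mpr ⟨inferInstance, ⟨?_⟩⟩
      intro z
      refine ⟨⟨⟨z.1, hU'V z.2⟩, z.2⟩, Subtype.ext ?_⟩
      exact (morphismRestrict_base_coe V.ι (p ⁻¹ᵁ U') _).trans rfl
    exact (MorphismProperty.cancel_left_of_respectsIso @IsClosedImmersion _ _).mp h1
  -- the open image of `U'`
  haveI : Flat g := inferInstance
  haveI : LocallyOfFinitePresentation g := inferInstance
  let W₀ : X.Opens := ⟨g.base '' (U' : Set U), g.isOpenMap _ U'.isOpen⟩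
  have hrange : Set.range (U'.ι ≫ g).base ⊆ Set.range W₀.ι.base := by
    rw [Scheme.Opens.range_ι]
    rintro _ ⟨z, rfl⟩
    exact ⟨z.1, z.2, rfl⟩
  let g' : (U' : Scheme.{u}) ⟶ W₀ := IsOpenImmersion.lift W₀.ι (U'.ι ≫ g) hrange
  have hg' : g' ≫ W₀.ι = U'.ι ≫ g := IsOpenImmersion.lift_fac _ _ _
  have hW₀ : IsOpenImmersion W₀.ι := inferInstance
  have hQ : (@Surjective ⊓ @Flat ⊓ @LocallyOfFinitePresentation : MorphismProperty Scheme.{u}) g' := by
    refine ⟨⟨⟨?_⟩, ?_⟩, ?_⟩
    · rintro ⟨_, z, hz, rfl⟩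
      refine ⟨⟨z, hz⟩, Subtype.ext ?_⟩
      have : (g' ≫ W₀.ι).base ⟨z, hz⟩ = (U'.ι ≫ g).base ⟨z, hz⟩ := by rw [hg']
      exact this
    · refine MorphismProperty.of_postcomp (W := @Flat) g' W₀.ι hW₀ ?_
      rw [hg']
      exact (inferInstance : Flat (U'.ι ≫ g))
    · refine MorphismProperty.of_postcomp (W := @LocallyOfFinitePresentation) g' W₀.ι hW₀ ?_
      rw [hg']
      exact (inferInstance : LocallyOfFinitePresentation (U'.ι ≫ g))
  -- the pullback square
  have hrange2 : Set.range ((p ⁻¹ᵁ U').ι ≫ q).base ⊆ Set.range (f ⁻¹ᵁ W₀).ι.base := by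
    rw [Scheme.Opens.range_ι]
    rintro _ ⟨z, rfl⟩
    change f.base (q.base z.1) ∈ W₀
    have : (q ≫ f).base z.1 = (p ≫ g).base z.1 := by rw [hsq.w]
    exact ⟨p.base z.1, z.2, this.symm⟩
  let top : (p ⁻¹ᵁ U' : Scheme.{u}) ⟶ f ⁻¹ᵁ W₀ :=
    IsOpenImmersion.lift (f ⁻¹ᵁ W₀).ι ((p ⁻¹ᵁ U').ι ≫ q) hrange2
  have htop : top ≫ (f ⁻¹ᵁ W₀).ι = (p ⁻¹ᵁ U').ι ≫ q := IsOpenImmersion.lift_fac _ _ _
  have hA : IsPullback p q g f := hsq.flip
  have hB : IsPullback (p ∣_ U') (p ⁻¹ᵁ U').ι U'.ι p := isPullback_morphismRestrict p U'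
  have hAB : IsPullback (p ∣_ U') ((p ⁻¹ᵁ U').ι ≫ q) (U'.ι ≫ g) f := hB.paste_vert hA
  have hC : IsPullback (f ∣_ W₀) (f ⁻¹ᵁ W₀).ι W₀.ι f := isPullback_morphismRestrict f W₀
  rw [← hg', ← htop] at hAB
  have hsq' : IsPullback (p ∣_ U') top g' (f ∣_ W₀) := by
    refine IsPullback.of_bot hAB ?_ hC
    rw [← cancel_mono W₀.ι, Category.assoc, Category.assoc, hg', morphismRestrict_ι,
      morphismRestrict_ι_assoc, reassoc_of% htop, hsq.w]
  have huc : UniversallyClosed (f ∣_ W₀) :=
    MorphismProperty.of_isPullback_of_descendsAlong (P := @UniversallyClosed)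
      (Q := (@Surjective ⊓ @Flat ⊓ @LocallyOfFinitePresentation : MorphismProperty Scheme.{u}))
      hsq' hQ inferInstance
  refine ⟨W₀, ⟨p.base v.1, hu₀, rfl⟩, ?_⟩
  haveI : Mono (f ∣_ W₀) := mono_morphismRestrict f W₀
  haveI : IsProper (f ∣_ W₀) := { }
  exact (IsClosedImmersion.iff_isProper_and_mono _).mpr ⟨inferInstance, inferInstance⟩

set_option backward.isDefEq.respectTransparency false in
/-- Local step: a quasi-compact monomorphism of finite presentation with the DVR lifting
property is a closed immersion over an open neighbourhood of each point of its image. -/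
theorem exists_open_isClosedImmersion {X Y : Scheme.{u}} [IsLocallyNoetherian X] (f : Y ⟶ X)
    [LocallyOfFinitePresentation f] [Mono f] [QuasiCompact f] (hb : DVRLift f) (y₀ : Y) :
    ∃ W₀ : X.Opens, f.base y₀ ∈ W₀ ∧ IsClosedImmersion (f ∣_ W₀) := by
  haveI : LocallyOfFiniteType f := inferInstance
  obtain ⟨U, g, hg, hx₀, V, W, v, hVW, hfin, hv⟩ :=
    exists_etale_isCompl_of_quasiFiniteAt f (x := y₀) rfl (f.quasiFiniteAt y₀)
  obtain ⟨W₀, h1, h2⟩ := aux f (pullback.fst f g) (pullback.snd f g) g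
    (IsPullback.of_hasPullback f g) (DVRLift.baseChange f g hb) V W v hVW hfin
  refine ⟨W₀, ?_, h2⟩
  have : (pullback.fst f g ≫ f).base v.1 = (pullback.snd f g ≫ g).base v.1 := by
    rw [pullback.condition]
  rw [← hv]
  exact this ▸ h1

set_option backward.isDefEq.respectTransparency false in
/-- A quasi-compact monomorphism locally of finite presentation over a locally Noetherian base
with the DVR lifting property is an immersion. -/
theorem isImmersion_of_dvrLift {X Y : Scheme.{u}} [IsLocallyNoetherian X] (f : Y ⟶ X)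
    [LocallyOfFinitePresentation f] [Mono f] [QuasiCompact f] (hb : DVRLift f) :
    IsImmersion f := by
  choose W₀ hmem hci using exists_open_isClosedImmersion f hb
  haveI : MorphismProperty.RespectsRight @IsImmersion @IsOpenImmersion :=
    ⟨fun i hi f hf => by
      haveI : IsOpenImmersion i := hi
      haveI : IsImmersion f := hf
      exact (inferInstance : IsImmersion (f ≫ i))⟩
  refine IsZariskiLocalAtTarget.of_range_subset_iSup (P := @IsImmersion) W₀ ?_ (fun y => ?_)
  · rintro _ ⟨y, rfl⟩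
    exact Opens.mem_iSup.mpr ⟨y, hmem y⟩
  · haveI := hci y
    infer_instance

end Groth.Agent.Lib.Helper25.MonoImm
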