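import Mathlib

/-!
# A dimension one local ring which is integrally closed in a ring where its non-zero-divisors
become units is a discrete valuation ring

Helper lemmas for `Groth.Agent.S9676`.
-/

set_option autoImplicit false
set_option linter.style.haveILetI false

open IsLocalRing Polynomial

namespace Groth.Agent.Lib.Helper25.NormDVR

section L1

variable {R B : Type*} [CommRing R] [CommRing B]

/-- In a reduced ring, an element lying in no minimal prime is a non-zero-divisor. -/
theorem mem_nonZeroDivisors_of_notMem_minimalPrimes [IsReduced R] {s : R}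
    (hs : ∀ p ∈ minimalPrimes R, s ∉ p) : s ∈ nonZeroDivisors R := by
  rw [mem_nonZeroDivisors_iff_right]
  intro t ht
  have : t ∈ sInf (minimalPrimes R) := by
    rw [Ideal.mem_sInf]
    intro p hp
    have hp' : p.IsPrime := hp.1.1
    have : t * s ∈ p := by rw [ht]; exact zero_mem p
    exact (hp'.mem_or_mem this).resolve_right (hs p hp)
  have h2 : sInf (minimalPrimes R) = ⊥ := by
    rw [minimalPrimes, Ideal.sInf_minimalPrimes]
    exact nilradical_eq_zero R
  rw [h2] at this
  exact this

theorem isDomain_of_units [IsNoetherianRing R] [IsLocalRing R] [IsReduced R]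
    (φ : R →+* B) (hinj : Function.Injective φ)
    (hic : ∀ b : B, φ.IsIntegralElem b → b ∈ φ.range)
    (H : ∀ a ∈ nonZeroDivisors R, IsUnit (φ a)) : IsDomain R := by
  classical
  obtain ⟨p, hp⟩ : ∃ p, p ∈ minimalPrimes R := by
    obtain ⟨p, hp, _⟩ := Ideal.exists_minimalPrimes_le (I := (⊥ : Ideal R)) (J := maximalIdeal R)
      bot_le
    exact ⟨p, hp⟩
  have hpp : p.IsPrime := hp.1.1
  have hfin : (minimalPrimes R).Finite := minimalPrimes.finite_of_isNoetherianRing R
  let S : Set (Ideal R) := minimalPrimes R \ {p}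
  have hSfin : S.Finite := hfin.subset Set.sdiff_subset
  let J : Ideal R := hSfin.toFinset.inf id
  have hJle : ∀ p' ∈ S, J ≤ p' := fun p' hp' =>
    Finset.inf_le (f := id) (hSfin.mem_toFinset.mpr hp')
  have hinf : p ⊓ J = ⊥ := by
    have h2 : sInf (minimalPrimes R) = ⊥ := by
      rw [minimalPrimes, Ideal.sInf_minimalPrimes]
      exact nilradical_eq_zero R
    rw [← h2]
    apply le_antisymm
    · apply le_sInf
      intro p' hp'
      by_cases h : p' = p
      · rw [h]; exact inf_le_left
      · exact inf_le_right.trans (hJle p' ⟨hp', h⟩)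
    · refine le_inf (sInf_le hp) (Finset.le_inf fun p' hp' => ?_)
      exact sInf_le (hSfin.mem_toFinset.mp hp').1
  -- `p ⊔ J` is contained in no minimal prime
  have hnot : ¬ ((p ⊔ J : Ideal R) : Set R) ⊆
      ⋃ p' ∈ ((hfin.toFinset : Finset (Ideal R)) : Set (Ideal R)), (p' : Set R) := by
    rw [Ideal.subset_union_prime (R := R) (s := hfin.toFinset) (f := fun p' => p') p p]
    · rintro ⟨p', hp', hle⟩
      rw [Set.Finite.mem_toFinset] at hp'
      by_cases h : p' = p
      · rw [h] at hle
        have hJp : J ≤ p := le_sup_right.trans hle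
        obtain ⟨p'', hp''S', hp''le⟩ := (Ideal.IsPrime.inf_le' hpp).mp hJp
        have hp''S : p'' ∈ S := hSfin.mem_toFinset.mp hp''S'
        change p'' ≤ p at hp''le
        have : p'' = p := by
          apply le_antisymm hp''le
          exact hp.2 ⟨hp''S.1.1.1, bot_le⟩ hp''le
        exact hp''S.2 this
      · have hpp' : p ≤ p' := le_sup_left.trans hle
        have : p' = p := le_antisymm (hp'.2 ⟨hpp, bot_le⟩ hpp') hpp'
        exact h this
    · intro i hi _ _
      rw [Set.Finite.mem_toFinset] at hi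
      exact hi.1.1
  rw [Set.not_subset] at hnot
  obtain ⟨s, hs, hsn⟩ := hnot
  have hsn' : ∀ p' ∈ minimalPrimes R, s ∉ p' := by
    intro p' hp' hsp'
    apply hsn
    exact Set.mem_biUnion (show p' ∈ ((hfin.toFinset : Finset (Ideal R)) : Set (Ideal R)) from
      Finset.mem_coe.mpr ((Set.Finite.mem_toFinset hfin).mpr hp')) hsp'
  obtain ⟨u, hu, v, hv, rfl⟩ := Submodule.mem_sup.mp hs
  have hnzd : u + v ∈ nonZeroDivisors R := mem_nonZeroDivisors_of_notMem_minimalPrimes hsn'
  have huv : u * v = 0 := by
    have : u * v ∈ p ⊓ J := ⟨Ideal.mul_mem_right _ _ hu, Ideal.mul_mem_left _ _ hv⟩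
    rw [hinf] at this
    exact this
  obtain ⟨w, hw⟩ := H _ hnzd
  let e : B := φ u * ↑w⁻¹
  have hwe : e * φ (u + v) = φ u := by
    rw [← hw]
    simp only [e, mul_assoc, Units.inv_mul, mul_one]
  have hus : φ u * φ u = φ u * φ (u + v) := by
    rw [← map_mul, ← map_mul, mul_add, huv, add_zero]
  have he : e * e = e := by
    have : e * e = φ u * φ u * (↑w⁻¹ * ↑w⁻¹) := by simp only [e]; ring
    rw [this, hus, ← hw]
    simp only [e]
    rw [mul_assoc, ← mul_assoc (w : B), Units.mul_inv, one_mul]
  have hint : φ.IsIntegralElem e := by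
    refine ⟨X ^ 2 - X, monic_X_pow_sub (by simp), ?_⟩
    rw [eval₂_sub, eval₂_X_pow, eval₂_X, pow_two, he, sub_self]
  obtain ⟨r, hr⟩ := hic e hint
  have hrs : r * (u + v) = u := by
    apply hinj
    rw [map_mul, hr, hwe]
  have hrr : r * r = r := by
    apply hinj
    rw [map_mul, hr, he]
  have hr01 : r = 0 ∨ r = 1 := by
    have hid : IsIdempotentElem r := hrr
    rcases IsLocalRing.isUnit_or_isUnit_one_sub_self r with h | h
    · right
      have := hid
      rw [IsIdempotentElem] at this
      exact (IsUnit.mul_eq_left h).mp this ▸ rfl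
    · left
      have h1 : (1 - r) * r = 0 := by rw [sub_mul, one_mul, hrr, sub_self]
      exact (IsUnit.mul_right_eq_zero h).mp h1
  rcases hr01 with rfl | rfl
  · -- `u = 0`, so `v` is a non-zero-divisor in `J`, killing `p`
    rw [zero_mul] at hrs
    rw [← hrs, zero_add] at hnzd
    have hpbot : p = ⊥ := by
      rw [eq_bot_iff]
      intro x hx
      have : x * v ∈ p ⊓ J := ⟨Ideal.mul_mem_right _ _ hx, Ideal.mul_mem_left _ _ hv⟩
      rw [hinf] at this
      exact (mem_nonZeroDivisors_iff_right.mp hnzd) x this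
    rw [hpbot] at hpp
    have : IsDomain (R ⧸ (⊥ : Ideal R)) := Ideal.Quotient.isDomain ⊥
    exact (RingEquiv.quotientBot R).symm.toMulEquiv.isDomain _
  · rw [one_mul] at hrs
    exfalso
    apply hsn' p hp
    have : v = 0 := by
      have := hrs
      rwa [add_eq_left] at this
    rw [this, add_zero]
    exact hu

theorem isIntegrallyClosed_of_units [IsDomain R] [Nontrivial B]
    (φ : R →+* B)
    (hic : ∀ b : B, φ.IsIntegralElem b → b ∈ φ.range)
    (H : ∀ a ∈ nonZeroDivisors R, IsUnit (φ a)) : IsIntegrallyClosed R := by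
  let K := FractionRing R
  let ψ : K →+* B := IsLocalization.lift (M := nonZeroDivisors R) (g := φ) (fun y => H y y.2)
  have hψ : ψ.comp (algebraMap R K) = φ := IsLocalization.lift_comp _
  rw [isIntegrallyClosed_iff K]
  intro x hx
  obtain ⟨P, hP, hPx⟩ := hx
  have hint : φ.IsIntegralElem (ψ x) := by
    refine ⟨P, hP, ?_⟩
    have := congrArg ψ hPx
    rw [Polynomial.hom_eval₂, hψ, map_zero] at this
    exact this
  obtain ⟨r, hr⟩ := hic _ hint
  refine ⟨r, ?_⟩
  apply ψ.injective
  rw [← hr, ← hψ]
  rfl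

theorem isDVR_of_units [IsNoetherianRing R] [IsLocalRing R] [IsDomain R] [Nontrivial B]
    (hdim : ringKrullDim R = 1) (φ : R →+* B)
    (hic : ∀ b : B, φ.IsIntegralElem b → b ∈ φ.range)
    (H : ∀ a ∈ nonZeroDivisors R, IsUnit (φ a)) : IsDiscreteValuationRing R := by
  have hic' : IsIntegrallyClosed R := isIntegrallyClosed_of_units φ hic H
  have hnf : ¬ IsField R := by
    intro hf
    have := ringKrullDim_eq_zero_of_isField hf
    rw [hdim] at this
    exact one_ne_zero this
  have hle : Ring.KrullDimLE 1 R := by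
    rw [Ring.krullDimLE_iff, hdim]
    rfl
  have h3 : IsIntegrallyClosed R ∧ ∃! P : Ideal R, P ≠ ⊥ ∧ P.IsPrime := by
    refine ⟨hic', maximalIdeal R, ⟨?_, inferInstance⟩, ?_⟩
    · exact isField_iff_maximalIdeal_eq.not.mp hnf
    · rintro P ⟨hP0, hPp⟩
      exact IsLocalRing.eq_maximalIdeal (hPp.isMaximal_of_ne_bot hP0)
  exact ((IsDiscreteValuationRing.TFAE R hnf).out 0 3).mpr h3

end L1

section L2

variable {A' B R B' : Type*} [CommRing A'] [CommRing B] [Algebra A' B] [CommRing R] [Algebra A' R]
  [CommRing B'] [Algebra B B'] [Algebra A' B'] [IsScalarTower A' B B'] [Algebra R B']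
  [IsScalarTower A' R B']

theorem exists_isDVR_of_integrallyClosed_localization
    (q : Ideal A') [q.IsPrime] [IsLocalization.AtPrime R q]
    [IsLocalization (Algebra.algebraMapSubmonoid B q.primeCompl) B']
    [IsNoetherianRing R] [IsReduced R] (hdim : ringKrullDim R = 1)
    (hinj : Function.Injective (algebraMap A' B))
    (hic : ∀ b : B, IsIntegral A' b → b ∈ (algebraMap A' B).range)
    (H : ∀ a : A', algebraMap A' R a ∈ nonZeroDivisors R →
       ∃ b : B, ∃ g : A', g ∉ q ∧ algebraMap A' B a * b = algebraMap A' B g) :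
    ∃ _ : IsDomain R, IsDiscreteValuationRing R := by
  have hloc : IsLocalRing R := IsLocalization.AtPrime.isLocalRing R q
  let M := q.primeCompl
  let φ : R →+* B' := algebraMap R B'
  have hφ : ∀ a : A', φ (algebraMap A' R a) = algebraMap B B' (algebraMap A' B a) := by
    intro a
    change algebraMap R B' (algebraMap A' R a) = _
    rw [← IsScalarTower.algebraMap_apply, IsScalarTower.algebraMap_apply A' B B']
  have hunit : ∀ t : A', t ∉ q → IsUnit (algebraMap B B' (algebraMap A' B t)) := fun t ht =>
    IsLocalization.map_units B' (⟨algebraMap A' B t, t, ht, rfl⟩ :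
      Algebra.algebraMapSubmonoid B q.primeCompl)
  have hunitR : ∀ t : A', t ∉ q → IsUnit (algebraMap A' R t) := fun t ht =>
    IsLocalization.map_units R (⟨t, ht⟩ : q.primeCompl)
  -- injectivity
  have hφinj : Function.Injective φ := by
    rw [injective_iff_map_eq_zero]
    intro x hx
    obtain ⟨a, t, rfl⟩ := IsLocalization.exists_mk'_eq q.primeCompl x
    have h1 : φ (algebraMap A' R a) = 0 := by
      rw [← IsLocalization.mk'_spec R a t, map_mul, hx, zero_mul]
    rw [hφ] at h1
    obtain ⟨⟨_, t', ht', rfl⟩, h2⟩ :=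
      (IsLocalization.map_eq_zero_iff (Algebra.algebraMapSubmonoid B q.primeCompl) B' _).mp h1
    have h3 : t' * a = 0 := by
      apply hinj
      rw [map_mul, map_zero]
      exact h2
    have h4 : algebraMap A' R a = 0 := by
      have := congrArg (algebraMap A' R) h3
      rw [map_mul, map_zero] at this
      exact (hunitR t' ht').mul_right_eq_zero.mp this
    rw [IsLocalization.mk'_eq_zero_iff]
    exact ⟨⟨t', ht'⟩, h3⟩
  -- integrally closed
  have hφic : ∀ b : B', φ.IsIntegralElem b → b ∈ φ.range := by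
    intro b' hb'
    have hb'' : IsIntegral R b' := hb'
    obtain ⟨⟨m, hm⟩, hmb⟩ :=
      IsIntegral.exists_multiple_integral_of_isLocalization q.primeCompl b' hb''
    obtain ⟨⟨b₀, ⟨_, m₁, hm₁, rfl⟩⟩, hb₀⟩ :=
      IsLocalization.surj (Algebra.algebraMapSubmonoid B q.primeCompl) b'
    change b' * algebraMap B B' (algebraMap A' B m₁) = algebraMap B B' b₀ at hb₀
    have h1 : IsIntegral A' (algebraMap B B' (m • b₀)) := by
      have : algebraMap B B' (m • b₀) = m₁ • (m • b') := by
        rw [Algebra.smul_def, map_mul, ← hb₀, Algebra.smul_def, Algebra.smul_def,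
          IsScalarTower.algebraMap_apply A' B B', IsScalarTower.algebraMap_apply A' B B']
        ring
      rw [this]
      exact IsIntegral.smul m₁ hmb
    obtain ⟨m₃, hm₃, h3⟩ := IsLocalization.exists_isIntegral_smul_of_isIntegral_map (Sₘ := B')
      q.primeCompl (x := m • b₀) h1
    obtain ⟨a₀, ha₀⟩ := hic _ h3
    have ht : m₃ * m * m₁ ∈ q.primeCompl := mul_mem (mul_mem hm₃ hm) hm₁
    refine ⟨IsLocalization.mk' R a₀ ⟨m₃ * m * m₁, ht⟩, ?_⟩
    have hu := hunit (m₃ * m * m₁) ht
    apply hu.mul_left_injective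
    have h5 : φ (IsLocalization.mk' R a₀ ⟨m₃ * m * m₁, ht⟩) *
        algebraMap B B' (algebraMap A' B (m₃ * m * m₁)) = algebraMap B B' (algebraMap A' B a₀) := by
      rw [← hφ, ← hφ, ← map_mul]
      congr 1
      exact IsLocalization.mk'_spec R a₀ ⟨m₃ * m * m₁, ht⟩
    change _ * algebraMap B B' (algebraMap A' B (m₃ * m * m₁)) =
      _ * algebraMap B B' (algebraMap A' B (m₃ * m * m₁))
    rw [h5, ha₀, Algebra.smul_def, Algebra.smul_def, map_mul, map_mul, map_mul, map_mul, map_mul,
      map_mul, ← hb₀]
    ring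
  -- units
  have hφH : ∀ a ∈ nonZeroDivisors R, IsUnit (φ a) := by
    intro a' ha'
    obtain ⟨a, t, rfl⟩ := IsLocalization.exists_mk'_eq q.primeCompl a'
    have h1 : algebraMap A' R a ∈ nonZeroDivisors R := by
      rw [← IsLocalization.mk'_spec R a t]
      exact mul_mem ha' (hunitR t t.2).mem_nonZeroDivisors
    obtain ⟨b, g, hg, hbg⟩ := H a h1
    have h2 : IsUnit (algebraMap B B' (algebraMap A' B a)) := by
      have := hunit g hg
      rw [← hbg, map_mul] at this
      exact isUnit_of_mul_isUnit_left this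
    rw [← hφ, ← IsLocalization.mk'_spec R a t, map_mul] at h2
    exact isUnit_of_mul_isUnit_left h2
  have hdom : IsDomain R := isDomain_of_units φ hφinj hφic hφH
  have : Nontrivial B' := hφinj.nontrivial
  exact ⟨hdom, isDVR_of_units hdim φ hφic hφH⟩

end L2

section L3

/-- A ring map factoring as an isomorphism onto an integral closure, followed by the inclusion
and an isomorphism, is injective with integrally closed image. -/
theorem integrallyClosed_of_factor {A B₁ A' B : Type*} [CommRing A] [CommRing B₁] [Algebra A B₁]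
    [CommRing A'] [CommRing B]
    (ι : A' ≃+* integralClosure A B₁) (θ : B₁ ≃+* B) (ψ : A' →+* B)
    (hψ : ∀ x, ψ x = θ (ι x : B₁)) :
    Function.Injective ψ ∧ ∀ b : B, ψ.IsIntegralElem b → b ∈ ψ.range := by
  constructor
  · intro x₁ x₂ h
    rw [hψ, hψ] at h
    exact ι.injective (Subtype.ext (θ.injective h))
  · rintro b ⟨P, hP, hPb⟩
    let g : A' →+* B₁ := (algebraMap (integralClosure A B₁) B₁).comp (ι : A' →+* integralClosure A B₁)
    have hg : (θ : B₁ →+* B).comp g = ψ := by
      ext x
      exact (hψ x).symm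
    have h1 : IsIntegral (integralClosure A B₁) (θ.symm b) := by
      refine ⟨P.map (ι : A' →+* integralClosure A B₁), hP.map _, ?_⟩
      rw [eval₂_map]
      apply θ.injective
      change (θ : B₁ →+* B) (eval₂ g (θ.symm b) P) = θ 0
      rw [Polynomial.hom_eval₂, hg, map_zero]
      change eval₂ ψ (θ (θ.symm b)) P = 0
      rw [θ.apply_symm_apply]
      exact hPb
    have h2 : IsIntegral A (θ.symm b) := isIntegral_trans _ h1
    refine ⟨ι.symm ⟨θ.symm b, h2⟩, ?_⟩
    rw [hψ, ι.apply_symm_apply]
    exact θ.apply_symm_apply b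

end L3

end Groth.Agent.Lib.Helper25.NormDVR
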