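import Mathlib
import Groth.Agent.Lib.Helper25.NormDVR
import Groth.Agent.S9675

/-!
# Geometric input for `Groth.Agent.S9676`
-/

set_option autoImplicit false
set_option linter.style.haveILetI false

universe u

open CategoryTheory CategoryTheory.Limits AlgebraicGeometry IsLocalRing Topology

namespace Groth.Agent.Lib.Helper25.NormDVR2

/-- A constructible subset of a prime spectrum containing all generizations of a point is a
neighbourhood of that point. -/
lemma mem_nhds_of_isConstructible {R : Type u} [CommRing R] {s : Set (PrimeSpectrum R)}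
    (hs : IsConstructible s) (y : PrimeSpectrum R) (hy : ∀ z, z ⤳ y → z ∈ s) : s ∈ 𝓝 y := by
  obtain ⟨S, _, f, hf⟩ := PrimeSpectrum.exists_range_eq_of_isConstructible hs.compl
  rw [← mem_interior_iff_mem_nhds, ← compl_compl s, interior_compl, Set.mem_compl_iff, ← hf,
    PrimeSpectrum.closure_range_comap]
  intro hmem
  have hle : (⊥ : Ideal S).comap f ≤ y.asIdeal := hmem
  obtain ⟨q, -, hq, hqle⟩ := y.asIdeal.exists_ideal_comap_le_prime ⊥ hle
  have hspec : (PrimeSpectrum.comap f ⟨q, hq⟩) ⤳ y :=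
    (PrimeSpectrum.le_iff_specializes _ _).mp hqle
  have : PrimeSpectrum.comap f ⟨q, hq⟩ ∈ sᶜ := hf ▸ ⟨_, rfl⟩
  exact this (hy _ hspec)

set_option backward.isDefEq.respectTransparency false in
/-- The geometric core: if `x'` is a point of `N` with one-dimensional local ring outside the image
of a finitely presented quasi-compact `τ : Y ⟶ N`, then every section `a` on an affine
neighbourhood `W` whose germ at `x'` is a non-zero-divisor becomes invertible on the preimage of a
smaller basic open neighbourhood of `x'`. -/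
theorem exists_unit_witness {N Y : Scheme.{u}} (τ : Y ⟶ N) [LocallyOfFinitePresentation τ]
    [QuasiCompact τ] [QuasiSeparated τ] {W : N.Opens} (hW : IsAffineOpen W) (x' : N)
    (hx'W : x' ∈ W) (hx' : x' ∉ Set.range τ)
    (hdim : Ring.KrullDimLE 1 (N.presheaf.stalk x'))
    (a : Γ(N, W)) (ha : N.presheaf.germ W x' hx'W a ∈ nonZeroDivisors (N.presheaf.stalk x')) :
    ∃ (b : Γ(Y, τ ⁻¹ᵁ W)) (g : Γ(N, W)), g ∉ (hW.primeIdealOf ⟨x', hx'W⟩).asIdeal ∧
      (τ.app W).hom a * b = (τ.app W).hom g := by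
  -- the restriction of `τ` over `W`, as a morphism to `Spec Γ(N, W)`
  let h₀ : (τ ⁻¹ᵁ W : Scheme.{u}) ⟶ Spec Γ(N, W) := (τ ∣_ W) ≫ hW.isoSpec.hom
  have fac : h₀ ≫ hW.fromSpec = (τ ⁻¹ᵁ W).ι ≫ τ := by
    rw [Category.assoc, hW.isoSpec_hom_fromSpec, morphismRestrict_ι]
  have hE : IsConstructible (Set.range h₀) := by
    rw [← Set.image_univ]
    exact h₀.isConstructible_image IsConstructible.univ
  let y : PrimeSpectrum Γ(N, W) := hW.primeIdealOf ⟨x', hx'W⟩
  have hy : hW.fromSpec y = x' := hW.fromSpec_primeIdealOf ⟨x', hx'W⟩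
  letI : Algebra Γ(N, W) (N.presheaf.stalk x') := (N.presheaf.germ W x' hx'W).hom.toAlgebra
  have hloc : IsLocalization.AtPrime (N.presheaf.stalk x') y.asIdeal :=
    hW.isLocalization_stalk ⟨x', hx'W⟩
  have hlocal : IsLocalRing (N.presheaf.stalk x') := inferInstance
  -- the constructible set
  let s : Set (PrimeSpectrum Γ(N, W)) :=
    (Set.range h₀ ∩ ((PrimeSpectrum.basicOpen a : TopologicalSpace.Opens _) : Set _)ᶜ)ᶜ
  have hs : IsConstructible s :=
    (hE.inter PrimeSpectrum.isConstructible_basicOpen.compl).compl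
  have hmem : s ∈ 𝓝 y := by
    refine mem_nhds_of_isConstructible hs y fun z hz => ?_
    rintro ⟨⟨w, hw⟩, hza⟩
    have hza' : a ∈ z.asIdeal := by
      by_contra h
      exact hza h
    have hle : z.asIdeal ≤ y.asIdeal := (PrimeSpectrum.le_iff_specializes z y).mpr hz
    by_cases hzy : z = y
    · apply hx'
      refine ⟨w.1, ?_⟩
      rw [← hy, ← hzy, ← hw]
      exact congr(($fac).base w).symm
    · -- `z` gives a minimal prime of the stalk containing the germ of `a`
      have hdisj : Disjoint (y.asIdeal.primeCompl : Set Γ(N, W)) (z.asIdeal : Set Γ(N, W)) := by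
        rw [Set.disjoint_left]
        intro t ht htz
        exact ht (hle htz)
      let P : Ideal (N.presheaf.stalk x') :=
        Ideal.map (algebraMap Γ(N, W) (N.presheaf.stalk x')) z.asIdeal
      have hPp : P.IsPrime :=
        IsLocalization.isPrime_of_isPrime_disjoint y.asIdeal.primeCompl _ _ z.2 hdisj
      have hPc : P.under Γ(N, W) = z.asIdeal :=
        IsLocalization.under_map_of_isPrime_disjoint y.asIdeal.primeCompl _ z.2 hdisj
      rcases Ring.krullDimLE_one_iff.mp hdim P hPp with hPmin | hPmax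
      · have hd := Ideal.disjoint_nonZeroDivisors_of_mem_minimalPrimes hPmin
        rw [Set.disjoint_left] at hd
        exact hd (Ideal.mem_map_of_mem _ hza') ha
      · apply hzy
        have h1 : P = maximalIdeal (N.presheaf.stalk x') := IsLocalRing.eq_maximalIdeal hPmax
        have h2 := IsLocalization.AtPrime.under_maximalIdeal (N.presheaf.stalk x') y.asIdeal
        rw [← h1] at h2
        exact PrimeSpectrum.ext (hPc.symm.trans h2)
  obtain ⟨_, ⟨_, ⟨g, rfl⟩, rfl⟩, hyg, hgs⟩ :=
    PrimeSpectrum.isBasis_basic_opens.exists_subset_of_mem_open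
      (mem_interior_iff_mem_nhds.mpr hmem) isOpen_interior
  have hgy : g ∉ y.asIdeal := hyg
  -- the basic open of `ψ g` is contained in that of `ψ a`
  have hle : Y.basicOpen ((τ.app W).hom g) ≤ Y.basicOpen ((τ.app W).hom a) := by
    intro y₁ hy₁
    have hy₁W : y₁ ∈ τ ⁻¹ᵁ W := Y.basicOpen_le _ hy₁
    let w : (τ ⁻¹ᵁ W : Scheme.{u}) := ⟨y₁, hy₁W⟩
    have hτw : hW.fromSpec (h₀ w) = τ y₁ := congr(($fac).base w)
    have h1 : y₁ ∈ τ ⁻¹ᵁ N.basicOpen g := by
      rw [Scheme.preimage_basicOpen]; exact hy₁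
    have h2 : h₀ w ∈ hW.fromSpec ⁻¹ᵁ N.basicOpen g := by
      change hW.fromSpec (h₀ w) ∈ N.basicOpen g
      rw [hτw]; exact h1
    rw [hW.fromSpec_preimage_basicOpen] at h2
    have h3 : h₀ w ∈ s := interior_subset (hgs h2)
    have h4 : h₀ w ∈ PrimeSpectrum.basicOpen a := by
      by_contra h
      exact h3 ⟨⟨w, rfl⟩, h⟩
    rw [← hW.fromSpec_preimage_basicOpen] at h4
    have h5 : τ y₁ ∈ N.basicOpen a := by
      rw [← hτw]; exact h4
    have h6 : y₁ ∈ τ ⁻¹ᵁ N.basicOpen a := h5
    rw [Scheme.preimage_basicOpen] at h6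
    exact h6
  have hc : IsCompact (τ ⁻¹ᵁ W).1 := τ.isCompact_preimage hW.isCompact
  have hqs : IsQuasiSeparated (τ ⁻¹ᵁ W).1 := τ.isQuasiSeparated_preimage hW.isQuasiSeparated
  -- `ψ a` is a unit on `D(ψ g)`
  let ρ : Γ(Y, τ ⁻¹ᵁ W) →+* Γ(Y, Y.basicOpen ((τ.app W).hom g)) :=
    (Y.presheaf.map (homOfLE (Y.basicOpen_le ((τ.app W).hom g))).op).hom
  have hunit : IsUnit (ρ ((τ.app W).hom a)) := by
    apply Y.toRingedSpace.isUnit_of_isUnit_germ
    intro y₁ hy₁
    have := (Y.mem_basicOpen ((τ.app W).hom a) y₁ (Y.basicOpen_le _ (hle hy₁))).mp (hle hy₁)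
    have h2 := TopCat.Presheaf.germ_res_apply Y.presheaf
      (homOfLE (Y.basicOpen_le ((τ.app W).hom g))) y₁ hy₁ ((τ.app W).hom a)
    exact h2 ▸ this
  obtain ⟨u, hu⟩ := hunit
  obtain ⟨n, b, hb⟩ := exists_eq_pow_mul_of_isCompact_of_isQuasiSeparated Y (τ ⁻¹ᵁ W) hc hqs
    ((τ.app W).hom g) (↑u⁻¹)
  have hb' : ρ b = (ρ ((τ.app W).hom g)) ^ n * ↑u⁻¹ := hb
  have hres : ρ ((τ.app W).hom a * b) = ρ (((τ.app W).hom g) ^ n) := by
    rw [map_mul, map_pow, hb', ← hu, mul_comm _ (↑u⁻¹ : Γ(Y, Y.basicOpen ((τ.app W).hom g))),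
      ← mul_assoc, Units.mul_inv, one_mul]
  obtain ⟨m, hm⟩ := exists_of_res_eq_of_qcqs hc hqs (f := (τ.app W).hom a * b)
    (g := ((τ.app W).hom g) ^ n) (s := (τ.app W).hom g) hres
  refine ⟨((τ.app W).hom g) ^ m * b, g ^ (m + n), ?_, ?_⟩
  · intro h
    exact hgy (y.2.mem_of_pow_mem _ h)
  · rw [map_pow, pow_add, ← hm]
    ring

open Groth.Agent.Lib.Helper25.NormDVR in
set_option backward.isDefEq.respectTransparency false in
/-- **Main theorem**: a point of dimension one of the relative normalization over which the fibre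
is empty has a discrete valuation ring as local ring. -/
theorem exists_isDVR_stalk_normalization {X Y : Scheme.{u}} (f : Y ⟶ X)
    [LocallyOfFiniteType f] [QuasiCompact f] [QuasiSeparated f] [IsReduced Y]
    (hX : ∀ U : X.affineOpens, CAlg.IsNagata Γ(X, U))
    (x' : ↥f.normalization) (hdim : ringKrullDim (f.normalization.presheaf.stalk x') = 1)
    (hx' : x' ∉ Set.range f.toNormalization.base) :
    ∃ _ : IsDomain (f.normalization.presheaf.stalk x'),
      IsDiscreteValuationRing (f.normalization.presheaf.stalk x') := by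
  haveI : IsFinite f.fromNormalization := Groth.Agent.S9675.main9675 f hX
  haveI : IsLocallyNoetherian X := ⟨fun U => (hX U).1⟩
  haveI : IsLocallyNoetherian f.normalization :=
    LocallyOfFiniteType.isLocallyNoetherian f.fromNormalization
  haveI : LocallyOfFiniteType f.toNormalization := by
    haveI : LocallyOfFiniteType (f.toNormalization ≫ f.fromNormalization) := by
      rw [f.toNormalization_fromNormalization]; infer_instance
    exact locallyOfFiniteType_of_comp f.toNormalization f.fromNormalization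
  haveI : LocallyOfFinitePresentation f.toNormalization :=
    LocallyOfFinitePresentation.iff_locallyOfFiniteType.mpr inferInstance
  -- an affine open of the base around the image of `x'`
  obtain ⟨_, ⟨U, hU : IsAffineOpen U, rfl⟩, hxU, -⟩ :=
    X.isBasis_affineOpens.exists_subset_of_mem_open
      (Set.mem_univ (f.fromNormalization x')) isOpen_univ
  have hW : IsAffineOpen (f.fromNormalization ⁻¹ᵁ U) := hU.preimage f.fromNormalization
  have hx'W : x' ∈ f.fromNormalization ⁻¹ᵁ U := hxU
  have key := f.toNormalization_app_preimage ⟨U, hU⟩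
  letI : Algebra Γ(X, U) Γ(Y, f ⁻¹ᵁ U) := (f.app U).hom.toAlgebra
  let ι := (f.normalizationObjIso hU).commRingCatIsoToRingEquiv
  have hopen : f ⁻¹ᵁ U = f.toNormalization ⁻¹ᵁ f.fromNormalization ⁻¹ᵁ U := by
    rw [← Scheme.Hom.comp_preimage, f.toNormalization_fromNormalization]
  let θ := (Y.presheaf.mapIso (eqToIso hopen).symm.op).commRingCatIsoToRingEquiv
  obtain ⟨hinj, hic⟩ := integrallyClosed_of_factor ι θ
    (f.toNormalization.app (f.fromNormalization ⁻¹ᵁ U)).hom (fun x => by
      rw [key]; rfl)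
  -- notation
  let N := f.normalization
  let W : N.Opens := f.fromNormalization ⁻¹ᵁ U
  let A' := Γ(N, W)
  let B := Γ(Y, f.toNormalization ⁻¹ᵁ W)
  let R := N.presheaf.stalk x'
  letI : Algebra A' B := (f.toNormalization.app W).hom.toAlgebra
  letI : Algebra A' R := (N.presheaf.germ W x' hx'W).hom.toAlgebra
  let q : Ideal A' := (hW.primeIdealOf ⟨x', hx'W⟩).asIdeal
  haveI : q.IsPrime := (hW.primeIdealOf ⟨x', hx'W⟩).2
  haveI hloc : IsLocalization.AtPrime R q := hW.isLocalization_stalk ⟨x', hx'W⟩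
  let B' := Localization (Algebra.algebraMapSubmonoid B q.primeCompl)
  have hu : ∀ t : q.primeCompl, IsUnit (algebraMap A' B' t) := by
    intro t
    rw [IsScalarTower.algebraMap_apply A' B B']
    exact IsLocalization.map_units B' (⟨algebraMap A' B t, t, t.2, rfl⟩ :
      Algebra.algebraMapSubmonoid B q.primeCompl)
  let φ : R →+* B' := IsLocalization.lift (M := q.primeCompl) (g := algebraMap A' B') hu
  letI : Algebra R B' := φ.toAlgebra
  haveI : IsScalarTower A' R B' :=
    IsScalarTower.of_algebraMap_eq' (IsLocalization.lift_comp hu).symm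
  haveI : IsNoetherianRing R := inferInstance
  haveI : _root_.IsReduced R := inferInstance
  refine exists_isDVR_of_integrallyClosed_localization (A' := A') (B := B) (R := R) (B' := B') q
    hdim hinj (fun b hb => hic b hb) ?_
  intro a ha
  have hle : Ring.KrullDimLE 1 R := by
    rw [Ring.krullDimLE_iff, hdim]
    rfl
  obtain ⟨b, g, hg, hbg⟩ := exists_unit_witness f.toNormalization hW x' hx'W hx' hle a ha
  exact ⟨b, g, hg, hbg⟩

end Groth.Agent.Lib.Helper25.NormDVR2
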