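import Mathlib
import Groth.Agent.Lib.Helper25.AWN2
import Groth.Agent.Lib.Helper4.IndCriterion
import Groth.Agent.Lib.Helper69.UHRing

/-!
# Universal homeomorphisms of rings are filtered colimits of finitely presented ones

Ring-level spreading-out: if `A → B` is a universal homeomorphism (in the elementary form `IsUH`)
and `P → B` is a map from a finite type `A`-algebra, then there is a finitely generated ideal
`I ≤ ker (P → B)` such that `A → P ⧸ I` is a universal homeomorphism. Combined with helper4's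
factorization criterion this yields Stacks 0EUJ.
-/

set_option autoImplicit false
universe u

open CategoryTheory AlgebraicGeometry TensorProduct

namespace Groth.Agent.Lib.Helper25.UHColim

open Groth.Agent.Lib.Helper25.AWN

section Basic

variable {A B C : Type u} [CommRing A] [CommRing B] [CommRing C]

/-- The kernel of a ring-level universal homeomorphism is nil. -/
theorem IsUH.isNilpotent_of_eq_zero {φ : A →+* B} (h : IsUH φ) {a : A} (ha : φ a = 0) :
    IsNilpotent a := by
  rw [nilpotent_iff_mem_prime]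
  intro J hJ
  obtain ⟨q, hq⟩ := h.surj ⟨J, hJ⟩
  have : a ∈ (PrimeSpectrum.comap φ q).asIdeal := by
    change φ a ∈ q.asIdeal
    rw [ha]
    exact q.asIdeal.zero_mem
  rw [hq] at this
  exact this

/-- If `A → C → B` is a universal homeomorphism and `C → B` is injective, then `A → C` is a
universal homeomorphism. -/
theorem IsUH.of_injective_comp (φ : A →+* C) (ψ : C →+* B) (hψ : Function.Injective ψ)
    (h : IsUH (ψ.comp φ)) : IsUH φ := by
  have hψint : ψ.IsIntegral := RingHom.IsIntegral.tower_top φ ψ h.isIntegral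
  refine ⟨?_, ?_, ?_⟩
  · intro c
    obtain ⟨p, hp, hp0⟩ := h.isIntegral (ψ c)
    refine ⟨p, hp, hψ ?_⟩
    rw [map_zero, Polynomial.hom_eval₂]
    exact hp0
  · intro K _ g₁ g₂ hg
    let Kb := AlgebraicClosure K
    let ι : K →+* Kb := algebraMap K Kb
    have hext : ∀ g : C →+* K, ∃ χ : B →+* Kb, χ.comp ψ = ι.comp g := by
      intro g
      let _ := ψ.toAlgebra
      have : Algebra.IsIntegral C B := ⟨hψint⟩
      have hprime : (RingHom.ker (ι.comp g)).IsPrime := RingHom.ker_isPrime _
      obtain ⟨Q, -, hQ, hQ'⟩ := Ideal.exists_ideal_over_prime_of_isIntegral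
        (RingHom.ker (ι.comp g)) (⊥ : Ideal B) (by
          intro c hc
          rw [Ideal.mem_comap, Ideal.mem_bot] at hc
          have : c = 0 := hψ (by rw [map_zero]; exact hc)
          rw [this]
          exact Ideal.zero_mem _)
      exact exists_extension_of_isIntegral ψ hψint (ι.comp g) Q hQ'
    obtain ⟨χ₁, h₁⟩ := hext g₁
    obtain ⟨χ₂, h₂⟩ := hext g₂
    have : χ₁ = χ₂ := by
      apply h.inj Kb
      rw [← RingHom.comp_assoc, ← RingHom.comp_assoc, h₁, h₂, RingHom.comp_assoc,
        RingHom.comp_assoc, hg]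
    ext c
    apply (algebraMap K Kb).injective
    have e₁ := RingHom.congr_fun h₁ c
    have e₂ := RingHom.congr_fun h₂ c
    simp only [RingHom.comp_apply] at e₁ e₂
    change ι (g₁ c) = ι (g₂ c)
    rw [← e₁, ← e₂, this]
  · intro p
    obtain ⟨r, hr⟩ := h.surj p
    exact ⟨PrimeSpectrum.comap ψ r, hr⟩

end Basic

section Tensor

variable {A C : Type u} [CommRing A] [CommRing C] [Algebra A C]

/-- For a universal homeomorphism `A → C` the elements `c ⊗ 1 - 1 ⊗ c` of `C ⊗[A] C` are
nilpotent. -/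
theorem isNilpotent_tmul_sub (h : IsUH (algebraMap A C)) (c : C) :
    IsNilpotent (c ⊗ₜ[A] (1 : C) - (1 : C) ⊗ₜ[A] c) := by
  rw [nilpotent_iff_mem_prime]
  intro J hJ
  let κ := J.ResidueField
  let hh : C ⊗[A] C →+* κ := algebraMap (C ⊗[A] C) κ
  let g₁ : C →+* κ := hh.comp (Algebra.TensorProduct.includeLeft (R := A) (S := A) (A := C) (B := C)).toRingHom
  let g₂ : C →+* κ := hh.comp (Algebra.TensorProduct.includeRight (R := A) (A := C) (B := C)).toRingHom
  have hg : g₁ = g₂ := by
    apply h.inj κ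
    ext a
    change hh ((algebraMap A C a) ⊗ₜ[A] (1 : C)) = hh ((1 : C) ⊗ₜ[A] (algebraMap A C a))
    congr 1
    rw [Algebra.algebraMap_eq_smul_one, TensorProduct.smul_tmul]
  have h0 : hh (c ⊗ₜ[A] (1 : C) - (1 : C) ⊗ₜ[A] c) = 0 := by
    rw [map_sub, sub_eq_zero]
    exact RingHom.congr_fun hg c
  exact Ideal.algebraMap_residueField_eq_zero.mp h0

end Tensor

section Spread

variable {P T : Type*} [CommRing P] [CommRing T]

lemma exists_fg_le_of_mem_map (g : P →+* T) (K : Ideal P) (a : T) (ha : a ∈ K.map g) :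
    ∃ I : Ideal P, I.FG ∧ I ≤ K ∧ a ∈ I.map g := by
  unfold Ideal.map at ha
  induction ha using Submodule.span_induction with
  | mem x hx =>
    obtain ⟨k, hk, rfl⟩ := hx
    refine ⟨Ideal.span {k}, Submodule.fg_span (Set.finite_singleton k), ?_, ?_⟩
    · rw [Ideal.span_le]
      intro y hy
      rw [Set.mem_singleton_iff] at hy
      rw [hy]
      exact hk
    · exact Ideal.mem_map_of_mem g (Ideal.subset_span rfl)
  | zero => exact ⟨⊥, Submodule.fg_bot, bot_le, Ideal.zero_mem _⟩
  | add x y _ _ hx hy =>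
    obtain ⟨I₁, h1, h2, h3⟩ := hx
    obtain ⟨I₂, h4, h5, h6⟩ := hy
    refine ⟨I₁ ⊔ I₂, Submodule.FG.sup h1 h4, sup_le h2 h5, ?_⟩
    exact Ideal.add_mem _ (Ideal.map_mono le_sup_left h3) (Ideal.map_mono le_sup_right h6)
  | smul r x _ hx =>
    obtain ⟨I₁, h1, h2, h3⟩ := hx
    exact ⟨I₁, h1, h2, Ideal.mul_mem_left _ r h3⟩

lemma exists_fg_le_of_mem_map_sup (g g' : P →+* T) (K : Ideal P) (t : T)
    (ht : t ∈ K.map g ⊔ K.map g') :
    ∃ I : Ideal P, I.FG ∧ I ≤ K ∧ t ∈ I.map g ⊔ I.map g' := by
  obtain ⟨a, ha, b, hb, rfl⟩ := Submodule.mem_sup.mp ht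
  obtain ⟨I₁, h1, h2, h3⟩ := exists_fg_le_of_mem_map g K a ha
  obtain ⟨I₂, h4, h5, h6⟩ := exists_fg_le_of_mem_map g' K b hb
  refine ⟨I₁ ⊔ I₂, Submodule.FG.sup h1 h4, sup_le h2 h5, ?_⟩
  exact Ideal.add_mem _ (Ideal.mem_sup_left (Ideal.map_mono le_sup_left h3))
    (Ideal.mem_sup_right (Ideal.map_mono le_sup_right h6))

end Spread

section Main

variable {A P B : Type u} [CommRing A] [CommRing P] [CommRing B] [Algebra A P] [Algebra A B]

/-- the image `P ⧸ ker f` of `f : P → B` is again a universal homeomorphism over `A`. -/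
theorem isUH_quotient_ker (f : P →ₐ[A] B) (hB : IsUH (algebraMap A B)) :
    IsUH (algebraMap A (P ⧸ RingHom.ker (f : P →+* B))) := by
  apply IsUH.of_injective_comp (algebraMap A (P ⧸ RingHom.ker (f : P →+* B)))
    (RingHom.kerLift (f : P →+* B)) (RingHom.kerLift_injective _)
  have : (RingHom.kerLift (f : P →+* B)).comp (algebraMap A (P ⧸ RingHom.ker (f : P →+* B))) =
      algebraMap A B := by
    ext a
    change (RingHom.kerLift (f : P →+* B)) (Ideal.Quotient.mk _ (algebraMap A P a)) = _
    rw [RingHom.kerLift_mk]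
    exact f.commutes a
  rw [this]
  exact hB

/-- Per-element spreading out: integrality and nilpotence of `x ⊗ 1 - 1 ⊗ x` hold modulo a
finitely generated subideal of the kernel. -/
theorem exists_fg_elem (f : P →ₐ[A] B) (hB : IsUH (algebraMap A B)) (x : P) :
    ∃ I : Ideal P, I.FG ∧ I ≤ RingHom.ker (f : P →+* B) ∧
      (∃ p : Polynomial A, p.Monic ∧ Polynomial.aeval x p ∈ I) ∧
      ∃ N : ℕ, (x ⊗ₜ[A] (1 : P) - (1 : P) ⊗ₜ[A] x) ^ N ∈
        I.map (Algebra.TensorProduct.includeLeft : P →ₐ[A] P ⊗[A] P) ⊔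
        I.map (Algebra.TensorProduct.includeRight : P →ₐ[A] P ⊗[A] P) := by
  set K := RingHom.ker (f : P →+* B) with hKdef
  -- integrality
  obtain ⟨p, hp, hp0⟩ := hB.isIntegral (f x)
  have hpK : Polynomial.aeval x p ∈ K := by
    rw [hKdef, RingHom.mem_ker]
    change f (Polynomial.aeval x p) = 0
    rw [← Polynomial.aeval_algHom_apply]
    exact hp0
  -- nilpotence
  have hK := isUH_quotient_ker f hB
  obtain ⟨N, hN⟩ := isNilpotent_tmul_sub hK (Ideal.Quotient.mk K x)
  let m : P →ₐ[A] P ⧸ K := Ideal.Quotient.mkₐ A K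
  have hm : Function.Surjective m := Ideal.Quotient.mk_surjective
  have hker := Algebra.TensorProduct.map_ker (R := A) (S := A) m m hm hm
  have hmem : (x ⊗ₜ[A] (1 : P) - (1 : P) ⊗ₜ[A] x) ^ N ∈
      RingHom.ker (Algebra.TensorProduct.map m m) := by
    rw [RingHom.mem_ker, map_pow, map_sub]
    simp only [Algebra.TensorProduct.map_tmul, map_one]
    exact hN
  rw [hker] at hmem
  have hkm : RingHom.ker m = K := Ideal.Quotient.mkₐ_ker A K
  rw [hkm] at hmem
  obtain ⟨I, hI1, hI2, hI3⟩ := exists_fg_le_of_mem_map_sup _ _ K _ hmem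
  refine ⟨I ⊔ Ideal.span {Polynomial.aeval x p},
    Submodule.FG.sup hI1 (Submodule.fg_span (Set.finite_singleton _)), ?_, ?_, N, ?_⟩
  · refine sup_le hI2 ?_
    rw [Ideal.span_le]
    intro y hy
    rw [Set.mem_singleton_iff] at hy
    rw [hy]
    exact hpK
  · exact ⟨p, hp, Ideal.mem_sup_right (Ideal.subset_span rfl)⟩
  · have hle : I.map (Algebra.TensorProduct.includeLeft : P →ₐ[A] P ⊗[A] P) ⊔
        I.map (Algebra.TensorProduct.includeRight : P →ₐ[A] P ⊗[A] P) ≤
        (I ⊔ Ideal.span {Polynomial.aeval x p}).map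
          (Algebra.TensorProduct.includeLeft : P →ₐ[A] P ⊗[A] P) ⊔
        (I ⊔ Ideal.span {Polynomial.aeval x p}).map
          (Algebra.TensorProduct.includeRight : P →ₐ[A] P ⊗[A] P) :=
      sup_le_sup (Ideal.map_mono le_sup_left) (Ideal.map_mono le_sup_left)
    exact hle hI3

/-- **Spreading out universal homeomorphisms**: if `A → B` is a universal homeomorphism and
`f : P → B` is a map from a finite type `A`-algebra, there is a finitely generated ideal
`I ≤ ker f` with `A → P ⧸ I` a universal homeomorphism. -/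
theorem exists_fg_isUH [Algebra.FiniteType A P] (f : P →ₐ[A] B) (hB : IsUH (algebraMap A B)) :
    ∃ I : Ideal P, I.FG ∧ I ≤ RingHom.ker (f : P →+* B) ∧ IsUH (algebraMap A (P ⧸ I)) := by
  classical
  obtain ⟨s, hs⟩ := (Algebra.FiniteType.out : (⊤ : Subalgebra A P).FG)
  choose Ix h1 h2 h3 h4 using exists_fg_elem f hB
  let I : Ideal P := s.sup Ix
  have hIle : ∀ x ∈ s, Ix x ≤ I := fun x hx => Finset.le_sup (f := Ix) hx
  have hIK : I ≤ RingHom.ker (f : P →+* B) := Finset.sup_le fun x _ => h2 x
  refine ⟨I, Submodule.fg_finset_sup s Ix fun x _ => h1 x, hIK, ?_⟩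
  have hint : (algebraMap A (P ⧸ I)).IsIntegral := by
    intro z
    obtain ⟨y, rfl⟩ := Ideal.Quotient.mk_surjective z
    have hy : y ∈ Algebra.adjoin A (s : Set P) := by rw [hs]; trivial
    change IsIntegral A (Ideal.Quotient.mk I y)
    induction hy using Algebra.adjoin_induction with
    | mem x hx =>
      obtain ⟨p, hp, hpI⟩ := h3 x
      refine ⟨p, hp, ?_⟩
      have : Polynomial.eval₂ (algebraMap A (P ⧸ I)) (Ideal.Quotient.mk I x) p =
          Ideal.Quotient.mk I (Polynomial.aeval x p) := by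
        rw [Polynomial.aeval_def, Polynomial.hom_eval₂]
        rfl
      rw [this]
      exact Ideal.Quotient.eq_zero_iff_mem.mpr (hIle x hx hpI)
    | algebraMap r => exact isIntegral_algebraMap
    | add x y _ _ hx hy => rw [map_add]; exact hx.add hy
    | mul x y _ _ hx hy => rw [map_mul]; exact hx.mul hy
  refine ⟨hint, ?_, ?_⟩
  · intro L _ g₁ g₂ hg
    let _ : Algebra A L := (g₁.comp (algebraMap A (P ⧸ I))).toAlgebra
    let G₁ : P →ₐ[A] L :=
      { toRingHom := g₁.comp (Ideal.Quotient.mk I)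
        commutes' := fun a => rfl }
    let G₂ : P →ₐ[A] L :=
      { toRingHom := g₂.comp (Ideal.Quotient.mk I)
        commutes' := fun a => (RingHom.congr_fun hg a).symm }
    let H : P ⊗[A] P →ₐ[A] L := Algebra.TensorProduct.productMap G₁ G₂
    have hHker : I.map (Algebra.TensorProduct.includeLeft : P →ₐ[A] P ⊗[A] P) ⊔
        I.map (Algebra.TensorProduct.includeRight : P →ₐ[A] P ⊗[A] P) ≤
        RingHom.ker (H : P ⊗[A] P →+* L) := by
      refine sup_le ?_ ?_
      · rw [Ideal.map_le_iff_le_comap]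
        intro i hi
        rw [Ideal.mem_comap, RingHom.mem_ker]
        change H (i ⊗ₜ[A] (1 : P)) = 0
        rw [Algebra.TensorProduct.productMap_apply_tmul, map_one, mul_one]
        change g₁ (Ideal.Quotient.mk I i) = 0
        rw [Ideal.Quotient.eq_zero_iff_mem.mpr hi, map_zero]
      · rw [Ideal.map_le_iff_le_comap]
        intro i hi
        rw [Ideal.mem_comap, RingHom.mem_ker]
        change H ((1 : P) ⊗ₜ[A] i) = 0
        rw [Algebra.TensorProduct.productMap_apply_tmul, map_one, one_mul]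
        change g₂ (Ideal.Quotient.mk I i) = 0
        rw [Ideal.Quotient.eq_zero_iff_mem.mpr hi, map_zero]
    have hG : G₁ = G₂ := by
      apply AlgHom.ext_of_adjoin_eq_top hs
      intro x hx
      obtain ⟨N, hN⟩ := h4 x
      have hle : (Ix x).map (Algebra.TensorProduct.includeLeft : P →ₐ[A] P ⊗[A] P) ⊔
          (Ix x).map (Algebra.TensorProduct.includeRight : P →ₐ[A] P ⊗[A] P) ≤
          I.map (Algebra.TensorProduct.includeLeft : P →ₐ[A] P ⊗[A] P) ⊔
          I.map (Algebra.TensorProduct.includeRight : P →ₐ[A] P ⊗[A] P) :=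
        sup_le_sup (Ideal.map_mono (hIle x hx)) (Ideal.map_mono (hIle x hx))
      have hN' := hHker (hle hN)
      rw [RingHom.mem_ker] at hN'
      change H ((x ⊗ₜ[A] (1 : P) - (1 : P) ⊗ₜ[A] x) ^ N) = 0 at hN'
      rw [map_pow, map_sub, Algebra.TensorProduct.productMap_apply_tmul,
        Algebra.TensorProduct.productMap_apply_tmul, map_one, map_one, mul_one, one_mul] at hN'
      exact sub_eq_zero.mp (eq_zero_of_pow_eq_zero hN')
    apply Ideal.Quotient.ringHom_ext
    exact congrArg (fun G : P →ₐ[A] L => (G : P →+* L)) hG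
  · apply comap_surjective_of_isIntegral _ hint
    intro a ha
    apply IsUH.isNilpotent_of_eq_zero hB
    have h5 : algebraMap A P a ∈ I := Ideal.Quotient.eq_zero_iff_mem.mp ha
    have h6 := hIK h5
    rw [RingHom.mem_ker] at h6
    rw [← f.commutes a]
    exact h6

open Groth.Agent.Lib.Helper69.UHRing in
/-- Trivial residue field extensions pass to the spread-out quotient. -/
theorem resTriv_quotient (f : P →ₐ[A] B) (hB : IsUH (algebraMap A B))
    (hres : ResTriv (algebraMap A B)) (I : Ideal P) (hI : I ≤ RingHom.ker (f : P →+* B))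
    (hE : IsUH (algebraMap A (P ⧸ I))) : ResTriv (algebraMap A (P ⧸ I)) := by
  intro Q hQ b
  let β : P ⧸ I →+* B := Ideal.Quotient.lift I (f : P →+* B) (fun i hi => by
    have := hI hi
    rwa [RingHom.mem_ker] at this)
  have hβ : β.comp (algebraMap A (P ⧸ I)) = algebraMap A B := by
    ext a
    change β (Ideal.Quotient.mk I (algebraMap A P a)) = _
    rw [Ideal.Quotient.lift_mk]
    exact f.commutes a
  obtain ⟨q', hq'⟩ := hB.surj (PrimeSpectrum.comap (algebraMap A (P ⧸ I)) ⟨Q, hQ⟩)
  have hQQ' : (⟨Q, hQ⟩ : PrimeSpectrum (P ⧸ I)) = PrimeSpectrum.comap β q' := by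
    apply hE.comap_injective
    rw [← hq']
    change _ = PrimeSpectrum.comap (β.comp (algebraMap A (P ⧸ I))) q'
    rw [hβ]
  have hQeq : Q = q'.asIdeal.comap β := congrArg PrimeSpectrum.asIdeal hQQ'
  obtain ⟨s, hs, a, ha⟩ := hres q'.asIdeal q'.2 (β b)
  refine ⟨s, ?_, a, ?_⟩
  · intro hsQ
    apply hs
    rw [Ideal.mem_comap] at hsQ ⊢
    rw [hQeq, Ideal.mem_comap] at hsQ
    rw [← hβ]
    exact hsQ
  · rw [hQeq, Ideal.mem_comap, map_sub, map_mul]
    have e : ∀ c : A, β (algebraMap A (P ⧸ I) c) = algebraMap A B c :=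
      fun c => RingHom.congr_fun hβ c
    rw [e, e]
    exact ha

end Main

section Classes

open Groth.Agent.Lib.Helper4 Groth.Agent.Lib.Helper69.UHRing

variable (A : Type u) [CommRing A]

/-- finitely presented algebras which are universal homeomorphisms -/
def uhClass : AlgClass A :=
  fun (E : Type u) [CommRing E] [Algebra A E] =>
    Algebra.FinitePresentation A E ∧ IsUH (algebraMap A E)

/-- finitely presented algebras which are universal homeomorphisms with trivial residue field
extensions -/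
def uhResClass : AlgClass A :=
  fun (E : Type u) [CommRing E] [Algebra A E] =>
    Algebra.FinitePresentation A E ∧ IsUH (algebraMap A E) ∧ ResTriv (algebraMap A E)

/-- finitely presented algebras -/
def fpClass : AlgClass A :=
  fun (E : Type u) [CommRing E] [Algebra A E] => Algebra.FinitePresentation A E

variable {A}

theorem isUH_of_algEquiv {E E' : Type u} [CommRing E] [CommRing E'] [Algebra A E] [Algebra A E']
    (e : E ≃ₐ[A] E') (h : IsUH (algebraMap A E)) : IsUH (algebraMap A E') := by
  have : algebraMap A E' = (e : E →+* E').comp (algebraMap A E) := by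
    ext a
    exact (e.commutes a).symm
  rw [this]
  exact h.comp (IsUH.of_bijective e.bijective)

theorem resTriv_of_algEquiv {E E' : Type u} [CommRing E] [CommRing E'] [Algebra A E]
    [Algebra A E'] (e : E ≃ₐ[A] E') (h : ResTriv (algebraMap A E)) :
    ResTriv (algebraMap A E') := by
  intro Q hQ b
  obtain ⟨s, hs, a, ha⟩ := h (Q.comap (e : E →+* E')) (Ideal.IsPrime.comap _) (e.symm b)
  refine ⟨s, ?_, a, ?_⟩
  · intro hsQ
    apply hs
    rw [Ideal.mem_comap] at hsQ ⊢
    rw [Ideal.mem_comap]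
    change e (algebraMap A E s) ∈ Q
    rw [e.commutes]
    exact hsQ
  · rw [Ideal.mem_comap] at ha
    change e (algebraMap A E s * e.symm b - algebraMap A E a) ∈ Q at ha
    rw [map_sub, map_mul, e.commutes, e.commutes, e.apply_symm_apply] at ha
    exact ha

theorem fpClass_isGood : AlgClass.IsGood (fpClass A) where
  iso E E' _ _ _ _ e hE := by
    have : Algebra.FinitePresentation A E := hE
    exact Algebra.FinitePresentation.equiv e
  fp E _ _ hE := hE

theorem uhClass_isGood : AlgClass.IsGood (uhClass A) where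
  iso E E' _ _ _ _ e hE := by
    obtain ⟨h1, h2⟩ := hE
    exact ⟨Algebra.FinitePresentation.equiv e, isUH_of_algEquiv e h2⟩
  fp E _ _ hE := hE.1

theorem uhResClass_isGood : AlgClass.IsGood (uhResClass A) where
  iso E E' _ _ _ _ e hE := by
    obtain ⟨h1, h2, h3⟩ := hE
    exact ⟨Algebra.FinitePresentation.equiv e, isUH_of_algEquiv e h2, resTriv_of_algEquiv e h3⟩
  fp E _ _ hE := hE.1

variable (B : Type u) [CommRing B] [Algebra A B]

theorem hasFactorization_fpClass : HasFactorization (fpClass A) B := by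
  intro P _ _ hP φ
  exact ⟨P, inferInstance, inferInstance, hP, AlgHom.id A P, φ, AlgHom.comp_id φ⟩

variable {B}

theorem hasFactorization_uhClass (hB : IsUH (algebraMap A B)) :
    HasFactorization (uhClass A) B := by
  intro P _ _ hP φ
  obtain ⟨I, hI1, hI2, hI3⟩ := exists_fg_isUH φ hB
  refine ⟨P ⧸ I, inferInstance, inferInstance, ⟨Algebra.FinitePresentation.quotient hI1, hI3⟩,
    Ideal.Quotient.mkₐ A I, Ideal.Quotient.liftₐ I φ (fun i hi => by
      have := hI2 hi
      rwa [RingHom.mem_ker] at this), ?_⟩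
  ext x
  rfl

theorem hasFactorization_uhResClass (hB : IsUH (algebraMap A B))
    (hres : ResTriv (algebraMap A B)) : HasFactorization (uhResClass A) B := by
  intro P _ _ hP φ
  obtain ⟨I, hI1, hI2, hI3⟩ := exists_fg_isUH φ hB
  refine ⟨P ⧸ I, inferInstance, inferInstance,
    ⟨Algebra.FinitePresentation.quotient hI1, hI3, resTriv_quotient φ hB hres I hI2 hI3⟩,
    Ideal.Quotient.mkₐ A I, Ideal.Quotient.liftₐ I φ (fun i hi => by
      have := hI2 hi
      rwa [RingHom.mem_ker] at this), ?_⟩
  ext x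
  rfl

theorem isInd_uhClass (hB : IsUH (algebraMap A B)) : IsInd (uhClass A) B :=
  isInd_of_hasFactorization uhClass_isGood (hasFactorization_uhClass hB)

theorem isInd_uhResClass (hB : IsUH (algebraMap A B)) (hres : ResTriv (algebraMap A B)) :
    IsInd (uhResClass A) B :=
  isInd_of_hasFactorization uhResClass_isGood (hasFactorization_uhResClass hB hres)

theorem isInd_fpClass (B : Type u) [CommRing B] [Algebra A B] : IsInd (fpClass A) B :=
  isInd_of_hasFactorization fpClass_isGood (hasFactorization_fpClass B)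

end Classes

end Groth.Agent.Lib.Helper25.UHColim
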