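import Mathlib
import Groth.Prelude.Def_CAlg2
import Groth.Agent.Lib.Helper25.UHColim

/-!
# Geometrically unibranch domains: the normalization is a universal homeomorphism (ring level)
-/

set_option autoImplicit false
set_option linter.style.haveILetI false
universe u

open IsLocalRing

namespace Groth.Agent.Lib.Helper25.UnibranchUH

open Groth.Agent.Lib.Helper25.AWN

section Abstract

variable {A B N : Type*} [CommRing A] [CommRing B] [Algebra A B] [Algebra.IsIntegral A B]
  [CommRing N] [IsLocalRing N]

/-- uniqueness of the prime over `p` from a "local model" `φ : B → N`. -/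
theorem eq_comap_maximalIdeal (p : Ideal A) [p.IsPrime] (φ : B →+* N)
    (hφ : Function.Injective φ)
    (hi : ∀ z : N, ∃ s : A, s ∉ p ∧ ∃ t : B, φ (algebraMap A B s) * z = φ t)
    (hq₀ : ((maximalIdeal N).comap φ).comap (algebraMap A B) = p)
    (q : Ideal B) [q.IsPrime] (hq : q.comap (algebraMap A B) = p) :
    q = (maximalIdeal N).comap φ := by
  have hle : q ≤ (maximalIdeal N).comap φ := by
    intro t ht
    rw [Ideal.mem_comap]
    by_contra hnot
    have hu : IsUnit (φ t) := by
      by_contra hnu
      exact hnot ((IsLocalRing.mem_maximalIdeal _).mpr hnu)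
    obtain ⟨z, hz⟩ := hu.exists_right_inv
    obtain ⟨s, hs, t', ht'⟩ := hi z
    have h1 : φ (t * t') = φ (algebraMap A B s) := by
      rw [map_mul, ← ht', mul_comm (φ (algebraMap A B s)) z, ← mul_assoc, hz, one_mul]
    have h2 : t * t' = algebraMap A B s := hφ h1
    have h3 : algebraMap A B s ∈ q := h2 ▸ q.mul_mem_right t' ht
    apply hs
    rw [← hq]
    exact h3
  by_contra hne
  have hlt : q < (maximalIdeal N).comap φ := lt_of_le_of_ne hle hne
  have := Ideal.IsIntegral.comap_lt_comap (R := A) hlt
  rw [hq, hq₀] at this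
  exact lt_irrefl _ this

end Abstract

section LocalData

variable {A KA : Type u} [CommRing A] [IsDomain A] [Field KA] [Algebra A KA] [IsFractionRing A KA]

set_option maxHeartbeats 800000 in
/-- The local model at a prime `p` with geometrically unibranch local ring. -/
theorem exists_local_data (p : Ideal A) [p.IsPrime] (R : Type u) [CommRing R] [IsLocalRing R]
    [Algebra A R] [IsLocalization.AtPrime R p] (hR : CAlg2.IsGeomUnibranch R) :
    ∃ (N : Type u) (_ : CommRing N) (_ : IsLocalRing N) (φ : integralClosure A KA →+* N),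
      Function.Injective φ ∧
      (∀ z : N, ∃ s : A, s ∉ p ∧ ∃ t, φ (algebraMap A _ s) * z = φ t) ∧
      ((maximalIdeal N).comap φ).comap (algebraMap A (integralClosure A KA)) = p ∧
      (∀ t : integralClosure A KA, ∃ n : ℕ, ∃ s : A, s ∉ p ∧ ∃ a : A,
        algebraMap A _ s * t ^ (ringExpChar (N ⧸ maximalIdeal N)) ^ n - algebraMap A _ a ∈
          (maximalIdeal N).comap φ) := by
  classical
  haveI hdomRr : IsDomain (CAlg2.red R) := hR.1.1
  haveI hlocN : IsLocalRing (CAlg2.normRed R) := hR.1.2
  haveI : IsDomain R := IsLocalization.isDomain_of_atPrime R p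
  have hnil : nilradical R = ⊥ := nilradical_eq_zero R
  let π : R →+* CAlg2.red R := Ideal.Quotient.mk (nilradical R)
  have hπs : Function.Surjective π := Ideal.Quotient.mk_surjective
  have hπ : Function.Injective π := by
    rw [injective_iff_map_eq_zero]
    intro r hr
    have : r ∈ nilradical R := Ideal.Quotient.eq_zero_iff_mem.mp hr
    rwa [hnil] at this
  have hAR : Function.Injective (algebraMap A R) :=
    IsLocalization.injective R p.primeCompl_le_nonZeroDivisors
  let F := FractionRing (CAlg2.red R)
  let ι : A →+* F := (algebraMap (CAlg2.red R) F).comp (π.comp (algebraMap A R))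
  have hι : Function.Injective ι :=
    (IsFractionRing.injective (CAlg2.red R) F).comp (hπ.comp hAR)
  let ψ : KA →+* F := IsFractionRing.lift hι
  have hψι : ∀ a, ψ (algebraMap A KA a) = ι a := fun a => IsFractionRing.lift_algebraMap hι a
  have hψ : Function.Injective ψ := ψ.injective
  have hcomp : ψ.comp (algebraMap A KA) = ι := RingHom.ext hψι
  -- integrality of images
  have hint : ∀ t : KA, IsIntegral A t → IsIntegral (CAlg2.red R) (ψ t) := by
    rintro t ⟨P, hP, hP0⟩
    refine ⟨P.map (π.comp (algebraMap A R)), hP.map _, ?_⟩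
    rw [Polynomial.eval₂_map]
    change Polynomial.eval₂ ι (ψ t) P = 0
    rw [← hcomp, ← Polynomial.hom_eval₂, hP0, map_zero]
  let φ : integralClosure A KA →+* CAlg2.normRed R :=
    RingHom.codRestrict (ψ.comp (algebraMap (integralClosure A KA) KA))
      (integralClosure (CAlg2.red R) F) (fun t => hint _ t.2)
  have hφval : ∀ t, ((φ t : CAlg2.normRed R) : F) = ψ (t : KA) := fun t => rfl
  have hφinj : Function.Injective φ := by
    intro t t' h
    apply Subtype.ext
    apply hψ
    rw [← hφval, ← hφval, h]
  -- surjectivity of ψ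
  have hψs : Function.Surjective ψ := by
    have key : ∀ x : CAlg2.red R, ∃ t : KA, ψ t = algebraMap (CAlg2.red R) F x := by
      intro x
      obtain ⟨r, rfl⟩ := hπs x
      obtain ⟨a, s, rfl⟩ := IsLocalization.exists_mk'_eq p.primeCompl r
      refine ⟨algebraMap A KA a / algebraMap A KA s, ?_⟩
      have hs0 : ι (s : A) ≠ 0 := by
        intro h0
        have : (s : A) = 0 := hι (by rw [h0, map_zero])
        exact s.2 (this ▸ p.zero_mem)
      rw [map_div₀, hψι, hψι, div_eq_iff hs0]
      change _ = algebraMap (CAlg2.red R) F (π _) * algebraMap (CAlg2.red R) F (π (algebraMap A R s))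
      rw [← map_mul, ← map_mul, IsLocalization.mk'_spec]
      rfl
    intro w
    obtain ⟨x, y, hy, rfl⟩ := IsFractionRing.div_surjective (A := CAlg2.red R) w
    obtain ⟨t₁, ht₁⟩ := key x
    obtain ⟨t₂, ht₂⟩ := key y
    exact ⟨t₁ / t₂, by rw [map_div₀, ht₁, ht₂]⟩
  refine ⟨CAlg2.normRed R, inferInstance, hlocN, φ, hφinj, ?_, ?_, ?_⟩
  · -- (i)
    intro z
    have hRF : algebraMap R F = (algebraMap (CAlg2.red R) F).comp π :=
      IsScalarTower.algebraMap_eq R (CAlg2.red R) F
    have hAF : algebraMap A F = ι := by
      rw [IsScalarTower.algebraMap_eq A R F, hRF]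
      rfl
    have hzR : IsIntegral R (z : F) := by
      obtain ⟨Q, hQ, hQ0⟩ := z.2
      obtain ⟨Q', hQ', -, hQ'm⟩ := Polynomial.lifts_and_natDegree_eq_and_monic
        ((Polynomial.mem_lifts (f := π) Q).mpr (Polynomial.map_surjective π hπs Q)) hQ
      refine ⟨Q', hQ'm, ?_⟩
      rw [hRF, ← Polynomial.eval₂_map, hQ']
      exact hQ0
    obtain ⟨m, hm⟩ := IsIntegral.exists_multiple_integral_of_isLocalization p.primeCompl
      (z : F) hzR
    have hmz : m • (z : F) = ι m.1 * (z : F) := by
      rw [Submonoid.smul_def, Algebra.smul_def, hAF]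
    obtain ⟨t', ht'⟩ := hψs (m • (z : F))
    have ht'int : IsIntegral A t' := by
      obtain ⟨P, hP, hP0⟩ := hm
      refine ⟨P, hP, hψ ?_⟩
      rw [map_zero, Polynomial.hom_eval₂, hcomp, ht', ← hAF]
      exact hP0
    refine ⟨m.1, m.2, ⟨t', ht'int⟩, ?_⟩
    apply Subtype.ext
    change ψ (algebraMap A KA m.1) * (z : F) = ψ t'
    rw [ht', hψι, hmz]
  · -- q₀ lies over p
    ext a
    rw [Ideal.mem_comap, Ideal.mem_comap]
    have h1 : φ (algebraMap A (integralClosure A KA) a) =
        algebraMap (CAlg2.red R) (CAlg2.normRed R) (π (algebraMap A R a)) := by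
      apply Subtype.ext
      change ψ (algebraMap A KA a) = _
      rw [hψι]
      rfl
    rw [h1]
    have hmax : ((maximalIdeal (CAlg2.normRed R)).comap
        (algebraMap (CAlg2.red R) (CAlg2.normRed R))).IsMaximal :=
      Ideal.isMaximal_comap_of_isIntegral_of_isMaximal _
    have hmax' : (((maximalIdeal (CAlg2.normRed R)).comap
        (algebraMap (CAlg2.red R) (CAlg2.normRed R))).comap π).IsMaximal :=
      Ideal.comap_isMaximal_of_surjective π hπs
    have heq : ((maximalIdeal (CAlg2.normRed R)).comap
        (algebraMap (CAlg2.red R) (CAlg2.normRed R))).comap π = maximalIdeal R :=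
      IsLocalRing.eq_maximalIdeal hmax'
    have h2 : algebraMap (CAlg2.red R) (CAlg2.normRed R) (π (algebraMap A R a)) ∈
        maximalIdeal (CAlg2.normRed R) ↔ algebraMap A R a ∈ maximalIdeal R := by
      rw [← heq]
      rfl
    rw [h2]
    have h3 := IsLocalization.AtPrime.under_maximalIdeal R p
    rw [Ideal.under_def] at h3
    rw [← Ideal.mem_comap, h3]
  · -- purely inseparable
    intro t
    obtain ⟨n, r, hr⟩ := hR.2 (maximalIdeal (CAlg2.normRed R))
      (Ideal.Quotient.mk _ (φ t))
    obtain ⟨a, s, rfl⟩ := IsLocalization.exists_mk'_eq p.primeCompl r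
    refine ⟨n, s.1, s.2, a, ?_⟩
    rw [Ideal.mem_comap, ← Ideal.Quotient.eq_zero_iff_mem, map_sub, map_sub, map_mul, map_mul,
      map_pow, map_pow, ← hr, sub_eq_zero]
    have e1 : ∀ c : A, Ideal.Quotient.mk (maximalIdeal (CAlg2.normRed R))
        (φ (algebraMap A (integralClosure A KA) c)) =
        ((Ideal.Quotient.mk (maximalIdeal (CAlg2.normRed R))).comp
          ((algebraMap (CAlg2.red R) (CAlg2.normRed R)).comp
            (Ideal.Quotient.mk (nilradical R)))) (algebraMap A R c) := by
      intro c
      change Ideal.Quotient.mk _ _ = Ideal.Quotient.mk _ _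
      congr 1
      apply Subtype.ext
      change ψ (algebraMap A KA c) = _
      rw [hψι]
      rfl
    rw [e1, e1, ← map_mul, mul_comm, IsLocalization.mk'_spec]

/-- **Ring-level**: if all localizations of the domain `A` at primes are geometrically unibranch,
the integral closure of `A` in its fraction field is a universal homeomorphism over `A`. -/
theorem isUH_integralClosure
    (h : ∀ (p : Ideal A) [p.IsPrime], ∃ (R : Type u) (_ : CommRing R) (_ : IsLocalRing R)
      (_ : Algebra A R), IsLocalization.AtPrime R p ∧ CAlg2.IsGeomUnibranch R) :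
    IsUH (algebraMap A (integralClosure A KA)) := by
  have hint : (algebraMap A (integralClosure A KA)).IsIntegral :=
    fun t => Algebra.IsIntegral.isIntegral t
  have hinj : Function.Injective (algebraMap A (integralClosure A KA)) := by
    intro a b hab
    apply IsFractionRing.injective A KA
    exact congrArg Subtype.val hab
  refine ⟨hint, ?_, ?_⟩
  · intro K' _ g₁ g₂ hg
    obtain ⟨p, hpdef⟩ : ∃ p : Ideal A,
        p = RingHom.ker (g₁.comp (algebraMap A (integralClosure A KA))) := ⟨_, rfl⟩
    haveI hp : p.IsPrime := hpdef ▸ RingHom.ker_isPrime _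
    obtain ⟨R, _, _, _, hloc, hR⟩ := h p
    haveI := hloc
    obtain ⟨N, _, _, φ, hφ, hi, hq₀, hpi⟩ := exists_local_data (KA := KA) p R hR
    haveI : (RingHom.ker g₁).IsPrime := RingHom.ker_isPrime _
    haveI : (RingHom.ker g₂).IsPrime := RingHom.ker_isPrime _
    have h1 : RingHom.ker g₁ = (maximalIdeal N).comap φ :=
      eq_comap_maximalIdeal p φ hφ hi hq₀ _ (by rw [RingHom.comap_ker g₁ _, hpdef])
    have h2 : RingHom.ker g₂ = (maximalIdeal N).comap φ :=
      eq_comap_maximalIdeal p φ hφ hi hq₀ _ (by rw [RingHom.comap_ker g₂ _, ← hg, hpdef])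
    -- exponential characteristic
    let e := ringExpChar (N ⧸ maximalIdeal N)
    haveI : ExpChar (N ⧸ maximalIdeal N) e := ringExpChar.expChar _
    let χ : (integralClosure A KA ⧸ RingHom.ker g₁) →+* N ⧸ maximalIdeal N :=
      Ideal.quotientMap (maximalIdeal N) φ h1.le
    have hχ : Function.Injective χ := Ideal.quotientMap_injective' h1.ge
    haveI : ExpChar (integralClosure A KA ⧸ RingHom.ker g₁) e := RingHom.expChar χ hχ e
    haveI : ExpChar K' e := expChar_of_injective_ringHom (RingHom.kerLift_injective g₁) e
    ext t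
    obtain ⟨n, s, hs, a, hmem⟩ := hpi t
    have e1 : g₁ (algebraMap A _ s * t ^ e ^ n - algebraMap A _ a) = 0 := by
      rw [← RingHom.mem_ker, h1]; exact hmem
    have e2 : g₂ (algebraMap A _ s * t ^ e ^ n - algebraMap A _ a) = 0 := by
      rw [← RingHom.mem_ker, h2]; exact hmem
    have ec : ∀ c : A, g₁ (algebraMap A _ c) = g₂ (algebraMap A _ c) :=
      fun c => RingHom.congr_fun hg c
    rw [map_sub, map_mul, map_pow, sub_eq_zero] at e1 e2
    have hs0 : g₁ (algebraMap A _ s) ≠ 0 := fun h0 => hs (by rw [hpdef]; exact h0)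
    have e3 : g₁ t ^ e ^ n = g₂ t ^ e ^ n := by
      apply mul_left_cancel₀ hs0
      rw [e1, ec a, ← e2, ec s]
    exact iterateFrobenius_inj K' e n e3
  · apply comap_surjective_of_isIntegral _ hint
    intro a ha
    have : a = 0 := hinj (by rw [ha, map_zero])
    rw [this]
    exact IsNilpotent.zero

end LocalData

section Insep

variable {A KA L : Type u} [CommRing A] [Field KA] [Field L] [Algebra A KA] [Algebra KA L]
  [Algebra A L] [IsScalarTower A KA L]

/-- the canonical map between integral closures in a tower of fields -/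
noncomputable def icMap : integralClosure A KA →+* integralClosure A L :=
  ((IsScalarTower.toAlgHom A KA L).mapIntegralClosure : integralClosure A KA →ₐ[A]
    integralClosure A L).toRingHom

lemma icMap_val (t : integralClosure A KA) :
    ((icMap (A := A) (KA := KA) (L := L) t : integralClosure A L) : L) =
      algebraMap KA L (t : KA) := rfl

lemma icMap_comp_algebraMap :
    (icMap (A := A) (KA := KA) (L := L)).comp (algebraMap A (integralClosure A KA)) =
      algebraMap A (integralClosure A L) := by
  ext a
  change algebraMap KA L (algebraMap A KA a) = algebraMap A L a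
  rw [← IsScalarTower.algebraMap_apply]

/-- For a purely inseparable extension `L / KA` the integral closure of `A` in `L` is a universal
homeomorphism over the integral closure in `KA`. -/
theorem isUH_icMap [IsPurelyInseparable KA L] :
    IsUH (icMap (A := A) (KA := KA) (L := L)) := by
  have hinj : Function.Injective (icMap (A := A) (KA := KA) (L := L)) := by
    intro t t' h
    apply Subtype.ext
    apply (algebraMap KA L).injective
    rw [← icMap_val, ← icMap_val, h]
  have hint : (icMap (A := A) (KA := KA) (L := L)).IsIntegral := by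
    intro c
    obtain ⟨P, hP, hP0⟩ := integralClosure.isIntegral c
    refine ⟨P.map (algebraMap A (integralClosure A KA)), hP.map _, ?_⟩
    rw [Polynomial.eval₂_map, icMap_comp_algebraMap]
    exact hP0
  refine ⟨hint, ?_, ?_⟩
  · intro K' _ g₁ g₂ hg
    have hgB : ∀ b, g₁ (icMap b) = g₂ (icMap b) := fun b => RingHom.congr_fun hg b
    obtain ⟨e, he⟩ : ∃ e : ℕ, ExpChar KA e := ⟨ringExpChar KA, ringExpChar.expChar KA⟩
    haveI := he
    have key : ∀ c : integralClosure A L, ∃ n : ℕ, g₁ c ^ e ^ n = g₂ c ^ e ^ n := by
      intro c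
      obtain ⟨n, y, hy⟩ := IsPurelyInseparable.pow_mem KA e (c : L)
      have hyint : IsIntegral A y := by
        have h1 : IsIntegral A ((c : L) ^ e ^ n) := (c.2).pow _
        rw [← hy] at h1
        exact (isIntegral_algHom_iff (IsScalarTower.toAlgHom A KA L)
          (algebraMap KA L).injective).mp h1
      have hc : icMap (⟨y, hyint⟩ : integralClosure A KA) = c ^ e ^ n := by
        apply Subtype.ext
        rw [icMap_val]
        exact hy
      refine ⟨n, ?_⟩
      rw [← map_pow, ← map_pow, ← hc, hgB]
    ext c
    obtain ⟨n, hn⟩ := key c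
    cases he with
    | zero =>
      rw [one_pow, pow_one, pow_one] at hn
      exact hn
    | prime hp =>
      rename_i hchar
      have h0 : ((e : ℕ) : K') = 0 := by
        have h1 : ((e : ℕ) : integralClosure A L) = 0 := by
          apply Subtype.ext
          have : ((e : ℕ) : L) = algebraMap KA L ((e : ℕ) : KA) :=
            (map_natCast (algebraMap KA L) e).symm
          change ((e : ℕ) : L) = 0
          rw [this, CharP.cast_eq_zero KA e, map_zero]
        have := congrArg g₁ h1
        rwa [map_natCast, map_zero] at this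
      haveI : CharP K' e := by
        have hdvd := (CharP.cast_eq_zero_iff K' (ringChar K') e).mp h0
        have hne : ringChar K' ≠ 1 := CharP.ringChar_ne_one
        have : ringChar K' = e := ((Nat.dvd_prime hp).mp hdvd).resolve_left hne
        exact ringChar.of_eq this
      haveI : ExpChar K' e := ExpChar.prime hp
      exact iterateFrobenius_inj K' e n hn
  · apply comap_surjective_of_isIntegral _ hint
    intro a ha
    have : a = 0 := hinj (by rw [ha, map_zero])
    rw [this]
    exact IsNilpotent.zero

theorem isUH_integralClosure_of_isPurelyInseparable [IsPurelyInseparable KA L]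
    (h : IsUH (algebraMap A (integralClosure A KA))) :
    IsUH (algebraMap A (integralClosure A L)) := by
  rw [← icMap_comp_algebraMap (A := A) (KA := KA) (L := L)]
  exact h.comp isUH_icMap

end Insep

section Transport

variable {A L L' : Type u} [CommRing A] [CommRing L] [CommRing L'] [Algebra A L] [Algebra A L']

theorem isUH_integralClosure_of_ringEquiv (e : L' ≃+* L)
    (he : ∀ a, e (algebraMap A L' a) = algebraMap A L a)
    (h : IsUH (algebraMap A (integralClosure A L))) :
    IsUH (algebraMap A (integralClosure A L')) := by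
  let e' : L' ≃ₐ[A] L := AlgEquiv.ofRingEquiv (f := e) he
  exact Groth.Agent.Lib.Helper25.UHColim.isUH_of_algEquiv e'.mapIntegralClosure.symm h

end Transport

end Groth.Agent.Lib.Helper25.UnibranchUH
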