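import Mathlib
import Groth.Agent.Lib.Helper25.UnibranchUH
import Groth.Agent.Lib.Helper25.AWNSch0
import Groth.Agent.Lib.Helper7.NormField

/-!
# The normalization of a geometrically unibranch integral scheme is a universal homeomorphism
-/

set_option autoImplicit false
set_option linter.style.haveILetI false
universe u

open CategoryTheory AlgebraicGeometry

namespace Groth.Agent.Lib.Helper25.NormUH

open Groth.Agent.Lib.Helper25.AWN Groth.Agent.Lib.Helper25.UnibranchUH

section General

variable {X Y : Scheme.{u}} (f : X ⟶ Y) [QuasiCompact f] [QuasiSeparated f]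

set_option backward.isDefEq.respectTransparency false in
/-- A property local at the target holds for `fromNormalization` if it holds on the affine
charts `Spec (integral closure) → Spec Γ(Y, U)`. -/
theorem fromNormalization_of_forall_affine (P : MorphismProperty Scheme.{u})
    [IsZariskiLocalAtTarget P]
    (h : ∀ U : Y.affineOpens, P (Spec.map (f.normalizationDiagramMap.app (.op U.1)))) :
    P f.fromNormalization := by
  rw [IsZariskiLocalAtTarget.iff_of_iSup_eq_top (P := P) _ (iSup_affineOpens_eq_top _)]
  intro U
  let e := IsOpenImmersion.isoOfRangeEq (f.fromNormalization ⁻¹ᵁ U).ι (f.normalizationOpenCover.f U)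
      (by simpa using congr($(f.fromNormalization_preimage U).1))
  rw [← MorphismProperty.cancel_left_of_respectsIso P e.inv,
    ← MorphismProperty.cancel_right_of_respectsIso P _ U.2.isoSpec.hom]
  convert! h U
  rw [← cancel_mono U.2.fromSpec]
  simp [IsAffineOpen.isoSpec_hom, e, Scheme.Hom.ι_fromNormalization]

set_option backward.isDefEq.respectTransparency false in
theorem isUnivHomeo_fromNormalization_of_forall_isUH
    (h : ∀ U : Y.affineOpens, letI := (f.app U.1).hom.toAlgebra
      IsUH (algebraMap Γ(Y, U.1) (integralClosure Γ(Y, U.1) Γ(X, f ⁻¹ᵁ U.1)))) :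
    FlatMor.IsUnivHomeo f.fromNormalization := by
  have key : ∀ U : Y.affineOpens,
      FlatMor.IsUnivHomeo (Spec.map (f.normalizationDiagramMap.app (.op U.1))) := by
    intro U
    letI := (f.app U.1).hom.toAlgebra
    exact (isUnivHomeo_specMap_iff _).mpr (h U)
  rw [isUnivHomeo_iff']
  refine ⟨inferInstance, ?_, ?_⟩
  · exact fromNormalization_of_forall_affine f @UniversallyInjective.{u}
      fun U => ((isUnivHomeo_iff' _).mp (key U)).2.1
  · exact fromNormalization_of_forall_affine f @Surjective.{u}
      fun U => ((isUnivHomeo_iff' _).mp (key U)).2.2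

end General

section Field

open IsLocalRing Groth.Agent.Lib.Helper7.NormField

variable (X : Scheme.{u}) [IsIntegral X] (K : Type u) [Field K] (φ : X.functionField →+* K)
  (g : Spec (CommRingCat.of K) ⟶ X)
  (hg : g = Spec.map (CommRingCat.ofHom φ) ≫ X.fromSpecStalk (genericPoint X))

include hg in
/-- (as in helper39's `NormCurve`) -/
theorem g_closedPoint : g (closedPoint K) = genericPoint X := by
  subst hg
  refine (Scheme.Hom.comp_apply _ _ _).trans ?_
  erw [Spec_closedPoint]
  exact Scheme.fromSpecStalk_closedPoint

include hg in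
/-- (as in helper39's `NormCurve`) sections of `Spec K` over the preimage of an open containing
the generic point are `K`, compatibly with the germ map. -/
theorem exists_ringEquiv_sections (U : X.Opens) (hξ : genericPoint X ∈ U) :
    ∃ e : Γ(Spec (CommRingCat.of K), g ⁻¹ᵁ U) ≃+* K,
      ∀ a : Γ(X, U), e ((g.app U).hom a) = φ ((X.presheaf.germ U (genericPoint X) hξ).hom a) := by
  have hgp := g_closedPoint X K φ g hg
  have hgpU : g (closedPoint K) ∈ U := hgp ▸ hξ
  have : Nonempty U := ⟨⟨_, hξ⟩⟩
  have hα : g.app U ≫ ev (g ⁻¹ᵁ U) hgpU = X.germToFunctionField U ≫ CommRingCat.ofHom φ := by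
    rw [← germ_stalkClosedPointTo_ev g U hgpU, germ_stalkClosedPointTo_congr hg U hgpU]
    exact Scheme.germ_stalkClosedPointTo_Spec_fromSpecStalk (CommRingCat.ofHom φ) U _
  refine ⟨RingEquiv.ofBijective (ev (g ⁻¹ᵁ U) hgpU).hom (ev_bijective _ hgpU), fun a => ?_⟩
  exact congr($(hα).hom a)

include hg in
/-- **Normalization in a purely inseparable extension of the function field of a geometrically
unibranch integral scheme is a universal homeomorphism.** -/
theorem isUnivHomeo_fromNormalization [QuasiCompact g] [QuasiSeparated g]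
    (hφ : letI := φ.toAlgebra; IsPurelyInseparable X.functionField K)
    (hX : ∀ x : X, CAlg2.IsGeomUnibranch (X.presheaf.stalk x)) :
    FlatMor.IsUnivHomeo g.fromNormalization := by
  apply isUnivHomeo_fromNormalization_of_forall_isUH
  intro U
  letI := (g.app U.1).hom.toAlgebra
  by_cases hξ : genericPoint X ∈ U.1
  · haveI hne : Nonempty U.1 := ⟨⟨_, hξ⟩⟩
    haveI : IsDomain Γ(X, U.1) := IsIntegral.component_integral ..
    haveI hfr : IsFractionRing Γ(X, U.1) X.functionField :=
      functionField_isFractionRing_of_isAffineOpen X U.1 U.2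
    obtain ⟨e, he⟩ := exists_ringEquiv_sections X K φ g hg U.1 hξ
    letI : Algebra X.functionField K := φ.toAlgebra
    letI : Algebra Γ(X, U.1) K := (φ.comp (algebraMap Γ(X, U.1) X.functionField)).toAlgebra
    haveI : IsScalarTower Γ(X, U.1) X.functionField K :=
      IsScalarTower.of_algebraMap_eq (fun a => rfl)
    haveI : IsPurelyInseparable X.functionField K := hφ
    have h1 : IsUH (algebraMap Γ(X, U.1) (integralClosure Γ(X, U.1) X.functionField)) := by
      apply isUH_integralClosure
      intro p hp
      let y : PrimeSpectrum Γ(X, U.1) := ⟨p, hp⟩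
      have hy : U.2.fromSpec y ∈ U.1 := by
        have : U.2.fromSpec y ∈ Set.range U.2.fromSpec := ⟨y, rfl⟩
        rwa [U.2.range_fromSpec] at this
      letI : Algebra Γ(X, U.1) (X.presheaf.stalk (U.2.fromSpec y)) :=
        TopCat.Presheaf.algebra_section_stalk X.presheaf ⟨U.2.fromSpec y, hy⟩
      have hloc : IsLocalization.AtPrime (X.presheaf.stalk (U.2.fromSpec y)) p :=
        U.2.isLocalization_stalk' y hy
      exact ⟨X.presheaf.stalk (U.2.fromSpec y), inferInstance, inferInstance, inferInstance,
        hloc, hX _⟩
    have h2 : IsUH (algebraMap Γ(X, U.1) (integralClosure Γ(X, U.1) K)) :=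
      isUH_integralClosure_of_isPurelyInseparable (KA := X.functionField) h1
    refine isUH_integralClosure_of_ringEquiv e (fun a => ?_) h2
    exact he a
  · have hU0 : U.1 = ⊥ := by
      ext x
      simp only [TopologicalSpace.Opens.coe_bot, Set.mem_empty_iff_false, iff_false]
      intro hx
      exact hξ (((genericPoint_spec X).mem_open_set_iff U.1.isOpen).mpr ⟨x, trivial, hx⟩)
    haveI hsubA : Subsingleton Γ(X, U.1) := by rw [hU0]; infer_instance
    have h2 : g ⁻¹ᵁ U.1 = ⊥ := by rw [hU0]; rfl
    haveI hsub : Subsingleton Γ(Spec (CommRingCat.of K), g ⁻¹ᵁ U.1) := by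
      rw [h2]; infer_instance
    apply IsUH.of_bijective
    constructor
    · intro a b _
      exact Subsingleton.elim _ _
    · intro b
      exact ⟨0, Subsingleton.elim _ _⟩

end Field

end Groth.Agent.Lib.Helper25.NormUH
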