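import Mathlib
import Groth.Prelude.Def_Omega3
import Groth.Agent.Lib.Helper25.SkyMod

set_option autoImplicit false
universe u

open CategoryTheory CategoryTheory.Limits AlgebraicGeometry TopologicalSpace Opposite

namespace Groth.Agent.Lib.Helper25.OmegaUniv

open Groth.Agent.Lib.Helper25.SkyMod

variable {X Y : Scheme.{u}} (f : X ⟶ Y) {Ω : X.Modules} (d : OmegaSh.Der f Ω)

/-- `Γ(Ω, U)` is generated by the differentials of sections over `U`. -/
def Gen (U : X.Opens) : Prop :=
  Submodule.span Γ(X, U) (Set.range (d.app U)) = ⊤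

/-- local lifting of derivations over `U` -/
def Lift (U : X.Opens) : Prop :=
  ∀ (F : X.Modules) (D : OmegaSh.Der f F),
    ∃ α : Γ(Ω, U) →ₗ[Γ(X, U)] Γ(F, U), ∀ b, α (d.app U b) = D.app U b

variable {f d}

lemma linearMap_ext_of_gen {U : X.Opens} (hU : Gen f d U) {F : X.Modules}
    (α β : Γ(Ω, U) →ₗ[Γ(X, U)] Γ(F, U)) (h : ∀ b, α (d.app U b) = β (d.app U b)) : α = β := by
  apply LinearMap.ext_on hU
  rintro _ ⟨b, rfl⟩
  exact h b

/-- additive maps out of `Γ(Ω, U)` that agree on all `a • d b` agree -/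
lemma addHom_ext_of_gen {U : X.Opens} (hU : Gen f d U) {N : Type*} [AddCommGroup N]
    (α β : Γ(Ω, U) →+ N) (h : ∀ (a b : Γ(X, U)), α (a • d.app U b) = β (a • d.app U b)) :
    α = β := by
  let S : Submodule Γ(X, U) Γ(Ω, U) :=
    { carrier := {m | ∀ a : Γ(X, U), α (a • m) = β (a • m)}
      add_mem' := fun {x y} hx hy a => by rw [smul_add, map_add, map_add, hx a, hy a]
      zero_mem' := fun a => by rw [smul_zero, map_zero, map_zero]
      smul_mem' := fun c m hm a => by rw [smul_smul]; exact hm (a * c) }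
  have hS : Submodule.span Γ(X, U) (Set.range (d.app U)) ≤ S := by
    rw [Submodule.span_le]
    rintro _ ⟨b, rfl⟩ a
    exact h a b
  rw [hU] at hS
  ext m
  have := hS (Submodule.mem_top (x := m)) 1
  rwa [one_smul] at this


section Glue

variable (𝓑 : Set X.Opens) (hB : Opens.IsBasis 𝓑) (hgen : ∀ U ∈ 𝓑, Gen f d U)

include hgen in
lemma lift_natural {F : X.Modules} (D : OmegaSh.Der f F) {U U' : X.Opens} (hU : U ∈ 𝓑)
    (α : Γ(Ω, U) →ₗ[Γ(X, U)] Γ(F, U)) (hα : ∀ b, α (d.app U b) = D.app U b)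
    (α' : Γ(Ω, U') →ₗ[Γ(X, U')] Γ(F, U')) (hα' : ∀ b, α' (d.app U' b) = D.app U' b)
    (i : U' ⟶ U) (m : Γ(Ω, U)) :
    F.presheaf.map i.op (α m) = α' (Ω.presheaf.map i.op m) := by
  have := addHom_ext_of_gen (hgen U hU)
    ((F.presheaf.map i.op).hom.comp α.toAddMonoidHom)
    (α'.toAddMonoidHom.comp (Ω.presheaf.map i.op).hom) ?_
  · exact DFunLike.congr_fun this m
  intro a b
  show F.presheaf.map i.op (α (a • d.app U b)) = α' (Ω.presheaf.map i.op (a • d.app U b))
  rw [map_smul, hα, Scheme.Modules.map_smul, Scheme.Modules.map_smul, map_smul, ← app_map,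
    ← app_map, hα']


variable (hlift : ∀ U ∈ 𝓑, Lift f d U)

include hB hgen hlift in
theorem isUniversal_of_local : OmegaSh.IsUniversal d := by
  intro F D
  choose α hα using fun (U : 𝓑) => hlift U.1 U.2 F D
  have hnat : ∀ (U U' : 𝓑) (i : U'.1 ⟶ U.1) (m : Γ(Ω, U.1)),
      F.presheaf.map i.op (α U m) = α U' (Ω.presheaf.map i.op m) := fun U U' i m =>
    lift_natural 𝓑 hgen D U.2 (α U) (hα U) (α U') (hα U') i m
  let B : 𝓑 → Opens X := Subtype.val
  have hB' : Opens.IsBasis (Set.range B) := by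
    have : Set.range B = 𝓑 := Subtype.range_coe
    rw [this]
    exact hB
  let τ : (inducedFunctor B).op ⋙ Ω.presheaf ⟶ (inducedFunctor B).op ⋙ F.presheaf :=
    { app := fun U => AddCommGrpCat.ofHom (α U.unop).toAddMonoidHom
      naturality := fun U U' i => by
        ext m
        exact (hnat U.unop U'.unop i.unop.hom m).symm }
  let φ : Ω.presheaf ⟶ F.presheaf :=
    TopCat.Sheaf.restrictHomEquivHom Ω.presheaf ⟨F.presheaf, F.isSheaf⟩ hB' τ
  have hφ : ∀ (U : 𝓑) (m : Γ(Ω, U.1)), φ.app (op U.1) m = α U m := by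
    intro U m
    have := TopCat.Sheaf.extend_hom_app Ω.presheaf ⟨F.presheaf, F.isSheaf⟩ hB' τ U
    exact congr($this m)
  -- covering by basis elements
  have hcov : ∀ (W : X.Opens) (a b : Γ(F, W)),
      (∀ (U : 𝓑) (i : U.1 ⟶ W), F.presheaf.map i.op a = F.presheaf.map i.op b) → a = b := by
    intro W a b h
    refine sections_ext_of_cover F (fun U : {U : 𝓑 // U.1 ≤ W} => U.1.1) W (fun U => U.2) ?_ a b
      (fun U => h U.1 (homOfLE U.2))
    intro x hx
    obtain ⟨U, hU, hxU, hUW⟩ := Opens.isBasis_iff_nbhd.mp hB hx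
    exact Opens.mem_iSup.mpr ⟨⟨⟨U, hU⟩, hUW⟩, hxU⟩
  have hφnat : ∀ {W W' : X.Opens} (i : W' ⟶ W) (m : Γ(Ω, W)),
      F.presheaf.map i.op (φ.app (op W) m) = φ.app (op W') (Ω.presheaf.map i.op m) := by
    intro W W' i m
    exact (congr($(φ.naturality i.op) m)).symm
  have hlin : ∀ (W : X.Opens) (r : Γ(X, W)) (m : Γ(Ω, W)),
      φ.app (op W) (r • m) = r • φ.app (op W) m := by
    intro W r m
    apply hcov
    intro U i
    have e1 : F.presheaf.map i.op (r • (φ.app (op W) m : Γ(F, W))) =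
        X.presheaf.map i.op r • F.presheaf.map i.op (φ.app (op W) m) :=
      Scheme.Modules.map_smul F i r _
    rw [hφnat, e1, hφnat, hφ, hφ]
    have e2 : Ω.presheaf.map i.op (r • (m : Γ(Ω, W))) =
        X.presheaf.map i.op r • Ω.presheaf.map i.op m := Scheme.Modules.map_smul Ω i r m
    rw [e2, map_smul]
  let αv : Ω.val ⟶ F.val := PresheafOfModules.homMk φ (fun W r m => hlin W.unop r m)
  let αs : Ω ⟶ F := ⟨αv⟩
  have hαs : ∀ (W : X.Opens) (m : Γ(Ω, W)), αs.app W m = φ.app (op W) m := fun W m => rfl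
  refine ⟨αs, ?_, ?_⟩
  · ext W s
    induction W using Opposite.rec with | _ W => ?_
    show αs.app W (d.app W s) = D.app W s
    rw [hαs]
    apply hcov
    intro U i
    rw [hφnat, ← app_map, hφ, hα, ← app_map]
  · intro β hβ
    have hβ' : ∀ (W : X.Opens) (s : Γ(X, W)), β.app W (d.app W s) = D.app W s := fun W s =>
      PresheafOfModules.Derivation.congr_d hβ (X := op W) s
    apply (Scheme.Modules.toPresheaf X).map_injective
    apply TopCat.Sheaf.hom_ext Ω.presheaf ⟨F.presheaf, F.isSheaf⟩ hB'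
    intro U
    ext m
    show β.app U.1 m = αs.app U.1 m
    rw [hαs, hφ]
    let βU : Γ(Ω, U.1) →ₗ[Γ(X, U.1)] Γ(F, U.1) :=
      { toFun := β.app U.1
        map_add' := map_add _
        map_smul' := fun r m => Scheme.Modules.Hom.app_smul β r m }
    have : βU = α U := linearMap_ext_of_gen (hgen U.1 U.2) _ _ (fun b => by
      rw [hα]; exact hβ' U.1 b)
    exact DFunLike.congr_fun this m

end Glue

end Groth.Agent.Lib.Helper25.OmegaUniv
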