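import Mathlib
import Groth.Prelude.Def_OmAff
import Groth.Agent.Lib.Helper25.OmegaUniv
import Groth.Agent.Lib.QCoh.Helper50_OmAffGen

set_option autoImplicit false
universe u

open CategoryTheory CategoryTheory.Limits AlgebraicGeometry TopologicalSpace Opposite

namespace Groth.Agent.Lib.Helper25.OmegaUniv2

open Groth.Agent.Lib.Helper25.OmegaUniv Groth.Agent.Lib.QCoh

variable {X Y : Scheme.{u}} (f : X ⟶ Y) [QuasiSeparated f] {U : X.Opens} {V : Y.Opens}
  (hU : IsAffineOpen U) (hV : IsAffineOpen V) (h : U ≤ f ⁻¹ᵁ V)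

include hU hV h in
lemma gen_dOmega : Gen f (OmegaSh.dOmega f) U := by
  rw [Gen, eq_top_iff]
  intro m _
  obtain ⟨ω, rfl⟩ := (OmAffGen.bijective_toSect f hU hV h).2 m
  let _ := (f.appLE V U h).hom.toAlgebra
  have key : ∀ ω : Ω[Γ(X, U)⁄Γ(Y, V)], ω ∈ Submodule.span Γ(X, U)
      (Set.range (KaehlerDifferential.D Γ(Y, V) Γ(X, U))) →
      (OmAff.toSect f V U h) ω ∈
        Submodule.span Γ(X, U) (Set.range ((OmegaSh.dOmega f).app U)) := by
    intro ω hω
    induction hω using Submodule.span_induction with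
    | mem y hy =>
      obtain ⟨b, rfl⟩ := hy
      apply Submodule.subset_span
      exact ⟨b, (OmAff.toSect_d f V U h b).symm⟩
    | zero =>
      have : (OmAff.toSect f V U h) (0 : Ω[Γ(X, U)⁄Γ(Y, V)]) = 0 := map_zero _
      rw [this]; exact zero_mem _
    | add y z _ _ hy hz =>
      have : (OmAff.toSect f V U h) (y + z : Ω[Γ(X, U)⁄Γ(Y, V)]) =
        (OmAff.toSect f V U h) y + (OmAff.toSect f V U h) z := map_add _ _ _
      rw [this]; exact add_mem hy hz
    | smul a y _ hy =>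
      have : (OmAff.toSect f V U h) (a • y : Ω[Γ(X, U)⁄Γ(Y, V)]) =
        a • (OmAff.toSect f V U h) y := map_smul (OmAff.toSect f V U h).hom a y
      rw [this]; exact Submodule.smul_mem _ _ hy
  exact key ω (by rw [KaehlerDifferential.span_range_derivation]; trivial)

open Groth.Agent.Lib.Helper25.SkyMod in
include hU hV h in
lemma lift_dOmega : Lift f (OmegaSh.dOmega f) U := by
  intro F D
  let DD : (OmAff.sectMod F U).Derivation (f.appLE V U h) :=
    ModuleCat.Derivation.mk (fun b => D.app U b) (fun a b => map_add _ a b)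
      (fun a b => app_mul f D U a b)
      (fun c => by
        have h1 : (f.appLE V U h).hom c = X.presheaf.map (homOfLE h).op (f.app V c) := rfl
        show D.app U ((f.appLE V U h).hom c) = 0
        rw [h1, app_map]
        have h3 : D.app (f ⁻¹ᵁ V) (f.app V c) = 0 := D.d_app c
        rw [h3, map_zero])
  let e : CommRingCat.KaehlerDifferential (f.appLE V U h) ≃ₗ[Γ(X, U)] Γ(Omega.sheaf f, U) :=
    LinearEquiv.ofBijective (OmAff.toSect f V U h).hom (OmAffGen.bijective_toSect f hU hV h)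
  refine ⟨DD.desc.hom ∘ₗ e.symm.toLinearMap, ?_⟩
  intro b
  have h1 : e.symm ((OmegaSh.dOmega f).app U b) = CommRingCat.KaehlerDifferential.d b := by
    rw [LinearEquiv.symm_apply_eq]
    exact (OmAff.toSect_d f V U h b).symm
  show DD.desc.hom (e.symm ((OmegaSh.dOmega f).app U b)) = D.app U b
  rw [h1]
  exact DD.desc_d b

/-- the affine pairs -/
def affinePairs : Set X.Opens :=
  {U | IsAffineOpen U ∧ ∃ V : Y.Opens, IsAffineOpen V ∧ U ≤ f ⁻¹ᵁ V}

omit [QuasiSeparated f] in
lemma isBasis_affinePairs : Opens.IsBasis (affinePairs f) := by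
  rw [Opens.isBasis_iff_nbhd]
  intro W x hx
  obtain ⟨_, ⟨V, hV : IsAffineOpen V, rfl⟩, hxV, -⟩ :=
    (Y.isBasis_affineOpens).exists_subset_of_mem_open
      (Set.mem_univ (f x)) isOpen_univ
  obtain ⟨_, ⟨U, hU : IsAffineOpen U, rfl⟩, hxU, hUW⟩ :=
    (X.isBasis_affineOpens).exists_subset_of_mem_open
      (show x ∈ ((W ⊓ f ⁻¹ᵁ V : X.Opens) : Set X) from ⟨hx, hxV⟩) (W ⊓ f ⁻¹ᵁ V).2
  exact ⟨U, ⟨hU, V, hV, fun y hy => (hUW hy).2⟩, hxU, fun y hy => (hUW hy).1⟩

theorem isUniversal_dOmega : OmegaSh.IsUniversal (OmegaSh.dOmega f) := by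
  refine isUniversal_of_local (affinePairs f) (isBasis_affinePairs f) ?_ ?_
  · rintro U ⟨hU, V, hV, h⟩
    exact gen_dOmega f hU hV h
  · rintro U ⟨hU, V, hV, h⟩
    exact lift_dOmega f hU hV h

end Groth.Agent.Lib.Helper25.OmegaUniv2
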