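import Groth.Agent.Lib.Helper25.PerfScheme6
import Mathlib.AlgebraicGeometry.Morphisms.QuasiSeparated

/-!
# Perfections: sections over quasi-compact opens, and descent of affineness

* `IsPerfection.isNilpotent_of_app_eq_zero`: over a quasi-compact open `S`, the kernel of
  `Γ(X, S) ⟶ Γ(XP, π⁻¹ S)` consists of nilpotent elements;
* `IsPerfection.exists_app_eq_pow`: (X quasi-separated) every section of `XP` over `π⁻¹ S` has a
  `p^n`-th power coming from `Γ(X, S)`;
* `IsPerfection.isAffine_of_isAffine`: if the perfection of `X` is affine then `X` is affine.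
-/

set_option autoImplicit false
set_option linter.style.haveILetI false

universe u

open CategoryTheory AlgebraicGeometry FrobSch Opposite Limits

namespace Groth.Agent.Lib.Helper25

variable {p : ℕ} [Fact p.Prime]

theorem sub_pow_char_pow_of_natCast_eq_zero {R : Type*} [CommRing R] (h : (p : R) = 0) (x y : R)
    (m : ℕ) : (x - y) ^ p ^ m = x ^ p ^ m - y ^ p ^ m := by
  rcases subsingleton_or_nontrivial R with hs | hn
  · exact Subsingleton.elim _ _
  · haveI := charP_of_natCast_eq_zero p R h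
    exact sub_pow_char_pow x y m

variable {XP X : Scheme.{u}} [IsCharP XP p] [IsCharP X p] {π : XP ⟶ X}

/-- Over a quasi-compact open, sections killed by a perfection are nilpotent. -/
theorem IsPerfection.isNilpotent_of_app_eq_zero (h : IsPerfection π p) {S : X.Opens}
    (hS : IsCompact (S : Set X)) (a : Γ(X, S)) (ha : π.app S a = 0) : IsNilpotent a := by
  rw [Scheme.isNilpotent_iff_basicOpen_eq_bot_of_isCompact hS]
  have h1 : π ⁻¹ᵁ (X.basicOpen a) = ⊥ := by
    rw [Scheme.preimage_basicOpen, ha, Scheme.basicOpen_zero]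
  rw [eq_bot_iff]
  intro x hx
  obtain ⟨x', rfl⟩ := (IsPerfection.surjective h).surj x
  have : x' ∈ π ⁻¹ᵁ (X.basicOpen a) := hx
  rw [h1] at this
  exact this

/-- Naturality of `π.app` with respect to restriction, on elements. -/
theorem app_res_apply {X Y : Scheme.{u}} (f : X ⟶ Y) {U V : Y.Opens} (e : U ≤ V) (b : Γ(Y, V)) :
    f.app U (Y.presheaf.map (homOfLE e).op b) =
      X.presheaf.map (homOfLE (f.preimage_mono e)).op (f.app V b) :=
  ConcreteCategory.congr_hom (f.naturality (homOfLE e).op) b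

set_option backward.isDefEq.respectTransparency false in
/-- For a perfection of a quasi-separated scheme and a quasi-compact open `S`, every section of `XP`
over `π⁻¹ S` has a `p^n`-th power in the image of `Γ(X, S)`. -/
theorem IsPerfection.exists_app_eq_pow (h : IsPerfection π p) [QuasiSeparatedSpace X]
    (S : X.Opens) (hS : IsCompact (S : Set X)) :
    ∀ g : Γ(XP, π ⁻¹ᵁ S), ∃ (n : ℕ) (a : Γ(X, S)), π.app S a = g ^ p ^ n := by
  refine compact_open_induction_on (P := fun S : X.Opens => ∀ g : Γ(XP, π ⁻¹ᵁ S),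
    ∃ (n : ℕ) (a : Γ(X, S)), π.app S a = g ^ p ^ n) S hS ?_ ?_
  · intro g
    refine ⟨0, 0, ?_⟩
    exact @Subsingleton.elim _
      (CommRingCat.subsingleton_of_isTerminal (XP.sheaf.isTerminalOfEqEmpty rfl)) _ _
  · intro S hS U ih g
    let g₁ : Γ(XP, π ⁻¹ᵁ S) := XP.presheaf.map (homOfLE (π.preimage_mono le_sup_left)).op g
    let g₂ : Γ(XP, π ⁻¹ᵁ U.1) := XP.presheaf.map (homOfLE (π.preimage_mono le_sup_right)).op g
    obtain ⟨n₁, a₁, h₁⟩ := ih g₁
    haveI hrad : IsPRadical (π.app U.1).hom p := IsPerfection.isPRadical_app h U.2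
    obtain ⟨n₂, a₂, h₂⟩ := IsPRadical.pow_mem (π.app U.1).hom p g₂
    obtain ⟨N, b₁, b₂, hb₁, hb₂⟩ : ∃ (N : ℕ) (b₁ : Γ(X, S)) (b₂ : Γ(X, U.1)),
        π.app S b₁ = g₁ ^ p ^ N ∧ π.app U.1 b₂ = g₂ ^ p ^ N := by
      refine ⟨n₁ + n₂, a₁ ^ p ^ n₂, a₂ ^ p ^ n₁, ?_, ?_⟩
      · rw [map_pow, h₁, ← pow_mul, ← pow_add]
      · rw [map_pow]
        change ((π.app U.1).hom a₂) ^ p ^ n₁ = _
        rw [h₂, ← pow_mul, ← pow_add, add_comm]
    let c : Γ(X, S ⊓ U.1) := X.presheaf.map (homOfLE inf_le_left).op b₁ -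
      X.presheaf.map (homOfLE inf_le_right).op b₂
    have hc : π.app (S ⊓ U.1) c = 0 := by
      simp only [c, map_sub]
      rw [app_res_apply, app_res_apply, hb₁, hb₂, map_pow, map_pow, sub_eq_zero]
      simp only [g₁, g₂, ← CommRingCat.comp_apply, ← Functor.map_comp, ← op_comp, homOfLE_comp]
    have hSU : IsCompact ((S ⊓ U.1 : X.Opens) : Set X) :=
      QuasiSeparatedSpace.inter_isCompact S.1 U.1.1 S.2 hS U.1.2 U.2.isCompact
    obtain ⟨k, hk⟩ := IsPerfection.isNilpotent_of_app_eq_zero h hSU c hc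
    have hk' : c ^ p ^ k = 0 :=
      pow_eq_zero_of_le (Nat.lt_pow_self (Fact.out : p.Prime).one_lt).le hk
    have hglue : X.presheaf.map (homOfLE inf_le_left).op (b₁ ^ p ^ k) =
        X.presheaf.map (homOfLE inf_le_right).op (b₂ ^ p ^ k) := by
      rw [map_pow, map_pow, ← sub_eq_zero,
        ← sub_pow_char_pow_of_natCast_eq_zero (natCast_eq_zero_app X p _)]
      exact hk'
    refine ⟨N + k, (X.sheaf.objSupIsoProdEqLocus S U.1).inv ⟨⟨b₁ ^ p ^ k, b₂ ^ p ^ k⟩, hglue⟩, ?_⟩
    refine XP.sheaf.eq_of_locally_eq₂ (homOfLE (π.preimage_mono le_sup_left))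
      (homOfLE (π.preimage_mono le_sup_right)) le_rfl _ _ ?_ ?_
    · change XP.presheaf.map _ _ = XP.presheaf.map _ _
      rw [← app_res_apply π (le_sup_left : S ≤ S ⊔ U.1)]
      have := X.sheaf.objSupIsoProdEqLocus_inv_fst S U.1 ⟨⟨b₁ ^ p ^ k, b₂ ^ p ^ k⟩, hglue⟩
      change X.presheaf.map _ _ = _ at this
      rw [this, map_pow, map_pow, hb₁, ← pow_mul, ← pow_add]
    · change XP.presheaf.map _ _ = XP.presheaf.map _ _
      rw [← app_res_apply π (le_sup_right : U.1 ≤ S ⊔ U.1)]
      have := X.sheaf.objSupIsoProdEqLocus_inv_snd S U.1 ⟨⟨b₁ ^ p ^ k, b₂ ^ p ^ k⟩, hglue⟩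
      change X.presheaf.map _ _ = _ at this
      rw [this, map_pow, map_pow, hb₂, ← pow_mul, ← pow_add]

theorem IsPerfection.compactSpace_of_compactSpace (h : IsPerfection π p) [CompactSpace XP] :
    CompactSpace X := by
  have hs := (IsPerfection.surjective h).surj
  constructor
  have := (isCompact_univ (X := XP)).image π.continuous
  rwa [Set.image_univ, Set.range_eq_univ.mpr hs] at this

theorem IsPerfection.quasiSeparatedSpace_of_quasiSeparatedSpace (h : IsPerfection π p)
    [QuasiSeparatedSpace XP] : QuasiSeparatedSpace X :=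
  QuasiSeparatedSpace.of_isOpenEmbedding (IsPerfection.homeomorph h).symm.isOpenEmbedding

/-- If `X` is quasi-compact and quasi-separated then `Γ(X, ⊤) ⟶ Γ(XP, ⊤)` is `p`-radical. -/
theorem IsPerfection.isPRadical_appTop (h : IsPerfection π p) [CompactSpace X]
    [QuasiSeparatedSpace X] : IsPRadical (π.app ⊤).hom p := by
  refine ⟨fun g => ?_, fun a ha => ?_⟩
  · obtain ⟨n, a, hna⟩ := IsPerfection.exists_app_eq_pow h ⊤ isCompact_univ g
    exact ⟨n, a, hna⟩
  · rw [mem_pNilradical]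
    have hnil := IsPerfection.isNilpotent_of_app_eq_zero h (S := ⊤) isCompact_univ a ha
    obtain ⟨k, hk⟩ := hnil
    exact ⟨k, pow_eq_zero_of_le (Nat.lt_pow_self (Fact.out : p.Prime).one_lt).le hk⟩

/-- If the perfection of `X` is affine, then `X` is affine. -/
theorem IsPerfection.isAffine_of_isAffine (h : IsPerfection π p) [IsAffine XP] : IsAffine X := by
  haveI : CompactSpace X := IsPerfection.compactSpace_of_compactSpace h
  haveI : QuasiSeparatedSpace X := IsPerfection.quasiSeparatedSpace_of_quasiSeparatedSpace h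
  have hrad : IsPRadical (π.app ⊤).hom p := IsPerfection.isPRadical_appTop h
  have hsurj := (IsPerfection.surjective h).surj
  let s : Set Γ(X, ⊤) := {a | IsAffineOpen (X.basicOpen a)}
  -- Step A: the affine basic opens cover `X`
  have hA : ∀ x : X, ∃ a ∈ s, x ∈ X.basicOpen a := by
    intro x
    obtain ⟨U, hU, hxU, -⟩ := TopologicalSpace.Opens.isBasis_iff_nbhd.mp X.isBasis_affineOpens
      (TopologicalSpace.Opens.mem_top x)
    obtain ⟨x', rfl⟩ := hsurj x
    obtain ⟨g, hgU, hxg⟩ := (isAffineOpen_top XP).exists_basicOpen_le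
      (V := π ⁻¹ᵁ U) ⟨x', hxU⟩ (TopologicalSpace.Opens.mem_top x')
    let g' : Γ(XP, π ⁻¹ᵁ ⊤) := g
    obtain ⟨n, a, hna⟩ := hrad.pow_mem' g'
    have hpre : π ⁻¹ᵁ (X.basicOpen a) = XP.basicOpen g := by
      rw [Scheme.preimage_basicOpen]
      have hna' : (π.app ⊤) a = g' ^ p ^ n := hna
      rw [hna']
      exact Scheme.basicOpen_pow XP g' (pow_pos (Fact.out : p.Prime).pos n)
    have hle : X.basicOpen a ≤ U := by
      intro y hy
      obtain ⟨y', rfl⟩ := hsurj y
      have : y' ∈ π ⁻¹ᵁ (X.basicOpen a) := hy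
      rw [hpre] at this
      exact hgU this
    refine ⟨a, ?_, ?_⟩
    · change IsAffineOpen (X.basicOpen a)
      have h1 := hU.basicOpen (X.presheaf.map (homOfLE le_top).op a)
      rwa [Scheme.basicOpen_res, inf_eq_right.mpr hle] at h1
    · have : x' ∈ π ⁻¹ᵁ (X.basicOpen a) := by rw [hpre]; exact hxg
      exact this
  -- Step B: the corresponding sections generate the unit ideal
  have hB : Ideal.span ((π.app ⊤).hom '' s) = ⊤ := by
    refine (IsAffineOpen.self_le_iSup_basicOpen_iff (U := π ⁻¹ᵁ ⊤) (isAffineOpen_top XP)).mp ?_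
    intro x' _
    obtain ⟨a, has, hxa⟩ := hA (π x')
    rw [TopologicalSpace.Opens.mem_iSup]
    refine ⟨⟨(π.app ⊤).hom a, Set.mem_image_of_mem _ has⟩, ?_⟩
    have : x' ∈ π ⁻¹ᵁ (X.basicOpen a) := hxa
    rwa [Scheme.preimage_basicOpen] at this
  have hC : Ideal.span s = ⊤ := by
    by_contra hne
    obtain ⟨m, hm, hsm⟩ := Ideal.exists_le_maximal _ hne
    letI := (π.app ⊤).hom.toAlgebra
    haveI : Algebra.IsIntegral Γ(X, ⊤) Γ(XP, π ⁻¹ᵁ ⊤) :=
      ⟨isIntegral_of_isPRadical (p := p) (π.app ⊤).hom hrad⟩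
    have hker : RingHom.ker (algebraMap Γ(X, ⊤) Γ(XP, π ⁻¹ᵁ ⊤)) ≤ m := by
      intro a ha
      have hnil : IsNilpotent a := by
        have := hrad.ker_le' ha
        rw [mem_pNilradical] at this
        obtain ⟨k, hk⟩ := this
        exact ⟨_, hk⟩
      haveI := hm.isPrime
      exact nilradical_le_prime m (mem_nilradical.mpr hnil)
    obtain ⟨Q, hQ, hQm⟩ := Ideal.exists_ideal_over_maximal_of_isIntegral m hker
    have hle : Ideal.span ((π.app ⊤).hom '' s) ≤ Q := by
      rw [Ideal.span_le]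
      rintro _ ⟨a, has, rfl⟩
      have : a ∈ Q.comap (algebraMap Γ(X, ⊤) Γ(XP, π ⁻¹ᵁ ⊤)) := by
        rw [hQm]
        exact hsm (Ideal.subset_span has)
      exact this
    rw [hB, top_le_iff] at hle
    exact hQ.ne_top hle
  exact isAffine_of_isAffineOpen_basicOpen s hC (fun a ha => ha)

end Groth.Agent.Lib.Helper25
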