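import Groth.Agent.Lib.Helper25.PerfIso
import Groth.Agent.Lib.Helper25.PerfAffine

/-!
# Universal homeomorphisms of perfect schemes are isomorphisms
-/

set_option autoImplicit false
set_option linter.style.haveILetI false

universe u

open CategoryTheory AlgebraicGeometry FrobSch Opposite Limits

namespace Groth.Agent.Lib.Helper25

variable {p : ℕ} [Fact p.Prime]

omit [Fact p.Prime] in
/-- A commutative ring on which `x ↦ x ^ p` is injective (`p ≥ 2`) is reduced. -/
theorem isReduced_of_pow_char_injective (R : Type*) [CommRing R] (hp : 2 ≤ p)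
    (h : Function.Injective (fun x : R => x ^ p)) : IsReduced R := by
  refine ⟨fun x ⟨n, hn⟩ => ?_⟩
  have key : ∀ m : ℕ, ∀ y : R, y ^ p ^ m = 0 → y = 0 := by
    intro m
    induction m with
    | zero => intro y hy; simpa using hy
    | succ m ih =>
      intro y hy
      apply ih
      apply h
      dsimp only
      rw [← pow_mul, ← pow_succ, hy, zero_pow (by omega)]
  apply key n x
  have hle : n ≤ p ^ n := (Nat.lt_pow_self hp).le
  exact pow_eq_zero_of_le hle hn

/-- A perfect ring is reduced. -/
theorem isReduced_of_perfectRing (R : Type*) [CommRing R] [ExpChar R p] [PerfectRing R p] :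
    IsReduced R :=
  isReduced_of_pow_char_injective (p := p) R (Fact.out : p.Prime).two_le
    (PerfectRing.bijective_frobenius (R := R) (p := p)).1

/-- A ring map `ψ : R → S`, `R` reduced and semiperfect, `S` reduced with `p = 0`, whose `Spec` is
integral, universally injective and surjective, is bijective. -/
theorem bijective_of_spec_radicial {R S : CommRingCat.{u}} (ψ : R ⟶ S) [IsReduced R] [IsReduced S]
    (hR : ∀ a : R, ∃ c : R, c ^ p = a) (hpS : (p : S) = 0)
    [IsIntegralHom (Spec.map ψ)] [UniversallyInjective (Spec.map ψ)] [Surjective (Spec.map ψ)] :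
    Function.Bijective ψ.hom := by
  constructor
  · -- injectivity: the kernel is nil
    rw [injective_iff_map_eq_zero]
    intro x hx
    apply IsReduced.eq_zero
    rw [nilpotent_iff_mem_prime]
    intro J hJ
    obtain ⟨q, hq⟩ := (Spec.map ψ).surjective (⟨J, hJ⟩ : PrimeSpectrum R)
    have hq' : q.asIdeal.comap ψ.hom = J := congrArg PrimeSpectrum.asIdeal hq
    rw [← hq']
    change ψ.hom x ∈ q.asIdeal
    rw [hx]
    exact q.asIdeal.zero_mem
  · apply surjective_of_perfect_of_integral_of_radicial (p := p) ψ.hom hR hpS
    · exact IsIntegralHom.SpecMap_iff.mp inferInstance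
    · intro K _ g₁ g₂ hg
      dsimp only at hg
      have hui : UniversallyInjective (Spec.map ψ) := inferInstance
      have hi := ((tfae_universallyInjective (Spec.map ψ)).out 0 1).mp hui
      have h1 : Spec.map (CommRingCat.ofHom g₁) = Spec.map (CommRingCat.ofHom g₂) := by
        apply hi K
        dsimp only
        rw [← Spec.map_comp, ← Spec.map_comp]
        congr 1
        ext x
        exact RingHom.congr_fun hg x
      have h2 := Spec.map_injective h1
      exact congrArg CommRingCat.Hom.hom h2
    · intro Q Q' hQ hQ' hQQ'
      have hinj := (Spec.map ψ).injective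
      have : (⟨Q, hQ⟩ : PrimeSpectrum S) = ⟨Q', hQ'⟩ := by
        apply hinj
        apply PrimeSpectrum.ext
        exact hQQ'
      exact congrArg PrimeSpectrum.asIdeal this

end Groth.Agent.Lib.Helper25
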