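import Groth.Agent.Lib.Helper25.PerfIso2
import Mathlib.AlgebraicGeometry.Morphisms.IsIso
import Mathlib.AlgebraicGeometry.Morphisms.Integral
import Mathlib.AlgebraicGeometry.Morphisms.UniversallyInjective

/-!
# Universal homeomorphisms of perfect schemes are isomorphisms (global form)
-/

set_option autoImplicit false
set_option linter.style.haveILetI false

universe u

open CategoryTheory AlgebraicGeometry Opposite Limits MorphismProperty

namespace Groth.Agent.Lib.Helper25

variable {p : ℕ} [Fact p.Prime]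

set_option backward.isDefEq.respectTransparency false in
/-- A morphism between affine schemes, with reduced semiperfect target sections, reduced source
sections of characteristic `p`, which is integral, universally injective and surjective, is an
isomorphism. -/
theorem isIso_of_radicial_of_isAffine {X Y : Scheme.{u}} [IsAffine X] [IsAffine Y] (g : X ⟶ Y)
    [IsReduced Γ(Y, ⊤)] [IsReduced Γ(X, ⊤)]
    (hR : ∀ a : Γ(Y, ⊤), ∃ c : Γ(Y, ⊤), c ^ p = a) (hpS : (p : Γ(X, ⊤)) = 0)
    (h1 : IsIntegralHom g) (h2 : UniversallyInjective g) (h3 : Surjective g) : IsIso g := by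
  have e := arrowIsoSpecΓOfIsAffine g
  have h1' : IsIntegralHom (Spec.map g.appTop) :=
    (arrow_mk_iso_iff @IsIntegralHom e).mp h1
  have h2' : UniversallyInjective (Spec.map g.appTop) :=
    (arrow_mk_iso_iff @UniversallyInjective e).mp h2
  have h3' : Surjective (Spec.map g.appTop) :=
    (arrow_mk_iso_iff @Surjective e).mp h3
  have hb := bijective_of_spec_radicial (p := p) g.appTop hR hpS
  have : IsIso (Spec.map g.appTop) := isIso_SpecMap_iff.mpr hb
  exact (arrow_mk_iso_iff (isomorphisms Scheme) e).mpr this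

set_option backward.isDefEq.respectTransparency false in
/-- An integral, universally injective, surjective morphism between schemes all of whose rings
of sections have `p = 0` and bijective `p`-th power map is an isomorphism. -/
theorem isIso_of_radicial_of_perfect {X Y : Scheme.{u}} (f : X ⟶ Y)
    (hX : ∀ U : X.Opens, (p : Γ(X, U)) = 0 ∧ Function.Bijective fun s : Γ(X, U) => s ^ p)
    (hY : ∀ U : Y.Opens, (p : Γ(Y, U)) = 0 ∧ Function.Bijective fun s : Γ(Y, U) => s ^ p)
    (h1 : IsIntegralHom f) (h2 : UniversallyInjective f) (h3 : Surjective f) : IsIso f := by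
  change isomorphisms Scheme f
  rw [IsZariskiLocalAtTarget.iff_of_iSup_eq_top (P := isomorphisms Scheme) _
    (iSup_affineOpens_eq_top Y)]
  intro U
  have hp2 : 2 ≤ p := (Fact.out : p.Prime).two_le
  have hUaff : IsAffine (U.1 : Scheme.{u}) := U.2
  have hVaff : IsAffine ((f ⁻¹ᵁ U.1 : X.Opens) : Scheme.{u}) := U.2.preimage f
  have hredY : IsReduced Γ((U.1 : Scheme.{u}), ⊤) :=
    isReduced_of_pow_char_injective (p := p) _ hp2 (hY (U.1.ι ''ᵁ ⊤)).2.1
  have hredX : IsReduced Γ(((f ⁻¹ᵁ U.1 : X.Opens) : Scheme.{u}), ⊤) :=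
    isReduced_of_pow_char_injective (p := p) _ hp2 (hX ((f ⁻¹ᵁ U.1).ι ''ᵁ ⊤)).2.1
  exact isIso_of_radicial_of_isAffine (p := p) (f ∣_ U.1) (hY (U.1.ι ''ᵁ ⊤)).2.2
    (hX ((f ⁻¹ᵁ U.1).ι ''ᵁ ⊤)).1
    (IsZariskiLocalAtTarget.restrict h1 U.1) (IsZariskiLocalAtTarget.restrict h2 U.1)
    (IsZariskiLocalAtTarget.restrict h3 U.1)

end Groth.Agent.Lib.Helper25
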