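import Groth.Prelude.Def_Frob
import Groth.Agent.Lib.Helper25.PerfRing
import Mathlib.AlgebraicGeometry.Morphisms.IsIso
import Mathlib.AlgebraicGeometry.Morphisms.OpenImmersion
import Mathlib.AlgebraicGeometry.AffineScheme
import Mathlib.AlgebraicGeometry.Restrict
import Mathlib.AlgebraicGeometry.Morphisms.Integral
import Mathlib.AlgebraicGeometry.Morphisms.UniversallyInjective
import Mathlib.AlgebraicGeometry.Morphisms.UniversallyClosed
import Mathlib.AlgebraicGeometry.Morphisms.Flat
import Mathlib.AlgebraicGeometry.Morphisms.Proper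
import Groth.Prelude.Def_Flat

/-!
# Perfections of schemes of characteristic `p` (via the universal property `FrobSch.IsPerfection`)

Main results:
* `isPerfection_SpecMap`: `Spec` of a `p`-radical map into a perfect ring is a perfection;
* `IsPerfection.restrict`: a perfection restricts to a perfection over every open;
* `IsPerfection.exists_iso`: uniqueness of perfections;
* `IsPerfection.isAffineOpen_preimage`, `IsPerfection.isPRadical_app`: the local structure
  of a perfection over an affine open.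
-/

set_option autoImplicit false
set_option linter.style.haveILetI false

universe u

open CategoryTheory AlgebraicGeometry FrobSch Opposite

namespace Groth.Agent.Lib.Helper25

variable (p : ℕ) [Fact p.Prime]

/-! ### Generalities -/

omit [Fact p.Prime] in
/-- `Spec R` has characteristic `p` as soon as `p = 0` in `R` (the zero ring allowed). -/
theorem isCharP_Spec_of_natCast_eq_zero (R : CommRingCat.{u}) (h : (p : R) = 0) :
    IsCharP (Spec R) p where
  natCast_eq_zero := by
    apply (Scheme.ΓSpecIso R).commRingCatIsoToRingEquiv.injective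
    rw [map_natCast, map_zero]
    exact h

/-- Open subschemes of schemes of characteristic `p` have characteristic `p`. -/
instance isCharP_opens (X : Scheme.{u}) [IsCharP X p] (U : X.Opens) : IsCharP (U : Scheme.{u}) p :=
  IsCharP.of_hom U.ι p

/-- Morphisms `Y ⟶ Spec B` correspond to ring maps `B ⟶ Γ(Y, ⊤)`. -/
noncomputable def specHomEquiv (Y : Scheme.{u}) (B : CommRingCat.{u}) :
    (Y ⟶ Spec B) ≃ (B ⟶ Γ(Y, ⊤)) where
  toFun g := (Scheme.ΓSpecIso B).inv ≫ g.appTop
  invFun φ := Y.toSpecΓ ≫ Spec.map φ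
  left_inv g := by
    change Y.toSpecΓ ≫ Spec.map ((Scheme.ΓSpecIso B).inv ≫ g.appTop) = g
    rw [Spec.map_comp, ← Scheme.toSpecΓ_naturality_assoc, ← SpecMap_ΓSpecIso_hom,
      ← Spec.map_comp, Iso.inv_hom_id, Spec.map_id, Category.comp_id]
  right_inv φ := by
    change (Scheme.ΓSpecIso B).inv ≫ (Y.toSpecΓ ≫ Spec.map φ).appTop = φ
    rw [Scheme.Hom.comp_appTop, Scheme.toSpecΓ_appTop, ← Category.assoc,
      ← Scheme.ΓSpecIso_inv_naturality, Category.assoc, Iso.inv_hom_id, Category.comp_id]

theorem specHomEquiv_comp_SpecMap (Y : Scheme.{u}) {A B : CommRingCat.{u}} (φ : A ⟶ B)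
    (g : Y ⟶ Spec B) :
    specHomEquiv Y A (g ≫ Spec.map φ) = φ ≫ specHomEquiv Y B g := by
  simp only [specHomEquiv, Equiv.coe_fn_mk]
  rw [Scheme.Hom.comp_appTop, ← Category.assoc, ← Scheme.ΓSpecIso_inv_naturality, Category.assoc]

/-- On a perfect scheme, every ring of sections is a perfect ring. -/
theorem perfectRing_of_isPerfect (Y : Scheme.{u}) [IsCharP Y p] (h : IsPerfect Y p)
    (U : Y.Opens) : PerfectRing Γ(Y, U) p := by
  haveI : IsIso (frob Y p) := h
  have : IsIso ((frob Y p).app U) := inferInstance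
  exact ⟨ConcreteCategory.bijective_of_isIso ((frob Y p).app U)⟩

/-! ### Affine perfections -/

/-- The absolute Frobenius of `Spec B` is `Spec` of the `p`-th power map. -/
theorem frob_Spec (B : CommRingCat.{u}) (h : (p : B) = 0) [IsCharP (Spec B) p] :
    frob (Spec B) p = Spec.map (CommRingCat.ofHom (powHom p B h)) := by
  apply ext_of_isAffine
  ext s
  apply (ConcreteCategory.bijective_of_isIso (Scheme.ΓSpecIso B).hom).1
  have h2 := ConcreteCategory.congr_hom
    (Scheme.ΓSpecIso_naturality (CommRingCat.ofHom (powHom p B h))) s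
  rw [ConcreteCategory.comp_apply, ConcreteCategory.comp_apply] at h2
  refine Eq.trans ?_ h2.symm
  change (Scheme.ΓSpecIso B).hom (s ^ p) = ((Scheme.ΓSpecIso B).hom s) ^ p
  rw [map_pow]

/-- The spectrum of a perfect ring (in which `p = 0`) is a perfect scheme. -/
theorem isPerfect_Spec (B : CommRingCat.{u}) (h : (p : B) = 0) [IsCharP (Spec B) p]
    [PerfectRing B p] : IsPerfect (Spec B) p := by
  change IsIso (frob (Spec B) p)
  rw [frob_Spec p B h]
  have : IsIso (CommRingCat.ofHom (powHom p B h)) := by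
    rw [ConcreteCategory.isIso_iff_bijective]
    exact PerfectRing.bijective_frobenius
  infer_instance

/-- `Spec` of a `p`-radical map into a perfect ring is a perfection. -/
theorem isPerfection_SpecMap {A B : CommRingCat.{u}} (φ : A ⟶ B) (hA : (p : A) = 0)
    (hB : (p : B) = 0) [PerfectRing B p] [IsPRadical φ.hom p] [IsCharP (Spec B) p] :
    IsPerfection (Spec.map φ) p := by
  refine ⟨isPerfect_Spec p B hB, fun Y _ hY => ?_⟩
  have hperf : PerfectRing Γ(Y, ⊤) p := perfectRing_of_isPerfect p Y hY ⊤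
  have hY0 : (p : Γ(Y, ⊤)) = 0 := IsCharP.natCast_eq_zero
  have hbij := bijective_comp_of_isPRadical (M := Γ(Y, ⊤)) p φ.hom hA hB hY0
  -- transport along `specHomEquiv`
  have hbij' : Function.Bijective (fun ψ : B ⟶ Γ(Y, ⊤) => φ ≫ ψ) := by
    constructor
    · intro ψ₁ ψ₂ h
      apply CommRingCat.hom_ext
      apply hbij.1
      exact congrArg CommRingCat.Hom.hom h
    · intro χ
      obtain ⟨ψ, hψ⟩ := hbij.2 χ.hom
      exact ⟨CommRingCat.ofHom ψ, CommRingCat.hom_ext hψ⟩
  have key : (fun g : Y ⟶ Spec B => g ≫ Spec.map φ) =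
      (specHomEquiv Y A).symm ∘ (fun ψ : B ⟶ Γ(Y, ⊤) => φ ≫ ψ) ∘ (specHomEquiv Y B) := by
    funext g
    simp only [Function.comp_apply]
    rw [Equiv.eq_symm_apply, specHomEquiv_comp_SpecMap]
  rw [key]
  exact (specHomEquiv Y A).symm.bijective.comp (hbij'.comp (specHomEquiv Y B).bijective)

/-! ### General properties of perfections -/

/-- An open subscheme of a perfect scheme is perfect. -/
theorem isPerfect_opens (Y : Scheme.{u}) [IsCharP Y p] (h : IsPerfect Y p) (V : Y.Opens) :
    IsPerfect (V : Scheme.{u}) p := by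
  haveI : IsIso (frob Y p) := h
  change IsIso (frob (V : Scheme.{u}) p)
  have hc : frob (V : Scheme.{u}) p ≫ V.ι = V.ι ≫ frob Y p := frob_comp p V.ι
  haveI : IsOpenImmersion (frob (V : Scheme.{u}) p ≫ V.ι) := by
    rw [hc]
    infer_instance
  haveI : IsOpenImmersion (frob (V : Scheme.{u}) p) := IsOpenImmersion.of_comp _ V.ι
  rw [isIso_iff_isOpenImmersion_and_surjective]
  exact ⟨inferInstance, ⟨fun x => ⟨x, rfl⟩⟩⟩

/-- A scheme isomorphic to a perfect scheme is perfect. -/
theorem isPerfect_of_iso {Y Y' : Scheme.{u}} [IsCharP Y p] [IsCharP Y' p] (e : Y' ≅ Y)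
    (h : IsPerfect Y p) : IsPerfect Y' p := by
  haveI : IsIso (frob Y p) := h
  change IsIso (frob Y' p)
  have hc : frob Y' p ≫ e.hom = e.hom ≫ frob Y p := frob_comp p e.hom
  have : frob Y' p = e.hom ≫ frob Y p ≫ e.inv := by
    rw [← Category.assoc, ← hc, Category.assoc, Iso.hom_inv_id, Category.comp_id]
  rw [this]
  infer_instance

variable {p}

/-- Composing a perfection with an isomorphism of the target gives a perfection. -/
theorem IsPerfection.comp_iso {XP X X' : Scheme.{u}} [IsCharP XP p] {π : XP ⟶ X}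
    (h : IsPerfection π p) (e : X ≅ X') : IsPerfection (π ≫ e.hom) p := by
  refine ⟨h.1, fun Y _ hY => ?_⟩
  have h1 := h.2 Y hY
  have h2 : Function.Bijective (fun g : Y ⟶ X => g ≫ e.hom) :=
    ⟨fun a b hab => by simpa using congrArg (· ≫ e.inv) hab,
     fun c => ⟨c ≫ e.inv, by simp⟩⟩
  have : (fun g : Y ⟶ XP => g ≫ π ≫ e.hom) = (fun g : Y ⟶ X => g ≫ e.hom) ∘ (fun g => g ≫ π) := by
    funext g
    simp
  rw [this]
  exact h2.comp h1

/-- Precomposing a perfection with an isomorphism of the source gives a perfection. -/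
theorem IsPerfection.iso_comp {XP' XP X : Scheme.{u}} [IsCharP XP p] [IsCharP XP' p]
    {π : XP ⟶ X} (h : IsPerfection π p) (e : XP' ≅ XP) : IsPerfection (e.hom ≫ π) p := by
  refine ⟨isPerfect_of_iso p e h.1, fun Y _ hY => ?_⟩
  have h1 := h.2 Y hY
  have h2 : Function.Bijective (fun g : Y ⟶ XP' => g ≫ e.hom) :=
    ⟨fun a b hab => by simpa using congrArg (· ≫ e.inv) hab,
     fun c => ⟨c ≫ e.inv, by simp⟩⟩
  have : (fun g : Y ⟶ XP' => g ≫ e.hom ≫ π) = (fun g => g ≫ π) ∘ (fun g : Y ⟶ XP' => g ≫ e.hom) := by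
    funext g
    simp
  rw [this]
  exact h1.comp h2

/-- Two perfections of the same scheme are isomorphic over it. -/
theorem IsPerfection.exists_iso {P₁ P₂ X : Scheme.{u}} [IsCharP P₁ p] [IsCharP P₂ p]
    {π₁ : P₁ ⟶ X} {π₂ : P₂ ⟶ X} (h₁ : IsPerfection π₁ p) (h₂ : IsPerfection π₂ p) :
    ∃ e : P₁ ≅ P₂, e.hom ≫ π₂ = π₁ := by
  obtain ⟨a, ha⟩ := (h₂.2 P₁ h₁.1).2 π₁
  obtain ⟨b, hb⟩ := (h₁.2 P₂ h₂.1).2 π₂
  dsimp only at ha hb
  refine ⟨⟨a, b, ?_, ?_⟩, ha⟩
  · apply (h₁.2 P₁ h₁.1).1
    dsimp only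
    rw [Category.assoc, hb, ha, Category.id_comp]
  · apply (h₂.2 P₂ h₂.1).1
    dsimp only
    rw [Category.assoc, ha, hb, Category.id_comp]

/-- A perfection restricts to a perfection over every open subscheme. -/
theorem IsPerfection.restrict {XP X : Scheme.{u}} [IsCharP XP p] {π : XP ⟶ X}
    (h : IsPerfection π p) (U : X.Opens) : IsPerfection (π ∣_ U) p := by
  refine ⟨isPerfect_opens p XP h.1 _, fun Y _ hY => ?_⟩
  have hπ := h.2 Y hY
  constructor
  · intro g₁ g₂ hg
    dsimp only at hg
    rw [← cancel_mono (π ⁻¹ᵁ U).ι]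
    apply hπ.1
    dsimp only
    rw [Category.assoc, Category.assoc, ← morphismRestrict_ι, ← Category.assoc, ← Category.assoc, hg]
  · intro g
    obtain ⟨k, hk⟩ := hπ.2 (g ≫ U.ι)
    dsimp only at hk
    have hrange : Set.range k ⊆ Set.range (π ⁻¹ᵁ U).ι := by
      rintro _ ⟨y, rfl⟩
      rw [Scheme.Opens.range_ι]
      change π (k y) ∈ U
      rw [← Scheme.Hom.comp_apply, hk, Scheme.Hom.comp_apply]
      exact (g y).2
    refine ⟨IsOpenImmersion.lift (π ⁻¹ᵁ U).ι k hrange, ?_⟩
    dsimp only
    rw [← cancel_mono U.ι, Category.assoc, morphismRestrict_ι, ← Category.assoc,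
      IsOpenImmersion.lift_fac, hk]

/-! ### Local structure of a perfection -/

omit [Fact p.Prime] in
/-- `IsPRadical` transfers along a commutative square whose vertical maps are isomorphisms. -/
theorem isPRadical_of_iso_square {A B A' B' : CommRingCat.{u}} (f : A ⟶ B) (f' : A' ⟶ B')
    (e₁ : A ≅ A') (e₂ : B ≅ B') (h : e₁.hom ≫ f' = f ≫ e₂.hom) (hf' : IsPRadical f'.hom p) :
    IsPRadical f.hom p := by
  have hsq : ∀ a, f' (e₁.hom a) = e₂.hom (f a) := fun a => ConcreteCategory.congr_hom h a
  constructor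
  · intro b
    obtain ⟨n, a', ha'⟩ := hf'.pow_mem' (e₂.hom b)
    refine ⟨n, e₁.inv a', ?_⟩
    apply (ConcreteCategory.bijective_of_isIso e₂.hom).1
    change e₂.hom (f (e₁.inv a')) = e₂.hom (b ^ p ^ n)
    rw [← hsq, map_pow, ← ha']
    congr 1
    exact Iso.inv_hom_id_apply e₁ a'
  · intro a ha
    rw [RingHom.mem_ker] at ha
    have h1 : e₁.hom a ∈ RingHom.ker f'.hom := by
      rw [RingHom.mem_ker]
      change f' (e₁.hom a) = 0
      rw [hsq]
      change e₂.hom (f.hom a) = 0
      rw [ha, map_zero]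
    have h2 := hf'.ker_le' h1
    rw [mem_pNilradical] at h2 ⊢
    obtain ⟨n, hn⟩ := h2
    refine ⟨n, ?_⟩
    apply (ConcreteCategory.bijective_of_isIso e₁.hom).1
    rw [map_pow, hn, map_zero]

/-- Local structure of a perfection `π : XP ⟶ X` over an affine open `U`: the restriction of `π`
over `U` is isomorphic to `Spec` of a `p`-radical map out of `Γ(X, U)`. -/
theorem IsPerfection.exists_iso_Spec {XP X : Scheme.{u}} [IsCharP X p] [IsCharP XP p] {π : XP ⟶ X}
    (h : IsPerfection π p) {U : X.Opens} (hU : IsAffineOpen U) :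
    ∃ (B : CommRingCat.{u}) (φ : Γ(X, U) ⟶ B) (e : ((π ⁻¹ᵁ U : XP.Opens) : Scheme.{u}) ≅ Spec B),
      (p : B) = 0 ∧ PerfectRing B p ∧ IsPRadical φ.hom p ∧
        e.hom ≫ Spec.map φ ≫ hU.isoSpec.inv = π ∣_ U := by
  have hA : (p : Γ(X, U)) = 0 := natCast_eq_zero_app X p U
  obtain ⟨B, _, φ, hB, hperf, hrad⟩ := exists_perfectClosure p Γ(X, U) hA
  let B' : CommRingCat.{u} := CommRingCat.of B
  let φ' : Γ(X, U) ⟶ B' := CommRingCat.ofHom φ
  haveI : IsCharP (Spec B') p := isCharP_Spec_of_natCast_eq_zero p B' hB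
  haveI : PerfectRing B' p := hperf
  haveI : IsPRadical φ'.hom p := hrad
  have h1 : IsPerfection (Spec.map φ') p := isPerfection_SpecMap p φ' hA hB
  have h2 : IsPerfection (Spec.map φ' ≫ hU.isoSpec.inv) p :=
    IsPerfection.comp_iso h1 hU.isoSpec.symm
  have h3 : IsPerfection (π ∣_ U) p := IsPerfection.restrict h U
  obtain ⟨e, he⟩ := IsPerfection.exists_iso h3 h2
  exact ⟨B', φ', e, hB, hperf, hrad, he⟩

/-- The preimage of an affine open under a perfection is affine. -/
theorem IsPerfection.isAffineOpen_preimage {XP X : Scheme.{u}} [IsCharP X p] [IsCharP XP p]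
    {π : XP ⟶ X} (h : IsPerfection π p) {U : X.Opens} (hU : IsAffineOpen U) :
    IsAffineOpen (π ⁻¹ᵁ U) := by
  obtain ⟨B, φ, e, -, -, -, -⟩ := IsPerfection.exists_iso_Spec h hU
  exact IsAffine.of_isIso e.hom

omit [Fact p.Prime] in
/-- Auxiliary: `IsPRadical` of `π.app V' ≫ ρ` (with `ρ` an isomorphism and `V' = V`) gives
`IsPRadical` of `π.app V`. -/
theorem isPRadical_app_of_eq {XP X : Scheme.{u}} (π : XP ⟶ X) (V' V : X.Opens) (hV : V' = V)
    {R : CommRingCat.{u}} (ρ : Γ(XP, π ⁻¹ᵁ V') ⟶ R) [IsIso ρ]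
    (h : IsPRadical (π.app V' ≫ ρ).hom p) : IsPRadical (π.app V).hom p := by
  subst hV
  exact isPRadical_of_iso_square (π.app V') (π.app V' ≫ ρ) (Iso.refl _) (asIso ρ) (by simp) h

/-- Over an affine open `U`, the ring map `Γ(X, U) ⟶ Γ(XP, π⁻¹ U)` of a perfection is `p`-radical
(and its target is a perfect ring, by `perfectRing_of_isPerfect`). -/
theorem IsPerfection.isPRadical_app {XP X : Scheme.{u}} [IsCharP X p] [IsCharP XP p] {π : XP ⟶ X}
    (h : IsPerfection π p) {U : X.Opens} (hU : IsAffineOpen U) :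
    IsPRadical (π.app U).hom p := by
  obtain ⟨B, φ, e, -, -, hrad, he⟩ := IsPerfection.exists_iso_Spec h hU
  -- (ii) pass to `(Spec.map φ).appTop`
  have h1 : IsPRadical ((Spec.map φ).appTop).hom p :=
    isPRadical_of_iso_square (Spec.map φ).appTop φ (Scheme.ΓSpecIso _) (Scheme.ΓSpecIso _)
      (Scheme.ΓSpecIso_naturality φ).symm hrad
  -- (iii) compose with the isomorphism `U ≅ Spec Γ(X, U)`
  haveI i1 : IsIso hU.isoSpec.inv.appTop := (inferInstance : IsIso (hU.isoSpec.inv.app ⊤))
  haveI i2 : IsIso e.hom.appTop := (inferInstance : IsIso (e.hom.app ⊤))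
  have h2 : IsPRadical ((Spec.map φ ≫ hU.isoSpec.inv).appTop).hom p := by
    refine isPRadical_of_iso_square _ (Spec.map φ).appTop (asIso hU.isoSpec.inv.appTop)
      (Iso.refl _) ?_ h1
    rw [Scheme.Hom.comp_appTop]
    simp
  -- (iv) compose with `e`
  have h3 : IsPRadical ((π ∣_ U).appTop).hom p := by
    refine isPRadical_of_iso_square _ (Spec.map φ ≫ hU.isoSpec.inv).appTop (Iso.refl _)
      (asIso e.hom.appTop).symm ?_ h2
    have hcomp : (π ∣_ U).appTop = (Spec.map φ ≫ hU.isoSpec.inv).appTop ≫ e.hom.appTop := by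
      rw [← he, Scheme.Hom.comp_appTop]
    rw [hcomp]
    simp only [Iso.refl_hom, Category.id_comp, Iso.symm_hom, asIso_inv, Category.assoc,
      IsIso.hom_inv_id, Category.comp_id]
  -- (v) identify `(π ∣_ U).appTop` with `π.app U`
  have h4 : IsPRadical (π.app (U.ι ''ᵁ ⊤) ≫
      XP.presheaf.map (eqToHom (image_morphismRestrict_preimage π U ⊤)).op).hom p := by
    have := morphismRestrict_appTop π U
    rw [← this]
    exact h3
  exact isPRadical_app_of_eq π (U.ι ''ᵁ ⊤) U U.ι_image_top _ h4

/-! ### Global properties of a perfection -/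

omit [Fact p.Prime] in
/-- In `Spec K`, `p = 0` in the global sections iff `p = 0` in `K`. -/
theorem natCast_eq_zero_of_isCharP_Spec (R : CommRingCat.{u}) [IsCharP (Spec R) p] :
    (p : R) = 0 := by
  have h := congrArg (Scheme.ΓSpecIso R).hom (IsCharP.natCast_eq_zero (X := Spec R) (p := p))
  rwa [map_natCast, map_zero] at h

/-- A `p`-radical ring map is integral. -/
theorem isIntegral_of_isPRadical {A B : Type*} [CommRing A] [CommRing B] (φ : A →+* B)
    (hφ : IsPRadical φ p) : φ.IsIntegral := by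
  intro b
  obtain ⟨n, a, ha⟩ := hφ.pow_mem' b
  refine ⟨Polynomial.X ^ (p ^ n) - Polynomial.C a,
    Polynomial.monic_X_pow_sub_C a (pow_ne_zero _ (Fact.out : p.Prime).ne_zero), ?_⟩
  simp [ha]

section Global

variable {XP X : Scheme.{u}} [IsCharP XP p] {π : XP ⟶ X}

/-- For a field `K` in which `p = 0`, there is a perfect scheme `T = Spec K'` with a flat surjective
(hence epi) morphism to `Spec K`. -/
theorem exists_perfect_cover_Spec_field (K : Type u) [Field K] (hK : (p : K) = 0) :
    ∃ (T : Scheme.{u}) (_ : IsCharP T p) (_ : IsPerfect T p) (j : T ⟶ Spec (.of K)),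
      Epi j ∧ Nonempty T := by
  haveI : CharP K p := charP_of_natCast_eq_zero p K hK
  let K' := PerfectClosure K p
  let ι : CommRingCat.of K ⟶ CommRingCat.of K' := CommRingCat.ofHom (PerfectClosure.of K p)
  have hK' : (p : CommRingCat.of K') = 0 := CharP.cast_eq_zero K' p
  haveI : IsCharP (Spec (.of K')) p := isCharP_Spec_of_natCast_eq_zero p _ hK'
  haveI : PerfectRing (CommRingCat.of K') p := inferInstanceAs (PerfectRing K' p)
  have hperf : IsPerfect (Spec (.of K')) p := isPerfect_Spec p (.of K') hK'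
  haveI : Flat (Spec.map ι) := by
    rw [HasRingHomProperty.Spec_iff (P := @Flat)]
    change (PerfectClosure.of K p).Flat
    rw [RingHom.Flat]
    letI := (PerfectClosure.of K p).toAlgebra
    infer_instance
  haveI : Surjective (Spec.map ι) := by
    constructor
    intro x
    have hne : Nonempty (Spec (.of K')) := inferInstanceAs (Nonempty (PrimeSpectrum K'))
    obtain ⟨y⟩ := hne
    have hsub : Subsingleton (Spec (.of K)) := inferInstanceAs (Subsingleton (PrimeSpectrum K))
    exact ⟨y, Subsingleton.elim _ _⟩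
  refine ⟨Spec (.of K'), inferInstance, hperf, Spec.map ι, Flat.epi_of_flat_of_surjective _, ?_⟩
  exact inferInstanceAs (Nonempty (PrimeSpectrum K'))

/-- A perfection is universally injective. -/
theorem IsPerfection.universallyInjective (h : IsPerfection π p) : UniversallyInjective π := by
  refine ((tfae_universallyInjective π).out 0 1).mpr ?_
  intro K _ g₁ g₂ hg
  dsimp only at hg
  haveI : IsCharP (Spec (.of K)) p := IsCharP.of_hom g₁ p
  have hK : (p : K) = 0 := natCast_eq_zero_of_isCharP_Spec (p := p) (.of K)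
  obtain ⟨T, _, hT, j, hj, -⟩ := exists_perfect_cover_Spec_field (p := p) K hK
  rw [← cancel_epi j]
  apply (h.2 T hT).1
  dsimp only
  rw [Category.assoc, Category.assoc, hg]

/-- A perfection is surjective (when the target has characteristic `p`). -/
theorem IsPerfection.surjective [IsCharP X p] (h : IsPerfection π p) : Surjective π := by
  constructor
  intro x
  haveI : IsCharP (Spec (X.residueField x)) p := IsCharP.of_hom (X.fromSpecResidueField x) p
  have hK : (p : X.residueField x) = 0 := natCast_eq_zero_of_isCharP_Spec (p := p) (X.residueField x)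
  obtain ⟨T, _, hT, j, -, ⟨t⟩⟩ := exists_perfect_cover_Spec_field (p := p) (X.residueField x) hK
  obtain ⟨k, hk⟩ := (h.2 T hT).2 (j ≫ X.fromSpecResidueField x)
  dsimp only at hk
  refine ⟨k t, ?_⟩
  rw [← Scheme.Hom.comp_apply, hk, Scheme.Hom.comp_apply, Scheme.fromSpecResidueField_apply]

/-- A perfection is an affine morphism. -/
theorem IsPerfection.isAffineHom [IsCharP X p] (h : IsPerfection π p) : IsAffineHom π :=
  ⟨fun _ hU => IsPerfection.isAffineOpen_preimage h hU⟩

/-- A perfection is an integral morphism. -/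
theorem IsPerfection.isIntegralHom [IsCharP X p] (h : IsPerfection π p) : IsIntegralHom π := by
  haveI := IsPerfection.isAffineHom h
  exact ⟨fun U hU => isIntegral_of_isPRadical (p := p) _ (IsPerfection.isPRadical_app h hU)⟩

end Global

/-! ### Universal homeomorphisms -/

section UnivHomeo

omit [Fact p.Prime]

/-- A morphism is a universal homeomorphism iff it is universally closed, universally injective and
surjective. -/
theorem isUnivHomeo_iff {X Y : Scheme.{u}} (f : X ⟶ Y) :
    FlatMor.IsUnivHomeo f ↔ UniversallyClosed f ∧ UniversallyInjective f ∧ Surjective f := by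
  constructor
  · intro h
    refine ⟨⟨fun X' Y' i₁ i₂ f' hf => (h i₁ i₂ f' hf).isClosedMap⟩,
      ⟨fun X' Y' i₁ i₂ f' hf => (h i₁ i₂ f' hf).injective⟩, ⟨?_⟩⟩
    exact (h (𝟙 _) (𝟙 _) f .of_id_snd).surjective
  · rintro ⟨h1, h2, h3⟩ X' Y' i₁ i₂ f' hf
    have hs : Surjective f' := MorphismProperty.of_isPullback (P := @Surjective) hf.flip h3
    change IsHomeomorph f'
    rw [isHomeomorph_iff_continuous_isClosedMap_bijective]
    exact ⟨f'.continuous, h1.universally_isClosedMap i₁ i₂ f' hf,
      h2.universally_injective i₁ i₂ f' hf, hs.surj⟩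

end UnivHomeo

/-- A perfection (of a scheme of characteristic `p`) is a universal homeomorphism. -/
theorem IsPerfection.isUnivHomeo {XP X : Scheme.{u}} [IsCharP XP p] [IsCharP X p] {π : XP ⟶ X}
    (h : IsPerfection π p) : FlatMor.IsUnivHomeo π := by
  rw [isUnivHomeo_iff]
  haveI := IsPerfection.isIntegralHom h
  exact ⟨inferInstance, IsPerfection.universallyInjective h, IsPerfection.surjective h⟩

end Groth.Agent.Lib.Helper25
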