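import Groth.Agent.Lib.Helper25.PerfScheme

/-!
# Perfections of schemes, part 2: morphisms
-/

set_option autoImplicit false
set_option linter.style.haveILetI false

universe u

open CategoryTheory AlgebraicGeometry FrobSch Opposite

namespace Groth.Agent.Lib.Helper25

variable {p : ℕ} [Fact p.Prime]

/-- Every field `K` with `p = 0` embeds into a perfect field `K'` (in the same universe), and
`Spec K' ⟶ Spec K` is an epimorphism of schemes from a perfect scheme. -/
theorem exists_perfect_field_ext (K : Type u) [Field K] (hK : (p : K) = 0) :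
    ∃ (K' : Type u) (_ : Field K') (ι : CommRingCat.of K ⟶ CommRingCat.of K')
      (_ : IsCharP (Spec (.of K')) p), IsPerfect (Spec (.of K')) p ∧ Epi (Spec.map ι) := by
  haveI : CharP K p := charP_of_natCast_eq_zero p K hK
  let K' := PerfectClosure K p
  let ι : CommRingCat.of K ⟶ CommRingCat.of K' := CommRingCat.ofHom (PerfectClosure.of K p)
  have hK' : (p : CommRingCat.of K') = 0 := CharP.cast_eq_zero K' p
  haveI : IsCharP (Spec (.of K')) p := isCharP_Spec_of_natCast_eq_zero p _ hK'
  haveI : PerfectRing (CommRingCat.of K') p := inferInstanceAs (PerfectRing K' p)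
  have hperf : IsPerfect (Spec (.of K')) p := isPerfect_Spec p (.of K') hK'
  haveI : Flat (Spec.map ι) := by
    rw [HasRingHomProperty.Spec_iff (P := @Flat)]
    change (PerfectClosure.of K p).Flat
    rw [RingHom.Flat]
    letI := (PerfectClosure.of K p).toAlgebra
    infer_instance
  haveI : Surjective (Spec.map ι) := by
    constructor
    intro x
    have hne : Nonempty (Spec (.of K')) := inferInstanceAs (Nonempty (PrimeSpectrum K'))
    obtain ⟨y⟩ := hne
    have hsub : Subsingleton (Spec (.of K)) := inferInstanceAs (Subsingleton (PrimeSpectrum K))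
    exact ⟨y, Subsingleton.elim _ _⟩
  exact ⟨K', inferInstance, ι, inferInstance, hperf, Flat.epi_of_flat_of_surjective _⟩

/-- A perfection is a homeomorphism on underlying spaces. -/
theorem IsPerfection.isHomeomorph {XP X : Scheme.{u}} [IsCharP XP p] [IsCharP X p] {π : XP ⟶ X}
    (h : IsPerfection π p) : IsHomeomorph π :=
  (IsPerfection.isUnivHomeo h) (𝟙 _) (𝟙 _) π .of_id_snd

/-- The homeomorphism of underlying spaces induced by a perfection. -/
noncomputable def IsPerfection.homeomorph {XP X : Scheme.{u}} [IsCharP XP p] [IsCharP X p]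
    {π : XP ⟶ X} (h : IsPerfection π p) : XP ≃ₜ X :=
  (IsPerfection.isHomeomorph h).homeomorph π

@[simp]
theorem IsPerfection.homeomorph_apply {XP X : Scheme.{u}} [IsCharP XP p] [IsCharP X p]
    {π : XP ⟶ X} (h : IsPerfection π p) (x : XP) : IsPerfection.homeomorph h x = π x := rfl

end Groth.Agent.Lib.Helper25
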