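import Groth.Agent.Lib.Helper25.PerfScheme2
import Mathlib.AlgebraicGeometry.Morphisms.ClosedImmersion
import Mathlib.AlgebraicGeometry.Morphisms.Flat

/-!
# Morphisms between perfections: the basic commutative square on sections

For `f : X ⟶ Y`, perfections `πX : XP ⟶ X`, `πY : YP ⟶ Y` and `fP : XP ⟶ YP` with
`fP ≫ πY = πX ≫ f`, we record the commutative square of rings of sections and deduce that
surjectivity / flatness of `f.appLE V U` passes to `fP.appLE (πY⁻¹V) (πX⁻¹U)` for affine `U`, `V`.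
-/

set_option autoImplicit false
set_option linter.style.haveILetI false

universe u

open CategoryTheory AlgebraicGeometry FrobSch Opposite

namespace Groth.Agent.Lib.Helper25

variable {p : ℕ} [Fact p.Prime]

section Square

variable {X Y XP YP : Scheme.{u}} {πX : XP ⟶ X} {πY : YP ⟶ Y} {f : X ⟶ Y} {fP : XP ⟶ YP}

omit [Fact p.Prime] in
theorem preimage_perf_eq (w : fP ≫ πY = πX ≫ f) (V : Y.Opens) :
    fP ⁻¹ᵁ (πY ⁻¹ᵁ V) = πX ⁻¹ᵁ (f ⁻¹ᵁ V) := by
  rw [← Scheme.Hom.comp_preimage, ← Scheme.Hom.comp_preimage, w]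

omit [Fact p.Prime] in
theorem le_preimage_perf (w : fP ≫ πY = πX ≫ f) {V : Y.Opens} {U : X.Opens} (e : U ≤ f ⁻¹ᵁ V) :
    πX ⁻¹ᵁ U ≤ fP ⁻¹ᵁ (πY ⁻¹ᵁ V) := by
  rw [preimage_perf_eq w]
  exact πX.preimage_mono e

omit [Fact p.Prime] in
theorem appLE_eq_of_eq {X Y : Scheme.{u}} {g g' : X ⟶ Y} (h : g = g') (V : Y.Opens) (U : X.Opens)
    (e : U ≤ g ⁻¹ᵁ V) (e' : U ≤ g' ⁻¹ᵁ V) : g.appLE V U e = g'.appLE V U e' := by
  subst h; rfl

omit [Fact p.Prime] in
/-- The basic commutative square on sections. -/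
theorem appLE_perf_square (w : fP ≫ πY = πX ≫ f) (V : Y.Opens) (U : X.Opens) (e : U ≤ f ⁻¹ᵁ V) :
    πY.app V ≫ fP.appLE (πY ⁻¹ᵁ V) (πX ⁻¹ᵁ U) (le_preimage_perf w e) =
      f.appLE V U e ≫ πX.app U := by
  rw [Scheme.Hom.app_eq_appLE, Scheme.Hom.app_eq_appLE, Scheme.Hom.appLE_comp_appLE,
    Scheme.Hom.appLE_comp_appLE]
  exact appLE_eq_of_eq w _ _ _ _

variable [IsCharP X p] [IsCharP Y p] [IsCharP XP p] [IsCharP YP p]

omit [IsCharP Y p] in
/-- Surjectivity on sections passes to perfections. -/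
theorem surjective_appLE_perf (hX : IsPerfection πX p) (hY : IsPerfection πY p)
    (w : fP ≫ πY = πX ≫ f) {V : Y.Opens} {U : X.Opens} (hU : IsAffineOpen U)
    (e : U ≤ f ⁻¹ᵁ V) (h : Function.Surjective (f.appLE V U e)) :
    Function.Surjective (fP.appLE (πY ⁻¹ᵁ V) (πX ⁻¹ᵁ U) (le_preimage_perf w e)) := by
  haveI : PerfectRing Γ(YP, πY ⁻¹ᵁ V) p := perfectRing_of_isPerfect p YP hY.1 _
  haveI : PerfectRing Γ(XP, πX ⁻¹ᵁ U) p := perfectRing_of_isPerfect p XP hX.1 _
  have hrad : IsPRadical (πX.app U).hom p := IsPerfection.isPRadical_app hX hU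
  refine surjective_of_perf_square p (πY.app V).hom (πX.app U).hom (f.appLE V U e).hom
    (fP.appLE (πY ⁻¹ᵁ V) (πX ⁻¹ᵁ U) (le_preimage_perf w e)).hom ?_ ?_ h
  · rw [← CommRingCat.hom_comp, ← CommRingCat.hom_comp, appLE_perf_square w V U e]
  · intro b'
    exact IsPRadical.pow_mem (πX.app U).hom p b'

/-- Flatness on sections passes to perfections. -/
theorem flat_appLE_perf (hX : IsPerfection πX p) (hY : IsPerfection πY p)
    (w : fP ≫ πY = πX ≫ f) {V : Y.Opens} (hV : IsAffineOpen V) {U : X.Opens} (hU : IsAffineOpen U)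
    (e : U ≤ f ⁻¹ᵁ V) (h : (f.appLE V U e).hom.Flat) :
    (fP.appLE (πY ⁻¹ᵁ V) (πX ⁻¹ᵁ U) (le_preimage_perf w e)).hom.Flat := by
  haveI : PerfectRing Γ(YP, πY ⁻¹ᵁ V) p := perfectRing_of_isPerfect p YP hY.1 _
  haveI : PerfectRing Γ(XP, πX ⁻¹ᵁ U) p := perfectRing_of_isPerfect p XP hX.1 _
  haveI hradX : IsPRadical (πX.app U).hom p := IsPerfection.isPRadical_app hX hU
  haveI hradY : IsPRadical (πY.app V).hom p := IsPerfection.isPRadical_app hY hV
  refine flat_of_perf_square p (πY.app V).hom (πX.app U).hom (f.appLE V U e).hom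
    (fP.appLE (πY ⁻¹ᵁ V) (πX ⁻¹ᵁ U) (le_preimage_perf w e)).hom ?_
    (natCast_eq_zero_app YP p _) (natCast_eq_zero_app X p _) (natCast_eq_zero_app XP p _) h
  rw [← CommRingCat.hom_comp, ← CommRingCat.hom_comp, appLE_perf_square w V U e]

end Square

section Criteria

set_option backward.isDefEq.respectTransparency.types false in
/-- A criterion for closed immersions on an affine open cover of the target. -/
theorem isClosedImmersion_of_iSup_eq_top {X Y : Scheme.{u}} (f : X ⟶ Y) {ι : Type*}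
    (U : ι → Y.affineOpens) (hU : ⨆ i, (U i : Y.Opens) = ⊤)
    (h : ∀ i, IsAffine ((f ⁻¹ᵁ (U i).1 : X.Opens) : Scheme.{u}) ∧
      Function.Surjective ((f ∣_ (U i).1).appTop)) : IsClosedImmersion f :=
  HasAffineProperty.of_iSup_eq_top (P := @IsClosedImmersion) U hU h

end Criteria

end Groth.Agent.Lib.Helper25
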