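import Groth.Agent.Lib.Helper25.PerfScheme3
import Mathlib.AlgebraicGeometry.Morphisms.QuasiSeparated
import Mathlib.AlgebraicGeometry.Morphisms.Separated

/-!
# Perfections: topological consequences of `π` being a homeomorphism
-/

set_option autoImplicit false
set_option linter.style.haveILetI false

universe u

open CategoryTheory AlgebraicGeometry FrobSch Opposite

namespace Groth.Agent.Lib.Helper25

variable {p : ℕ} [Fact p.Prime]

section Topology

variable {XP X : Scheme.{u}} [IsCharP XP p] [IsCharP X p] {π : XP ⟶ X}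

theorem IsPerfection.isOpenEmbedding (h : IsPerfection π p) : Topology.IsOpenEmbedding π :=
  (IsPerfection.isHomeomorph h).isOpenEmbedding

theorem IsPerfection.image_preimage (h : IsPerfection π p) (s : Set X) :
    π '' (π ⁻¹' s) = s :=
  Set.image_preimage_eq s (IsPerfection.isHomeomorph h).surjective

/-- The preimage of an open `U` under a perfection is quasi-separated iff `U` is. -/
theorem IsPerfection.quasiSeparatedSpace_preimage_iff (h : IsPerfection π p) (U : X.Opens) :
    QuasiSeparatedSpace ↥(π ⁻¹ᵁ U) ↔ QuasiSeparatedSpace ↥U := by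
  have h1 : IsQuasiSeparated ((π ⁻¹ᵁ U : XP.Opens) : Set XP) ↔ QuasiSeparatedSpace ↥(π ⁻¹ᵁ U) :=
    isQuasiSeparated_iff_quasiSeparatedSpace _ (π ⁻¹ᵁ U).2
  have h2 : IsQuasiSeparated (U : Set X) ↔ QuasiSeparatedSpace ↥U :=
    isQuasiSeparated_iff_quasiSeparatedSpace _ U.2
  rw [← h1, ← h2, (IsPerfection.isOpenEmbedding h).isQuasiSeparated_iff]
  have : (π '' ((π ⁻¹ᵁ U : XP.Opens) : Set XP)) = (U : Set X) :=
    IsPerfection.image_preimage h (U : Set X)
  rw [this]

end Topology

section Criteria

set_option backward.isDefEq.respectTransparency.types false in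
/-- A criterion for quasi-separated morphisms on an affine open cover of the target. -/
theorem quasiSeparated_iff_of_iSup_eq_top {X Y : Scheme.{u}} (f : X ⟶ Y) {ι : Type*}
    (U : ι → Y.affineOpens) (hU : ⨆ i, (U i : Y.Opens) = ⊤) :
    QuasiSeparated f ↔ ∀ i, QuasiSeparatedSpace ↥(f ⁻¹ᵁ (U i).1) :=
  HasAffineProperty.iff_of_iSup_eq_top (P := @QuasiSeparated) U hU

end Criteria

end Groth.Agent.Lib.Helper25
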