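import Groth.Agent.Lib.Helper25.PerfScheme4
import Mathlib.AlgebraicGeometry.Morphisms.Immersion

/-!
# Perfections commute with fibre products
-/

set_option autoImplicit false
set_option linter.style.haveILetI false

universe u

open CategoryTheory AlgebraicGeometry FrobSch Opposite Limits

namespace Groth.Agent.Lib.Helper25

variable {p : ℕ} [Fact p.Prime]

section Pullback

/-- The fibre product of perfect schemes is perfect. -/
theorem isPerfect_pullback {X Y S : Scheme.{u}} [IsCharP X p] [IsCharP Y p] [IsCharP S p]
    (f : X ⟶ S) (g : Y ⟶ S) (hX : IsPerfect X p) (hY : IsPerfect Y p) (hS : IsPerfect S p)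
    [IsCharP (pullback f g) p] : IsPerfect (pullback f g) p := by
  have h1 : frob (pullback f g) p = pullback.map f g f g (frob X p) (frob Y p) (frob S p)
      (frob_comp p f).symm (frob_comp p g).symm := by
    apply pullback.hom_ext
    · rw [pullback.lift_fst]; exact frob_comp p (pullback.fst f g)
    · rw [pullback.lift_snd]; exact frob_comp p (pullback.snd f g)
  haveI : IsIso (frob X p) := hX
  haveI : IsIso (frob Y p) := hY
  haveI : IsIso (frob S p) := hS
  change IsIso (frob (pullback f g) p)
  rw [h1]
  infer_instance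

set_option backward.isDefEq.respectTransparency false in
/-- Perfection commutes with fibre products. -/
theorem IsPerfection.pullback_map {X Y S XP YP SP : Scheme.{u}}
    [IsCharP XP p] [IsCharP YP p] [IsCharP SP p]
    {πX : XP ⟶ X} {πY : YP ⟶ Y} {πS : SP ⟶ S} (hX : IsPerfection πX p) (hY : IsPerfection πY p)
    (hS : IsPerfection πS p) (f : X ⟶ S) (g : Y ⟶ S) (fP : XP ⟶ SP) (gP : YP ⟶ SP)
    (wf : fP ≫ πS = πX ≫ f) (wg : gP ≫ πS = πY ≫ g) [IsCharP (pullback fP gP) p] :
    IsPerfection (pullback.map fP gP f g πX πY πS wf wg) p := by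
  refine ⟨isPerfect_pullback fP gP hX.1 hY.1 hS.1, ?_⟩
  intro T _ hT
  constructor
  · intro t₁ t₂ h
    dsimp only at h
    apply pullback.hom_ext
    · apply (hX.2 T hT).1
      dsimp only
      have := congrArg (· ≫ pullback.fst f g) h
      simpa using this
    · apply (hY.2 T hT).1
      dsimp only
      have := congrArg (· ≫ pullback.snd f g) h
      simpa using this
  · intro s
    obtain ⟨a', ha'⟩ := (hX.2 T hT).2 (s ≫ pullback.fst f g)
    obtain ⟨b', hb'⟩ := (hY.2 T hT).2 (s ≫ pullback.snd f g)
    dsimp only at ha' hb'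
    have hab : a' ≫ fP = b' ≫ gP := by
      apply (hS.2 T hT).1
      dsimp only
      rw [Category.assoc, Category.assoc, wf, wg, ← Category.assoc, ← Category.assoc, ha', hb',
        Category.assoc, Category.assoc, pullback.condition]
    refine ⟨pullback.lift a' b' hab, ?_⟩
    dsimp only
    apply pullback.hom_ext
    · simp [ha']
    · simp [hb']

set_option backward.isDefEq.respectTransparency false in
omit [Fact p.Prime] in
/-- The diagonal of `fP` lies over the diagonal of `f`. -/
theorem diagonal_comp_pullback_map {X Y XP YP : Scheme.{u}} (πX : XP ⟶ X) (πY : YP ⟶ Y)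
    (f : X ⟶ Y) (fP : XP ⟶ YP) (w : fP ≫ πY = πX ≫ f) :
    pullback.diagonal fP ≫ pullback.map fP fP f f πX πX πY w w = πX ≫ pullback.diagonal f := by
  apply pullback.hom_ext <;> simp

end Pullback

end Groth.Agent.Lib.Helper25
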