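import Groth.Agent.Lib.Helper25.PerfScheme5
import Mathlib.AlgebraicGeometry.Morphisms.Etale
import Mathlib.AlgebraicGeometry.Morphisms.FlatMono
import Mathlib.AlgebraicGeometry.Morphisms.IsIso

/-!
# Étale morphisms and perfect schemes

* `isOpenImmersion_of_etale_of_universallyInjective`: an étale universally injective morphism is an
  open immersion;
* `frob_universallyInjective`: the absolute Frobenius is universally injective;
* `isPerfect_of_etale`: a scheme étale over a perfect scheme is perfect;
* `isPerfection_pullback_snd`: the base change of a perfection along an étale morphism is a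
  perfection.
-/

set_option autoImplicit false
set_option linter.style.haveILetI false

universe u

open CategoryTheory AlgebraicGeometry FrobSch Opposite Limits

namespace Groth.Agent.Lib.Helper25

variable {p : ℕ} [Fact p.Prime]

omit [Fact p.Prime] in
/-- An étale, universally injective morphism is an open immersion. -/
theorem isOpenImmersion_of_etale_of_universallyInjective {X Y : Scheme.{u}} (f : X ⟶ Y)
    [Etale f] [UniversallyInjective f] : IsOpenImmersion f := by
  have h1 : IsOpenImmersion (pullback.diagonal f) := inferInstance
  have h2 : Surjective (pullback.diagonal f) :=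
    (UniversallyInjective.iff_diagonal f).mp inferInstance
  have h3 : IsIso (pullback.diagonal f) :=
    (isIso_iff_isOpenImmersion_and_surjective _).mpr ⟨h1, h2⟩
  have h4 : Mono f := (pullback.isIso_diagonal_iff f).mp h3
  exact IsOpenImmersion.of_flat_of_mono f

omit [Fact p.Prime] in
/-- `Spec` of a homomorphism of fields is an epimorphism of schemes. -/
theorem epi_SpecMap_of_field {K K' : Type u} [Field K] [Field K']
    (ι : CommRingCat.of K ⟶ CommRingCat.of K') : Epi (Spec.map ι) := by
  haveI : Flat (Spec.map ι) := by
    rw [HasRingHomProperty.Spec_iff (P := @Flat)]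
    rw [RingHom.Flat]
    letI := ι.hom.toAlgebra
    change Module.Flat K K'
    infer_instance
  haveI : Surjective (Spec.map ι) := by
    constructor
    intro x
    have hne : Nonempty (Spec (.of K')) := inferInstanceAs (Nonempty (PrimeSpectrum K'))
    obtain ⟨y⟩ := hne
    have hsub : Subsingleton (Spec (.of K)) := inferInstanceAs (Subsingleton (PrimeSpectrum K))
    exact ⟨y, Subsingleton.elim _ _⟩
  exact Flat.epi_of_flat_of_surjective _

/-- The absolute Frobenius is universally injective. -/
theorem frob_universallyInjective (Z : Scheme.{u}) [IsCharP Z p] :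
    UniversallyInjective (frob Z p) := by
  refine ((tfae_universallyInjective (frob Z p)).out 0 1).mpr ?_
  intro K _ g₁ g₂ hg
  dsimp only at hg
  haveI : IsCharP (Spec (.of K)) p := IsCharP.of_hom g₁ p
  have hK : (p : K) = 0 := natCast_eq_zero_of_isCharP_Spec (p := p) (.of K)
  haveI : Epi (frob (Spec (.of K)) p) := by
    rw [frob_Spec p (.of K) hK]
    exact epi_SpecMap_of_field _
  rw [← cancel_epi (frob (Spec (.of K)) p), frob_comp, frob_comp, hg]

/-- The absolute Frobenius is surjective. -/
theorem frob_surjective (Z : Scheme.{u}) [IsCharP Z p] : Surjective (frob Z p) :=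
  ⟨fun z => ⟨z, rfl⟩⟩

/-- A scheme étale over a perfect scheme is perfect. -/
theorem isPerfect_of_etale {Z Y : Scheme.{u}} [IsCharP Z p] [IsCharP Y p] (g : Z ⟶ Y) [Etale g]
    (hY : IsPerfect Y p) : IsPerfect Z p := by
  haveI : IsIso (frob Y p) := hY
  haveI : Etale (frob Z p ≫ g) := by
    rw [frob_comp]
    infer_instance
  haveI : Etale (frob Z p) := Etale.of_comp (frob Z p) g
  haveI := frob_universallyInjective (p := p) Z
  haveI := frob_surjective (p := p) Z
  haveI : IsOpenImmersion (frob Z p) := isOpenImmersion_of_etale_of_universallyInjective _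
  exact (isIso_iff_isOpenImmersion_and_surjective _).mpr ⟨inferInstance, inferInstance⟩

set_option backward.isDefEq.respectTransparency false in
/-- The base change of a perfection along an étale morphism is a perfection. -/
theorem isPerfection_pullback_snd {X Y YP : Scheme.{u}} [IsCharP YP p] {πY : YP ⟶ Y}
    (hY : IsPerfection πY p) (f : X ⟶ Y) [Etale f] [IsCharP (pullback πY f) p] :
    IsPerfection (pullback.snd πY f) p := by
  refine ⟨isPerfect_of_etale (pullback.fst πY f) hY.1, ?_⟩
  intro T _ hT
  constructor
  · intro t₁ t₂ h
    dsimp only at h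
    apply pullback.hom_ext
    · apply (hY.2 T hT).1
      dsimp only
      rw [Category.assoc, Category.assoc, pullback.condition, ← Category.assoc, ← Category.assoc, h]
    · exact h
  · intro s
    obtain ⟨b, hb⟩ := (hY.2 T hT).2 (s ≫ f)
    dsimp only at hb
    exact ⟨pullback.lift b s hb, pullback.lift_snd _ _ _⟩

end Groth.Agent.Lib.Helper25
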