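import Mathlib
import Groth.Agent.Lib.Helper25.ValCenter

/-!
# Quasi-compactness from the valuative criterion (finitely many irreducible components)

Helper lemmas for `Groth.Agent.S19036`.
-/

set_option autoImplicit false
set_option linter.style.haveILetI false

universe u

open CategoryTheory CategoryTheory.Limits AlgebraicGeometry IsLocalRing Topology

namespace Groth.Agent.Lib.Helper25.QCValCrit

open Groth.Agent.Lib.Helper25.ValCenter

/-- The ultraproduct of a family of valuation subrings of a field along an ultrafilter. -/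
def ultraVal {K : Type*} [Field K] {ι : Type*} (𝒰 : Ultrafilter ι) (O : ι → ValuationSubring K) :
    ValuationSubring K where
  carrier := {a | ∀ᶠ t in (𝒰 : Filter ι), a ∈ O t}
  zero_mem' := Filter.Eventually.of_forall fun t => zero_mem (O t)
  one_mem' := Filter.Eventually.of_forall fun t => one_mem (O t)
  add_mem' := by
    intro a b ha hb
    exact (Filter.Eventually.and ha hb).mono fun t ht => add_mem ht.1 ht.2
  mul_mem' := by
    intro a b ha hb
    exact (Filter.Eventually.and ha hb).mono fun t ht => mul_mem ht.1 ht.2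
  neg_mem' := by
    intro a ha
    exact Filter.Eventually.mono ha fun t ht => neg_mem ht
  mem_or_inv_mem' := by
    intro a
    have h : ∀ᶠ t in (𝒰 : Filter ι), a ∈ O t ∨ a⁻¹ ∈ O t :=
      Filter.Eventually.of_forall fun t => (O t).mem_or_inv_mem a
    exact Ultrafilter.eventually_or.mp h

theorem mem_ultraVal {K : Type*} [Field K] {ι : Type*} (𝒰 : Ultrafilter ι)
    (O : ι → ValuationSubring K) (a : K) :
    a ∈ ultraVal 𝒰 O ↔ ∀ᶠ t in (𝒰 : Filter ι), a ∈ O t := Iff.rfl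

variable {X S : Scheme.{u}} {L : Type u} [Field L]

/-- Variant of `exists_lift_of_forall_mem` recording that the centre lies in the chart. -/
theorem exists_lift_mem_of_forall_mem (f : X ⟶ S) {S₀ : S.Opens} (hS₀ : IsAffineOpen S₀)
    {W : X.Opens} (hW : IsAffineOpen W) (e : W ≤ f ⁻¹ᵁ S₀)
    (t : Spec (CommRingCat.of L) ⟶ X) (ρ : Γ(X, W) ⟶ CommRingCat.of L)
    (hρ : Spec.map ρ ≫ hW.fromSpec = t)
    (V : ValuationSubring L) (y : Spec (CommRingCat.of V) ⟶ S)
    (hy : Spec.map (CommRingCat.ofHom V.subtype) ≫ y = t ≫ f)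
    (hyS₀ : y (closedPoint V) ∈ S₀) (hmem : ∀ x, ρ.hom x ∈ V) :
    ∃ l : Spec (CommRingCat.of V) ⟶ X, l ≫ f = y ∧
      Spec.map (CommRingCat.ofHom V.subtype) ≫ l = t ∧ l (closedPoint V) ∈ W := by
  obtain ⟨ρS, hρS⟩ := exists_rho y hS₀ (range_subset_of_closedPoint_mem y hyS₀)
  have key : f.appLE S₀ W e ≫ ρ = ρS ≫ CommRingCat.ofHom V.subtype := by
    apply rho_unique hS₀
    rw [Spec.map_comp, Category.assoc, IsAffineOpen.SpecMap_appLE_fromSpec f hS₀ hW e,
      ← Category.assoc, hρ, Spec.map_comp, Category.assoc, hρS, hy]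
  let ρ' : Γ(X, W) ⟶ CommRingCat.of V :=
    CommRingCat.ofHom (ρ.hom.codRestrict V.toSubring hmem)
  have hρ' : ρ' ≫ CommRingCat.ofHom V.subtype = ρ := by
    ext x; rfl
  refine ⟨Spec.map ρ' ≫ hW.fromSpec, ?_, ?_, ?_⟩
  · rw [Category.assoc, ← IsAffineOpen.SpecMap_appLE_fromSpec f hS₀ hW e, ← Category.assoc,
      ← Spec.map_comp, ← hρS]
    congr 2
    ext r
    have := congr($(key).hom r)
    exact this
  · rw [← Category.assoc, ← Spec.map_comp, hρ', hρ]
  · have : (Spec.map ρ' ≫ hW.fromSpec) (closedPoint V) ∈ Set.range hW.fromSpec :=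
      ⟨Spec.map ρ' (closedPoint V), rfl⟩
    rwa [hW.range_fromSpec] at this

/-- Every specialization `t` of `ξ` is the centre of a valuation subring of `κ(ξ)`. -/
theorem exists_valuationSubring_of_specializes (X : Scheme.{u}) (ξ : X) {t : X} (h : ξ ⤳ t) :
    ∃ (O : ValuationSubring (X.residueField ξ)) (l : Spec (CommRingCat.of O) ⟶ X),
      Spec.map (CommRingCat.ofHom O.subtype) ≫ l = X.fromSpecResidueField ξ ∧
        l (closedPoint O) = t := by
  let ρ : X.presheaf.stalk t ⟶ X.residueField ξ := X.presheaf.stalkSpecializes h ≫ X.residue ξ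
  obtain ⟨O, hO, hO_local⟩ := IsLocalRing.exists_factor_valuationRing ρ.hom
  let ρ' : X.presheaf.stalk t ⟶ CommRingCat.of O :=
    CommRingCat.ofHom (ρ.hom.codRestrict _ hO)
  refine ⟨O, Spec.map ρ' ≫ X.fromSpecStalk t, ?_, ?_⟩
  · rw [Scheme.fromSpecResidueField, ← Scheme.SpecMap_stalkSpecializes_fromSpecStalk h,
      ← Category.assoc, ← Spec.map_comp, ← Category.assoc, ← Spec.map_comp]
    rfl
  · have : Spec.map ρ' (closedPoint O) = closedPoint (X.presheaf.stalk t) :=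
      comap_closedPoint (S := O) (ρ.hom.codRestrict O.toSubring hO)
    change (X.fromSpecStalk t) ((Spec.map ρ') (closedPoint O)) = t
    rw [this, X.fromSpecStalk_closedPoint]

/-- Under the valuative criterion, the specializations of a point lying over an affine open of
the base form a quasi-compact set. -/
theorem isCompact_specializations_inter {X Y : Scheme.{u}} (f : X ⟶ Y) [LocallyOfFiniteType f]
    (hf : ValuativeCriterion f) {V : Y.Opens} (hV : IsAffineOpen V) (ξ : X)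
    (hξ : ξ ∈ f ⁻¹ᵁ V) :
    IsCompact ({t : X | ξ ⤳ t} ∩ ((f ⁻¹ᵁ V : X.Opens) : Set X)) := by
  rw [isCompact_iff_ultrafilter_le_nhds']
  intro 𝒰 hT
  have hT' : ∀ᶠ t in (𝒰 : Filter X), ξ ⤳ t ∧ t ∈ f ⁻¹ᵁ V := hT
  obtain ⟨i₁, hi₁⟩ : ∃ i₁ : Spec (X.residueField ξ) ⟶ X, i₁ = X.fromSpecResidueField ξ :=
    ⟨_, rfl⟩
  -- choose valuation rings
  have hch : ∀ t : X, ∃ (O : ValuationSubring (X.residueField ξ)), (ξ ⤳ t →
      ∃ l : Spec (CommRingCat.of O) ⟶ X, Spec.map (CommRingCat.ofHom O.subtype) ≫ l = i₁ ∧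
        l (closedPoint O) = t) := by
    intro t
    by_cases h : ξ ⤳ t
    · obtain ⟨O, l, h1, h2⟩ := exists_valuationSubring_of_specializes X ξ h
      exact ⟨O, fun _ => ⟨l, hi₁ ▸ h1, h2⟩⟩
    · exact ⟨⊤, fun h' => absurd h' h⟩
  choose O hO using hch
  have hrange1 : Set.range i₁ ⊆ {ξ} := by
    rintro _ ⟨z, rfl⟩
    rw [hi₁, Scheme.fromSpecResidueField_apply]; rfl
  have hrange : Set.range (i₁ ≫ f) ⊆ (V : Set Y) := by
    rintro _ ⟨z, rfl⟩
    have : i₁ z = ξ := hrange1 ⟨z, rfl⟩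
    rw [Scheme.Hom.comp_apply, this]
    exact hξ
  obtain ⟨ρY, hρY⟩ := exists_rho (i₁ ≫ f) hV hrange
  have hρYt : ∀ t, ξ ⤳ t → t ∈ f ⁻¹ᵁ V → ∀ a, ρY.hom a ∈ O t := by
    intro t h1 h2 a
    obtain ⟨l, hl1, hl2⟩ := hO t h1
    refine forall_mem_of_lift hV (i₁ ≫ f) ρY hρY (O t) (l ≫ f)
      ((Category.assoc _ _ _).symm.trans (congrArg (· ≫ f) hl1)) ?_ a
    change f (l (closedPoint (O t))) ∈ V
    rw [hl2]
    exact h2
  have hρY𝒰 : ∀ a, ρY.hom a ∈ (ultraVal 𝒰 O).toSubring := fun a =>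
    hT'.mono fun t ht => hρYt t ht.1 ht.2 a
  -- the ultraproduct valuation ring and its morphism to `Y`
  obtain ⟨R, hR⟩ : ∃ R : ValuationSubring (X.residueField ξ), R = ultraVal 𝒰 O := ⟨_, rfl⟩
  have hρYR : ∀ a, ρY.hom a ∈ R.toSubring := by rw [hR]; exact hρY𝒰
  let ρY' : Γ(Y, V) ⟶ CommRingCat.of R := CommRingCat.ofHom (ρY.hom.codRestrict R.toSubring hρYR)
  have hρY' : ρY' ≫ CommRingCat.ofHom R.subtype = ρY := by ext x; rfl
  let y : Spec (CommRingCat.of R) ⟶ Y := Spec.map ρY' ≫ hV.fromSpec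
  have w : i₁ ≫ f = Spec.map (CommRingCat.ofHom (algebraMap R (X.residueField ξ))) ≫ y := by
    rw [← hρY, ← hρY', Spec.map_comp, Category.assoc]
    rfl
  obtain ⟨l, hl₁, hl₂⟩ := (hf.existence
    { R := R, K := X.residueField ξ, i₁ := i₁, i₂ := y, commSq := ⟨w⟩ }).exists_lift
  dsimp only at hl₁ hl₂
  have hl₁' : Spec.map (CommRingCat.ofHom R.subtype) ≫ l = i₁ := hl₁
  have hξc : ξ ⤳ l (closedPoint R) := by
    have h0 : i₁ (closedPoint (X.residueField ξ)) = ξ := hrange1 ⟨_, rfl⟩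
    have h1 : (Spec.map (CommRingCat.ofHom R.subtype) ≫ l) (closedPoint (X.residueField ξ)) = ξ :=
      hl₁'.symm ▸ h0
    have h2 : (Spec.map (CommRingCat.ofHom R.subtype) ≫ l) (closedPoint (X.residueField ξ)) ⤳
        l (closedPoint R) := (specializes_closedPoint
      (Spec.map (CommRingCat.ofHom R.subtype) (closedPoint (X.residueField ξ)))).map l.continuous
    exact (specializes_of_eq h1.symm).trans h2
  have hcV : l (closedPoint R) ∈ f ⁻¹ᵁ V := by
    change f (l (closedPoint R)) ∈ V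
    have : (l ≫ f) (closedPoint R) = y (closedPoint R) := by rw [hl₂]
    change f (l (closedPoint R)) = _ at this
    rw [this]
    have : y (closedPoint R) ∈ Set.range hV.fromSpec := ⟨Spec.map ρY' (closedPoint R), rfl⟩
    rwa [hV.range_fromSpec] at this
  refine ⟨l (closedPoint R), ⟨hξc, hcV⟩, ?_⟩
  intro N hN
  obtain ⟨N', hN'N, hN'o, hcN'⟩ := mem_nhds_iff.mp hN
  -- an affine open neighbourhood of the centre inside `N ∩ f⁻¹ V`
  have hopen : IsOpen (N' ∩ ((f ⁻¹ᵁ V : X.Opens) : Set X)) := hN'o.inter (f ⁻¹ᵁ V).2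
  obtain ⟨_, ⟨U', hU' : IsAffineOpen U', rfl⟩, hcU', hU'sub⟩ :=
    X.isBasis_affineOpens.exists_subset_of_mem_open
      (show l (closedPoint R) ∈ N' ∩ ((f ⁻¹ᵁ V : X.Opens) : Set X) from ⟨hcN', hcV⟩) hopen
  have e : U' ≤ f ⁻¹ᵁ V := fun z hz => (hU'sub hz).2
  have hξU' : ξ ∈ U' := hξc.mem_open U'.2 hcU'
  have hrangeU' : Set.range i₁ ⊆ (U' : Set X) := by
    rintro _ ⟨z, rfl⟩
    have : i₁ z = ξ := hrange1 ⟨z, rfl⟩
    rw [this]
    exact hξU'
  obtain ⟨ρ', hρ'⟩ := exists_rho i₁ hU' hrangeU'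
  have hρ'R : ∀ b, ρ'.hom b ∈ R := forall_mem_of_lift hU' i₁ ρ' hρ' R l hl₁' hcU'
  have hcompat : f.appLE V U' e ≫ ρ' = ρY := by
    apply rho_unique hV
    rw [Spec.map_comp, Category.assoc, IsAffineOpen.SpecMap_appLE_fromSpec f hV hU' e,
      ← Category.assoc, hρ', hρY]
  -- finitely many generators
  have hft : (f.appLE V U' e).hom.FiniteType := f.finiteType_appLE hV hU' e
  algebraize [(f.appLE V U' e).hom]
  obtain ⟨G, hG⟩ := (Algebra.FiniteType.out : (⊤ : Subalgebra Γ(Y, V) Γ(X, U')).FG)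
  have hG𝒰 : ∀ᶠ t in (𝒰 : Filter X), ∀ b ∈ G, ρ'.hom b ∈ O t := by
    rw [Filter.eventually_all_finset]
    intro b _
    have := hρ'R b
    rw [hR] at this
    exact this
  refine Filter.mem_of_superset (Filter.Eventually.and hT' hG𝒰) ?_
  rintro t ⟨⟨ht1, ht2⟩, ht3⟩
  apply hN'N
  refine (hU'sub ?_).1
  -- `ρ'` lands in `O t`
  have hmem : ∀ x, ρ'.hom x ∈ O t := by
    intro x
    have hx : x ∈ Algebra.adjoin Γ(Y, V) (G : Set Γ(X, U')) := by rw [hG]; trivial
    induction hx using Algebra.adjoin_induction with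
    | mem x hx => exact ht3 x hx
    | algebraMap r =>
      have : ρ'.hom (algebraMap Γ(Y, V) Γ(X, U') r) = ρY.hom r := by
        rw [← hcompat]; rfl
      rw [this]
      exact hρYt t ht1 ht2 r
    | add x y _ _ hx hy => rw [map_add]; exact add_mem hx hy
    | mul x y _ _ hx hy => rw [map_mul]; exact mul_mem hx hy
  obtain ⟨lt, hlt1, hlt2⟩ := hO t ht1
  have hyV : (lt ≫ f) (closedPoint (O t)) ∈ V := by
    change f (lt (closedPoint (O t))) ∈ V
    rw [hlt2]
    exact ht2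
  obtain ⟨l', hl'1, hl'2, hl'3⟩ := exists_lift_mem_of_forall_mem f hV hU' e i₁ ρ' hρ' (O t)
    (lt ≫ f) ((Category.assoc _ _ _).symm.trans (congrArg (· ≫ f) hlt1)) hyV hmem
  -- uniqueness of lifts
  have wt : i₁ ≫ f = Spec.map (CommRingCat.ofHom (algebraMap (O t) (X.residueField ξ))) ≫
      (lt ≫ f) := ((Category.assoc _ _ _).symm.trans (congrArg (· ≫ f) hlt1)).symm
  have hsub := hf.uniqueness
    { R := O t, K := X.residueField ξ, i₁ := i₁, i₂ := lt ≫ f, commSq := ⟨wt⟩ }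
  have heq : l' = lt := by
    have := @Subsingleton.elim _ hsub ⟨l', hl'2, hl'1⟩ ⟨lt, hlt1, rfl⟩
    exact congrArg CommSq.LiftStruct.l this
  rw [← hlt2, ← heq]
  exact hl'3

/-- A locally finite type morphism satisfying the valuative criterion, whose source has finitely
many irreducible components, is quasi-compact. -/
theorem quasiCompact_of_valuativeCriterion {X Y : Scheme.{u}} (f : X ⟶ Y) [LocallyOfFiniteType f]
    (hf : ValuativeCriterion f) (hX : (irreducibleComponents ↥X).Finite) :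
    QuasiCompact f := by
  rw [quasiCompact_iff_forall_isAffineOpen]
  intro V hV
  have hcover : ((f ⁻¹ᵁ V : X.Opens) : Set X) =
      ⋃ Z ∈ irreducibleComponents ↥X, (Z ∩ ((f ⁻¹ᵁ V : X.Opens) : Set X)) := by
    rw [← Set.iUnion₂_inter, ← Set.sUnion_eq_biUnion, sUnion_irreducibleComponents, Set.univ_inter]
  rw [hcover]
  refine hX.isCompact_biUnion fun Z hZ => ?_
  have hZirr : IsIrreducible Z := hZ.1
  have hZcl : IsClosed Z := isClosed_of_mem_irreducibleComponents Z hZ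
  obtain ⟨ξ, hξ⟩ := QuasiSober.sober hZirr hZcl
  have hZeq : Z = {t : X | ξ ⤳ t} := by
    ext t
    rw [Set.mem_ofPred_eq, specializes_iff_mem_closure, hξ.def]
  by_cases h : ξ ∈ f ⁻¹ᵁ V
  · rw [hZeq]
    exact isCompact_specializations_inter f hf hV ξ h
  · have : Z ∩ ((f ⁻¹ᵁ V : X.Opens) : Set X) = ∅ := by
      rw [Set.eq_empty_iff_forall_notMem]
      rintro t ⟨ht1, ht2⟩
      rw [hZeq] at ht1
      exact h (ht1.mem_open (f ⁻¹ᵁ V).2 ht2)
    rw [this]
    exact isCompact_empty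

end Groth.Agent.Lib.Helper25.QCValCrit
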