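import Mathlib.Topology.LocallyClosed
import Mathlib.Topology.Sets.Opens
import Mathlib.Data.Set.Finite.Lattice
import Mathlib.Data.Set.Finite.Basic
import Mathlib.Topology.NoetherianSpace
import Mathlib.Topology.Compactness.Compact

/-!
Quasi-constructible sets (finite unions of locally closed sets), locally quasi-constructible sets,
very dense subsets and quasi-homeomorphisms (EGA IV 10.1-10.2), elementary part.
-/

set_option autoImplicit false

namespace Groth.Agent.Lib.Helper25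

universe u

variable {X : Type u} [TopologicalSpace X]

/-- Finite union of locally closed subsets. -/
def IsQC (Z : Set X) : Prop :=
  ∃ T : Set (Set X), T.Finite ∧ (∀ t ∈ T, IsLocallyClosed t) ∧ Z = ⋃₀ T

/-- Locally (on the ambient space) a finite union of locally closed subsets. -/
def IsLQC (Z : Set X) : Prop :=
  ∀ x : X, ∃ U : Set X, IsOpen U ∧ x ∈ U ∧
    ∃ T : Set (Set X), T.Finite ∧ (∀ t ∈ T, IsLocallyClosed t) ∧ U ∩ Z = ⋃₀ T

lemma isLQC_iff (Z : Set X) : IsLQC Z ↔ ∀ x : X, ∃ U : Set X, IsOpen U ∧ x ∈ U ∧ IsQC (U ∩ Z) :=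
  Iff.rfl

lemma IsQC.empty : IsQC (∅ : Set X) := ⟨∅, Set.finite_empty, by simp, by simp⟩

lemma _root_.IsLocallyClosed.isQC' {Z : Set X} (h : IsLocallyClosed Z) : IsQC Z :=
  ⟨{Z}, Set.finite_singleton _, by simpa using h, by simp⟩

lemma IsQC.univ : IsQC (Set.univ : Set X) := isOpen_univ.isLocallyClosed.isQC'

lemma IsQC.union {Z Z' : Set X} (h : IsQC Z) (h' : IsQC Z') : IsQC (Z ∪ Z') := by
  obtain ⟨T, hT, hTl, rfl⟩ := h
  obtain ⟨T', hT', hTl', rfl⟩ := h'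
  refine ⟨T ∪ T', hT.union hT', ?_, (Set.sUnion_union T T').symm⟩
  rintro t (ht | ht)
  · exact hTl t ht
  · exact hTl' t ht

lemma IsQC.inter {Z Z' : Set X} (h : IsQC Z) (h' : IsQC Z') : IsQC (Z ∩ Z') := by
  obtain ⟨T, hT, hTl, rfl⟩ := h
  obtain ⟨T', hT', hTl', rfl⟩ := h'
  refine ⟨Set.image2 (· ∩ ·) T T', hT.image2 _ hT', ?_, ?_⟩
  · rintro _ ⟨a, ha, b, hb, rfl⟩
    exact (hTl a ha).inter (hTl' b hb)
  · ext x
    constructor
    · rintro ⟨⟨a, ha, hxa⟩, ⟨b, hb, hxb⟩⟩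
      exact ⟨a ∩ b, ⟨a, ha, b, hb, rfl⟩, hxa, hxb⟩
    · rintro ⟨_, ⟨a, ha, b, hb, rfl⟩, hxa, hxb⟩
      exact ⟨⟨a, ha, hxa⟩, ⟨b, hb, hxb⟩⟩

lemma IsQC.compl {Z : Set X} (h : IsQC Z) : IsQC Zᶜ := by
  obtain ⟨T, hT, hTl, rfl⟩ := h
  induction T, hT using Set.Finite.induction_on with
  | empty => simpa using IsQC.univ
  | @insert a s _ _ ih =>
    rw [Set.sUnion_insert, Set.compl_union]
    refine IsQC.inter ?_ (ih fun t ht => hTl t (Set.mem_insert_of_mem _ ht))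
    obtain ⟨U, F, hU, hF, rfl⟩ := hTl a (Set.mem_insert _ _)
    rw [Set.compl_inter]
    exact hU.isClosed_compl.isLocallyClosed.isQC'.union hF.isOpen_compl.isLocallyClosed.isQC'

lemma IsQC.diff {Z Z' : Set X} (h : IsQC Z) (h' : IsQC Z') : IsQC (Z \ Z') := h.inter h'.compl

lemma IsQC.isLQC {Z : Set X} (h : IsQC Z) : IsLQC Z := fun x => by
  obtain ⟨T, hT, hTl, rfl⟩ := h
  exact ⟨Set.univ, isOpen_univ, trivial, T, hT, hTl, Set.univ_inter _⟩

lemma IsLQC.inter_open {Z U : Set X} (h : IsLQC Z) (hU : IsOpen U) : IsLQC (U ∩ Z) := by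
  intro x
  obtain ⟨V, hV, hxV, hq⟩ := h x
  refine ⟨V, hV, hxV, ?_⟩
  have : V ∩ (U ∩ Z) = U ∩ (V ∩ Z) := by
    ext y; simp only [Set.mem_inter_iff]; tauto
  change IsQC (V ∩ (U ∩ Z))
  rw [this]
  exact IsQC.inter hU.isLocallyClosed.isQC' hq

lemma IsLQC.diff {Z Z' : Set X} (h : IsLQC Z) (h' : IsLQC Z') : IsLQC (Z \ Z') := by
  intro x
  obtain ⟨V, hV, hxV, hq⟩ := h x
  obtain ⟨V', hV', hxV', hq'⟩ := h' x
  refine ⟨V ∩ V', hV.inter hV', ⟨hxV, hxV'⟩, ?_⟩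
  have : (V ∩ V') ∩ (Z \ Z') = (V' ∩ (V ∩ Z)) \ (V' ∩ Z') := by
    ext y; simp only [Set.mem_inter_iff, Set.mem_sdiff]; tauto
  change IsQC ((V ∩ V') ∩ (Z \ Z'))
  rw [this]
  exact IsQC.diff (IsQC.inter hV'.isLocallyClosed.isQC' hq) hq'

lemma IsLQC.union {Z Z' : Set X} (h : IsLQC Z) (h' : IsLQC Z') : IsLQC (Z ∪ Z') := by
  intro x
  obtain ⟨V, hV, hxV, hq⟩ := h x
  obtain ⟨V', hV', hxV', hq'⟩ := h' x
  refine ⟨V ∩ V', hV.inter hV', ⟨hxV, hxV'⟩, ?_⟩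
  have : (V ∩ V') ∩ (Z ∪ Z') = (V' ∩ (V ∩ Z)) ∪ (V ∩ (V' ∩ Z')) := by
    ext y; simp only [Set.mem_inter_iff, Set.mem_union]; tauto
  change IsQC ((V ∩ V') ∩ (Z ∪ Z'))
  rw [this]
  exact IsQC.union (IsQC.inter hV'.isLocallyClosed.isQC' hq) (IsQC.inter hV.isLocallyClosed.isQC' hq')

lemma IsLQC.inter {Z Z' : Set X} (h : IsLQC Z) (h' : IsLQC Z') : IsLQC (Z ∩ Z') := by
  intro x
  obtain ⟨V, hV, hxV, hq⟩ := h x
  obtain ⟨V', hV', hxV', hq'⟩ := h' x
  refine ⟨V ∩ V', hV.inter hV', ⟨hxV, hxV'⟩, ?_⟩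
  have : (V ∩ V') ∩ (Z ∩ Z') = (V ∩ Z) ∩ (V' ∩ Z') := by
    ext y; simp only [Set.mem_inter_iff]; tauto
  change IsQC ((V ∩ V') ∩ (Z ∩ Z'))
  rw [this]
  exact IsQC.inter hq hq'

/-- `X₀` is very dense in `X`: every nonempty locally closed subset meets `X₀`. -/
def IsVeryDense (X₀ : Set X) : Prop :=
  ∀ Z : Set X, IsLocallyClosed Z → Z.Nonempty → (Z ∩ X₀).Nonempty

lemma IsVeryDense.nonempty_of_isLQC {X₀ Z : Set X} (h : IsVeryDense X₀) (hZ : IsLQC Z)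
    (hne : Z.Nonempty) : (Z ∩ X₀).Nonempty := by
  obtain ⟨x, hx⟩ := hne
  obtain ⟨U, _, hxU, T, _, hTl, hUZ⟩ := hZ x
  have hxT : x ∈ ⋃₀ T := hUZ ▸ ⟨hxU, hx⟩
  obtain ⟨t, ht, hxt⟩ := hxT
  obtain ⟨y, hyt, hy0⟩ := h t (hTl t ht) ⟨x, hxt⟩
  have : y ∈ U ∩ Z := hUZ ▸ ⟨t, ht, hyt⟩
  exact ⟨y, this.2, hy0⟩

lemma IsVeryDense.eq_of_isLQC {X₀ Z Z' : Set X} (h : IsVeryDense X₀) (hZ : IsLQC Z)
    (hZ' : IsLQC Z') (heq : Z ∩ X₀ = Z' ∩ X₀) : Z = Z' := by
  apply subset_antisymm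
  · by_contra hsub
    obtain ⟨x, hxZ, hxZ'⟩ := Set.not_subset.mp hsub
    obtain ⟨y, ⟨hyZ, hyZ'⟩, hy0⟩ := h.nonempty_of_isLQC (hZ.diff hZ') ⟨x, hxZ, hxZ'⟩
    have : y ∈ Z' ∩ X₀ := heq ▸ ⟨hyZ, hy0⟩
    exact hyZ' this.1
  · by_contra hsub
    obtain ⟨x, hxZ', hxZ⟩ := Set.not_subset.mp hsub
    obtain ⟨y, ⟨hyZ', hyZ⟩, hy0⟩ := h.nonempty_of_isLQC (hZ'.diff hZ) ⟨x, hxZ', hxZ⟩
    have : y ∈ Z ∩ X₀ := heq.symm ▸ ⟨hyZ', hy0⟩
    exact hyZ this.1

section QuasiHomeo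

variable {Y : Type u} [TopologicalSpace Y]

/-- `f` is a quasi-homeomorphism, set form: taking preimages is injective on opens of `Y` and
every open of `X` is the preimage of an open of `Y`. -/
def IsQH (f : X → Y) : Prop :=
  (∀ U₁ U₂ : Set Y, IsOpen U₁ → IsOpen U₂ → f ⁻¹' U₁ = f ⁻¹' U₂ → U₁ = U₂) ∧
    (∀ V : Set X, IsOpen V → ∃ U : Set Y, IsOpen U ∧ f ⁻¹' U = V)

lemma isQH_of_bijective_opens (f : X → Y) (hf : Continuous f)
    (hq : Function.Bijective (fun U : TopologicalSpace.Opens Y =>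
      (⟨f ⁻¹' (U : Set Y), U.isOpen.preimage hf⟩ : TopologicalSpace.Opens X))) : IsQH f := by
  constructor
  · intro U₁ U₂ h₁ h₂ heq
    have := @hq.1 ⟨U₁, h₁⟩ ⟨U₂, h₂⟩ (TopologicalSpace.Opens.ext heq)
    exact congrArg SetLike.coe this
  · intro V hV
    obtain ⟨U, hU⟩ := hq.2 ⟨V, hV⟩
    exact ⟨U, U.isOpen, congrArg SetLike.coe hU⟩

lemma IsQH.isVeryDense_range {f : X → Y} (h : IsQH f) : IsVeryDense (Set.range f) := by
  rintro _ ⟨U, F, hU, hF, rfl⟩ hne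
  by_contra hempty
  rw [Set.not_nonempty_iff_eq_empty] at hempty
  have : U = U ∩ Fᶜ := by
    apply h.1 U (U ∩ Fᶜ) hU (hU.inter hF.isOpen_compl)
    ext x
    constructor
    · intro hx
      refine ⟨hx, fun hxF => ?_⟩
      have : f x ∈ U ∩ F ∩ Set.range f := ⟨⟨hx, hxF⟩, x, rfl⟩
      rw [hempty] at this
      exact this
    · intro hx
      exact hx.1
  obtain ⟨y, hyU, hyF⟩ := hne
  rw [this] at hyU
  exact hyU.2 hyF

lemma IsQH.preimage_injective_of_isLQC {f : X → Y} (h : IsQH f) {Z Z' : Set Y}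
    (hZ : IsLQC Z) (hZ' : IsLQC Z') (heq : f ⁻¹' Z = f ⁻¹' Z') : Z = Z' := by
  apply h.isVeryDense_range.eq_of_isLQC hZ hZ'
  ext y
  constructor
  · rintro ⟨hy, x, rfl⟩
    have : x ∈ f ⁻¹' Z := hy
    rw [heq] at this
    exact ⟨this, x, rfl⟩
  · rintro ⟨hy, x, rfl⟩
    have : x ∈ f ⁻¹' Z' := hy
    rw [← heq] at this
    exact ⟨this, x, rfl⟩

/-- The restriction of a quasi-homeomorphism over a locally quasi-constructible subset is a
quasi-homeomorphism. -/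
lemma IsQH.restrictPreimage {f : X → Y} (h : IsQH f) {Y' : Set Y} (hY' : IsLQC Y') :
    IsQH (Y'.restrictPreimage f) := by
  constructor
  · intro U₁ U₂ hU₁ hU₂ heq
    obtain ⟨U₁', hU₁', rfl⟩ := isOpen_induced_iff.mp hU₁
    obtain ⟨U₂', hU₂', rfl⟩ := isOpen_induced_iff.mp hU₂
    have key : U₁' ∩ Y' = U₂' ∩ Y' := by
      apply h.preimage_injective_of_isLQC (hY'.inter_open hU₁') (hY'.inter_open hU₂')
      ext x
      constructor
      · rintro ⟨hx1, hxY⟩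
        have : (⟨x, hxY⟩ : ↥(f ⁻¹' Y')) ∈
            (Y'.restrictPreimage f) ⁻¹' (Subtype.val ⁻¹' U₁') := hx1
        rw [heq] at this
        exact ⟨this, hxY⟩
      · rintro ⟨hx2, hxY⟩
        have : (⟨x, hxY⟩ : ↥(f ⁻¹' Y')) ∈
            (Y'.restrictPreimage f) ⁻¹' (Subtype.val ⁻¹' U₂') := hx2
        rw [← heq] at this
        exact ⟨this, hxY⟩
    ext ⟨y, hy⟩
    constructor
    · intro hy1
      have : y ∈ U₁' ∩ Y' := ⟨hy1, hy⟩
      rw [key] at this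
      exact this.1
    · intro hy2
      have : y ∈ U₂' ∩ Y' := ⟨hy2, hy⟩
      rw [← key] at this
      exact this.1
  · intro V hV
    obtain ⟨V', hV', rfl⟩ := isOpen_induced_iff.mp hV
    obtain ⟨U', hU', rfl⟩ := h.2 V' hV'
    exact ⟨Subtype.val ⁻¹' U', hU'.preimage continuous_subtype_val, rfl⟩

lemma IsQH.subset_of_preimage_subset {f : X → Y} (h : IsQH f) {U U' : Set Y} (hU : IsOpen U)
    (hU' : IsOpen U') (hsub : f ⁻¹' U ⊆ f ⁻¹' U') : U ⊆ U' := by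
  have : U ∩ U' = U := by
    apply h.1 _ _ (hU.inter hU') hU
    rw [Set.preimage_inter]
    exact Set.inter_eq_left.mpr hsub
  exact Set.inter_eq_left.mp this

lemma IsQH.isCompact_preimage_iff_of_isOpen {f : X → Y} (hf : Continuous f) (h : IsQH f)
    {U : Set Y} (hU : IsOpen U) : IsCompact (f ⁻¹' U) ↔ IsCompact U := by
  constructor
  · intro hc
    rw [isCompact_iff_finite_subcover]
    intro ι W hW hUW
    have hcov : f ⁻¹' U ⊆ ⋃ i, f ⁻¹' (W i) := by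
      rw [← Set.preimage_iUnion]
      exact Set.preimage_mono hUW
    obtain ⟨t, ht⟩ := hc.elim_finite_subcover (fun i => f ⁻¹' (W i))
      (fun i => (hW i).preimage hf) hcov
    refine ⟨t, h.subset_of_preimage_subset hU (isOpen_biUnion fun i _ => hW i) ?_⟩
    simpa only [Set.preimage_iUnion] using ht
  · intro hc
    rw [isCompact_iff_finite_subcover]
    intro ι V hV hUV
    choose W hW hWV using fun i => h.2 (V i) (hV i)
    have hcov : U ⊆ ⋃ i, W i := by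
      apply h.subset_of_preimage_subset hU (isOpen_iUnion hW)
      rw [Set.preimage_iUnion]
      simpa only [hWV] using hUV
    obtain ⟨t, ht⟩ := hc.elim_finite_subcover W hW hcov
    refine ⟨t, ?_⟩
    have := Set.preimage_mono (f := f) ht
    simpa only [Set.preimage_iUnion, hWV] using this

lemma IsQH.compactSpace_iff {f : X → Y} (hf : Continuous f) (h : IsQH f) :
    CompactSpace X ↔ CompactSpace Y := by
  rw [← isCompact_univ_iff, ← isCompact_univ_iff, ← h.isCompact_preimage_iff_of_isOpen hf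
    isOpen_univ, Set.preimage_univ]

lemma IsQH.noetherianSpace_iff {f : X → Y} (hf : Continuous f) (h : IsQH f) :
    TopologicalSpace.NoetherianSpace X ↔ TopologicalSpace.NoetherianSpace Y := by
  rw [TopologicalSpace.noetherianSpace_iff_opens, TopologicalSpace.noetherianSpace_iff_opens]
  constructor
  · intro hX U
    exact (h.isCompact_preimage_iff_of_isOpen hf U.isOpen).mp (hX ⟨_, U.isOpen.preimage hf⟩)
  · intro hY V
    obtain ⟨U, hU, hUV⟩ := h.2 V V.isOpen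
    have := (h.isCompact_preimage_iff_of_isOpen hf hU).mpr (hY ⟨U, hU⟩)
    rw [hUV] at this
    exact this

/-- For a quasi-homeomorphism and a locally quasi-constructible `Z`: `f ⁻¹' Z` is quasi-compact
iff `Z` is. -/
lemma IsQH.isCompact_preimage_iff_of_isLQC {f : X → Y} (hf : Continuous f) (h : IsQH f)
    {Z : Set Y} (hZ : IsLQC Z) : IsCompact (f ⁻¹' Z) ↔ IsCompact Z := by
  rw [isCompact_iff_compactSpace, isCompact_iff_compactSpace]
  exact (h.restrictPreimage hZ).compactSpace_iff hf.restrictPreimage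

lemma IsQH.noetherianSpace_preimage_iff_of_isLQC {f : X → Y} (hf : Continuous f) (h : IsQH f)
    {Z : Set Y} (hZ : IsLQC Z) :
    TopologicalSpace.NoetherianSpace ↥(f ⁻¹' Z) ↔ TopologicalSpace.NoetherianSpace ↥Z :=
  (h.restrictPreimage hZ).noetherianSpace_iff hf.restrictPreimage

end QuasiHomeo

section Lift

/-- A quasi-constructible subset of a subspace is the trace of a quasi-constructible subset. -/
lemma IsQC.exists_preimage_val {X₀ : Set X} {S₀ : Set ↥X₀} (h : IsQC S₀) :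
    ∃ S : Set X, IsQC S ∧ Subtype.val ⁻¹' S = S₀ := by
  obtain ⟨T, hT, hTl, rfl⟩ := h
  induction T, hT using Set.Finite.induction_on with
  | empty => exact ⟨∅, IsQC.empty, by simp⟩
  | @insert a s _ _ ih =>
    obtain ⟨S, hS, hSs⟩ := ih fun t ht => hTl t (Set.mem_insert_of_mem _ ht)
    obtain ⟨a', ha', haa⟩ :=
      (Topology.IsInducing.subtypeVal.isLocallyClosed_iff).mp (hTl a (Set.mem_insert _ _))
    refine ⟨a' ∪ S, ha'.isQC'.union hS, ?_⟩
    rw [Set.preimage_union, haa, hSs, Set.sUnion_insert]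

/-- If `X₀` is very dense in `X`, every locally quasi-constructible subset of the subspace `X₀`
is the trace of a locally quasi-constructible subset of `X`. -/
lemma IsVeryDense.exists_isLQC_preimage_val {X₀ : Set X} (h : IsVeryDense X₀) {Z₀ : Set ↥X₀}
    (hZ₀ : IsLQC Z₀) : ∃ Z : Set X, IsLQC Z ∧ Subtype.val ⁻¹' Z = Z₀ := by
  classical
  have hloc : ∀ x : ↥X₀, ∃ U : Set X, IsOpen U ∧ (x : X) ∈ U ∧
      ∃ W : Set X, IsQC W ∧ W ⊆ U ∧ Subtype.val ⁻¹' W = Subtype.val ⁻¹' U ∩ Z₀ := by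
    intro x
    obtain ⟨U₀, hU₀, hxU₀, hq⟩ := hZ₀ x
    obtain ⟨U, hU, rfl⟩ := isOpen_induced_iff.mp hU₀
    obtain ⟨Q, hQ, hQq⟩ := IsQC.exists_preimage_val (hq : IsQC (Subtype.val ⁻¹' U ∩ Z₀))
    refine ⟨U, hU, hxU₀, U ∩ Q, IsQC.inter hU.isLocallyClosed.isQC' hQ, Set.inter_subset_left, ?_⟩
    rw [Set.preimage_inter, hQq, ← Set.inter_assoc, Set.inter_self]
  choose U hU hxU W hW hWU hWtr using hloc
  -- the `U x` cover `X`
  have hcover : ∀ p : X, ∃ x : ↥X₀, p ∈ U x := by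
    intro p
    by_contra hp
    push Not at hp
    have hC : IsClosed (⋃ x, U x)ᶜ := (isOpen_iUnion hU).isClosed_compl
    have hpC : p ∈ (⋃ x, U x)ᶜ := by
      simp only [Set.mem_compl_iff, Set.mem_iUnion, not_exists]
      exact hp
    obtain ⟨y, hyC, hy0⟩ := h _ hC.isLocallyClosed ⟨p, hpC⟩
    exact hyC (Set.mem_iUnion.mpr ⟨⟨y, hy0⟩, hxU ⟨y, hy0⟩⟩)
  -- compatibility on overlaps
  have hcompat : ∀ x y : ↥X₀, U x ∩ W y = U y ∩ W x := by
    intro x y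
    apply h.eq_of_isLQC (IsQC.inter (hU x).isLocallyClosed.isQC' (hW y)).isLQC
      (IsQC.inter (hU y).isLocallyClosed.isQC' (hW x)).isLQC
    have : (Subtype.val : ↥X₀ → X) ⁻¹' (U x ∩ W y) = Subtype.val ⁻¹' (U y ∩ W x) := by
      rw [Set.preimage_inter, Set.preimage_inter, hWtr, hWtr]
      ext z
      simp only [Set.mem_inter_iff, Set.mem_preimage]
      tauto
    have h2 := Subtype.preimage_coe_eq_preimage_coe_iff.mp this
    rw [Set.inter_comm, h2, Set.inter_comm]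
  have hUZ : ∀ x : ↥X₀, U x ∩ ⋃ y, W y = W x := by
    intro x
    rw [Set.inter_iUnion]
    ext p
    simp only [Set.mem_iUnion]
    constructor
    · rintro ⟨y, hp⟩
      rw [hcompat x y] at hp
      exact hp.2
    · intro hp
      obtain ⟨y, hy⟩ := hcover p
      refine ⟨y, ?_⟩
      rw [hcompat x y]
      exact ⟨hy, hp⟩
  refine ⟨⋃ y, W y, ?_, ?_⟩
  · intro p
    obtain ⟨x, hx⟩ := hcover p
    refine ⟨U x, hU x, hx, ?_⟩
    change IsQC (U x ∩ ⋃ y, W y)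
    rw [hUZ x]
    exact hW x
  · rw [Set.preimage_iUnion]
    ext z
    simp only [Set.mem_iUnion]
    constructor
    · rintro ⟨y, hz⟩
      have : z ∈ Subtype.val ⁻¹' (W y) := hz
      rw [hWtr] at this
      exact this.2
    · intro hz
      refine ⟨z, ?_⟩
      have : z ∈ Subtype.val ⁻¹' U z ∩ Z₀ := ⟨hxU z, hz⟩
      rw [← hWtr] at this
      exact this

end Lift

end Groth.Agent.Lib.Helper25
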