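import Mathlib

set_option autoImplicit false
set_option linter.style.haveILetI false
universe u

open CategoryTheory CategoryTheory.Limits AlgebraicGeometry TensorProduct

namespace Groth.Agent.Lib.Helper25.ReflSpec

section chart

variable {X Y : Scheme.{u}} (f : Y ⟶ X) {R C : Type u} [CommRing R] [CommRing C] [Algebra R C]
  (jU : Spec (CommRingCat.of R) ⟶ X) (jV : Spec (CommRingCat.of C) ⟶ Y)
  (hjf : jV ≫ f = Spec.map (CommRingCat.ofHom (algebraMap R C)) ≫ jU)

/-- The structure map `Spec B ⟶ X` of an `R`-algebra `B`. -/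
noncomputable def gB (B : Type u) [CommRing B] [Algebra R B] : Spec (CommRingCat.of B) ⟶ X :=
  Spec.map (CommRingCat.ofHom (algebraMap R B)) ≫ jU

include hjf in
lemma chart_aux (B : Type u) [CommRing B] [Algebra R B] :
    (Spec.map (CommRingCat.ofHom (Algebra.TensorProduct.includeLeftRingHom (R := R) (A := C) (B := B))) ≫ jV) ≫ f =
    Spec.map (CommRingCat.ofHom (Algebra.TensorProduct.includeRight (R := R) (A := C) (B := B)).toRingHom) ≫
      gB jU B := by
  rw [Category.assoc, hjf, gB, ← Spec.map_comp_assoc, ← Spec.map_comp_assoc]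
  congr 2
  ext r
  simp [Algebra.TensorProduct.algebraMap_apply]

/-- The affine chart `Spec (C ⊗ B) ⟶ Y ×_X Spec B`. -/
noncomputable def chart (B : Type u) [CommRing B] [Algebra R B] :
    Spec (CommRingCat.of (C ⊗[R] B)) ⟶ pullback f (gB jU B) :=
  pullback.lift _ _ (chart_aux f jU jV hjf B)

lemma chart_fst (B : Type u) [CommRing B] [Algebra R B] :
    chart f jU jV hjf B ≫ pullback.fst _ _ =
      Spec.map (CommRingCat.ofHom (Algebra.TensorProduct.includeLeftRingHom (R := R) (A := C) (B := B))) ≫ jV :=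
  pullback.lift_fst _ _ _

lemma chart_snd (B : Type u) [CommRing B] [Algebra R B] :
    chart f jU jV hjf B ≫ pullback.snd _ _ =
      Spec.map (CommRingCat.ofHom (Algebra.TensorProduct.includeRight (R := R) (A := C) (B := B)).toRingHom) :=
  pullback.lift_snd _ _ _

lemma chart_eq [Mono jU] (B : Type u) [CommRing B] [Algebra R B] :
    chart f jU jV hjf B = (pullbackSpecIso R C B).inv ≫
      pullback.map _ _ f (gB jU B) jV (𝟙 _) jU hjf.symm (by simp [gB]) := by
  apply pullback.hom_ext
  · rw [chart_fst, Category.assoc, pullback.lift_fst, pullbackSpecIso_inv_fst_assoc]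
  · rw [chart_snd, Category.assoc, pullback.lift_snd, Category.comp_id, pullbackSpecIso_inv_snd]
    rfl

instance [IsOpenImmersion jU] [IsOpenImmersion jV] (B : Type u) [CommRing B] [Algebra R B] :
    IsOpenImmersion (chart f jU jV hjf B) := by
  rw [chart_eq]
  infer_instance

lemma range_chart [IsOpenImmersion jU] (B : Type u) [CommRing B] [Algebra R B] :
    Set.range (chart f jU jV hjf B).base =
      (pullback.fst f (gB jU B)).base ⁻¹' Set.range jV.base := by
  rw [chart_eq, Scheme.Hom.comp_base, TopCat.coe_comp, Set.range_comp,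
    Set.range_eq_univ.mpr (pullbackSpecIso R C B).inv.surjective, Set.image_univ,
    Scheme.Pullback.range_map]
  simp

/-- The transition map induced by an algebra homomorphism. -/
noncomputable def trans {B B' : Type u} [CommRing B] [Algebra R B] [CommRing B'] [Algebra R B']
    (θ : B →ₐ[R] B') : pullback f (gB jU B') ⟶ pullback f (gB jU B) :=
  pullback.map f (gB jU B') f (gB jU B) (𝟙 Y) (Spec.map (CommRingCat.ofHom θ.toRingHom)) (𝟙 X)
    (by simp) (by
      rw [Category.comp_id, gB, gB, ← Spec.map_comp_assoc]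
      congr 2
      ext r
      simp)

lemma trans_fst {B B' : Type u} [CommRing B] [Algebra R B] [CommRing B'] [Algebra R B']
    (θ : B →ₐ[R] B') : trans f jU θ ≫ pullback.fst _ _ = pullback.fst _ _ := by
  rw [trans, pullback.lift_fst, Category.comp_id]

lemma trans_snd {B B' : Type u} [CommRing B] [Algebra R B] [CommRing B'] [Algebra R B']
    (θ : B →ₐ[R] B') : trans f jU θ ≫ pullback.snd _ _ =
      pullback.snd _ _ ≫ Spec.map (CommRingCat.ofHom θ.toRingHom) := by
  rw [trans, pullback.lift_snd]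

lemma chart_trans {B B' : Type u} [CommRing B] [Algebra R B] [CommRing B'] [Algebra R B']
    (θ : B →ₐ[R] B') : chart f jU jV hjf B' ≫ trans f jU θ =
      Spec.map (CommRingCat.ofHom (Algebra.TensorProduct.map (AlgHom.id R C) θ).toRingHom) ≫
        chart f jU jV hjf B := by
  apply pullback.hom_ext
  · rw [Category.assoc, trans_fst, chart_fst, Category.assoc, chart_fst, ← Spec.map_comp_assoc]
    congr 2
    ext c
    simp
  · rw [Category.assoc, trans_snd, ← Category.assoc, chart_snd, Category.assoc, chart_snd,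
      ← Spec.map_comp, ← Spec.map_comp]
    congr 1

end chart

/-- Reflecting specializations after every base change locally of finite type. -/
def ReflLft {X Y : Scheme.{u}} (f : Y ⟶ X) : Prop :=
  ∀ (X' : Scheme.{u}) (g : X' ⟶ X) [LocallyOfFiniteType g] (y₀ y₁ : ↥(pullback f g)),
    (pullback.snd f g).base y₁ ⤳ (pullback.snd f g).base y₀ → y₁ ⤳ y₀

section main

variable {X Y : Scheme.{u}} (f : Y ⟶ X) {R C : Type u} [CommRing R] [CommRing C] [Algebra R C]
  (jU : Spec (CommRingCat.of R) ⟶ X) (jV : Spec (CommRingCat.of C) ⟶ Y)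
  (hjf : jV ≫ f = Spec.map (CommRingCat.ofHom (algebraMap R C)) ≫ jU)

include hjf in
theorem specializes_of_chart (h : ReflLft f) [IsOpenImmersion jU] [IsOpenImmersion jV]
    (B' : Type u) [CommRing B'] [Algebra R B'] (y₀ y₁ : ↥(pullback f (gB jU B')))
    (hy₀ : (pullback.fst f (gB jU B')).base y₀ ∈ Set.range jV.base)
    (hsp : (pullback.snd f (gB jU B')).base y₁ ⤳ (pullback.snd f (gB jU B')).base y₀) :
    y₁ ⤳ y₀ := by
  classical
  rw [specializes_iff_forall_open]
  intro O hO hy₀O
  obtain ⟨z₀, hz₀⟩ : y₀ ∈ Set.range (chart f jU jV hjf B').base := by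
    rw [range_chart]; exact hy₀
  have hWopen : IsOpen ((chart f jU jV hjf B').base ⁻¹' O) :=
    hO.preimage (chart f jU jV hjf B').continuous
  have hz₀W : z₀ ∈ (chart f jU jV hjf B').base ⁻¹' O := by
    change (chart f jU jV hjf B').base z₀ ∈ O
    rw [hz₀]; exact hy₀O
  obtain ⟨_, ⟨t, rfl⟩, hz₀t, htW⟩ :=
    (PrimeSpectrum.isTopologicalBasis_basic_opens (R := C ⊗[R] B')).exists_subset_of_mem_open
      hz₀W hWopen
  obtain ⟨S, hS⟩ := TensorProduct.exists_finset t
  let B₁ := MvPolynomial (↥S) R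
  let θ : B₁ →ₐ[R] B' := MvPolynomial.aeval (fun i : ↥S => i.1.2)
  let t₁ : C ⊗[R] B₁ := ∑ i : ↥S, i.1.1 ⊗ₜ[R] (MvPolynomial.X i : B₁)
  let Θ : C ⊗[R] B₁ →ₐ[R] C ⊗[R] B' := Algebra.TensorProduct.map (AlgHom.id R C) θ
  have hΘ : Θ t₁ = t := by
    rw [hS, map_sum, ← Finset.sum_coe_sort S (fun i => i.1 ⊗ₜ[R] i.2)]
    refine Finset.sum_congr rfl fun i _ => ?_
    simp only [Θ, θ, Algebra.TensorProduct.map_tmul, AlgHom.coe_id, id_eq]
    rw [MvPolynomial.aeval_X]
  haveI : LocallyOfFiniteType (gB jU B₁) := by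
    haveI : LocallyOfFiniteType (Spec.map (CommRingCat.ofHom (algebraMap R B₁))) := by
      rw [HasRingHomProperty.Spec_iff (P := @LocallyOfFiniteType)]
      exact (RingHom.finiteType_algebraMap (A := R) (B := B₁)).mpr inferInstance
    unfold gB
    infer_instance
  let q := trans f jU θ
  have hq : q.base y₁ ⤳ q.base y₀ := by
    apply h _ (gB jU B₁)
    have e : ∀ y, (pullback.snd f (gB jU B₁)).base (q.base y) =
        (Spec.map (CommRingCat.ofHom θ.toRingHom)).base ((pullback.snd f (gB jU B')).base y) := by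
      intro y
      have : (q ≫ pullback.snd f (gB jU B₁)).base y =
        (pullback.snd f (gB jU B') ≫ Spec.map (CommRingCat.ofHom θ.toRingHom)).base y := by
        rw [trans_snd]
      exact this
    rw [e, e]
    exact hsp.map (Spec.map (CommRingCat.ofHom θ.toRingHom)).continuous
  have hnat : ∀ z, q.base ((chart f jU jV hjf B').base z) =
      (chart f jU jV hjf B₁).base ((Spec.map (CommRingCat.ofHom Θ.toRingHom)).base z) := by
    intro z
    have : (chart f jU jV hjf B' ≫ q).base z =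
      (Spec.map (CommRingCat.ofHom Θ.toRingHom) ≫ chart f jU jV hjf B₁).base z := by
      rw [chart_trans]
    exact this
  have hbo : ∀ z : PrimeSpectrum (C ⊗[R] B'),
      (Spec.map (CommRingCat.ofHom Θ.toRingHom)).base z ∈ PrimeSpectrum.basicOpen t₁ ↔
        z ∈ PrimeSpectrum.basicOpen t := by
    intro z
    rw [← hΘ]
    rfl
  let D₁ : Set ↥(Spec (CommRingCat.of (C ⊗[R] B₁))) :=
    (PrimeSpectrum.basicOpen t₁ : Set (PrimeSpectrum (C ⊗[R] B₁)))
  have hD₁ : IsOpen D₁ := (PrimeSpectrum.basicOpen t₁).isOpen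
  have hO₁ : IsOpen ((chart f jU jV hjf B₁).base '' D₁) :=
    (chart f jU jV hjf B₁).isOpenEmbedding.isOpenMap D₁ hD₁
  have hmem₀ : q.base y₀ ∈ (chart f jU jV hjf B₁).base '' D₁ := by
    rw [← hz₀, hnat]
    exact ⟨_, (hbo z₀).mpr hz₀t, rfl⟩
  obtain ⟨w₁, hw₁, hw₁q⟩ := hq.mem_open hO₁ hmem₀
  obtain ⟨z₁, hz₁⟩ : y₁ ∈ Set.range (chart f jU jV hjf B').base := by
    rw [range_chart]
    have e1 : (pullback.fst f (gB jU B')).base y₁ = (pullback.fst f (gB jU B₁)).base (q.base y₁) := by
      have : (q ≫ pullback.fst f (gB jU B₁)).base y₁ = (pullback.fst f (gB jU B')).base y₁ := by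
        rw [trans_fst]
      exact this.symm
    rw [Set.mem_preimage, e1, ← hw₁q]
    have : (chart f jU jV hjf B₁ ≫ pullback.fst f (gB jU B₁)).base w₁ ∈ Set.range jV.base := by
      rw [chart_fst]
      exact ⟨_, rfl⟩
    exact this
  have hz₁t : z₁ ∈ PrimeSpectrum.basicOpen t := by
    refine (hbo z₁).mp ?_
    have : (chart f jU jV hjf B₁).base ((Spec.map (CommRingCat.ofHom Θ.toRingHom)).base z₁) =
        (chart f jU jV hjf B₁).base w₁ := by
      rw [← hnat, hz₁, hw₁q]
    rw [(chart f jU jV hjf B₁).isOpenEmbedding.injective this]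
    exact hw₁
  rw [← hz₁]
  exact htW hz₁t

end main

/-- **Reduction to base changes locally of finite type**: if `f` reflects specializations after
every base change locally of finite type, it does so after every base change. -/
theorem specializes_of_reflLft {X Y : Scheme.{u}} (f : Y ⟶ X) (h : ReflLft f)
    (X' : Scheme.{u}) (g : X' ⟶ X) (y₀ y₁ : ↥(pullback f g))
    (hsp : (pullback.snd f g).base y₁ ⤳ (pullback.snd f g).base y₀) : y₁ ⤳ y₀ := by
  have hcond : f.base ((pullback.fst f g).base y₀) = g.base ((pullback.snd f g).base y₀) := by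
    have : (pullback.fst f g ≫ f).base y₀ = (pullback.snd f g ≫ g).base y₀ := by
      rw [pullback.condition]
    exact this
  -- choose affine opens
  obtain ⟨_, ⟨U, hU, rfl⟩, hxU, -⟩ := X.isBasis_affineOpens.exists_subset_of_mem_open
    (Set.mem_univ (g.base ((pullback.snd f g).base y₀))) isOpen_univ
  obtain ⟨_, ⟨U', hU', rfl⟩, hxU', hU'U : U' ≤ g ⁻¹ᵁ U⟩ :=
    X'.isBasis_affineOpens.exists_subset_of_mem_open hxU (g ⁻¹ᵁ U).2
  obtain ⟨_, ⟨V, hV, rfl⟩, hxV, hVU : V ≤ f ⁻¹ᵁ U⟩ :=
    Y.isBasis_affineOpens.exists_subset_of_mem_open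
      (show (pullback.fst f g).base y₀ ∈ (f ⁻¹ᵁ U : Set Y) by
        change f.base _ ∈ (U : Set X); rw [hcond]; exact hxU) (f ⁻¹ᵁ U).2
  haveI := hU.isOpenImmersion_fromSpec
  haveI := hU'.isOpenImmersion_fromSpec
  haveI := hV.isOpenImmersion_fromSpec
  letI : Algebra Γ(X, U) Γ(Y, V) := (f.appLE U V hVU).hom.toAlgebra
  letI : Algebra Γ(X, U) Γ(X', U') := (g.appLE U U' hU'U).hom.toAlgebra
  have hjf : hV.fromSpec ≫ f =
      Spec.map (CommRingCat.ofHom (algebraMap Γ(X, U) Γ(Y, V))) ≫ hU.fromSpec :=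
    (hU.SpecMap_appLE_fromSpec f hV hVU).symm
  have hjg : hU'.fromSpec ≫ g = gB hU.fromSpec Γ(X', U') :=
    (hU.SpecMap_appLE_fromSpec g hU' hU'U).symm
  let ρ : pullback f (gB hU.fromSpec Γ(X', U')) ⟶ pullback f g :=
    pullback.map f (gB hU.fromSpec Γ(X', U')) f g (𝟙 Y) hU'.fromSpec (𝟙 X) (by simp)
      (by rw [Category.comp_id, hjg])
  have hρrange : Set.range ρ.base = (pullback.snd f g).base ⁻¹' (U' : Set X') := by
    rw [Scheme.Pullback.range_map, hU'.range_fromSpec]
    simp
  have hy₁U' : (pullback.snd f g).base y₁ ∈ (U' : Set X') := hsp.mem_open U'.2 hxU'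
  obtain ⟨y₀', hy₀'⟩ : y₀ ∈ Set.range ρ.base := by rw [hρrange]; exact hxU'
  obtain ⟨y₁', hy₁'⟩ : y₁ ∈ Set.range ρ.base := by rw [hρrange]; exact hy₁U'
  have hsnd : ∀ y, hU'.fromSpec.base ((pullback.snd f (gB hU.fromSpec Γ(X', U'))).base y) =
      (pullback.snd f g).base (ρ.base y) := by
    intro y
    have : (pullback.snd f (gB hU.fromSpec Γ(X', U')) ≫ hU'.fromSpec).base y =
        (ρ ≫ pullback.snd f g).base y := by
      rw [pullback.lift_snd]
    exact this
  have hfst : ∀ y, (pullback.fst f (gB hU.fromSpec Γ(X', U'))).base y =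
      (pullback.fst f g).base (ρ.base y) := by
    intro y
    have : (pullback.fst f (gB hU.fromSpec Γ(X', U')) ≫ 𝟙 Y).base y =
        (ρ ≫ pullback.fst f g).base y := by
      rw [pullback.lift_fst]
    rw [Category.comp_id] at this
    exact this
  have key : y₁' ⤳ y₀' := by
    apply specializes_of_chart f hU.fromSpec hV.fromSpec hjf h Γ(X', U') y₀' y₁'
    · rw [hfst, hy₀', hV.range_fromSpec]
      exact hxV
    · rw [← hU'.fromSpec.isOpenEmbedding.isInducing.specializes_iff, hsnd, hsnd, hy₀', hy₁']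
      exact hsp
  rw [← hy₀', ← hy₁']
  exact key.map ρ.continuous

end Groth.Agent.Lib.Helper25.ReflSpec
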