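import Groth.Agent.Lib.Helper25.FrobProps

/-!
# Relatively perfect morphisms (relative Frobenius an isomorphism)

`IsIso (relFrob q p)` iff the Frobenius square of `q` is cartesian; stability under composition and
base change.
-/

set_option autoImplicit false
set_option linter.style.haveILetI false

universe u

open CategoryTheory AlgebraicGeometry FrobSch Opposite Limits

namespace Groth.Agent.Lib.Helper25

variable {p : ℕ} [Fact p.Prime]

/-- The relative Frobenius is an isomorphism iff the Frobenius square is cartesian. -/
theorem isIso_relFrob_iff {Y S : Scheme.{u}} [IsCharP S p] [IsCharP Y p] (q : Y ⟶ S) :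
    IsIso (relFrob q p) ↔ IsPullback (frob Y p) q q (frob S p) := by
  constructor
  · intro h
    exact IsPullback.of_iso_pullback ⟨frob_comp p q⟩ (asIso (relFrob q p)) (relFrob_fst q p)
      (relFrob_snd q p)
  · intro h
    have : relFrob q p = h.isoPullback.hom := by
      apply pullback.hom_ext
      · rw [relFrob_fst, IsPullback.isoPullback_hom_fst]
      · rw [relFrob_snd, IsPullback.isoPullback_hom_snd]
    rw [this]
    infer_instance

/-- Relatively perfect morphisms are stable under composition. -/
theorem isIso_relFrob_comp {X' T S : Scheme.{u}} [IsCharP S p] [IsCharP T p] (π : X' ⟶ T)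
    (f : T ⟶ S) (hπ : IsIso (relFrob π p)) (hf : IsIso (relFrob f p)) :
    IsIso (relFrob (π ≫ f) p) := by
  haveI : IsCharP X' p := IsCharP.of_hom π p
  rw [isIso_relFrob_iff] at hπ hf ⊢
  exact hπ.paste_vert hf

/-- Relatively perfect morphisms are stable under base change. -/
theorem isIso_relFrob_pullback_snd {Y T S : Scheme.{u}} [IsCharP S p] [IsCharP T p] (r : Y ⟶ S)
    (f : T ⟶ S) (hr : IsIso (relFrob r p)) : IsIso (relFrob (pullback.snd r f) p) := by
  haveI : IsCharP Y p := IsCharP.of_hom r p
  haveI : IsCharP (pullback r f) p := IsCharP.of_hom (pullback.snd r f) p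
  rw [isIso_relFrob_iff] at hr ⊢
  have t : IsPullback (pullback.fst r f) (pullback.snd r f) r f := IsPullback.of_hasPullback r f
  have s0 : IsPullback (pullback.fst r f ≫ frob Y p) (pullback.snd r f) r (f ≫ frob S p) :=
    t.paste_horiz hr
  have e1 : frob (pullback r f) p ≫ pullback.fst r f = pullback.fst r f ≫ frob Y p :=
    frob_comp p _
  have e2 : frob T p ≫ f = f ≫ frob S p := frob_comp p f
  rw [← e1, ← e2] at s0
  exact IsPullback.of_right s0 (frob_comp p _) t

end Groth.Agent.Lib.Helper25
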