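import Mathlib
import Groth.Agent.Lib.Helper25.SmoothConormalAlg

set_option autoImplicit false
universe u

namespace Groth.Agent.Lib.Helper25.RibbonAlg

open TensorProduct

section

variable {A B M : Type*} [CommRing A] [CommRing B] [Algebra A B] [AddCommGroup M] [Module A M]
  (hπ : Function.Surjective (algebraMap A B)) (ε : M →ₗ[A] A) (hε : Function.Injective ε)
  (hK : ∀ a, algebraMap A B a = 0 → ∃ m, ε m = a) (hK' : ∀ m, algebraMap A B (ε m) = 0)
  (hsq : ∀ a b : A, algebraMap A B a = 0 → algebraMap A B b = 0 → a * b = 0)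

include hε hK' hsq in
lemma ker_smul (a : A) (ha : algebraMap A B a = 0) (m : M) : a • m = 0 := by
  apply hε
  rw [map_smul, map_zero, smul_eq_mul]
  exact hsq a (ε m) ha (hK' m)

include hπ hε hK' hsq in
lemma one_tmul_inj (m : M) (h : (1 : B) ⊗ₜ[A] m = 0) : m = 0 :=
  SmoothConormalAlg.eq_zero_of_one_tmul hπ (ker_smul ε hε hK' hsq) m h

include hπ in
lemma exists_one_tmul' (t : B ⊗[A] M) : ∃ x : M, t = (1 : B) ⊗ₜ[A] x := by
  induction t using TensorProduct.induction_on with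
  | zero => exact ⟨0, (TensorProduct.tmul_zero _ _).symm⟩
  | tmul c x =>
    obtain ⟨a, rfl⟩ := hπ c
    refine ⟨a • x, ?_⟩
    rw [← TensorProduct.smul_tmul, Algebra.smul_def, mul_one]
  | add t₁ t₂ h₁ h₂ =>
    obtain ⟨x₁, rfl⟩ := h₁
    obtain ⟨x₂, rfl⟩ := h₂
    exact ⟨x₁ + x₂, (TensorProduct.tmul_add _ _ _).symm⟩

include hπ hε hK hK' hsq in
theorem nonempty_linearEquiv (z : A) (hz : ∀ a, algebraMap A B a = 0 → ∃ c, a = c * z)
    (hzK : algebraMap A B z = 0)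
    (hann : ∀ a, a * z = 0 → algebraMap A B a = 0) : Nonempty (B ≃ₗ[B] B ⊗[A] M) := by
  obtain ⟨mz, hmz⟩ := hK z hzK
  let f : B →ₗ[B] B ⊗[A] M := LinearMap.toSpanSingleton B _ ((1 : B) ⊗ₜ[A] mz)
  have hf : ∀ a : A, f (algebraMap A B a) = (1 : B) ⊗ₜ[A] (a • mz) := by
    intro a
    show algebraMap A B a • ((1 : B) ⊗ₜ[A] mz) = _
    rw [TensorProduct.tmul_smul, algebraMap_smul]
  refine ⟨LinearEquiv.ofBijective f ⟨?_, ?_⟩⟩
  · rw [injective_iff_map_eq_zero]
    intro b hb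
    obtain ⟨a, rfl⟩ := hπ b
    rw [hf] at hb
    have h2 := one_tmul_inj hπ ε hε hK' hsq (a • mz) hb
    have h3 : a * z = 0 := by
      rw [← hmz, ← smul_eq_mul, ← map_smul, h2, map_zero]
    exact hann a h3
  · intro t
    obtain ⟨m, rfl⟩ := exists_one_tmul' hπ t
    obtain ⟨c, hc⟩ := hz (ε m) (hK' m)
    have hm : m = c • mz := hε (by rw [map_smul, hmz, smul_eq_mul, hc])
    exact ⟨algebraMap A B c, by rw [hf, hm]⟩

include hπ hε hK hK' hsq in
theorem exists_gen_of_basis (b : Module.Basis (Fin 1) B (B ⊗[A] M)) :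
    ∃ z : A, algebraMap A B z = 0 ∧ (∀ a, algebraMap A B a = 0 → ∃ c, a = c * z) ∧
      ∀ a, a * z = 0 → algebraMap A B a = 0 := by
  obtain ⟨m₀, hm₀⟩ := exists_one_tmul' hπ (b 0)
  refine ⟨ε m₀, hK' m₀, ?_, ?_⟩
  · intro a ha
    obtain ⟨m, rfl⟩ := hK a ha
    have h1 : (1 : B) ⊗ₜ[A] m = (b.repr ((1 : B) ⊗ₜ[A] m) 0) • b 0 := by
      have := b.sum_repr ((1 : B) ⊗ₜ[A] m)
      rw [Fin.sum_univ_one] at this
      exact this.symm
    obtain ⟨c, hc⟩ := hπ (b.repr ((1 : B) ⊗ₜ[A] m) 0)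
    refine ⟨c, ?_⟩
    have h2 : (1 : B) ⊗ₜ[A] (m - c • m₀) = 0 := by
      rw [TensorProduct.tmul_sub, TensorProduct.tmul_smul, ← hm₀, ← algebraMap_smul B c (b 0), hc,
        ← h1, sub_self]
    have h3 := one_tmul_inj hπ ε hε hK' hsq _ h2
    have h4 : m = c • m₀ := sub_eq_zero.mp h3
    rw [h4, map_smul, smul_eq_mul]
  · intro a ha
    have h1 : a • m₀ = 0 := hε (by rw [map_smul, smul_eq_mul, ha, map_zero])
    have h2 : algebraMap A B a • b 0 = 0 := by
      rw [hm₀, algebraMap_smul, ← TensorProduct.tmul_smul, h1, TensorProduct.tmul_zero]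
    have h4 : b.repr (algebraMap A B a • b 0) 0 = algebraMap A B a := by
      rw [map_smul, b.repr_self, Finsupp.smul_apply, Finsupp.single_eq_same, smul_eq_mul, mul_one]
    rw [h2] at h4
    have h5 : b.repr 0 = 0 := map_zero b.repr
    rw [h5, Finsupp.zero_apply] at h4
    exact h4.symm

end

end Groth.Agent.Lib.Helper25.RibbonAlg
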