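import Mathlib
import Groth.Prelude.Def_MultCurve
import Groth.Prelude.Def_Pic
import Groth.Agent.Lib.Helper25.ConormalStalk
import Groth.Agent.Lib.Helper25.RibbonAlg
import Groth.Agent.Lib.QCoh.Helper50_Pullback
import Groth.Agent.Lib.QCoh.Helper74_LocFreeBasis
import Groth.Agent.Lib.QCoh.Helper74_LocFreeDeg

set_option autoImplicit false
set_option linter.unusedSectionVars false
set_option linter.style.haveILetI false
universe u

namespace Groth.Agent.Lib.Helper25.RibbonConormal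

open CategoryTheory CategoryTheory.Limits AlgebraicGeometry TopologicalSpace Opposite TensorProduct
open Groth.Agent.Lib.Helper25.SkyMod Groth.Agent.Lib.Helper25.EtaleDer
open Groth.Agent.Lib.Helper25.ImmDer Groth.Agent.Lib.Helper25.DiffCompat Groth.Agent.Lib.QCoh
open Groth.Agent.Lib.Helper25.SplitConormal Groth.Agent.Lib.Helper25.DiffSeq
open Groth.Agent.Lib.Helper25.ConormalSeq Groth.Agent.Lib.Helper25.ConormalOmega
open FlatMod

variable (C : Scheme.{u}) (I : C.IdealSheafData)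

lemma le_coborder (U : C.Opens) : U ≤ I.subschemeι.coborderRange := by
  intro x _
  show x ∈ coborder (Set.range I.subschemeι)
  rw [I.subschemeι.isClosedEmbedding.isClosed_range.coborder_eq]
  trivial

/-- the common affine-local package -/
lemma package (hI : I ^ 2 = ⊥) (U : C.affineOpens) :
    letI : Algebra Γ(C, U.1) Γ(I.subscheme, I.subschemeι ⁻¹ᵁ U.1) :=
      (I.subschemeι.appLE U.1 (I.subschemeι ⁻¹ᵁ U.1) le_rfl).hom.toAlgebra
    IsAffineOpen (I.subschemeι ⁻¹ᵁ U.1) ∧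
    Function.Surjective (algebraMap Γ(C, U.1) Γ(I.subscheme, I.subschemeι ⁻¹ᵁ U.1)) ∧
    (∀ a, algebraMap Γ(C, U.1) Γ(I.subscheme, I.subschemeι ⁻¹ᵁ U.1) a = 0 ↔ a ∈ I.ideal U) ∧
    (∀ a b : Γ(C, U.1), algebraMap Γ(C, U.1) Γ(I.subscheme, I.subschemeι ⁻¹ᵁ U.1) a = 0 →
      algebraMap Γ(C, U.1) Γ(I.subscheme, I.subschemeι ⁻¹ᵁ U.1) b = 0 → a * b = 0) ∧
    (∀ a, algebraMap Γ(C, U.1) Γ(I.subscheme, I.subschemeι ⁻¹ᵁ U.1) a = 0 →
      ∃ m, epsLin I.subschemeι U.1 m = a) ∧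
    (∀ m, algebraMap Γ(C, U.1) Γ(I.subscheme, I.subschemeι ⁻¹ᵁ U.1)
      (epsLin I.subschemeι U.1 m) = 0) ∧
    Nonempty (Γ(I.subscheme, I.subschemeι ⁻¹ᵁ U.1) ⊗[Γ(C, U.1)]
        Γ(ClSub.idealMod I.subschemeι.ker, U.1) ≃ₗ[Γ(I.subscheme, I.subschemeι ⁻¹ᵁ U.1)]
      Γ(Nmod I.subschemeι, I.subschemeι ⁻¹ᵁ U.1)) := by
  set j := I.subschemeι with hj
  have hU := U.2
  have hle : U.1 ≤ j.coborderRange := le_coborder C I U.1
  have hV : IsAffineOpen (j ⁻¹ᵁ U.1) := isAffineOpen_preimage_of_le_coborder j hU hle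
  letI alg : Algebra Γ(C, U.1) Γ(I.subscheme, j ⁻¹ᵁ U.1) :=
    (j.appLE U.1 (j ⁻¹ᵁ U.1) le_rfl).hom.toAlgebra
  have halg : ∀ a, algebraMap Γ(C, U.1) Γ(I.subscheme, j ⁻¹ᵁ U.1) a = j.app U.1 a := by
    intro a
    show j.appLE U.1 (j ⁻¹ᵁ U.1) le_rfl a = _
    rw [Scheme.Hom.appLE_eq_app]
  have hπ : Function.Surjective (algebraMap Γ(C, U.1) Γ(I.subscheme, j ⁻¹ᵁ U.1)) := by
    intro b
    obtain ⟨a, ha⟩ := app_surjective_of_le_coborder j hU hle b
    exact ⟨a, (halg a).trans ha⟩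
  have hker : ∀ a, algebraMap Γ(C, U.1) Γ(I.subscheme, j ⁻¹ᵁ U.1) a = 0 ↔ a ∈ I.ideal U := by
    intro a
    rw [halg, ← I.ker_subschemeι_app U]
    exact Iff.rfl
  have hsq : ∀ a b : Γ(C, U.1), algebraMap Γ(C, U.1) Γ(I.subscheme, j ⁻¹ᵁ U.1) a = 0 →
      algebraMap Γ(C, U.1) Γ(I.subscheme, j ⁻¹ᵁ U.1) b = 0 → a * b = 0 := by
    intro a b ha hb
    have h1 : a * b ∈ (I ^ 2).ideal U := by
      rw [Scheme.IdealSheafData.ideal_pow, Pi.pow_apply, pow_two]
      exact Ideal.mul_mem_mul ((hker a).mp ha) ((hker b).mp hb)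
    rw [hI] at h1
    exact h1
  obtain ⟨κ, -, -, -, -⟩ := exists_linearEquiv_pullback_map j
    (le_refl (j ⁻¹ᵁ U.1)) hU hV (𝟙 (ClSub.idealMod j.ker))
  exact ⟨hV, hπ, hker, hsq,
    fun a ha => exists_idealSect' j U.1 a ((halg a).symm.trans ha),
    fun m => (halg _).trans (idealSect_mem j U.1 m), ⟨κ⟩⟩

theorem isInvertible_of_principal (hI : I ^ 2 = ⊥)
    (h : MultCurve.IsPrincipalOfOrder I 2) :
    PicF.IsInvertible (Omega.conormal I.subschemeι) := by
  haveI : (Nmod I.subschemeι).IsQuasicoherent := isQuasicoherent_pullback I.subschemeι _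
  have hloc : ∀ y : I.subscheme, ∃ V : I.subscheme.Opens, IsAffineOpen V ∧ y ∈ V ∧
      Nonempty (Γ(I.subscheme, V) ≃ₗ[Γ(I.subscheme, V)] Γ(Nmod I.subschemeι, V)) := by
    intro y
    obtain ⟨U, hyU, z, hIz, hann⟩ := h (I.subschemeι y)
    letI alg : Algebra Γ(C, U.1) Γ(I.subscheme, I.subschemeι ⁻¹ᵁ U.1) :=
      (I.subschemeι.appLE U.1 (I.subschemeι ⁻¹ᵁ U.1) le_rfl).hom.toAlgebra
    obtain ⟨hV, hπ, hker, hsq, hK, hK', ⟨κ⟩⟩ := package C I hI U
    refine ⟨I.subschemeι ⁻¹ᵁ U.1, hV, hyU, ?_⟩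
    obtain ⟨e⟩ := RibbonAlg.nonempty_linearEquiv hπ (epsLin I.subschemeι U.1)
      (idealSect_injective I.subschemeι U.1) hK hK' hsq z
      (fun a ha => by
        have h1 : a ∈ Ideal.span {z} := hIz ▸ (hker a).mp ha
        obtain ⟨c, hc⟩ := Ideal.mem_span_singleton'.mp h1
        exact ⟨c, hc.symm⟩)
      ((hker z).mpr (hIz ▸ Ideal.mem_span_singleton_self z))
      (fun a ha => (hker a).mpr (hann a (by
        show a * z ^ 1 = 0
        rw [pow_one]
        exact ha)))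
    exact ⟨e.trans κ⟩
  have hfin : IsFinLocFree (Nmod I.subschemeι) := by
    apply isFinLocFree_of_exists_affineOpen
    intro y
    obtain ⟨V, hV, hy, ⟨e⟩⟩ := hloc y
    exact ⟨V, hV, hy, Module.Finite.equiv e, Module.Projective.of_equiv e⟩
  have hrank : IsFinLocFreeOfRank 1 (Nmod I.subschemeι) := by
    apply isFinLocFreeOfRank_of_rankAtStalk_eq hfin 1
    intro y
    obtain ⟨V, hV, hy, ⟨e⟩⟩ := hloc y
    refine ⟨V, hV, hy, fun p => ?_⟩
    haveI : Nontrivial Γ(I.subscheme, V) := p.nontrivial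
    rw [← congrFun (Module.rankAtStalk_eq_of_equiv e) p, Module.rankAtStalk_self]
    rfl
  exact isFinLocFreeOfRank_one_iff_isInvertible.mp hrank

theorem principal_of_isInvertible (hI : I ^ 2 = ⊥)
    (h : PicF.IsInvertible (Omega.conormal I.subschemeι)) :
    MultCurve.IsPrincipalOfOrder I 2 := by
  have hrank : IsFinLocFreeOfRank 1 (Nmod I.subschemeι) :=
    isFinLocFreeOfRank_one_iff_isInvertible.mpr h
  have hlf := isFinLocFree_of_isFinLocFreeOfRank hrank
  haveI : (Nmod I.subschemeι).IsQuasicoherent := isQuasicoherent_pullback I.subschemeι _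
  intro x
  have hx : x ∈ Set.range I.subschemeι := by
    rw [I.range_subschemeι, ← I.support_pow 2 (by norm_num), hI,
      Scheme.IdealSheafData.support_bot]
    trivial
  obtain ⟨y, rfl⟩ := hx
  obtain ⟨_, ⟨U, hU : IsAffineOpen U, rfl⟩, hyU, -⟩ :=
    (C.isBasis_affineOpens).exists_subset_of_mem_open (Set.mem_univ (I.subschemeι y)) isOpen_univ
  have hle : U ≤ I.subschemeι.coborderRange := le_coborder C I U
  have hV : IsAffineOpen (I.subschemeι ⁻¹ᵁ U) :=
    isAffineOpen_preimage_of_le_coborder I.subschemeι hU hle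
  have hyV : y ∈ I.subschemeι ⁻¹ᵁ U := hyU
  obtain ⟨_, _⟩ := finite_projective_Γ_of_isAffineOpen hlf hV
  obtain ⟨s, hs, ⟨b⟩⟩ := exists_basis_away_of_rankAtStalk_eq
    Γ(I.subscheme, I.subschemeι ⁻¹ᵁ U) Γ(Nmod I.subschemeι, I.subschemeι ⁻¹ᵁ U) 1
    (rankAtStalk_Γ_of_isFinLocFreeOfRank hrank hV) {hV.primeIdealOf ⟨y, hyV⟩}
    (Set.finite_singleton _)
  obtain ⟨t, rfl⟩ := app_surjective_of_le_coborder I.subschemeι hU hle s
  have hyb : y ∈ I.subscheme.basicOpen (I.subschemeι.app U t) :=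
    (notMem_primeIdealOf_iff hV y hyV _).1 (hs _ rfl)
  have hb1 : Nonempty (Module.Basis (Fin 1)
      Γ(I.subscheme, I.subscheme.basicOpen (I.subschemeι.app U t))
      Γ(Nmod I.subschemeι, I.subscheme.basicOpen (I.subschemeι.app U t))) := by
    let _ := Groth.Agent.Lib.Helper61.QCohSections.resModule (Nmod I.subschemeι)
      (I.subscheme.basicOpen_le (I.subschemeι.app U t))
    let _ := Groth.Agent.Lib.Helper61.QCohSections.resAlgebra (X := I.subscheme)
      (I.subscheme.basicOpen_le (I.subschemeι.app U t))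
    have := Groth.Agent.Lib.Helper61.QCohSections.isScalarTower_res (Nmod I.subschemeι)
      (I.subscheme.basicOpen_le (I.subschemeι.app U t))
    have : IsLocalization.Away (I.subschemeι.app U t)
        Γ(I.subscheme, I.subscheme.basicOpen (I.subschemeι.app U t)) :=
      hV.isLocalization_basicOpen _
    have := Groth.Agent.Lib.Helper61.QCohSections.isLocalizedModule_res_basicOpen
      (Nmod I.subschemeι) hV (I.subschemeι.app U t)
    exact ⟨basisOfIsLocalizedModule (Submonoid.powers (I.subschemeι.app U t))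
      (Groth.Agent.Lib.Helper61.QCohSections.resLinear (Nmod I.subschemeι)
        (I.subscheme.basicOpen_le (I.subschemeι.app U t))) b⟩
  have hpre : I.subschemeι ⁻¹ᵁ (C.basicOpen t) = I.subscheme.basicOpen (I.subschemeι.app U t) :=
    Scheme.preimage_basicOpen I.subschemeι t
  have key : ∀ V' : I.subscheme.Opens, V' = I.subscheme.basicOpen (I.subschemeι.app U t) →
      Nonempty (Module.Basis (Fin 1) Γ(I.subscheme, V') Γ(Nmod I.subschemeι, V')) := by
    rintro _ rfl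
    exact hb1
  obtain ⟨b'⟩ := key _ hpre
  let U' : C.affineOpens := ⟨C.basicOpen t, hU.basicOpen t⟩
  have hyU' : y ∈ I.subschemeι ⁻¹ᵁ (C.basicOpen t) := hpre ▸ hyb
  refine ⟨U', hyU', ?_⟩
  letI alg : Algebra Γ(C, U'.1) Γ(I.subscheme, I.subschemeι ⁻¹ᵁ U'.1) :=
    (I.subschemeι.appLE U'.1 (I.subschemeι ⁻¹ᵁ U'.1) le_rfl).hom.toAlgebra
  obtain ⟨hV', hπ, hker, hsq, hK, hK', ⟨κ⟩⟩ := package C I hI U'
  obtain ⟨z, hz0, hzgen, hzann⟩ := RibbonAlg.exists_gen_of_basis hπ (epsLin I.subschemeι U'.1)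
    (idealSect_injective I.subschemeι U'.1) hK hK' hsq (b'.map κ.symm)
  refine ⟨z, ?_, ?_⟩
  · apply le_antisymm
    · intro a ha
      obtain ⟨c, rfl⟩ := hzgen a ((hker a).mpr ha)
      exact Ideal.mem_span_singleton'.mpr ⟨c, rfl⟩
    · rw [Ideal.span_singleton_le_iff_mem]
      exact (hker z).mp hz0
  · intro a ha
    refine (hker a).mp (hzann a ?_)
    have h1 : a * z ^ 1 = 0 := ha
    rwa [pow_one] at h1

end Groth.Agent.Lib.Helper25.RibbonConormal
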