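/-
Helper library for `Groth.Agent.S19967` (helper25): a closed immersion through which a
scheme-theoretically dominant morphism factors is an isomorphism; application to
`C' ⟶ C ×_S S'` via flat base change of the generic point.
-/
import Mathlib

open CategoryTheory CategoryTheory.Limits AlgebraicGeometry

namespace Groth.Agent.Lib.Helper25.SchDomIso

universe u

/-- If `ψ ≫ φ` is scheme-theoretically dominant and `φ` is a closed immersion then `φ` is an iso. -/
theorem isIso_of_comp_schDominant {W X Y : Scheme.{u}} (ψ : W ⟶ X) (φ : X ⟶ Y)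
    [IsClosedImmersion φ] [IsSchemeTheoreticallyDominant (ψ ≫ φ)] : IsIso φ := by
  rw [IsClosedImmersion.isIso_iff_ker_eq_bot, ← le_bot_iff, ← (ψ ≫ φ).ker_eq_bot]
  exact ψ.le_ker_comp φ

theorem main
    {S S' C C' : Scheme.{u}} [QuasiSeparatedSpace S]
    (f : S' ⟶ S) [Flat f] (i : C ⟶ S) [IsClosedImmersion i] [IsIntegral C]
    (i' : C' ⟶ S') [IsClosedImmersion i']
    (g : C' ⟶ C) (hsq : g ≫ i = i' ≫ f)
    (hgen : IsIso (pullback.snd (pullback.lift g i' hsq)
      (pullback.fst (pullback.fst i f ≫ i) (S.fromSpecStalk (i.base (genericPoint C)))))) :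
    IsIso (pullback.lift g i' hsq) := by
  set φ := pullback.lift g i' hsq with hφ
  set t := S.fromSpecStalk (i.base (genericPoint C)) with ht
  set q := pullback.fst (pullback.fst i f ≫ i) t with hq
  -- φ is a closed immersion
  have hφi : φ ≫ pullback.snd i f = i' := pullback.lift_snd _ _ _
  have : IsClosedImmersion φ := by
    have : IsClosedImmersion (φ ≫ pullback.snd i f) := by rw [hφi]; infer_instance
    exact IsClosedImmersion.of_comp φ (pullback.snd i f)
  -- t is quasi-compact
  have : QuasiCompact t := inferInstance
  -- k : C ×_S T → C is scheme-theoretically dominant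
  let k := pullback.fst i t
  have hkdom : IsDominant k := by
    obtain ⟨z, hz, -⟩ := Scheme.Pullback.exists_preimage_pullback (f := i) (g := t)
      (genericPoint C) (IsLocalRing.closedPoint _)
      (by rw [ht]; exact Scheme.fromSpecStalk_closedPoint.symm)
    refine ⟨?_⟩
    have hd : Dense ({genericPoint C} : Set C) :=
      dense_iff_closure_eq.mpr (genericPoint_spec C).def
    exact hd.mono (Set.singleton_subset_iff.mpr ⟨z, hz⟩)
  have : IsSchemeTheoreticallyDominant k := .of_isDominant k
  -- q is the base change of k along the flat map `pullback.fst i f`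
  have hpb : IsPullback (pullback.lift (q ≫ pullback.fst i f) (pullback.snd _ t)
      (by rw [Category.assoc]; exact pullback.condition)) q k (pullback.fst i f) := by
    refine IsPullback.of_right (h₁₂ := pullback.snd i t) (v₁₃ := t) (h₂₂ := i) ?_ ?_
      (IsPullback.of_hasPullback i t).flip
    · rw [pullback.lift_snd]
      exact (IsPullback.of_hasPullback _ _).flip
    · exact pullback.lift_fst _ _ _
  have : IsSchemeTheoreticallyDominant q := .of_isPullback hpb
  -- q factors through φ
  have hfac : (inv (pullback.snd φ q) ≫ pullback.fst φ q) ≫ φ = q := by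
    rw [Category.assoc, IsIso.inv_comp_eq]; exact pullback.condition
  have : IsSchemeTheoreticallyDominant ((inv (pullback.snd φ q) ≫ pullback.fst φ q) ≫ φ) := by
    rw [hfac]; infer_instance
  exact isIso_of_comp_schDominant (inv (pullback.snd φ q) ≫ pullback.fst φ q) φ

end Groth.Agent.Lib.Helper25.SchDomIso
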