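import Mathlib
import Groth.Prelude.Def_Omega3
import Groth.Agent.Lib.Helper25.ConormalOmega2
import Groth.Agent.Lib.Helper25.SmoothConormalAlg
import Groth.Agent.Lib.QCoh.Helper50_AffineDict
import Groth.Agent.Lib.QCoh.OmegaS1

set_option autoImplicit false
set_option linter.unusedSectionVars false
set_option linter.style.haveILetI false
universe u

namespace Groth.Agent.Lib.Helper25.SmoothConormal

open CategoryTheory CategoryTheory.Limits AlgebraicGeometry TopologicalSpace Opposite TensorProduct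
open Groth.Agent.Lib.Helper25.SkyMod Groth.Agent.Lib.Helper25.EtaleDer
open Groth.Agent.Lib.Helper25.ImmDer Groth.Agent.Lib.Helper25.DiffCompat Groth.Agent.Lib.QCoh
open Groth.Agent.Lib.Helper25.SplitConormal Groth.Agent.Lib.Helper25.DiffSeq
open Groth.Agent.Lib.Helper25.ConormalSeq Groth.Agent.Lib.Helper25.ConormalOmega
open Groth.Agent.Lib.Helper25.SmoothConormalAlg

section

variable {Z X Y : Scheme.{u}} (i : Z ⟶ X) (p : X ⟶ Y) [IsImmersion i] [QuasiCompact i]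
  [IsImmersion (i ≫ p)] [QuasiCompact (i ≫ p)]

/-- good pairs of affine opens -/
structure Good where
  U : X.Opens
  T : Y.Opens
  hU : IsAffineOpen U
  hT : IsAffineOpen T
  hUc : U ≤ i.coborderRange
  hTc : T ≤ (i ≫ p).coborderRange
  le : U ≤ p ⁻¹ᵁ T
  eq : i ⁻¹ᵁ U = (i ≫ p) ⁻¹ᵁ T

lemma exists_good (z : Z) (V : Z.Opens) (hz : z ∈ V) :
    ∃ g : Good i p, z ∈ i ⁻¹ᵁ g.U ∧ i ⁻¹ᵁ g.U ≤ V := by
  obtain ⟨W, hWo, hWV⟩ := i.isEmbedding.isOpen_iff.mp V.2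
  let Wo : X.Opens := ⟨W, hWo⟩
  have hWV' : i ⁻¹ᵁ Wo = V := Opens.ext hWV
  obtain ⟨t, hzt, -⟩ := exists_iidx (i ≫ p) z ⊤ trivial
  have hVT : IsAffineOpen ((i ≫ p) ⁻¹ᵁ t.U) :=
    isAffineOpen_preimage_of_le_coborder (i ≫ p) t.hU t.le
  have hzW : i z ∈ Wo := by
    have : z ∈ i ⁻¹ᵁ Wo := hWV' ▸ hz
    exact this
  obtain ⟨_, ⟨U₁, hU₁ : IsAffineOpen U₁, rfl⟩, hxU₁, hU₁W⟩ :=
    (X.isBasis_affineOpens).exists_subset_of_mem_open
      (show i z ∈ ((Wo ⊓ p ⁻¹ᵁ t.U ⊓ i.coborderRange : X.Opens) : Set X)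
        from ⟨⟨hzW, hzt⟩, subset_coborder ⟨z, rfl⟩⟩)
      (Wo ⊓ p ⁻¹ᵁ t.U ⊓ i.coborderRange).2
  have hU₁W' : U₁ ≤ Wo := fun y hy => (hU₁W hy).1.1
  have hU₁t : U₁ ≤ p ⁻¹ᵁ t.U := fun y hy => (hU₁W hy).1.2
  have hU₁c : U₁ ≤ i.coborderRange := fun y hy => (hU₁W hy).2
  have hzU₁ : z ∈ i ⁻¹ᵁ U₁ := hxU₁
  obtain ⟨hbar, hb1, hb2⟩ := hVT.exists_basicOpen_le (V := i ⁻¹ᵁ U₁) ⟨z, hzU₁⟩ hzt
  obtain ⟨h, hh⟩ := app_surjective_of_le_coborder (i ≫ p) t.hU t.le hbar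
  have hpre : (i ≫ p) ⁻¹ᵁ (Y.basicOpen h) = Z.basicOpen hbar := by
    rw [Scheme.preimage_basicOpen, hh]
  have hTaff : IsAffineOpen (Y.basicOpen h) := t.hU.basicOpen h
  have hTle : Y.basicOpen h ≤ t.U := Y.basicOpen_le h
  have hUeq : U₁ ⊓ p ⁻¹ᵁ (Y.basicOpen h) =
      X.basicOpen (X.presheaf.map (homOfLE hU₁t).op (p.app t.U h)) := by
    rw [Scheme.basicOpen_res, Scheme.preimage_basicOpen]
  have hUaff : IsAffineOpen (U₁ ⊓ p ⁻¹ᵁ (Y.basicOpen h)) := by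
    rw [hUeq]
    exact hU₁.basicOpen _
  have hge : (i ≫ p) ⁻¹ᵁ (Y.basicOpen h) ≤ i ⁻¹ᵁ (U₁ ⊓ p ⁻¹ᵁ (Y.basicOpen h)) := by
    intro y hy
    refine ⟨?_, hy⟩
    rw [hpre] at hy
    exact hb1 hy
  have heq : i ⁻¹ᵁ (U₁ ⊓ p ⁻¹ᵁ (Y.basicOpen h)) = (i ≫ p) ⁻¹ᵁ (Y.basicOpen h) :=
    le_antisymm (fun y hy => hy.2) hge
  refine ⟨⟨U₁ ⊓ p ⁻¹ᵁ (Y.basicOpen h), Y.basicOpen h, hUaff, hTaff, inf_le_left.trans hU₁c,
    hTle.trans t.le, inf_le_right, heq⟩, ?_, ?_⟩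
  · show z ∈ i ⁻¹ᵁ (U₁ ⊓ p ⁻¹ᵁ (Y.basicOpen h))
    rw [heq, hpre]
    exact hb2
  · show i ⁻¹ᵁ (U₁ ⊓ p ⁻¹ᵁ (Y.basicOpen h)) ≤ V
    rw [← hWV']
    exact i.preimage_mono (inf_le_left.trans hU₁W')

lemma isBasis_good : Opens.IsBasis (Set.range (fun g : Good i p => i ⁻¹ᵁ g.U)) := by
  rw [Opens.isBasis_iff_nbhd]
  intro V z hz
  obtain ⟨g, h1, h2⟩ := exists_good i p z V hz
  exact ⟨_, ⟨g, rfl⟩, h1, h2⟩

end

section Inj

variable {Z X Y : Scheme.{u}} (i : Z ⟶ X) (p : X ⟶ Y) [IsImmersion i] [QuasiCompact i]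
  [IsImmersion (i ≫ p)] [QuasiCompact (i ≫ p)] [Smooth p]
  (ψ : (Scheme.Modules.pullback (𝟙 Z)).obj (Nmod (i ≫ p)) ⟶ Nmod i)
  (hψ : OmegaSh.IsConormalMap i (i ≫ p) p (𝟙 Z) ψ)

omit [IsImmersion i] [QuasiCompact i] [IsImmersion (i ≫ p)] [QuasiCompact (i ≫ p)] [Smooth p] in
lemma ring_res_injective {A B : Z.Opens} (h : A = B) (h' : A ≤ B) :
    Function.Injective (Z.presheaf.map (homOfLE h').op) := by
  subst h
  intro x y hxy
  rwa [ring_res_self, ring_res_self] at hxy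

include hψ in
theorem injective_app_of_good (g : Good i p) :
    Function.Injective ((qm i p ψ).app (i ⁻¹ᵁ g.U)) := by
  have eV : i ⁻¹ᵁ g.U ≤ (i ≫ p) ⁻¹ᵁ g.T := g.eq.le
  have hV : IsAffineOpen (i ⁻¹ᵁ g.U) := isAffineOpen_preimage_of_le_coborder i g.hU g.hUc
  letI algAB : Algebra Γ(Y, g.T) Γ(X, g.U) := (p.appLE g.T g.U g.le).hom.toAlgebra
  letI algAC : Algebra Γ(Y, g.T) Γ(Z, i ⁻¹ᵁ g.U) :=
    ((i ≫ p).appLE g.T (i ⁻¹ᵁ g.U) eV).hom.toAlgebra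
  letI algBC : Algebra Γ(X, g.U) Γ(Z, i ⁻¹ᵁ g.U) :=
    (i.appLE g.U (i ⁻¹ᵁ g.U) le_rfl).hom.toAlgebra
  haveI : IsScalarTower Γ(Y, g.T) Γ(X, g.U) Γ(Z, i ⁻¹ᵁ g.U) := by
    apply IsScalarTower.of_algebraMap_eq
    intro a
    exact congr($(Scheme.Hom.appLE_comp_appLE i p g.T g.U (i ⁻¹ᵁ g.U) g.le le_rfl) a).symm
  haveI : Algebra.FormallySmooth Γ(Y, g.T) Γ(X, g.U) := by
    have h1 : RingHom.Smooth (p.appLE g.T g.U g.le).hom :=
      HasRingHomProperty.appLE @Smooth p inferInstance ⟨g.T, g.hT⟩ ⟨g.U, g.hU⟩ g.le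
    have h2 : Algebra.Smooth Γ(Y, g.T) Γ(X, g.U) := h1
    exact h2.formallySmooth
  have hAC : Function.Surjective (algebraMap Γ(Y, g.T) Γ(Z, i ⁻¹ᵁ g.U)) := by
    intro c
    obtain ⟨a, ha⟩ := app_surjective_of_le_coborder (i ≫ p) g.hT g.hTc
      (Z.presheaf.map (homOfLE g.eq.ge).op c)
    refine ⟨a, ?_⟩
    show Z.presheaf.map (homOfLE eV).op ((i ≫ p).app g.T a) = c
    rw [ha, ring_res_res]
    exact ring_res_self _ _ _
  obtain ⟨κj, -, hκj, -, -⟩ := exists_linearEquiv_pullback_map (i ≫ p) eV g.hT hV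
    (𝟙 (ClSub.idealMod (i ≫ p).ker))
  obtain ⟨κi, -, hκi, -, -⟩ := exists_linearEquiv_pullback_map i (le_refl (i ⁻¹ᵁ g.U)) g.hU hV
    (𝟙 (ClSub.idealMod i.ker))
  rw [injective_iff_map_eq_zero]
  intro t ht
  obtain ⟨x, hx⟩ := exists_one_tmul hAC (κj.symm t)
  have ht' : t = pullbackSectionsMap (i ≫ p) eV (ClSub.idealMod (i ≫ p).ker) x := by
    rw [← hκj x, ← hx, LinearEquiv.apply_symm_apply]
  obtain ⟨m, hm⟩ := exists_m i p g.T x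
  set y : Γ(ClSub.idealMod i.ker, g.U) :=
    (ClSub.idealMod i.ker).presheaf.map (homOfLE g.le).op m with hy
  -- compute `qm (t)`
  have c1 : (qm i p ψ).app (i ⁻¹ᵁ g.U) t =
      (Nmod i).presheaf.map (homOfLE (i.preimage_mono g.le)).op
        (OmegaSh.pullSect i (ClSub.idealMod i.ker) (p ⁻¹ᵁ g.T) m) := by
    rw [ht']
    have n1 := app_naturality_apply (qm i p ψ) (homOfLE eV)
      (OmegaSh.pullSect (i ≫ p) (ClSub.idealMod (i ≫ p).ker) g.T x)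
    refine n1.trans ?_
    exact congrArg _ (G1 i p ψ hψ g.T x m hm)
  have c2 : pullbackSectionsMap i (le_refl (i ⁻¹ᵁ g.U)) (ClSub.idealMod i.ker) y =
      (Nmod i).presheaf.map (homOfLE (i.preimage_mono g.le)).op
        (OmegaSh.pullSect i (ClSub.idealMod i.ker) (p ⁻¹ᵁ g.T) m) := by
    have n2 := pullSect_map i (homOfLE g.le) m
    show (Nmod i).presheaf.map (homOfLE (le_refl (i ⁻¹ᵁ g.U))).op
      (OmegaSh.pullSect i (ClSub.idealMod i.ker) g.U y) = _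
    rw [res_self]
    exact n2
  have c3 : κi ((1 : Γ(Z, i ⁻¹ᵁ g.U)) ⊗ₜ[Γ(X, g.U)] y) = 0 := by
    rw [hκi y, c2, ← c1, ht]
  have c4 : (1 : Γ(Z, i ⁻¹ᵁ g.U)) ⊗ₜ[Γ(X, g.U)] y = 0 := by
    apply κi.injective
    rw [c3, map_zero]
  have c5 : (1 : Γ(Z, i ⁻¹ᵁ g.U)) ⊗ₜ[Γ(Y, g.T)] x = 0 := by
    refine one_tmul_eq_zero hAC (epsLin (i ≫ p) g.T) ?_ ?_ ?_ (epsLin i g.U) ?_ x y ?_ c4
    · exact idealSect_injective (i ≫ p) g.T
    · intro a ha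
      apply exists_idealSect' (i ≫ p) g.T a
      have ha' : Z.presheaf.map (homOfLE eV).op ((i ≫ p).app g.T a) = 0 := ha
      apply ring_res_injective g.eq eV
      rw [ha', map_zero]
    · intro x'
      show Z.presheaf.map (homOfLE eV).op ((i ≫ p).app g.T (OmegaSh.idealSect _ g.T x')) = 0
      rw [idealSect_mem (i ≫ p) g.T x', map_zero]
    · intro y'
      show i.appLE g.U (i ⁻¹ᵁ g.U) le_rfl (OmegaSh.idealSect _ g.U y') = 0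
      rw [Scheme.Hom.appLE_eq_app]
      exact idealSect_mem i g.U y'
    · show OmegaSh.idealSect i.ker g.U y = p.appLE g.T g.U g.le (OmegaSh.idealSect _ g.T x)
      rw [hy, idealSect_map, hm]
      rfl
  rw [ht', ← hκj x, c5, map_zero]

include hψ in
theorem mono_qm : Mono (qm i p ψ) :=
  mono_of_injective_of_isBasis (fun g : Good i p => i ⁻¹ᵁ g.U) (isBasis_good i p) (qm i p ψ)
    (fun g => injective_app_of_good i p ψ hψ g)

end Inj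

section Final

variable {Z X Y : Scheme.{u}} (i : Z ⟶ X) (p : X ⟶ Y) [IsImmersion i] [QuasiCompact i]
  [IsImmersion (i ≫ p)] [QuasiCompact (i ≫ p)] [Smooth p]
  (ψ : (Scheme.Modules.pullback (𝟙 Z)).obj (Nmod (i ≫ p)) ⟶ Nmod i)
  (hψ : OmegaSh.IsConormalMap i (i ≫ p) p (𝟙 Z) ψ)

include hψ in
theorem mono_psi : Mono ψ := by
  have h1 : Mono (qm i p ψ) := mono_qm i p ψ hψ
  have hψeq : ψ = (Scheme.Modules.pullbackId Z).hom.app (Nmod (i ≫ p)) ≫ qm i p ψ := by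
    unfold qm
    rw [Iso.hom_inv_id_app_assoc]
  rw [hψeq]
  infer_instance

include hψ in
theorem shortExact {Ω : X.Modules} (d : OmegaSh.Der p Ω) (hd : OmegaSh.IsUniversal d)
    (φ : Nmod i ⟶ (Scheme.Modules.pullback i).obj Ω) (hφ : OmegaSh.IsConormalDiff i d φ) :
    ∃ w : ψ ≫ φ = 0, (ShortComplex.mk ψ φ w).ShortExact := by
  obtain ⟨w, hex, hepi⟩ := conormal_omega_exact i p ψ hψ d hd φ hφ
  have hmono : Mono ψ := mono_psi i p ψ hψ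
  exact ⟨w, { exact := hex, mono_f := hmono, epi_g := hepi }⟩

end Final

end Groth.Agent.Lib.Helper25.SmoothConormal
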