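import Mathlib
import Groth.Prelude.Def_Omega3
import Groth.Agent.Lib.Helper25.AffDer

set_option autoImplicit false
universe u

open CategoryTheory CategoryTheory.Limits AlgebraicGeometry TopologicalSpace Opposite

namespace Groth.Agent.Lib.Helper25.TildeDer

open Groth.Agent.Lib.Helper25.SkyMod Groth.Agent.Lib.Helper25.AffDer

variable (A B : Type u) [CommRing A] [CommRing B] [Algebra A B]
    (L : Type u) [AddCommGroup L] [Module B L] [Module A L] [IsScalarTower A B L]

/-- `B → Γ(Spec B, ⊤)` -/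
noncomputable abbrev e : B →+* Γ(Spec (CommRingCat.of B), ⊤) :=
  (Scheme.ΓSpecIso (CommRingCat.of B)).inv.hom

lemma e_bijective : Function.Bijective (e B) :=
  ConcreteCategory.bijective_of_isIso (Scheme.ΓSpecIso (CommRingCat.of B)).inv

/-- `L → Γ(L~, ⊤)` -/
noncomputable abbrev ι : L →+ Γ(tilde (ModuleCat.of (CommRingCat.of B) L), ⊤) :=
  (tilde.isoTop (ModuleCat.of (CommRingCat.of B) L)).hom.hom.toAddMonoidHom

lemma ι_bijective : Function.Bijective (ι B L) :=
  ConcreteCategory.bijective_of_isIso (tilde.isoTop (ModuleCat.of (CommRingCat.of B) L)).hom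

/-- `M → Γ(M~, ⊤)` -/
noncomputable abbrev ιR {R : CommRingCat.{u}} (M : ModuleCat.{u} R) : M →+ Γ(tilde M, ⊤) :=
  (tilde.isoTop M).hom.hom.toAddMonoidHom

lemma isoTop_smul {R : CommRingCat.{u}} (M : ModuleCat.{u} R) (r : R) (m : M) :
    ιR M (r • m) = ((Scheme.ΓSpecIso R).inv r : Γ(Spec R, ⊤)) • ιR M m := by
  have h1 : ιR M (r • m) = r • ιR M m :=
    (tilde.isoTop M).hom.hom.map_smul r m
  rw [h1, Scheme.Modules.smul_Spec_def]
  congr 1

lemma ι_smul (b : B) (l : L) : ι B L (b • l) = e B b • ι B L l :=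
  isoTop_smul (ModuleCat.of (CommRingCat.of B) L) b l

theorem appTop_e (a : A) :
    (Spec.map (CommRingCat.ofHom (algebraMap A B))).appTop (e A a) = e B (algebraMap A B a) :=
  (congr($(Scheme.ΓSpecIso_inv_naturality (CommRingCat.ofHom (algebraMap A B))) a)).symm


/-- the morphism `Spec B ⟶ Spec A` -/
noncomputable abbrev fAB : Spec (CommRingCat.of B) ⟶ Spec (CommRingCat.of A) :=
  Spec.map (CommRingCat.ofHom (algebraMap A B))

variable {A B L}

/-- the ring derivation attached to a sheaf derivation -/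
noncomputable def toRingDer (D : OmegaSh.Der (fAB A B) (tilde (ModuleCat.of (CommRingCat.of B) L))) :
    Derivation A B L :=
  let ιe : L ≃+ Γ(tilde (ModuleCat.of (CommRingCat.of B) L), ⊤) :=
    AddEquiv.ofBijective (ι B L) (ι_bijective B L)
  have hιe : ∀ (b : B) (m : Γ(tilde (ModuleCat.of (CommRingCat.of B) L), ⊤)),
      ιe.symm (e B b • m) = b • ιe.symm m := by
    intro b m
    apply ιe.injective
    rw [AddEquiv.apply_symm_apply]
    show _ = ι B L (b • ιe.symm m)
    rw [ι_smul]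
    congr 1
    exact (ιe.apply_symm_apply m).symm
  have hzero : ∀ a : A, D.app ⊤ (e B (algebraMap A B a)) = 0 := by
    intro a
    rw [← appTop_e]
    exact D.d_app (X := op ⊤) (e A a)
  { toFun := fun b => ιe.symm (D.app ⊤ (e B b))
    map_add' := fun a b => by rw [map_add, map_add, map_add]
    map_smul' := fun a b => by
      show ιe.symm (D.app ⊤ (e B (a • b))) = a • ιe.symm (D.app ⊤ (e B b))
      rw [Algebra.smul_def, map_mul, app_mul, hzero, smul_zero, add_zero, hιe, algebraMap_smul]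
    map_one_eq_zero' := by
      show ιe.symm (D.app ⊤ (e B 1)) = 0
      rw [← (algebraMap A B).map_one, hzero, map_zero]
    leibniz' := fun a b => by
      show ιe.symm (D.app ⊤ (e B (a * b))) = a • ιe.symm (D.app ⊤ (e B b)) +
        b • ιe.symm (D.app ⊤ (e B a))
      rw [map_mul, app_mul, map_add, hιe, hιe] }

lemma ι_toRingDer (D : OmegaSh.Der (fAB A B) (tilde (ModuleCat.of (CommRingCat.of B) L))) (t : B) :
    ι B L (toRingDer D t) = D.app ⊤ (e B t) :=
  (AddEquiv.ofBijective (ι B L) (ι_bijective B L)).apply_symm_apply _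

theorem main :
    (∀ D : OmegaSh.Der (fAB A B) (tilde (ModuleCat.of (CommRingCat.of B) L)),
      ∃ δ : Derivation A B L, ∀ t : B, D.app ⊤ (e B t) = ι B L (δ t)) ∧
    ∀ δ : Derivation A B L,
      ∃! D : OmegaSh.Der (fAB A B) (tilde (ModuleCat.of (CommRingCat.of B) L)),
        ∀ t : B, D.app ⊤ (e B t) = ι B L (δ t) := by
  refine ⟨fun D => ⟨toRingDer D, fun t => (ι_toRingDer D t).symm⟩, fun δ => ?_⟩
  let ee : B ≃+* Γ(Spec (CommRingCat.of B), ⊤) := RingEquiv.ofBijective (e B) (e_bijective B)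
  let δΓ : Γ(Spec (CommRingCat.of B), ⊤) →+ Γ(tilde (ModuleCat.of (CommRingCat.of B) L), ⊤) :=
    (ι B L).comp ((δ : B →ₗ[A] L).toAddMonoidHom.comp ee.symm.toRingHom.toAddMonoidHom)
  have hδΓ : ∀ t : B, δΓ (e B t) = ι B L (δ t) := by
    intro t
    show ι B L (δ (ee.symm (ee t))) = _
    rw [ee.symm_apply_apply]
  have hmul : ∀ a b, δΓ (a * b) = a • δΓ b + b • δΓ a := by
    intro a b
    obtain ⟨a, rfl⟩ := ee.surjective a
    obtain ⟨b, rfl⟩ := ee.surjective b
    show δΓ (e B a * e B b) = e B a • δΓ (e B b) + e B b • δΓ (e B a)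
    rw [← map_mul, hδΓ, hδΓ, hδΓ, Derivation.leibniz, map_add, ι_smul, ι_smul]
  have hzero : ∀ c : Γ(Spec (CommRingCat.of A), ⊤), δΓ ((fAB A B).appTop c) = 0 := by
    intro c
    obtain ⟨a, rfl⟩ := (e_bijective A).2 c
    rw [appTop_e, hδΓ, Derivation.map_algebraMap, map_zero]
  obtain ⟨hinj, hex⟩ := der_affine (fAB A B) (tilde (ModuleCat.of (CommRingCat.of B) L))
  obtain ⟨D, hD⟩ := (hex δΓ).mp ⟨hmul, hzero⟩
  refine ⟨D, fun t => by rw [hD, hδΓ], ?_⟩
  intro D' hD'
  apply hinj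
  show D'.app ⊤ = D.app ⊤
  ext m
  obtain ⟨t, rfl⟩ := ee.surjective m
  show D'.app ⊤ (e B t) = D.app ⊤ (e B t)
  rw [hD' t, hD, hδΓ]

end Groth.Agent.Lib.Helper25.TildeDer
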