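import Mathlib
import Groth.Agent.Lib.Helper25.QCValCrit
import Groth.Agent.Lib.Helper25.ValCenterBC
import Groth.Agent.Lib.Helper25.ValCenterLoc
import Groth.Agent.S0081

/-!
# Twisted constant schemes for the étale topology

Helper lemmas for `Groth.Agent.S19144`: a constant scheme `∐_I S ⟶ S` is étale, separated and
satisfies the existence part of the valuative criterion; these three properties descend along
jointly surjective families of étale morphisms.
-/

set_option autoImplicit false
set_option linter.style.haveILetI false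

universe u

open CategoryTheory CategoryTheory.Limits AlgebraicGeometry IsLocalRing Topology

namespace Groth.Agent.Lib.Helper25.TwConst

open Groth.Agent.Lib.Helper25.ValCenter Groth.Agent.Lib.Helper25.QCValCrit

section Const

variable (S : Scheme.{u}) (I : Type u)

/-- the structure morphism of the constant scheme -/
noncomputable abbrev cst : (∐ fun _ : I => S) ⟶ S := Sigma.desc fun _ : I => 𝟙 S

instance etale_cst : Etale (cst S I) :=
  haveI : IsZariskiLocalAtSource @Etale.{u} :=
    HasRingHomProperty.instIsZariskiLocalAtSource (Q := RingHom.Etale)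
  IsZariskiLocalAtSource.sigmaDesc (fun _ => inferInstance)

theorem exists_sigmaι (z : ↑(∐ fun _ : I => S)) :
    ∃ (i : I) (s : S), Sigma.ι (fun _ : I => S) i s = z := by
  obtain ⟨i, s, hs⟩ := (sigmaOpenCover (fun _ : I => S)).exists_eq z
  exact ⟨i, s, hs⟩

theorem isSeparated_cst : IsSeparated (cst S I) := by
  refine ⟨IsClosedImmersion.of_isPreimmersion _ ?_⟩
  rw [← isOpen_compl_iff, isOpen_iff_forall_mem_open]
  intro z hz
  obtain ⟨i, a, ha⟩ := exists_sigmaι S I (pullback.fst (cst S I) (cst S I) z)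
  obtain ⟨j, b, hb⟩ := exists_sigmaι S I (pullback.snd (cst S I) (cst S I) z)
  let g := fun _ : I => S
  by_cases hij : i = j
  · subst hij
    exfalso
    apply hz
    have hmem : z ∈ Set.range (pullback.map (Sigma.ι g i ≫ cst S I) (Sigma.ι g i ≫ cst S I)
        (cst S I) (cst S I) (Sigma.ι g i) (Sigma.ι g i) (𝟙 S) (by simp [g]) (by simp [g])) := by
      rw [Scheme.Pullback.range_map]
      exact ⟨⟨a, ha⟩, ⟨b, hb⟩⟩
    obtain ⟨w, rfl⟩ := hmem
    have h1 : Sigma.ι g i ≫ cst S I = 𝟙 S := by simp [cst, g]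
    have key : pullback.fst (Sigma.ι g i ≫ cst S I) (Sigma.ι g i ≫ cst S I) ≫ Sigma.ι g i ≫
        pullback.diagonal (cst S I) = pullback.map (Sigma.ι g i ≫ cst S I) (Sigma.ι g i ≫ cst S I)
        (cst S I) (cst S I) (Sigma.ι g i) (Sigma.ι g i) (𝟙 S) (by simp [g]) (by simp [g]) := by
      have hfs : pullback.fst (Sigma.ι g i ≫ cst S I) (Sigma.ι g i ≫ cst S I) =
          pullback.snd (Sigma.ι g i ≫ cst S I) (Sigma.ι g i ≫ cst S I) :=
        ((Category.comp_id _).symm.trans (congrArg (fun t => pullback.fst _ _ ≫ t) h1.symm)).trans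
          (pullback.condition.trans ((congrArg (fun t => pullback.snd _ _ ≫ t) h1).trans
            (Category.comp_id _)))
      apply pullback.hom_ext
      · rw [Category.assoc, Category.assoc, pullback.diagonal_fst, Category.comp_id]
        exact (pullback.lift_fst _ _ _).symm
      · rw [Category.assoc, Category.assoc, pullback.diagonal_snd, Category.comp_id]
        refine Eq.trans ?_ (pullback.lift_snd _ _ _).symm
        rw [hfs]
    refine ⟨Sigma.ι g i (pullback.fst (Sigma.ι g i ≫ cst S I) (Sigma.ι g i ≫ cst S I) w), ?_⟩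
    rw [← Scheme.Hom.comp_apply, ← Scheme.Hom.comp_apply, key]
  · refine ⟨(pullback.fst (cst S I) (cst S I)) ⁻¹' (Set.range (Sigma.ι g i)) ∩
      (pullback.snd (cst S I) (cst S I)) ⁻¹' (Set.range (Sigma.ι g j)), ?_, ?_, ?_⟩
    · rintro _ ⟨⟨a', ha'⟩, ⟨b', hb'⟩⟩ ⟨y, rfl⟩
      rw [← Scheme.Hom.comp_apply, pullback.diagonal_fst] at ha'
      rw [← Scheme.Hom.comp_apply, pullback.diagonal_snd] at hb'
      have := ha'.trans hb'.symm
      rw [sigmaι_eq_iff] at this
      exact hij (Sigma.mk.inj_iff.mp this).1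
    · exact ((Sigma.ι g i).isOpenEmbedding.isOpen_range.preimage (Scheme.Hom.continuous _)).inter
        ((Sigma.ι g j).isOpenEmbedding.isOpen_range.preimage (Scheme.Hom.continuous _))
    · exact ⟨⟨a, ha⟩, ⟨b, hb⟩⟩

theorem existence_cst : ValuativeCriterion.Existence (cst S I) := by
  intro sq
  obtain ⟨i, a, ha⟩ := exists_sigmaι S I (sq.i₁ (closedPoint sq.K))
  have hr : Set.range sq.i₁ ⊆ Set.range (Sigma.ι (fun _ : I => S) i) := by
    rintro _ ⟨z, rfl⟩
    have : z = closedPoint sq.K := Subsingleton.elim _ _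
    rw [this, ← ha]
    exact ⟨a, rfl⟩
  let b := IsOpenImmersion.lift (Sigma.ι (fun _ : I => S) i) sq.i₁ hr
  have hb : b ≫ Sigma.ι (fun _ : I => S) i = sq.i₁ := IsOpenImmersion.lift_fac ..
  have hb' : b = Spec.map (CommRingCat.ofHom (algebraMap sq.R sq.K)) ≫ sq.i₂ := by
    have := sq.commSq.w
    rw [← hb, Category.assoc, Sigma.ι_desc, Category.comp_id] at this
    exact this
  refine ⟨⟨⟨sq.i₂ ≫ Sigma.ι (fun _ : I => S) i, ?_, ?_⟩⟩⟩
  · rw [← Category.assoc, ← hb', hb]
  · rw [Category.assoc, Sigma.ι_desc, Category.comp_id]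

end Const

section Descent

variable {X S : Scheme.{u}}

/-- Descent of a Zariski-local, fppf-descending property along a jointly surjective family of
étale morphisms. -/
theorem of_etale_family (P : MorphismProperty Scheme.{u}) [IsZariskiLocalAtTarget P]
    [P.DescendsAlong (@Surjective ⊓ @Flat ⊓ @LocallyOfFinitePresentation)] (p : X ⟶ S)
    (h : ∀ s : S, ∃ (S' : Scheme.{u}) (f : S' ⟶ S), Etale f ∧ s ∈ Set.range f ∧
      P (pullback.snd p f)) : P p := by
  apply IsZariskiLocalAtTarget.of_forall_exists_morphismRestrict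
  intro s
  obtain ⟨S', f, hf, hs, hP⟩ := h s
  let U : S.Opens := ⟨Set.range f, f.isOpenMap.isOpen_range⟩
  refine ⟨U, hs, ?_⟩
  let g : S' ⟶ U := IsOpenImmersion.lift U.ι f (by simp [U])
  have hg : g ≫ U.ι = f := IsOpenImmersion.lift_fac ..
  have hget : Etale g := by
    have : Etale (g ≫ U.ι) := by rw [hg]; exact hf
    exact MorphismProperty.of_postcomp (W := @Etale) (W' := @Etale) g U.ι inferInstance this
  have hgsurj : Surjective g := by
    refine ⟨fun u => ?_⟩
    obtain ⟨y, hy⟩ := u.2
    refine ⟨y, ?_⟩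
    apply U.ι.isOpenEmbedding.injective
    rw [← Scheme.Hom.comp_apply, hg]
    exact hy
  have hr : Set.range (pullback.fst p f) ⊆ Set.range (p ⁻¹ᵁ U).ι := by
    rintro _ ⟨z, rfl⟩
    simp only [Scheme.Opens.range_ι, TopologicalSpace.Opens.map_coe, Set.mem_preimage]
    show p (pullback.fst p f z) ∈ Set.range f
    rw [← Scheme.Hom.comp_apply, pullback.condition]
    exact ⟨_, rfl⟩
  let q : pullback p f ⟶ (p ⁻¹ᵁ U : Scheme.{u}) := IsOpenImmersion.lift (p ⁻¹ᵁ U).ι _ hr
  have hq : q ≫ (p ⁻¹ᵁ U).ι = pullback.fst p f := IsOpenImmersion.lift_fac ..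
  have hcomm : q ≫ p ∣_ U = pullback.snd p f ≫ g := by
    rw [← cancel_mono U.ι, Category.assoc, Category.assoc, hg, morphismRestrict_ι,
      ← Category.assoc, hq, pullback.condition]
  have sq : IsPullback q (pullback.snd p f) (p ∣_ U) g := by
    refine IsPullback.of_right ?_ hcomm (isPullback_morphismRestrict p U).flip
    rw [hq, hg]
    exact IsPullback.of_hasPullback p f
  exact MorphismProperty.of_isPullback_of_descendsAlong
    (Q := @Surjective ⊓ @Flat ⊓ @LocallyOfFinitePresentation) sq.flip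
    ⟨⟨hgsurj, inferInstance⟩, inferInstance⟩ hP

end Descent

section Existence

variable {X S : Scheme.{u}}

/-- `Spec` of an injective local homomorphism of local rings is an epimorphism of schemes. -/
theorem eq_of_specMap_comp_eq {V V' : CommRingCat.{u}} [IsLocalRing V] [IsLocalRing V']
    (ψ : V ⟶ V') (hψ : Function.Injective ψ.hom)
    (hloc : Spec.map ψ (closedPoint V') = closedPoint V) (a b : Spec V ⟶ S)
    (h : Spec.map ψ ≫ a = Spec.map ψ ≫ b) : a = b := by
  have hab : a (closedPoint V) = b (closedPoint V) := by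
    have h1 : a (Spec.map ψ (closedPoint V')) = b (Spec.map ψ (closedPoint V')) :=
      congr(($h).base (closedPoint V'))
    rwa [hloc] at h1
  obtain ⟨_, ⟨W, hW : IsAffineOpen W, rfl⟩, hsW, -⟩ :=
    S.isBasis_affineOpens.exists_subset_of_mem_open (a := a (closedPoint V)) (by trivial)
      isOpen_univ
  obtain ⟨ρa, hρa⟩ := exists_rho a hW (range_subset_of_closedPoint_mem a hsW)
  obtain ⟨ρb, hρb⟩ := exists_rho b hW (range_subset_of_closedPoint_mem b (hab ▸ hsW))
  have key : ρa ≫ ψ = ρb ≫ ψ := by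
    apply rho_unique hW
    rw [Spec.map_comp, Spec.map_comp, Category.assoc, Category.assoc, hρa, hρb, h]
  have : ρa = ρb := by
    ext x
    apply hψ
    exact congr($(key).hom x)
  rw [← hρa, ← hρb, this]

/-- The existence part of the valuative criterion descends along jointly surjective families of
flat morphisms. -/
theorem existence_of_flat_family (p : X ⟶ S)
    (h : ∀ s : S, ∃ (S' : Scheme.{u}) (f : S' ⟶ S), Flat f ∧ s ∈ Set.range f ∧
      ValuativeCriterion.Existence (pullback.snd p f)) : ValuativeCriterion.Existence p := by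
  intro sq
  obtain ⟨S', f, hf, ⟨s'₀, hs'₀⟩, hP⟩ := h (sq.i₂ (closedPoint sq.R))
  let T := pullback sq.i₂ f
  obtain ⟨t₀, ht₀1, ht₀2⟩ := Scheme.Pullback.exists_preimage_pullback (f := sq.i₂) (g := f)
    (closedPoint sq.R) s'₀ hs'₀.symm
  let j : CommRingCat.of sq.R ⟶ CommRingCat.of sq.K := CommRingCat.ofHom (algebraMap sq.R sq.K)
  let ηR : Spec (CommRingCat.of sq.R) := Spec.map j (closedPoint sq.K)
  have hgen : GeneralizingMap (pullback.fst sq.i₂ f) := Flat.generalizingMap _
  obtain ⟨t₁, ht₁, ht₁η⟩ := hgen (a := t₀) (b := ηR)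
    (by rw [ht₀1]; exact specializes_closedPoint _)
  obtain ⟨O, lT, hlT, hlT0⟩ := exists_valuationSubring_of_specializes T t₁ ht₁
  -- the ring map `φ : R → κ(t₁)`
  let φ : CommRingCat.of sq.R ⟶ T.residueField t₁ :=
    Spec.preimage (T.fromSpecResidueField t₁ ≫ pullback.fst sq.i₂ f)
  have hφ : Spec.map φ = T.fromSpecResidueField t₁ ≫ pullback.fst sq.i₂ f := Spec.map_preimage _
  have hφinj : Function.Injective φ.hom := by
    rw [RingHom.injective_iff_ker_eq_bot]
    have h1 : Spec.map φ (closedPoint (T.residueField t₁)) = ηR := by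
      rw [hφ, ← ht₁η]
      exact congrArg (pullback.fst sq.i₂ f) (T.fromSpecResidueField_apply t₁ _)
    have h2 : (Spec.map φ (closedPoint (T.residueField t₁))).asIdeal = RingHom.ker φ.hom := by
      show Ideal.comap φ.hom (IsLocalRing.maximalIdeal _) = _
      rw [IsLocalRing.maximalIdeal_eq_bot]
      rfl
    have h3 : ηR.asIdeal = ⊥ := by
      show Ideal.comap (algebraMap sq.R sq.K) (IsLocalRing.maximalIdeal _) = _
      rw [IsLocalRing.maximalIdeal_eq_bot]
      exact (RingHom.injective_iff_ker_eq_bot _).mp (IsFractionRing.injective sq.R sq.K)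
    rw [← h2, h1, h3]
  let ι : sq.K →+* T.residueField t₁ := IsFractionRing.lift hφinj
  have hι : ∀ r : sq.R, ι (algebraMap sq.R sq.K r) = φ.hom r :=
    fun r => IsFractionRing.lift_algebraMap hφinj r
  have hjι : j ≫ CommRingCat.ofHom ι = φ := by
    ext r
    exact hι r
  -- the ring map `ψ : R → O`
  let ψ : CommRingCat.of sq.R ⟶ CommRingCat.of O := Spec.preimage (lT ≫ pullback.fst sq.i₂ f)
  have hψ : Spec.map ψ = lT ≫ pullback.fst sq.i₂ f := Spec.map_preimage _
  have hψφ : ψ ≫ CommRingCat.ofHom O.subtype = φ := by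
    apply Spec.map_injective
    rw [Spec.map_comp, hψ, ← Category.assoc, hlT, hφ]
  have hψφ' : ∀ r : sq.R, ((ψ.hom r : O) : T.residueField t₁) = φ.hom r :=
    fun r => congr($(hψφ).hom r)
  have hψinj : Function.Injective ψ.hom := by
    intro a b hab
    apply hφinj
    rw [← hψφ', ← hψφ', hab]
  have hψloc : Spec.map ψ (closedPoint O) = closedPoint sq.R := by
    rw [hψ]
    show (pullback.fst sq.i₂ f) (lT (closedPoint O)) = _
    rw [hlT0, ht₀1]
  haveI : IsLocalHom ψ.hom := (IsLocalRing.isLocalHom_iff_comap_closedPoint ψ.hom).mpr hψloc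
  -- the `κ(t₁)`-point of `X ×_S S'`
  have hw : (Spec.map (CommRingCat.ofHom ι) ≫ sq.i₁) ≫ p =
      (T.fromSpecResidueField t₁ ≫ pullback.snd sq.i₂ f) ≫ f := by
    rw [Category.assoc, sq.commSq.w, ← Category.assoc, ← Spec.map_comp, hjι, hφ, Category.assoc,
      Category.assoc, pullback.condition]
  let zK : Spec (T.residueField t₁) ⟶ pullback p f :=
    pullback.lift (Spec.map (CommRingCat.ofHom ι) ≫ sq.i₁)
      (T.fromSpecResidueField t₁ ≫ pullback.snd sq.i₂ f) hw
  let sq' : ValuativeCommSq (pullback.snd p f) :=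
    { R := O
      K := T.residueField t₁
      i₁ := zK
      i₂ := lT ≫ pullback.snd sq.i₂ f
      commSq := ⟨(pullback.lift_snd _ _ _).trans (by rw [← hlT, Category.assoc]; rfl)⟩ }
  obtain ⟨⟨⟨lZ, hlZ1, hlZ2⟩⟩⟩ := hP sq'
  let y' : Spec (CommRingCat.of O) ⟶ X := lZ ≫ pullback.fst p f
  have hy' : Spec.map (CommRingCat.ofHom O.subtype) ≫ y' =
      Spec.map (CommRingCat.ofHom ι) ≫ sq.i₁ := by
    show Spec.map (CommRingCat.ofHom O.subtype) ≫ lZ ≫ pullback.fst p f = _
    rw [← Category.assoc]
    erw [hlZ1]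
    exact pullback.lift_fst _ _ _
  obtain ⟨y, hy1, hy2⟩ := exists_descent ι O y' sq.i₁ hy'
  -- identify `O ∩ K` with `R`
  have hθ : ∀ x : O.comap ι, ∃ r : sq.R, algebraMap sq.R sq.K r = x := by
    intro x
    rcases ValuationRing.isInteger_or_isInteger sq.R (x : sq.K) with ⟨r, hr⟩ | ⟨r, hr⟩
    · exact ⟨r, hr⟩
    · by_cases hx0 : (x : sq.K) = 0
      · exact ⟨0, by rw [map_zero, hx0]⟩
      by_cases hru : IsUnit r
      · obtain ⟨r', hr'⟩ := hru.exists_right_inv
        refine ⟨r', ?_⟩
        have h1 : algebraMap sq.R sq.K r * algebraMap sq.R sq.K r' = 1 := by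
          rw [← map_mul, hr', map_one]
        rw [hr] at h1
        have h2 : (x : sq.K)⁻¹ * (x : sq.K) = 1 := inv_mul_cancel₀ hx0
        exact (mul_left_cancel₀ (inv_ne_zero hx0) (h1.trans h2.symm))
      · exfalso
        apply hru
        have hψu : IsUnit (ψ.hom r) := by
          refine IsUnit.of_mul_eq_one ⟨ι (x : sq.K), x.2⟩ ?_
          apply Subtype.ext
          show ((ψ.hom r : O) : T.residueField t₁) * ι (x : sq.K) = 1
          rw [hψφ', ← hι, hr, ← map_mul, inv_mul_cancel₀ hx0, map_one]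
        exact IsLocalHom.map_nonunit (f := ψ.hom) r hψu
  have hjinj : Function.Injective (algebraMap sq.R sq.K) := IsFractionRing.injective sq.R sq.K
  let θ : (O.comap ι) →+* sq.R :=
    { toFun := fun x => (hθ x).choose
      map_one' := hjinj (by rw [(hθ 1).choose_spec, map_one]; rfl)
      map_mul' := fun a b => hjinj (by
        rw [(hθ (a * b)).choose_spec, map_mul, (hθ a).choose_spec, (hθ b).choose_spec]; rfl)
      map_zero' := hjinj (by rw [(hθ 0).choose_spec, map_zero]; rfl)
      map_add' := fun a b => hjinj (by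
        rw [(hθ (a + b)).choose_spec, map_add, (hθ a).choose_spec, (hθ b).choose_spec]; rfl) }
  have hθ' : ∀ x : O.comap ι, algebraMap sq.R sq.K (θ x) = x := fun x => (hθ x).choose_spec
  have hθj : CommRingCat.ofHom θ ≫ j = CommRingCat.ofHom (O.comap ι).subtype := by
    ext x
    exact hθ' x
  have hθψ : CommRingCat.ofHom θ ≫ ψ = CommRingCat.ofHom (comapIncl ι O) := by
    ext x
    show ((ψ.hom (θ x) : O) : T.residueField t₁) = ι (x : sq.K)
    rw [hψφ', ← hι, hθ']
  refine ⟨⟨⟨Spec.map (CommRingCat.ofHom θ) ≫ y, ?_, ?_⟩⟩⟩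
  · rw [← Category.assoc, ← Spec.map_comp]
    erw [hθj]
    exact hy2
  · apply eq_of_specMap_comp_eq ψ hψinj hψloc
    rw [← Category.assoc, ← Category.assoc, ← Spec.map_comp, hθψ, hy1]
    show (lZ ≫ pullback.fst p f) ≫ p = _
    rw [Category.assoc, pullback.condition, ← Category.assoc]
    erw [hlZ2]
    rw [hψ, Category.assoc, Category.assoc, pullback.condition]

end Existence

section Main

variable {S : Scheme.{u}}

theorem of_iso_cst (P : MorphismProperty Scheme.{u}) [P.RespectsIso] {S' : Scheme.{u}}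
    (f : S' ⟶ S) (X : Over S) (I : Type u)
    (e : (Over.pullback f).obj X ≅ Over.mk (cst S' I)) (h : P (cst S' I)) :
    P (pullback.snd X.hom f) := by
  have h1 : e.hom.left ≫ cst S' I = pullback.snd X.hom f := Over.w e.hom
  rw [← h1]
  haveI : IsIso e.hom.left := (Over.forget S').map_isIso e.hom
  exact (MorphismProperty.cancel_left_of_respectsIso P e.hom.left (cst S' I)).mpr h

set_option backward.isDefEq.respectTransparency false in
theorem main (X : Over S)
    (hX : ∀ s : S, ∃ (S' : Scheme.{u}) (f : S' ⟶ S), Etale f ∧ s ∈ Set.range f ∧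
      ∃ I : Type u, Nonempty ((Over.pullback f).obj X ≅ Over.mk (cst S' I))) :
    IsSeparated X.hom ∧ Etale X.hom ∧ ValuativeCriterion X.hom := by
  haveI := Groth.Agent.S0081.result.{u}
  have hsep : IsSeparated X.hom := by
    apply of_etale_family @IsSeparated X.hom
    intro s
    obtain ⟨S', f, hf, hs, I, ⟨e⟩⟩ := hX s
    exact ⟨S', f, hf, hs, of_iso_cst @IsSeparated f X I e (isSeparated_cst S' I)⟩
  have het : Etale X.hom := by
    apply of_etale_family @Etale X.hom
    intro s
    obtain ⟨S', f, hf, hs, I, ⟨e⟩⟩ := hX s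
    exact ⟨S', f, hf, hs, of_iso_cst @Etale f X I e (etale_cst S' I)⟩
  have hex : ValuativeCriterion.Existence X.hom := by
    apply existence_of_flat_family X.hom
    intro s
    obtain ⟨S', f, hf, hs, I, ⟨e⟩⟩ := hX s
    exact ⟨S', f, inferInstance, hs,
      of_iso_cst ValuativeCriterion.Existence f X I e (existence_cst S' I)⟩
  exact ⟨hsep, het, ValuativeCriterion.iff.mpr ⟨hex, IsSeparated.valuativeCriterion X.hom⟩⟩

end Main

end Groth.Agent.Lib.Helper25.TwConst
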