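import Mathlib
import Groth.Prelude.Def_Omega3

set_option autoImplicit false
universe u

open TensorProduct KaehlerDifferential

namespace Groth.Agent.Lib.Helper25.UnivThick

section General

variable (R : Type u) [CommRing R] {P : Type u} [CommRing P] [Algebra R P]

/-- If `P ⧸ J` is formally unramified over `R`, every `D p` is congruent modulo `J • Ω[P⁄R]`
to some `D f` with `f ∈ J`. -/
lemma exists_mem_D_sub_mem (J : Ideal P) [Algebra.FormallyUnramified R (P ⧸ J)] (p : P) :
    ∃ f ∈ J, D R P f - D R P p ∈ J • (⊤ : Submodule P Ω[P⁄R]) := by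
  have hsurj : Function.Surjective (algebraMap P (P ⧸ J)) := Ideal.Quotient.mk_surjective
  have hex := KaehlerDifferential.exact_kerCotangentToTensor_mapBaseChange R P (P ⧸ J) hsurj
  have h0 : KaehlerDifferential.mapBaseChange R P (P ⧸ J) (1 ⊗ₜ D R P p) = 0 :=
    Subsingleton.elim _ _
  obtain ⟨c, hc⟩ := (hex _).mp h0
  obtain ⟨x, rfl⟩ := Ideal.toCotangent_surjective _ c
  rw [KaehlerDifferential.kerCotangentToTensor_toCotangent] at hc
  have hxJ : x.1 ∈ J := by
    have h := x.2
    rw [RingHom.mem_ker] at h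
    exact Ideal.Quotient.eq_zero_iff_mem.mp h
  refine ⟨x.1, hxJ, ?_⟩
  have h1 : (1 : P ⧸ J) ⊗ₜ[P] (D R P x.1 - D R P p) = 0 := by
    rw [TensorProduct.tmul_sub, hc, sub_self]
  have h2 := congrArg (TensorProduct.quotTensorEquivQuotSMul Ω[P⁄R] J) h1
  rw [← map_one (Ideal.Quotient.mk J), TensorProduct.quotTensorEquivQuotSMul_mk_tmul, map_zero,
    one_smul, Submodule.Quotient.mk_eq_zero] at h2
  exact h2

variable {R}
variable {A : Type u} [CommRing A] [Algebra R A] [Algebra P A] [IsScalarTower R P A]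

/-- A derivation into a square-zero ideal `I` on which `J` acts by zero only sees
`Ω[P⁄R] / J • Ω[P⁄R]`. -/
lemma derivation_eq_of_sub_mem (J : Ideal P) (I : Ideal A) (hI : I ^ 2 = ⊥)
    (hJI : J ≤ I.comap (algebraMap P A)) (δ : Derivation R P I) {f p : P}
    (h : D R P f - D R P p ∈ J • (⊤ : Submodule P Ω[P⁄R])) : δ f = δ p := by
  have key : ∀ ω ∈ J • (⊤ : Submodule P Ω[P⁄R]), δ.liftKaehlerDifferential ω = 0 := by
    intro ω hω
    induction hω using Submodule.smul_induction_on' with
    | smul j hj ω _ =>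
      rw [map_smul]
      ext
      have h1 : algebraMap P A j * (δ.liftKaehlerDifferential ω : A) ∈ I ^ 2 := by
        rw [pow_two]
        exact Ideal.mul_mem_mul (hJI hj) (δ.liftKaehlerDifferential ω).2
      rw [hI] at h1
      simpa [Algebra.smul_def] using h1
    | add x _ y _ hx hy => rw [map_add, hx, hy, add_zero]
  have := key _ h
  rw [map_sub, Derivation.liftKaehlerDifferential_comp_D, Derivation.liftKaehlerDifferential_comp_D,
    sub_eq_zero] at this
  exact this

end General

section MvPoly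

variable {R : Type u} [CommRing R] {σ : Type u}
variable {A : Type u} [CommRing A] [Algebra R A] [Algebra (MvPolynomial σ R) A]
  [IsScalarTower R (MvPolynomial σ R) A]

/-- Existence of the corrected lift. -/
lemma exists_lift_alg (J : Ideal (MvPolynomial σ R)) (I : Ideal A) (hI : I ^ 2 = ⊥)
    (hJI : J ≤ I.comap (algebraMap (MvPolynomial σ R) A)) (f : σ → MvPolynomial σ R)
    (hf : ∀ s, D R (MvPolynomial σ R) (f s) - D R (MvPolynomial σ R) (MvPolynomial.X s) ∈
      J • (⊤ : Submodule (MvPolynomial σ R) Ω[MvPolynomial σ R⁄R]))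
    (hfJ : ∀ s, f s ∈ J) :
    ∃ ψ' : MvPolynomial σ R →ₐ[R] A,
      (∀ x, ψ' x - algebraMap (MvPolynomial σ R) A x ∈ I) ∧ ∀ s, ψ' (f s) = 0 := by
  let δ : Derivation R (MvPolynomial σ R) I :=
    MvPolynomial.mkDerivation R
      (fun s => (⟨-(algebraMap (MvPolynomial σ R) A (f s)), I.neg_mem (hJI (hfJ s))⟩ : I))
  refine ⟨liftOfDerivationToSquareZero I hI δ, fun x => ?_, fun s => ?_⟩
  · rw [liftOfDerivationToSquareZero_apply, add_sub_cancel_right]
    exact (δ x).2
  · rw [liftOfDerivationToSquareZero_apply, derivation_eq_of_sub_mem J I hI hJI δ (hf s)]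
    simp only [δ, MvPolynomial.mkDerivation_X]
    simp

/-- Uniqueness of the corrected lift. -/
lemma lift_unique_alg (J : Ideal (MvPolynomial σ R)) (I : Ideal A) (hI : I ^ 2 = ⊥)
    (hJI : J ≤ I.comap (algebraMap (MvPolynomial σ R) A)) (f : σ → MvPolynomial σ R)
    (hf : ∀ s, D R (MvPolynomial σ R) (f s) - D R (MvPolynomial σ R) (MvPolynomial.X s) ∈
      J • (⊤ : Submodule (MvPolynomial σ R) Ω[MvPolynomial σ R⁄R]))
    (ψ₂ : MvPolynomial σ R →ₐ[R] A)
    (h : ∀ x, ψ₂ x - algebraMap (MvPolynomial σ R) A x ∈ I)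
    (h0 : ∀ s, ψ₂ (f s) = 0) (h1 : ∀ s, algebraMap (MvPolynomial σ R) A (f s) = 0) (x) :
    ψ₂ x = algebraMap (MvPolynomial σ R) A x := by
  have e : (Ideal.Quotient.mkₐ R I).comp ψ₂ = IsScalarTower.toAlgHom R (MvPolynomial σ R) (A ⧸ I) := by
    refine AlgHom.ext fun y => ?_
    simp only [AlgHom.coe_comp, Function.comp_apply, Ideal.Quotient.mkₐ_eq_mk,
      IsScalarTower.coe_toAlgHom']
    rw [← Ideal.Quotient.mk_algebraMap, Ideal.Quotient.eq]
    exact h y
  let δ : Derivation R (MvPolynomial σ R) I := derivationToSquareZeroOfLift I hI ψ₂ e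
  have hδ : ∀ y, (δ y : A) = ψ₂ y - algebraMap (MvPolynomial σ R) A y := fun y =>
    derivationToSquareZeroOfLift_apply I hI ψ₂ e y
  have hδ0 : δ = 0 := by
    apply MvPolynomial.derivation_ext
    intro s
    rw [← derivation_eq_of_sub_mem J I hI hJI δ (hf s)]
    ext
    rw [hδ, h0, h1]
    simp
  have := hδ x
  rw [hδ0] at this
  simp only [Derivation.coe_zero, Pi.zero_apply, ZeroMemClass.coe_zero] at this
  exact (sub_eq_zero.mp this.symm)

omit [Algebra (MvPolynomial σ R) A] [IsScalarTower R (MvPolynomial σ R) A] in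
/-- Uniqueness, without a fixed algebra structure. -/
lemma lift_unique (J : Ideal (MvPolynomial σ R)) (I : Ideal A) (hI : I ^ 2 = ⊥)
    (f : σ → MvPolynomial σ R)
    (hf : ∀ s, D R (MvPolynomial σ R) (f s) - D R (MvPolynomial σ R) (MvPolynomial.X s) ∈
      J • (⊤ : Submodule (MvPolynomial σ R) Ω[MvPolynomial σ R⁄R]))
    (ψ₁ ψ₂ : MvPolynomial σ R →ₐ[R] A) (hJI : J ≤ I.comap ψ₁.toRingHom)
    (h : ∀ x, ψ₂ x - ψ₁ x ∈ I) (h1 : ∀ s, ψ₁ (f s) = 0) (h2 : ∀ s, ψ₂ (f s) = 0) :
    ψ₂ = ψ₁ := by
  letI : Algebra (MvPolynomial σ R) A := ψ₁.toRingHom.toAlgebra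
  haveI : IsScalarTower R (MvPolynomial σ R) A :=
    IsScalarTower.of_algebraMap_eq (fun r => (ψ₁.commutes r).symm)
  exact AlgHom.ext fun x => lift_unique_alg J I hI hJI f hf ψ₂ h h2 h1 x

/-- The universal first order thickening of a formally unramified quotient of a polynomial ring. -/
theorem exists_isUnivThickeningRing_quot (J : Ideal (MvPolynomial σ R))
    [Algebra.FormallyUnramified R (MvPolynomial σ R ⧸ J)] :
    ∃ (J' : Ideal (MvPolynomial σ R)) (hle : J' ≤ J),
      OmegaSh.IsUnivThickeningRing R (MvPolynomial σ R ⧸ J) (MvPolynomial σ R ⧸ J')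
        (Ideal.Quotient.factorₐ R hle) := by
  classical
  choose f hfJ hf using fun s : σ => exists_mem_D_sub_mem R J (MvPolynomial.X s : MvPolynomial σ R)
  set J' : Ideal (MvPolynomial σ R) := J ^ 2 ⊔ Ideal.span (Set.range f) with hJ'
  have hle : J' ≤ J := by
    refine sup_le (Ideal.pow_le_self two_ne_zero) ?_
    rw [Ideal.span_le]
    rintro _ ⟨s, rfl⟩
    exact hfJ s
  refine ⟨J', hle, Ideal.Quotient.factor_surjective hle, ?_, ?_⟩
  · -- square zero kernel
    have hker : RingHom.ker (Ideal.Quotient.factorₐ R hle).toRingHom ≤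
        J.map (Ideal.Quotient.mk J') := by
      intro x hx
      obtain ⟨p, rfl⟩ := Ideal.Quotient.mk_surjective x
      rw [RingHom.mem_ker] at hx
      have hp : p ∈ J := Ideal.Quotient.eq_zero_iff_mem.mp hx
      exact Ideal.mem_map_of_mem _ hp
    refine le_bot_iff.mp ((Ideal.pow_right_mono hker 2).trans ?_)
    rw [← Ideal.map_pow, Ideal.map_le_iff_le_comap]
    intro x hx
    rw [Ideal.mem_comap, Ideal.mem_bot, Ideal.Quotient.eq_zero_iff_mem]
    exact Ideal.mem_sup_left hx
  · intro A _ _ I hI a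
    obtain ⟨g, hg⟩ : ∃ g : σ → A, ∀ s, Ideal.Quotient.mk I (g s) =
        a (Ideal.Quotient.mk J (MvPolynomial.X s)) :=
      ⟨fun s => (Ideal.Quotient.mk_surjective (a (Ideal.Quotient.mk J (MvPolynomial.X s)))).choose,
        fun s => (Ideal.Quotient.mk_surjective _).choose_spec⟩
    let ψ : MvPolynomial σ R →ₐ[R] A := MvPolynomial.aeval g
    have hψ : (Ideal.Quotient.mkₐ R I).comp ψ = a.comp (Ideal.Quotient.mkₐ R J) := by
      apply MvPolynomial.algHom_ext
      intro s
      simp [ψ, hg]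
    letI : Algebra (MvPolynomial σ R) A := ψ.toRingHom.toAlgebra
    haveI : IsScalarTower R (MvPolynomial σ R) A :=
      IsScalarTower.of_algebraMap_eq (fun r => (ψ.commutes r).symm)
    have halg : ∀ x, algebraMap (MvPolynomial σ R) A x = ψ x := fun _ => rfl
    have hJI : J ≤ I.comap (algebraMap (MvPolynomial σ R) A) := by
      intro j hj
      rw [Ideal.mem_comap, halg, ← Ideal.Quotient.eq_zero_iff_mem]
      have := congrArg (fun φ => φ j) hψ
      simp only [AlgHom.coe_comp, Function.comp_apply, Ideal.Quotient.mkₐ_eq_mk] at this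
      rw [this, Ideal.Quotient.eq_zero_iff_mem.mpr hj, map_zero]
    -- general fact: an algebra map congruent to `ψ` mod `I` kills `J ^ 2`
    have hsq : ∀ χ : MvPolynomial σ R →ₐ[R] A, (∀ x, χ x - ψ x ∈ I) → ∀ x ∈ J ^ 2, χ x = 0 := by
      intro χ hχ x hx
      have h1 : J ≤ I.comap χ.toRingHom := by
        intro j hj
        have := I.add_mem (hχ j) (hJI hj)
        rw [halg, sub_add_cancel] at this
        exact this
      have h2 := (Ideal.pow_right_mono h1 2).trans (Ideal.le_comap_pow _ 2) hx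
      rw [hI] at h2
      exact h2
    obtain ⟨ψ', hψ'1, hψ'2⟩ := exists_lift_alg J I hI hJI f hf hfJ
    have hker' : ∀ x ∈ J', ψ' x = 0 := by
      have : J' ≤ RingHom.ker ψ'.toRingHom := by
        refine sup_le (fun x hx => hsq ψ' hψ'1 x hx) ?_
        rw [Ideal.span_le]
        rintro _ ⟨s, rfl⟩
        exact hψ'2 s
      exact fun x hx => this hx
    have hcomp : ∀ χ : MvPolynomial σ R ⧸ J' →ₐ[R] A,
        ((Ideal.Quotient.mkₐ R I).comp χ = a.comp (Ideal.Quotient.factorₐ R hle)) ↔
          ∀ x, χ (Ideal.Quotient.mk J' x) - ψ x ∈ I := by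
      intro χ
      constructor
      · intro h x
        rw [← Ideal.Quotient.eq]
        have h3 := congrArg (fun φ => φ (Ideal.Quotient.mk J' x)) h
        have h4 := congrArg (fun φ => φ x) hψ
        simp only [AlgHom.coe_comp, Function.comp_apply, Ideal.Quotient.mkₐ_eq_mk,
          Ideal.Quotient.factorₐ_apply_mk] at h3 h4
        rw [h3, h4]
      · intro h
        apply Ideal.Quotient.algHom_ext
        refine AlgHom.ext fun x => ?_
        have h4 := congrArg (fun φ => φ x) hψ
        simp only [AlgHom.coe_comp, Function.comp_apply, Ideal.Quotient.mkₐ_eq_mk,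
          Ideal.Quotient.factorₐ_apply_mk] at h4 ⊢
        rw [← h4, Ideal.Quotient.eq]
        exact h x
    refine ⟨Ideal.Quotient.liftₐ J' ψ' hker', (hcomp _).mpr fun x => hψ'1 x, ?_⟩
    intro χ hχ
    have hχ' := (hcomp χ).mp hχ
    apply Ideal.Quotient.algHom_ext
    have hJI' : J ≤ I.comap ψ'.toRingHom := by
      intro j hj
      have := I.add_mem (hψ'1 j) (hJI hj)
      rw [sub_add_cancel] at this
      exact this
    have := lift_unique J I hI f hf ψ' (χ.comp (Ideal.Quotient.mkₐ R J')) hJI' ?_ hψ'2 ?_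
    · rw [this]
      refine AlgHom.ext fun x => ?_
      simp only [AlgHom.coe_comp, Function.comp_apply, Ideal.Quotient.mkₐ_eq_mk]
      exact (Ideal.Quotient.lift_mk J' (ψ' : MvPolynomial σ R →+* A) hker').symm
    · intro x
      have := I.sub_mem (hχ' x) (hψ'1 x)
      rw [halg, sub_sub_sub_cancel_right] at this
      simpa using this
    · intro s
      have : Ideal.Quotient.mk J' (f s) = 0 :=
        Ideal.Quotient.eq_zero_iff_mem.mpr (Ideal.mem_sup_right (Ideal.subset_span ⟨s, rfl⟩))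
      simp [this]

end MvPoly

section Transport

variable {R : Type u} [CommRing R] {S₀ S S' : Type u} [CommRing S₀] [CommRing S] [CommRing S']
  [Algebra R S₀] [Algebra R S] [Algebra R S']

/-- Universal thickenings transport along isomorphisms of the thickened algebra. -/
theorem isUnivThickeningRing_of_algEquiv (e : S₀ ≃ₐ[R] S) (π₀ : S' →ₐ[R] S₀)
    (h : OmegaSh.IsUnivThickeningRing R S₀ S' π₀) :
    OmegaSh.IsUnivThickeningRing R S S' ((e : S₀ →ₐ[R] S).comp π₀) := by
  obtain ⟨h1, h2, h3⟩ := h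
  refine ⟨e.surjective.comp h1, ?_, ?_⟩
  · have : RingHom.ker ((e : S₀ →ₐ[R] S).comp π₀).toRingHom = RingHom.ker π₀.toRingHom := by
      ext x
      simp [RingHom.mem_ker]
    rw [this, h2]
  · intro A _ _ I hI a
    obtain ⟨a', ha', huniq⟩ := h3 A I hI (a.comp (e : S₀ →ₐ[R] S))
    refine ⟨a', ?_, ?_⟩
    · change (Ideal.Quotient.mkₐ R I).comp a' = a.comp ((e : S₀ →ₐ[R] S).comp π₀)
      rw [ha', AlgHom.comp_assoc]
    · intro b hb
      apply huniq
      change (Ideal.Quotient.mkₐ R I).comp b = (a.comp (e : S₀ →ₐ[R] S)).comp π₀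
      rw [hb, AlgHom.comp_assoc]

end Transport

/-- Stacks 04EG: a formally unramified algebra has a universal first order thickening. -/
theorem exists_isUnivThickeningRing (R : Type u) [CommRing R]
    (S : Type u) [CommRing S] [Algebra R S] [Algebra.FormallyUnramified R S] :
    ∃ (S' : Type u) (_ : CommRing S') (_ : Algebra R S') (π : S' →ₐ[R] S),
      OmegaSh.IsUnivThickeningRing R S S' π := by
  let φ : MvPolynomial S R →ₐ[R] S := MvPolynomial.aeval id
  have hφ : Function.Surjective φ := fun s => ⟨MvPolynomial.X s, by simp [φ]⟩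
  let J : Ideal (MvPolynomial S R) := RingHom.ker φ.toRingHom
  let e : (MvPolynomial S R ⧸ J) ≃ₐ[R] S := Ideal.quotientKerAlgEquivOfSurjective hφ
  haveI : Algebra.FormallyUnramified R (MvPolynomial S R ⧸ J) :=
    Algebra.FormallyUnramified.of_equiv e.symm
  obtain ⟨J', hle, h⟩ := exists_isUnivThickeningRing_quot J
  exact ⟨MvPolynomial S R ⧸ J', inferInstance, inferInstance, _,
    isUnivThickeningRing_of_algEquiv e _ h⟩

end Groth.Agent.Lib.Helper25.UnivThick
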