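import Mathlib
import Groth.Prelude.Def_Omega3

set_option autoImplicit false
universe u

open TensorProduct KaehlerDifferential

namespace Groth.Agent.Lib.Helper25.UnivThick2

section Core

variable {A B B' : Type u} [CommRing A] [CommRing B] [CommRing B'] [Algebra A B] [Algebra A B']
  [Algebra B' B] [IsScalarTower A B' B]
variable {M : Type u} [AddCommGroup M] [Module B' M]

/-- The right action making `M` a central bimodule. -/
@[reducible] def opModule (B' M : Type u) [CommRing B'] [AddCommGroup M] [Module B' M] :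
    Module B'ᵐᵒᵖ M :=
  Module.compHom _ ((RingHom.id B').fromOpposite mul_comm)

attribute [local instance] opModule

local instance : IsCentralScalar B' M := ⟨fun _ _ => rfl⟩

/-- The twisted structure map `a ↦ (a, θ a)`. -/
def tau (θ : A →+ M) (hθ1 : θ 1 = 0)
    (hθ : ∀ a b, θ (a * b) = algebraMap A B' a • θ b + algebraMap A B' b • θ a) :
    A →+* TrivSqZeroExt B' M where
  toFun a := TrivSqZeroExt.inl (algebraMap A B' a) + TrivSqZeroExt.inr (θ a)
  map_one' := by
    apply TrivSqZeroExt.ext <;> simp [hθ1]
  map_mul' a b := by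
    apply TrivSqZeroExt.ext
    · simp
    · simp [hθ, add_comm]
  map_zero' := by
    apply TrivSqZeroExt.ext <;> simp
  map_add' a b := by
    apply TrivSqZeroExt.ext <;> simp

@[simp] lemma tau_fst (θ : A →+ M) (hθ1 hθ) (a : A) :
    (tau (B' := B') θ hθ1 hθ a).fst = algebraMap A B' a := by
  simp [tau]

@[simp] lemma tau_snd (θ : A →+ M) (hθ1 hθ) (a : A) :
    (tau (B' := B') θ hθ1 hθ a).snd = θ a := by
  simp [tau]

local notation "C" => TrivSqZeroExt B' M

/-- Universal first order thickenings extend "derivations" uniquely. -/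
theorem existsUnique_derivation
    (h : OmegaSh.IsUnivThickeningRing A B B' (IsScalarTower.toAlgHom A B' B))
    (hM : ∀ n : B', algebraMap B' B n = 0 → ∀ m : M, n • m = 0)
    (θ : A →+ M) (hθ1 : θ 1 = 0)
    (hθ : ∀ a b, θ (a * b) = algebraMap A B' a • θ b + algebraMap A B' b • θ a) :
    ∃ D : B' →+ M, ((∀ x y, D (x * y) = x • D y + y • D x) ∧ ∀ a, D (algebraMap A B' a) = θ a) ∧
      ∀ D₂ : B' →+ M, (∀ x y, D₂ (x * y) = x • D₂ y + y • D₂ x) →
        (∀ a, D₂ (algebraMap A B' a) = θ a) → D₂ = D := by
  obtain ⟨hπ, hN, huniv⟩ := h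
  have hN' : ∀ x y : B', algebraMap B' B x = 0 → algebraMap B' B y = 0 → x * y = 0 := by
    intro x y hx hy
    have : x * y ∈ RingHom.ker (IsScalarTower.toAlgHom A B' B).toRingHom ^ 2 := by
      rw [pow_two]
      exact Ideal.mul_mem_mul (by simpa [RingHom.mem_ker] using hx)
        (by simpa [RingHom.mem_ker] using hy)
    rw [hN] at this
    exact this
  letI : Algebra A (TrivSqZeroExt B' M) := (tau θ hθ1 hθ).toAlgebra
  have halg : ∀ a : A, algebraMap A C a = tau θ hθ1 hθ a := fun _ => rfl
  let f : C →ₐ[A] B :=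
    { (algebraMap B' B).comp (TrivSqZeroExt.fstHom B' B' M).toRingHom with
      commutes' := fun a => by
        simp only [RingHom.toMonoidHom_eq_coe, AlgHom.toRingHom_eq_coe, OneHom.toFun_eq_coe,
          MonoidHom.toOneHom_coe, MonoidHom.coe_coe, RingHom.coe_comp, RingHom.coe_coe,
          Function.comp_apply, TrivSqZeroExt.fstHom_apply, halg, tau_fst]
        exact (IsScalarTower.algebraMap_apply A B' B a).symm }
  have hfapp : ∀ x : C, f x = algebraMap B' B x.fst := fun _ => rfl
  have hf : Function.Surjective f := by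
    intro b
    obtain ⟨b', rfl⟩ := hπ b
    exact ⟨TrivSqZeroExt.inl b', by simp [hfapp]⟩
  let I : Ideal C := RingHom.ker f.toRingHom
  have hI : I ^ 2 = ⊥ := by
    rw [pow_two, eq_bot_iff, Ideal.mul_le]
    intro x hx y hy
    have hx' : algebraMap B' B x.fst = 0 := hx
    have hy' : algebraMap B' B y.fst = 0 := hy
    rw [Ideal.mem_bot]
    apply TrivSqZeroExt.ext
    · simpa using hN' _ _ hx' hy'
    · simp [hM _ hx', hM _ hy']
  let e : (C ⧸ I) ≃ₐ[A] B := Ideal.quotientKerAlgEquivOfSurjective hf
  have he : ∀ x : C, e (Ideal.Quotient.mk I x) = f x := fun x => rfl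
  -- characterisation of lifts
  have hlift : ∀ g : B' →ₐ[A] C,
      ((Ideal.Quotient.mkₐ A I).comp g = (e.symm : B →ₐ[A] C ⧸ I).comp
        (IsScalarTower.toAlgHom A B' B)) ↔ ∀ x, algebraMap B' B (g x).fst = algebraMap B' B x := by
    intro g
    constructor
    · intro hg x
      have := congrArg (fun φ => e (φ x)) hg
      simpa [he, hfapp] using this
    · intro hg
      refine AlgHom.ext fun x => ?_
      apply e.injective
      simpa [he, hfapp] using hg x
  obtain ⟨a', ha', ha'uniq⟩ := huniv C I hI (e.symm : B →ₐ[A] C ⧸ I)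
  have ha'1 := (hlift a').mp ha'
  -- the first component of `a'` is the identity
  have hfst : ∀ x, (a' x).fst = x := by
    let p : B' →ₐ[A] B' :=
      { (TrivSqZeroExt.fstHom B' B' M).toRingHom.comp a'.toRingHom with
        commutes' := fun a => by
          simp only [RingHom.toMonoidHom_eq_coe, AlgHom.toRingHom_eq_coe, OneHom.toFun_eq_coe,
            MonoidHom.toOneHom_coe, MonoidHom.coe_coe, RingHom.coe_comp, RingHom.coe_coe,
            Function.comp_apply, AlgHom.commutes, TrivSqZeroExt.fstHom_apply, halg, tau_fst] }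
    have hp : ∀ x, p x = (a' x).fst := fun _ => rfl
    let N : Ideal B' := RingHom.ker (IsScalarTower.toAlgHom A B' B).toRingHom
    let e₀ : (B' ⧸ N) ≃ₐ[A] B := Ideal.quotientKerAlgEquivOfSurjective hπ
    have he₀ : ∀ x : B', e₀ (Ideal.Quotient.mk N x) = algebraMap B' B x := fun x => rfl
    obtain ⟨q, _, hq⟩ := huniv B' N hN (e₀.symm : B →ₐ[A] B' ⧸ N)
    have h1 : p = q := by
      apply hq
      refine AlgHom.ext fun x => ?_
      apply e₀.injective
      simpa [he₀, hp] using ha'1 x
    have h2 : AlgHom.id A B' = q := by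
      apply hq
      refine AlgHom.ext fun x => ?_
      apply e₀.injective
      simp [he₀]
    intro x
    rw [← hp, h1, ← h2]
    rfl
  refine ⟨{ toFun := fun x => (a' x).snd, map_zero' := by simp, map_add' := by simp }, ⟨?_, ?_⟩, ?_⟩
  · intro x y
    simp only [AddMonoidHom.coe_mk, ZeroHom.coe_mk, map_mul, TrivSqZeroExt.snd_mul, hfst,
      op_smul_eq_smul]
  · intro a
    simp only [AddMonoidHom.coe_mk, ZeroHom.coe_mk, AlgHom.commutes, halg, tau_snd]
  · intro D₂ hD₂ hD₂A
    let g : B' →ₐ[A] C :=
      { toFun := fun x => TrivSqZeroExt.inl x + TrivSqZeroExt.inr (D₂ x)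
        map_one' := by
          have : D₂ 1 = 0 := by
            have := hD₂ 1 1
            simp only [mul_one, one_smul] at this
            exact (add_eq_left.mp this.symm)
          apply TrivSqZeroExt.ext <;> simp [this]
        map_mul' := fun x y => by
          apply TrivSqZeroExt.ext
          · simp
          · simp [hD₂, add_comm]
        map_zero' := by apply TrivSqZeroExt.ext <;> simp
        map_add' := fun x y => by apply TrivSqZeroExt.ext <;> simp
        commutes' := fun a => by
          apply TrivSqZeroExt.ext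
          · simp [halg]
          · simp [halg, hD₂A] }
    have hg : g = a' := by
      apply ha'uniq
      rw [hlift]
      intro x
      simp [g]
    ext x
    have := congrArg (fun φ => (φ x).snd) hg
    simpa [g] using this

/-- Stacks 04EH (1): the universal first order thickening is formally unramified over the base. -/
theorem formallyUnramified
    (h : OmegaSh.IsUnivThickeningRing A B B' (IsScalarTower.toAlgHom A B' B)) :
    Algebra.FormallyUnramified A B' := by
  let N : Ideal B' := RingHom.ker (IsScalarTower.toAlgHom A B' B).toRingHom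
  have hN : N ^ 2 = ⊥ := h.2.1
  let Q := Ω[B'⁄A] ⧸ (N • (⊤ : Submodule B' Ω[B'⁄A]))
  have hM : ∀ n : B', algebraMap B' B n = 0 → ∀ m : Q, n • m = 0 := by
    intro n hn m
    obtain ⟨ω, rfl⟩ := Submodule.Quotient.mk_surjective _ m
    rw [← Submodule.Quotient.mk_smul, Submodule.Quotient.mk_eq_zero]
    exact Submodule.smul_mem_smul (by simpa [N, RingHom.mem_ker] using hn) trivial
  obtain ⟨D₁, -, huniq⟩ := existsUnique_derivation h hM (0 : A →+ Q) rfl (by simp)
  have h0 : (0 : B' →+ Q) = D₁ := huniq 0 (by simp) (by simp)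
  let D₂ : B' →+ Q :=
    { toFun := fun x => Submodule.Quotient.mk (D A B' x)
      map_zero' := by simp
      map_add' := fun x y => by simp }
  have h2 : D₂ = D₁ := by
    apply huniq
    · intro x y
      simp only [D₂, AddMonoidHom.coe_mk, ZeroHom.coe_mk, Derivation.leibniz,
        Submodule.Quotient.mk_add, Submodule.Quotient.mk_smul]
    · intro a
      simp [D₂]
  have h3 : ∀ x, D A B' x ∈ N • (⊤ : Submodule B' Ω[B'⁄A]) := by
    intro x
    have := congrArg (fun φ => φ x) (h2.trans h0.symm)
    simp only [D₂, AddMonoidHom.coe_mk, ZeroHom.coe_mk, AddMonoidHom.zero_apply] at this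
    exact (Submodule.Quotient.mk_eq_zero _).mp this
  have h4 : (⊤ : Submodule B' Ω[B'⁄A]) ≤ N • ⊤ := by
    have : (⊤ : Submodule B' Ω[B'⁄A]) = Submodule.span B' (Set.range (D A B')) :=
      (KaehlerDifferential.span_range_derivation A B').symm
    rw [this, Submodule.span_le]
    rintro _ ⟨x, rfl⟩
    rw [← this]
    exact h3 x
  have h5 : (⊤ : Submodule B' Ω[B'⁄A]) = ⊥ := by
    apply le_bot_iff.mp
    calc (⊤ : Submodule B' Ω[B'⁄A]) ≤ N • ⊤ := h4
      _ ≤ N • (N • ⊤) := Submodule.smul_mono le_rfl h4
      _ = (N ^ 2) • ⊤ := by rw [pow_two, Submodule.mul_smul]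
      _ = ⊥ := by rw [hN, Submodule.bot_smul]
  exact ⟨(Submodule.subsingleton_iff B').mp (subsingleton_of_bot_eq_top h5.symm)⟩

variable (R : Type u) [CommRing R] [Algebra R A] [Algebra R B'] [IsScalarTower R A B']

/-- Extension of an `R`-"derivation" `θ : A → M` to a `B'`-linear map out of `Ω[B'⁄R]`. -/
theorem exists_lift_kaehler
    (h : OmegaSh.IsUnivThickeningRing A B B' (IsScalarTower.toAlgHom A B' B))
    (hM : ∀ n : B', algebraMap B' B n = 0 → ∀ m : M, n • m = 0)
    (θ : A →+ M) (hθ1 : θ 1 = 0)
    (hθ : ∀ a b, θ (a * b) = algebraMap A B' a • θ b + algebraMap A B' b • θ a)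
    (hR : ∀ r : R, θ (algebraMap R A r) = 0) :
    ∃ ℓ : Ω[B'⁄R] →ₗ[B'] M, ∀ a, ℓ (D R B' (algebraMap A B' a)) = θ a := by
  obtain ⟨D₁, ⟨hL, hA⟩, -⟩ := existsUnique_derivation h hM θ hθ1 hθ
  letI : Module R M := Module.compHom M (algebraMap R B')
  have hsm : ∀ (r : R) (m : M), r • m = algebraMap R B' r • m := fun _ _ => rfl
  haveI : IsScalarTower R B' M := ⟨fun r b m => by
    rw [hsm, Algebra.smul_def, mul_smul]⟩
  let D' : Derivation R B' M :=
    { toFun := D₁
      map_add' := map_add D₁
      map_smul' := fun r x => by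
        simp only [RingHom.id_apply]
        rw [hsm, Algebra.smul_def, hL, IsScalarTower.algebraMap_apply R A B', hA, hR, smul_zero,
          add_zero]
      map_one_eq_zero' := by
        have := hA 1
        rw [map_one, hθ1] at this
        exact this
      leibniz' := hL }
  refine ⟨D'.liftKaehlerDifferential, fun a => ?_⟩
  rw [Derivation.liftKaehlerDifferential_comp_D]
  exact hA a

end Core

section Final

variable (R : Type u) [CommRing R] (A : Type u) [CommRing A] [Algebra R A] (B : Type u) [CommRing B]
  [Algebra A B] (B' : Type u) [CommRing B'] [Algebra A B']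
  [Algebra R B'] [IsScalarTower R A B'] [Algebra B' B] [IsScalarTower A B' B]

/-- Stacks 04EH (2). -/
theorem bijective_baseChange
    (h : OmegaSh.IsUnivThickeningRing A B B' (IsScalarTower.toAlgHom A B' B)) :
    Function.Bijective ((KaehlerDifferential.mapBaseChange R A B').baseChange B) := by
  haveI := formallyUnramified h
  constructor
  · -- injectivity: build a left inverse
    have hM : ∀ n : B', algebraMap B' B n = 0 →
        ∀ m : B ⊗[B'] (B' ⊗[A] Ω[A⁄R]), n • m = 0 := by
      intro n hn m
      induction m using TensorProduct.induction_on with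
      | zero => simp
      | tmul b x => rw [TensorProduct.smul_tmul', Algebra.smul_def, hn, zero_mul, zero_tmul]
      | add x y hx hy => rw [smul_add, hx, hy, add_zero]
    let θ : A →+ B ⊗[B'] (B' ⊗[A] Ω[A⁄R]) :=
      { toFun := fun a => (1 : B) ⊗ₜ[B'] ((1 : B') ⊗ₜ[A] D R A a)
        map_zero' := by simp
        map_add' := fun a b => by simp [tmul_add] }
    have hθapp : ∀ a, θ a = (1 : B) ⊗ₜ[B'] ((1 : B') ⊗ₜ[A] D R A a) := fun _ => rfl
    have hsm : ∀ (a : A) (ω : Ω[A⁄R]), (1 : B) ⊗ₜ[B'] ((1 : B') ⊗ₜ[A] (a • ω)) =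
        algebraMap A B' a • ((1 : B) ⊗ₜ[B'] ((1 : B') ⊗ₜ[A] ω)) := by
      intro a ω
      rw [TensorProduct.tmul_smul, ← algebraMap_smul B' a ((1 : B') ⊗ₜ[A] ω),
        TensorProduct.tmul_smul]
    obtain ⟨ℓ, hℓ⟩ := exists_lift_kaehler R h hM θ (by simp [hθapp])
      (fun a b => by
        rw [hθapp, hθapp, hθapp, Derivation.leibniz, tmul_add, tmul_add, hsm, hsm])
      (fun r => by simp [hθapp])
    have key : ∀ ω : Ω[A⁄R], ℓ (KaehlerDifferential.map R R A B' ω) =
        (1 : B) ⊗ₜ[B'] ((1 : B') ⊗ₜ[A] ω) := by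
      intro ω
      have hω : ω ∈ Submodule.span A (Set.range (D R A)) := by
        rw [KaehlerDifferential.span_range_derivation]; trivial
      induction hω using Submodule.span_induction with
      | mem x hx =>
        obtain ⟨a, rfl⟩ := hx
        rw [KaehlerDifferential.map_D, hℓ, hθapp]
      | zero => simp
      | add x y _ _ hx hy => rw [map_add, map_add, hx, hy, tmul_add, tmul_add]
      | smul a x _ hx =>
        rw [map_smul, ← algebraMap_smul B' a, map_smul, hx, hsm]
    have key2 : ∀ x : B' ⊗[A] Ω[A⁄R], ℓ (KaehlerDifferential.mapBaseChange R A B' x) =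
        (1 : B) ⊗ₜ[B'] x := by
      intro x
      induction x using TensorProduct.induction_on with
      | zero => simp
      | tmul b ω =>
        rw [KaehlerDifferential.mapBaseChange_tmul, map_smul, key, ← TensorProduct.tmul_smul,
          TensorProduct.smul_tmul', smul_eq_mul, mul_one]
      | add x y hx hy => rw [map_add, map_add, hx, hy, tmul_add]
    have key3 : ∀ m : B ⊗[B'] (B' ⊗[A] Ω[A⁄R]),
        ℓ.liftBaseChange B ((KaehlerDifferential.mapBaseChange R A B').baseChange B m) = m := by
      intro m
      induction m using TensorProduct.induction_on with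
      | zero => simp
      | tmul b x =>
        rw [LinearMap.baseChange_tmul, LinearMap.liftBaseChange_tmul, key2,
          TensorProduct.smul_tmul', smul_eq_mul, mul_one]
      | add x y hx hy => rw [map_add, map_add, hx, hy]
    exact Function.LeftInverse.injective key3
  · -- surjectivity
    have hsurj : Function.Surjective (KaehlerDifferential.mapBaseChange R A B') := by
      have hex := KaehlerDifferential.exact_mapBaseChange_map R A B'
      intro y
      exact (hex y).mp (Subsingleton.elim _ _)
    exact LinearMap.lTensor_surjective _ hsurj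

end Final

end Groth.Agent.Lib.Helper25.UnivThick2
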